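import Cfsg.Agent.H16.HN3Spec
import Cfsg.Agent.H92.MW4
import Cfsg.Agent.H8.TransferEval

/-! HN3: `JobT1`, `JobT2`. -/

set_option autoImplicit false

namespace H17.HN3T
open Cfsg Subgroup H98 H42.L3 H16.HN3 H32.HS

universe u

local notation "Ce" => H56.L3.Ce

/-- the automorphism inverting `A` and centralising `D₈` -/
def g0 (s : U) : U := el (Nat.add (add (add s.n s.n) s.n) (Nat.mul 64 (Nat.div s.n 64)))

theorem g0_mul : ∀ g ∈ [ei, gq, gr, u2, ea], ∀ s, g0 (g * s) = g0 g * g0 s := by decide +kernel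

theorem g0_A : ∀ a ∈ H32.HS.A, g0 a = a⁻¹ := by decide +kernel

theorem wc1 : ∀ u : U, (∀ w ∈ [ei, gq, gr, u2, ea], u * (w * u * w⁻¹) = w * u * w⁻¹ * u) →
    u * u ∈ V := by decide +kernel

theorem wc2 : ∀ u : U, (∀ w ∈ [ei, gq, gr, u2, ea],
    u * g0 (w * u * g0 w⁻¹) = w * u * g0 w⁻¹ * g0 u) → u * g0 u ∈ V := by decide +kernel

theorem V_sqr : ∀ v ∈ V, ∃ a ∈ H32.HS.A, a * a = v := by decide +kernel

theorem cen_le : ∀ u : U, u * u = 1 → u ∉ V →
    ((List.range 512).filter fun n => el n * u = u * el n).length ≤ 64 := by decide +kernel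

variable {X : Type*} [Group X] {φ : U →* X} {κ : X} (h : Sy φ κ)
include h

theorem k_inv : κ⁻¹ = κ := inv_eq_of_mul_eq_one_right h.kk

theorem k_mul (s : U) : κ * φ s = φ (g0 s) * κ := by
  induction s using induction with
  | h1 => rw [(by decide +kernel : g0 1 = 1)]; simp
  | hm g hg s ih =>
    have : κ * φ g = φ (g0 g) * κ := by
      simp only [List.mem_cons, List.not_mem_nil, or_false] at hg
      rcases hg with rfl | rfl | rfl | rfl | rfl
      · rw [g0_A _ (by decide +kernel), map_inv, ← h.kA _ (by simp), inv_mul_cancel_right]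
      · rw [g0_A _ (by decide +kernel), map_inv, ← h.kA _ (by simp), inv_mul_cancel_right]
      · rw [g0_A _ (by decide +kernel), map_inv, ← h.kA _ (by simp), inv_mul_cancel_right]
      · rw [(by decide +kernel : g0 u2 = u2)]; exact (h.kD _ (by simp)).eq
      · rw [(by decide +kernel : g0 ea = ea)]; exact (h.kD _ (by simp)).eq
    rw [g0_mul g hg, map_mul, map_mul, ← mul_assoc, this, mul_assoc, ih, mul_assoc]

theorem kk_mul (a b : U) : φ a * κ * (φ b * κ) = φ (a * g0 b) := by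
  rw [mul_assoc, ← mul_assoc κ, k_mul h, mul_assoc, h.kk, mul_one, map_mul]

theorem mem_T {x : X} (hx : x ∈ φ.range ⊔ zpowers κ) : ∃ u, x = φ u ∨ x = φ u * κ := by
  let T : Subgroup X :=
    { carrier := {x | ∃ u, x = φ u ∨ x = φ u * κ}
      one_mem' := ⟨1, .inl (map_one φ).symm⟩
      mul_mem' := by
        rintro _ _ ⟨a, rfl | rfl⟩ ⟨b, rfl | rfl⟩
        · exact ⟨a * b, .inl (map_mul φ a b).symm⟩
        · exact ⟨a * b, .inr (by rw [map_mul, mul_assoc])⟩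
        · exact ⟨a * g0 b, .inr (by rw [map_mul, mul_assoc, k_mul h, mul_assoc])⟩
        · exact ⟨_, .inl (kk_mul h a b)⟩
      inv_mem' := by
        rintro _ ⟨a, rfl | rfl⟩
        · exact ⟨a⁻¹, .inl (map_inv φ a).symm⟩
        · exact ⟨g0 a⁻¹, .inr (by rw [mul_inv_rev, k_inv h, ← map_inv, k_mul h])⟩ }
  exact (show _ ≤ T from sup_le (by rintro _ ⟨a, rfl⟩; exact ⟨a, .inl rfl⟩)
    (zpowers_le.2 ⟨1, .inr (by simp)⟩)) hx

theorem conj_A {x : X} (hx : x ∈ φ.range ⊔ zpowers κ) {a : U} (ha : a ∈ H32.HS.A) :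
    ∃ b ∈ H32.HS.A, x * φ a * x⁻¹ = φ b := by
  obtain ⟨u, rfl | rfl⟩ := mem_T h hx
  · exact ⟨_, Normal.conj_mem inferInstance a ha u, by simp⟩
  · refine ⟨_, Normal.conj_mem inferInstance _ (inv_mem ha) u, ?_⟩
    rw [mul_assoc (φ u), k_mul h, g0_A a ha]
    simp [mul_assoc]

theorem idx : φ.range.relIndex (φ.range ⊔ zpowers κ) = 2 := by
  refine relIndex_eq_two_iff.2 ⟨κ, mem_sup_right (mem_zpowers κ), fun b hb => ?_⟩
  obtain ⟨u, rfl | rfl⟩ := mem_T h hb
  · exact .inr ⟨⟨u, rfl⟩, fun r => h.kU ((φ.range.mul_mem_cancel_left ⟨u, rfl⟩).1 r)⟩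
  · exact .inl ⟨⟨u, by rw [mul_assoc, h.kk, mul_one]⟩,
      fun r => h.kU ((φ.range.mul_mem_cancel_left ⟨u, rfl⟩).1 r)⟩

omit h in
theorem jobT1 : JobT1.{u} := by
  intro X _ _ φ κ h g hg
  refine mem_normalizer_of_cj_le ?_
  rintro _ ⟨_, ⟨v, hv, rfl⟩, rfl⟩
  obtain ⟨a, ha, rfl⟩ := V_sqr v hv
  have hT : ∀ u, φ u ∈ φ.range ⊔ zpowers κ := fun u => mem_sup_left ⟨u, rfl⟩
  have key : ∀ w, g * φ a * g⁻¹ * (φ w * (g * φ a * g⁻¹) * (φ w)⁻¹) =
      φ w * (g * φ a * g⁻¹) * (φ w)⁻¹ * (g * φ a * g⁻¹) := fun w => by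
    obtain ⟨b, hb, e⟩ := conj_A h (conj_mem_of_mem_normalizer' hg (hT w)) ha
    have e' : φ w * (g * φ a * g⁻¹) * (φ w)⁻¹ = g * φ b * g⁻¹ := by rw [← e]; group
    rw [e']
    calc _ = g * φ (a * b) * g⁻¹ := by rw [map_mul]; group
      _ = _ := by rw [A_comm a ha b hb, map_mul]; group
  have e : (MulAut.conj g).toMonoidHom (φ (a * a)) = g * φ a * g⁻¹ * (g * φ a * g⁻¹) := by
    simp [mul_assoc]
  rw [e]
  obtain ⟨u, e | e⟩ := mem_T h (conj_mem_of_mem_normalizer hg (hT a)) <;> rw [e] at key ⊢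
  · exact ⟨_, wc1 u fun w _ => h.inj (by simpa using key w), map_mul φ u u⟩
  · refine ⟨_, wc2 u fun w _ => h.inj ?_, (kk_mul h u u).symm⟩
    have e1 : φ w * (φ u * κ) * (φ w)⁻¹ = φ (w * u * g0 w⁻¹) * κ := by
      rw [← map_inv, mul_assoc, mul_assoc, k_mul h, map_mul, map_mul, mul_assoc, mul_assoc]
    rw [← kk_mul h u, ← kk_mul h _ u, ← e1, key w]

omit h in
theorem jobT2 : JobT2.{u} := by
  intro X _ _ φ κ h hS hV hc
  have : Fact (Nat.Prime 2) := ⟨Nat.prime_two⟩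
  have kT : κ ∈ φ.range ⊔ zpowers κ := mem_sup_right (mem_zpowers κ)
  obtain ⟨ϕ, hϕ⟩ := H8.exists_sign_hom (φ.range.subgroupOf (φ.range ⊔ zpowers κ)) (idx h)
  obtain ⟨R, hR, hle⟩ := exists_isSyl_le (hS.isPGroup.to_le (zpowers_le.2 kT))
    (zpowers_le.2 (mem_Ce.2 rfl) : zpowers κ ≤ Ce κ)
  have cR : 256 ≤ Nat.card R := by
    rw [hR.card_eq]
    exact Nat.pow_le_pow_right (n := 2) (by norm_num)
      ((Nat.prime_two.pow_dvd_iff_le_factorization Nat.card_pos.ne').1 (show 2 ^ 8 ∣ _ from hc))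
  have e := H92.MW.transfer_ext (Nat.two_dvd_ne_zero.1 (by simpa using hS.not_dvd_relIndex) |>
    Nat.odd_iff.2) hR.isPGroup (hle (mem_zpowers κ)) h.kk (fun t ht => mem_Ce.1 (hR.le ht)) ϕ (-1)
    (by simp) fun g hg e => (hϕ _).2.2 fun ⟨u, hu⟩ => by
      have hu : φ u = g * κ * g⁻¹ := hu
      have c1 := cen_le u (h.inj (by
        rw [map_mul, hu, map_one, conj_mul, h.kk, mul_one, mul_inv_cancel]))
        fun r => hV g ⟨u, r, hu⟩
      rw [← card_eq fun s => s * u = u * s] at c1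
      have l1 : cj g R ≤ φ.range ⊔ zpowers κ := by rintro _ ⟨t, ht, rfl⟩; exact hg t ht
      have l2 : φ.range ⊓ cj g R ≤ (Ce u).map φ := by
        rintro _ ⟨⟨s, rfl⟩, t, ht, e⟩
        refine ⟨s, mem_Ce.2 (h.inj ?_), rfl⟩
        rw [map_mul, map_mul, hu, ← e]
        exact mem_Ce.1 (conj_mem_Ce (hR.le ht) g)
      have c2 := card_le_of_le l2
      rw [card_map_of_injective h.inj,
        Nat.card_congr (Equiv.subtypeEquivRight fun s => mem_Ce (x := u) (g := s))] at c2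
      have c3 := relIndex_le_of_le_right l1 (by rw [idx h]; decide)
      have c4 : φ.range.relIndex (cj g R) * _ = _ := (φ.range.subgroupOf (cj g R)).index_mul_card
      rw [card_cj, ← inf_subgroupOf_right,
        Nat.card_congr (subgroupOfEquivOfLe inf_le_right).toEquiv] at c4
      rw [idx h] at c3
      have := Nat.mul_le_mul c3 (c2.trans c1)
      omega
  refine ⟨(MonoidHom.transfer ϕ).ker, inferInstance, ?_, fun r => ?_⟩
  · rw [index_ker, MonoidHom.range_eq_top.2 fun y => ?_, card_top]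
    · simp
    · rcases Int.units_eq_one_or y with rfl | rfl
      exacts [⟨1, map_one _⟩, ⟨κ, e⟩]
  · rw [MonoidHom.mem_ker, e] at r
    exact absurd r (by decide)

end H17.HN3T
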