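/- Griess algebra, part 9: the Pauli model of `Q = 2^(1+24)` on 25-bit codes; `Rep g D`. -/
import Cfsg.Agent.H17.GrTau
import Cfsg.Agent.H71.GrM
import Cfsg.Agent.H72.Golay

set_option autoImplicit false
set_option linter.unusedSectionVars false
open Cfsg H79 Finset H71.Gr
open H72 (pt ix gB word ix_pt pt_ix ix_lt)
open scoped Classical

namespace H17.Gr

/-- a binary digit -/
def bt (x i : ℕ) : ZMod 2 := if x.testBit i then 1 else 0
theorem bt_xor (x y i : ℕ) : bt (Nat.xor x y) i = bt x i + bt y i := by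
  have : (Nat.xor x y).testBit i = (x.testBit i ^^ y.testBit i) := Nat.testBit_xor ..
  simp only [bt, this]
  cases x.testBit i <;> cases y.testBit i <;> rfl
theorem bt_land (x y i : ℕ) : bt (Nat.land x y) i = bt x i * bt y i := by
  have : (Nat.land x y).testBit i = (x.testBit i && y.testBit i) := Nat.testBit_and ..
  simp only [bt, this]
  cases x.testBit i <;> cases y.testBit i <;> rfl
theorem bt_shr (x k i : ℕ) : bt (Nat.shiftRight x k) i = bt x (k + i) := by
  have : (Nat.shiftRight x k).testBit i = x.testBit (k + i) := Nat.testBit_shiftRight ..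
  simp only [bt, this]
theorem bt_shl (x k i : ℕ) : bt (Nat.shiftLeft x k) i = if k ≤ i then bt x (i - k) else 0 := by
  have : (Nat.shiftLeft x k).testBit i = (decide (i ≥ k) && x.testBit (i - k)) :=
    Nat.testBit_shiftLeft ..
  by_cases h : k ≤ i <;> simp [bt, this, h]
theorem bt_zero (x : ℕ) : bt x 0 = (x : ZMod 2) := by
  rw [← ZMod.natCast_mod, bt, Nat.testBit_zero]
  rcases Nat.mod_two_eq_zero_or_one x with h | h <;> simp [h]
theorem bt_4095 {j : ℕ} (h : j < 12) : bt 4095 j = 1 := by revert j; decide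
theorem word_pt (m : ℕ) {j : ℕ} (h : j < 24) : word m (pt j) = bt m j := by rw [word, ix_pt h, bt]
theorem eq_of_bt {x y n : ℕ} (h : ∀ i < n, bt x i = bt y i) : x % 2 ^ n = y % 2 ^ n :=
  Nat.eq_of_testBit_eq fun i => by
    simp only [Nat.testBit_mod_two_pow]
    by_cases hi : i < n
    · have := h i hi
      simp only [bt] at this
      revert this; cases x.testBit i <;> cases y.testBit i <;> simp
    · simp [hi]

/-- parity table -/
def PT : ℕ := nat_lit 0x6996966996696996966969966996966996696996699696696996966996696996966969966996966969969669966969966996966996696996966969966996966996696996699696696996966996696996699696699669699696696996699696696996966996696996966969966996966996696996699696696996966996696996966969966996966969969669966969966996966996696996966969966996966969969669966969969669699669969669966969966996966969969669966969966996966996696996966969966996966996696996699696696996966996696996966969966996966969969669966969966996966996696996966969966996966996696996699696696996966996696996699696699669699696696996699696696996966996696996966969966996966996696996699696696996966996696996699696699669699696696996699696699669699669969669699696699669699696696996699696696996966996696996699696699669699696696996699696696996966996696996966969966996966996696996699696696996966996696996966969966996966969969669966969966996966996696996966969966996966996696996699696696996966996696996699696699669699696696996699696696996966996696996966969966996966996696996699696696996966996696996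
/-- parity of a number below 4096 -/
def pa (y : ℕ) : ℕ := Nat.land (Nat.shiftRight PT y) 1
/-- parity of the low `n` digits -/
def paR (y : ℕ) : ℕ → ℕ
  | 0 => 0
  | n + 1 => Nat.xor (paR y n) (Nat.land (Nat.shiftRight y n) 1)
theorem paR_spec (y n : ℕ) : bt (paR y n) 0 = ∑ j ∈ range n, bt y j := by
  induction n with
  | zero => simp [paR, bt]
  | succ n ih => rw [paR, bt_xor, ih, sum_range_succ, bt_land, bt_shr]; exact congrArg _ (mul_one _)
theorem pa_spec (y : ℕ) : bt (pa (Nat.land y 4095)) 0 = ∑ j ∈ range 12, bt y j := by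
  have h : (List.range 4096).all (fun y => Nat.beq (pa y) (paR y 12)) = true := by decide +kernel
  have k : pa (Nat.land y 4095) = paR (Nat.land y 4095) 12 := Nat.eq_of_beq_eq_true
    (List.all_eq_true.1 h _ (List.mem_range.2 (Nat.and_lt_two_pow (n := 12) _ (by decide))))
  rw [k, paR_spec]
  exact sum_congr rfl fun j hj => by rw [bt_land, bt_4095 (mem_range.1 hj), mul_one]
theorem bt_pa (y : ℕ) {i : ℕ} (h : i ≠ 0) : bt (pa y) i = 0 := by
  rw [pa, bt_land, show bt 1 i = 0 by simp [bt, Nat.testBit_one_eq_true_iff_self_eq_zero, h], mul_zero]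

/-- product of codes -/
def mul (x y : ℕ) : ℕ :=
  Nat.xor (Nat.xor x y) (Nat.shiftLeft (pa (Nat.land (Nat.land (Nat.shiftRight x 12) y) 4095)) 24)
theorem bt_mul (x y : ℕ) {i : ℕ} (h : i ≠ 24) : bt (mul x y) i = bt x i + bt y i := by
  rw [mul, bt_xor, bt_xor, bt_shl]
  split_ifs
  · rw [bt_pa _ (by omega), add_zero]
  · rw [add_zero]
theorem bt_mul24 (x y : ℕ) :
    bt (mul x y) 24 = bt x 24 + bt y 24 + ∑ j ∈ range 12, bt x (12 + j) * bt y j := by
  simp only [mul, bt_xor, bt_shl, le_refl, if_true, Nat.sub_self, pa_spec, bt_land, bt_shr]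

/-- the systematic basis of the code -/
def gC (j : ℕ) : C := ⟨word (gB.getD j 0), by
  by_cases h : j < 12
  · exact H72.gB_mem _ (by revert j; decide)
  · rw [List.getD_eq_default _ _ (not_lt.1 h), H72.word_zero]; exact zero_mem _⟩
theorem gC_pt {i j : ℕ} (hi : i < 12) (hj : j < 12) : (gC j).1 (pt i) = if i = j then 1 else 0 := by
  show word _ _ = _
  rw [word_pt _ (by omega)]; revert j; revert i; decide +kernel
theorem code_ext {c d : C} (h : ∀ j < 12, c.1 (pt j) = d.1 (pt j)) : c = d := by
  obtain ⟨m, hm, e⟩ := H72.mem_golayCode_iff.1 c.2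
  obtain ⟨m', hm', e'⟩ := H72.mem_golayCode_iff.1 d.2
  refine Subtype.ext ?_
  rw [← e, ← e', ← (H72.isG_iff m).1 hm, ← (H72.isG_iff m').1 hm', show m % 4096 = m' % 4096 from
    eq_of_bt (n := 12) fun i hi => by
      rw [← word_pt _ (by omega), ← word_pt _ (by omega), e, e', h i hi]]
theorem code_sum (a : ℕ → ZMod 2) {i : ℕ} (hi : i < 12) :
    (∑ j ∈ range 12, a j • gC j).1 (pt i) = a i := by
  rw [Submodule.coe_sum, Finset.sum_apply, sum_eq_single i]
  · simp [gC_pt hi hi]
  · intro j hj h; simp [gC_pt hi (mem_range.1 hj), h.symm]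
  · exact fun h => absurd (mem_range.2 hi) h
theorem code_expand (c : C) : c = ∑ j ∈ range 12, c.1 (pt j) • gC j :=
  code_ext fun _ hj => (code_sum (fun j => c.1 (pt j)) hj).symm
theorem lin_expand {f : C → ZMod 2} (h : ∀ d e, f (d + e) = f d + f e) (c : C) :
    f c = ∑ j ∈ range 12, f (gC j) * c.1 (pt j) := by
  have h0 : f 0 = 0 := by simpa using h 0 0
  conv_lhs => rw [code_expand c]
  refine (map_sum (AddMonoidHom.mk' f h) _ _).trans (sum_congr rfl fun j _ => ?_)
  rcases zmod2_cases (c.1 (pt j)) with e | e <;> simp [e, h0]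

theorem dt_sum_left {ι : Type*} (s : Finset ι) (f : ι → W) (b : W) :
    dt (∑ i ∈ s, f i) b = ∑ i ∈ s, dt (f i) b :=
  map_sum (AddMonoidHom.mk' (dt · b) fun a c => dt_add_left a c b) f s

variable [Coc]

/-- `x` is the code of the class of `v` -/
def Cod (v : leechLattice) (x : ℕ) : Prop :=
  ∀ j < 12, (ec v).1 (pt j) = bt x j ∧ dl v (gC j) = bt x (12 + j)
theorem exists_cod (x : ℕ) : ∃ v, Cod v x := by
  obtain ⟨v, hv, e⟩ := exists_ec (∑ j ∈ range 12, bt x j • gC j)
  obtain ⟨u, hu, e1, e2⟩ := exists_dl (∑ i ∈ range 12, (bt x (12 + i) + dl v (gC i)) • ew (pt i))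
  refine ⟨⟨v + u, add_mem hv hu⟩, fun j hj => ⟨?_, ?_⟩⟩
  · rw [ec_add hv hu, e1, add_zero, e, code_sum _ hj]
  · rw [dl_add hv hu, e2, dt_sum_left, sum_eq_single j]
    · simp [dt_smul_left, gC_pt hj hj, add_comm (bt x _), z2_add_add]
    · intro i hi h; simp [dt_smul_left, gC_pt (mem_range.1 hi) hj, h]
    · exact fun h => absurd (mem_range.2 hj) h
theorem Cod.mul {v w : leechLattice} {x y : ℕ} (h : Cod v x) (h' : Cod w y) :
    Cod (v + w) (mul x y) := fun j hj => by
  rw [bt_mul _ _ (by omega), bt_mul _ _ (by omega), AddSubgroup.coe_add, ec_add v.2 w.2,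
    dl_add v.2 w.2, ← (h j hj).1, ← (h j hj).2, ← (h' j hj).1, ← (h' j hj).2]
  exact ⟨rfl, rfl⟩
theorem Cod.dl {v : leechLattice} {x : ℕ} (h : Cod v x) (d : C) :
    dl v d = ∑ j ∈ range 12, bt x (12 + j) * d.1 (pt j) :=
  (lin_expand (dl_right v) d).trans (sum_congr rfl fun j hj => by rw [(h j (mem_range.1 hj)).2])
theorem Cod.be {v w : leechLattice} {x y : ℕ} (h : Cod v x) (h' : Cod w y) :
    be v w = ∑ j ∈ range 12, bt x (12 + j) * bt y j :=
  (h.dl _).trans (sum_congr rfl fun j hj => by rw [(h' j (mem_range.1 hj)).1])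
theorem Cod.cg {v w : leechLattice} {x : ℕ} (h : Cod v x) (h' : Cod w x) : Cg v w :=
  (cg_add_iff v w).1 (two_of_ec
    (by rw [AddSubgroup.coe_add, ec_add v.2 w.2, code_ext fun j hj => (h j hj).1.trans (h' j hj).1.symm,
      c_add_self])
    fun d => by rw [AddSubgroup.coe_add, dl_add v.2 w.2, h.dl, h'.dl, z2_add_self])
theorem ec_cg {v w : leechLattice} (h : Cg v w) : ec v = ec w ∧ ∀ d, dl v d = dl w d := by
  obtain ⟨u, e⟩ := h
  rw [sub_eq_iff_eq_add'.1 e, AddSubgroup.coe_add, AddSubgroup.coe_add]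
  exact ⟨by rw [ec_add w.2 (add_mem u.2 u.2), ec_two u.2, add_zero],
    fun d => by rw [dl_add w.2 (add_mem u.2 u.2), dl_two u.2, add_zero]⟩
theorem Cod.of_cg {v w : leechLattice} {x : ℕ} (h : Cod v x) (h' : Cg w v) : Cod w x := fun j hj => by
  rw [(ec_cg h').1, (ec_cg h').2]; exact h j hj
theorem Cod.congr {v : leechLattice} {x y : ℕ} (h : Cod v x) (e : ∀ i < 24, bt x i = bt y i) :
    Cod v y := fun j hj => by rw [← e _ (by omega), ← e _ (by omega)]; exact h j hj
theorem Cod.bt_eq {v : leechLattice} {x y : ℕ} (h : Cod v x) (h' : Cod v y) :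
    ∀ i < 24, bt x i = bt y i := fun i hi => by
  by_cases k : i < 12
  · rw [← (h i k).1, (h' i k).1]
  · obtain ⟨j, rfl⟩ := Nat.exists_eq_add_of_le (not_lt.1 k)
    rw [← (h j (by omega)).2, (h' j (by omega)).2]
theorem cod_zero {x : ℕ} (h : ∀ i < 24, bt x i = 0) : Cod 0 x := fun j hj => by
  rw [h _ (by omega), h _ (by omega)]; simp
/-- a lattice vector with given code -/
noncomputable def vec (x : ℕ) : leechLattice := (exists_cod x).choose
theorem cod_vec (x : ℕ) : Cod (vec x) x := (exists_cod x).choose_spec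

variable {F : Type*} [Field F] [Good F]

/-- the element of `Q` with given code -/
noncomputable def qq (F : Type*) [Field F] [Good F] (x : ℕ) : Mon F := Lift.act (YY F (bt x 24) (vec x))
theorem Cod.qq {v : leechLattice} {x : ℕ} (h : Cod v x) : qq F x = Lift.act (YY F (bt x 24) v) :=
  act_YY_iff.2 ⟨rfl, (cod_vec x).cg h⟩
theorem qq_mul (x y : ℕ) : qq F x * qq F y = qq F (mul x y) := by
  rw [((cod_vec x).mul (cod_vec y)).qq, qq, qq, act_YY_mul, bt_mul24, (cod_vec x).be (cod_vec y)]
theorem qq_congr {x y : ℕ} (h : ∀ i < 25, bt x i = bt y i) : qq F x = qq F y := by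
  rw [((cod_vec x).congr fun i hi => h i (by omega)).qq, ← h 24 (by omega), qq]
theorem qq_inj {x y : ℕ} (h : qq F x = qq F y) : x % 2 ^ 25 = y % 2 ^ 25 := by
  obtain ⟨h1, h2⟩ := act_YY_iff.1 h
  refine eq_of_bt fun i hi => ?_
  rcases Nat.lt_succ_iff_lt_or_eq.1 hi with k | rfl
  exacts [(cod_vec x).bt_eq ((cod_vec y).of_cg h2) i k, h1]
theorem qq_mod (x : ℕ) : qq F (x % 2 ^ 25) = qq F x :=
  qq_congr fun i hi => by rw [bt, bt, Nat.testBit_mod_two_pow, decide_eq_true hi, Bool.true_and]
@[simp] theorem qq_zero : qq F 0 = 1 := by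
  rw [(cod_zero fun i _ => by simp [bt]).qq, one_eq]; rfl
/-- the code of `z` -/
abbrev ZC : ℕ := 16777216
theorem qq_z : qq F ZC = zM F := by rw [(cod_zero (by decide)).qq, zM_eq]; rfl
theorem qq_mem (x : ℕ) : qq F x ∈ QM F := mem_QM.2 ⟨_, _, rfl⟩
theorem exists_code (v : leechLattice) (a : ZMod 2) : ∃ x < 2 ^ 25, Cod v x ∧ bt x 24 = a := by
  let f : ℕ → ZMod 2 := fun i =>
    if i < 12 then (ec v).1 (pt i) else if i < 24 then dl v (gC (i - 12)) else a
  have h : ∀ i < 25, bt (Nat.ofBits fun i : Fin 25 => decide (f i = 1)) i = f i := fun i hi => by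
    rw [bt, Nat.testBit_ofBits_lt _ _ hi]
    rcases zmod2_cases (f i) with e | e <;> simp [e]
  refine ⟨_, Nat.ofBits_lt_two_pow _, fun j hj => ?_, h 24 (by decide)⟩
  rw [h _ (by omega), h _ (by omega)]
  simp [f, hj, show 12 + j < 24 by omega]
theorem exists_qq {g : Mon F} (h : g ∈ QM F) : ∃ x < 2 ^ 25, g = qq F x := by
  obtain ⟨a, v, rfl⟩ := mem_QM.1 h
  obtain ⟨x, hx, h1, h2⟩ := exists_code v a
  exact ⟨x, hx, by rw [h1.qq, h2]⟩
theorem qq_comm_z (x : ℕ) : qq F x * zM F = zM F * qq F x := (act_comm _).eq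
theorem zM_mul_self : zM F * zM F = 1 := xs_QM.z_sq
theorem zM_ne : zM F ≠ 1 := xs_QM.z_ne
/-- inverse of a code -/
def ivc (x : ℕ) : ℕ := Nat.xor x (mul x x)
theorem qq_ivc (x : ℕ) : qq F (ivc x) = (qq F x)⁻¹ := by
  rw [eq_inv_iff_mul_eq_one, qq_mul, ← qq_zero]
  have h : ∀ i, i ≠ 24 → bt (ivc x) i = bt x i := fun i hi => by
    rw [ivc, bt_xor, bt_mul _ _ hi, z2_add_self, add_zero]
  refine qq_congr fun i hi => ?_
  rw [show bt 0 i = 0 by simp [bt]]
  rcases eq_or_ne i 24 with rfl | k
  · rw [bt_mul24, sum_congr rfl fun j hj => by rw [h _ (by have := mem_range.1 hj; omega)], ivc,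
      bt_xor, bt_mul24]
    simp [add_right_comm _ _ (bt x 24)]
  · rw [bt_mul _ _ k, h i k, z2_add_self]

/-- product of the codes of `D` selected by the digits of `x` -/
noncomputable def appL (D : List ℕ) : ℕ → ℕ → ℕ :=
  List.rec (motive := fun _ => ℕ → ℕ → ℕ) (fun _ a => a) (fun d _ ih x a =>
    ih (Nat.shiftRight x 1) (Bool.rec (motive := fun _ => ℕ) a (mul a d) (Nat.beq (Nat.land x 1) 1))) D
/-- image of the code `x` under the data `D` -/
noncomputable def app (D : List ℕ) (x : ℕ) : ℕ := appL D x (Nat.land x ZC)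
/-- composition of data -/
noncomputable def cmp (D E : List ℕ) : List ℕ :=
  List.rec (motive := fun _ => List ℕ) [] (fun e _ ih => app D e :: ih) E
theorem cmp_eq (D E : List ℕ) : cmp D E = E.map (app D) := by
  induction E with
  | nil => rfl
  | cons e E ih => exact congrArg _ ih
/-- the identity data -/
def idD : List ℕ := [1, 2, 4, 8, 16, 32, 64, 128, 256, 512, 1024, 2048, 4096, 8192, 16384, 32768, 65536,
  131072, 262144, 524288, 1048576, 2097152, 4194304, 8388608]
theorem appL_cons (d : ℕ) (D : List ℕ) (x a : ℕ) :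
    appL (d :: D) x a = appL D (x >>> 1) (if x.testBit 0 then mul a d else a) := by
  have := H72.tb_eq x 0
  unfold H72.tb at this
  show appL D _ (Bool.rec _ _ (Nat.beq (Nat.land (Nat.shiftRight x 0) 1) 1)) = _
  rw [this]; cases x.testBit 0 <;> rfl
theorem appL_pow (x n : ℕ) : ∀ k a, k + n = 24 → (∀ i < 25, bt a i = if i < k ∨ i = 24 then bt x i else 0) →
    ∀ i < 25, bt (appL ((List.range' k n).map (2 ^ ·)) (x >>> k) a) i = bt x i := by
  induction n with
  | zero => intro k a h ha i hi; exact (ha i hi).trans (if_pos (by omega))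
  | succ n ih =>
    intro k a h ha
    rw [List.range'_succ, List.map_cons, appL_cons, ← Nat.shiftRight_add]
    refine ih _ _ (by omega) fun i hi => ?_
    have e : ∀ i, bt (2 ^ k) i = if k = i then 1 else 0 := fun i => by simp [bt, Nat.testBit_two_pow]
    have hk : bt x k = if (x >>> k).testBit 0 then 1 else 0 := by simp [bt]
    split_ifs at hk with c
    · rw [if_pos c]
      rcases eq_or_ne i 24 with rfl | k2
      · rw [bt_mul24, ha _ hi, e, sum_eq_zero fun j hj => ?_]
        · simp [show k ≠ 24 by omega]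
        · have := mem_range.1 hj
          rw [e, ha _ (by omega)]
          split_ifs <;> first | omega | simp
      · rw [bt_mul _ _ k2, ha _ hi, e]
        rcases lt_trichotomy i k with l | rfl | l
        · simp [l, l.ne', show i < k + 1 by omega]
        · simp [k2, hk]
        · simp [l.ne, l.not_gt, k2, show ¬ i < k + 1 by omega]
    · rw [if_neg c, ha _ hi]
      rcases eq_or_ne i k with rfl | l
      · simp [hk]
      · exact if_congr (by omega) rfl rfl
theorem qq_app_id (x : ℕ) : qq F (app idD x) = qq F x :=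
  qq_congr (appL_pow x 24 0 _ rfl fun i hi => by
    rw [bt_land]
    rcases eq_or_ne i 24 with rfl | k
    · simp [show bt ZC 24 = 1 by decide]
    · rw [show bt ZC i = 0 by revert i; decide]; simp [k])

/-- `g` conjugates `qq x` to `qq y` -/
def Cj (g : Mon F) (x y : ℕ) : Prop := g * qq F x * g⁻¹ = qq F y
theorem Cj.mul {g : Mon F} {x y x' y' : ℕ} (h : Cj g x y) (h' : Cj g x' y') :
    Cj g (mul x x') (mul y y') := by
  rw [Cj, ← qq_mul, ← qq_mul, ← h, ← h']; group
theorem Cj.comp {g k : Mon F} {x y w : ℕ} (h : Cj g y w) (h' : Cj k x y) : Cj (g * k) x w := by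
  rw [Cj, ← h, ← h']; group
theorem Cj.inv {g : Mon F} {x y : ℕ} (h : Cj g x y) : Cj g⁻¹ y x := by rw [Cj, ← h]; group
theorem cj_z {g : Mon F} (h : g * zM F = zM F * g) : Cj g ZC ZC := by
  rw [Cj, qq_z, h, mul_inv_cancel_right]
/-- `g` centralises `z` and conjugates the list `A` to the list `B` -/
def Rep2 (g : Mon F) (A B : List ℕ) : Prop := g * zM F = zM F * g ∧ List.Forall₂ (Cj g) A B
/-- `D` is the data of `g` -/
abbrev Rep (g : Mon F) (D : List ℕ) : Prop := Rep2 g idD D
theorem Rep2.app {g : Mon F} {A B : List ℕ} (h : Rep2 g A B) (x : ℕ) : Cj g (app A x) (app B x) := by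
  have key : ∀ {A B}, List.Forall₂ (Cj g) A B → ∀ x a b, Cj g a b → Cj g (appL A x a) (appL B x b) := by
    intro A B h
    induction h with
    | nil => exact fun _ _ _ h => h
    | cons h _ ih =>
      intro x a b k
      rw [appL_cons, appL_cons]
      refine ih _ _ _ ?_
      split_ifs
      exacts [k.mul h, k]
  refine key h.2 x _ _ ?_
  have e : Nat.land x ZC = x &&& 2 ^ 24 := rfl
  rw [e, Nat.and_two_pow]
  cases x.testBit 24
  · simp [Cj]
  · simpa using cj_z h.1
theorem Rep.cj {g : Mon F} {D : List ℕ} (h : Rep g D) (x : ℕ) : Cj g x (app D x) := by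
  have := h.app x
  rwa [Cj, qq_app_id] at this
theorem Rep2.cmp {g : Mon F} {A B : List ℕ} (h : Rep2 g A B) (E : List ℕ) :
    Rep2 g (cmp A E) (cmp B E) :=
  ⟨h.1, by simpa only [cmp_eq, List.forall₂_map_left_iff, List.forall₂_map_right_iff,
    List.forall₂_same] using fun x _ => h.app x⟩
theorem Rep2.rebase {g : Mon F} {A B E : List ℕ} (h : Rep2 g A B) (e : Gr.cmp A E = idD) :
    Rep g (Gr.cmp B E) := by rw [Rep, ← e]; exact h.cmp E
theorem Rep.mul {g k : Mon F} {D E : List ℕ} (h : Rep g D) (h' : Rep k E) : Rep (g * k) (cmp D E) :=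
  ⟨by rw [mul_assoc, h'.1, ← mul_assoc, h.1, mul_assoc],
    by rw [cmp_eq, List.forall₂_map_right_iff]; exact h'.2.imp fun _ b e => (h.cj b).comp e⟩
theorem Rep.inv {g : Mon F} {D E : List ℕ} (h : Rep g D) (e : cmp D E = idD) : Rep g⁻¹ E :=
  ⟨by rw [inv_mul_eq_iff_eq_mul, ← mul_assoc, h.1, mul_inv_cancel_right], by
    rw [← e, cmp_eq, List.forall₂_map_left_iff, List.forall₂_same]; exact fun x _ => (h.cj x).inv⟩
theorem rep_one : Rep (1 : Mon F) idD := ⟨by simp, List.forall₂_same.2 fun _ _ => by simp [Cj]⟩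
theorem rep_z : Rep (zM F) idD :=
  ⟨rfl, List.forall₂_same.2 fun x _ => by rw [Cj, ← qq_comm_z, mul_inv_cancel_right]⟩
theorem Rep.eq {g k : Mon F} {D : List ℕ} (h : Rep g D) (h' : Rep k D) : g = k ∨ g = k * zM F := by
  have : ∀ y ∈ QM F, k⁻¹ * g * y = y * (k⁻¹ * g) := fun y hy => by
    obtain ⟨x, -, rfl⟩ := exists_qq hy
    exact mul_inv_eq_iff_eq_mul.1 ((h'.cj x).inv.comp (h.cj x))
  simpa only [inv_mul_eq_iff_eq_mul, mul_one] using xs_QM.center _ (lx_QM.cent _ this) this
theorem Rep.eq_one {g : Mon F} (h : Rep g idD) : g = 1 ∨ g = zM F := by simpa using h.eq rep_one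
theorem Rep.unique {g : Mon F} {D E : List ℕ} (h : Rep g D) (h' : Rep g E) :
    D.map (· % 2 ^ 25) = E.map (· % 2 ^ 25) := by
  have key : ∀ {A D}, List.Forall₂ (Cj g) A D → ∀ {E}, List.Forall₂ (Cj g) A E →
      D.map (· % 2 ^ 25) = E.map (· % 2 ^ 25) := by
    intro A D h
    induction h with
    | nil => intro E h; cases h; rfl
    | cons a _ ih =>
      intro E h
      cases h with
      | cons b k => rw [List.map_cons, List.map_cons, ih k, qq_inj (a.symm.trans b)]
  exact key h.2 h'.2
/-- conjugation of codes -/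
def cjc (x y : ℕ) : ℕ := mul (mul x y) (ivc x)
theorem cj_qq (x y : ℕ) : Cj (qq F x) y (cjc x y) := by rw [Cj, ← qq_ivc, qq_mul, qq_mul, cjc]
/-- data of an element of `Q` -/
def inn (x : ℕ) : List ℕ := idD.map (cjc x)
theorem rep_qq (x : ℕ) : Rep (qq F x) (inn x) :=
  ⟨qq_comm_z x, List.forall₂_map_right_iff.2 (List.forall₂_same.2 fun y _ => cj_qq x y)⟩

/-- value of a word -/
def prW {G : Type*} [Group G] (gs : List G) (w : List ℕ) : G := (w.map (gs.getD · 1)).prod
/-- data of a word -/
noncomputable def evW (Ds : List (List ℕ)) (w : List ℕ) : List ℕ :=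
  List.rec (motive := fun _ => List ℕ) idD (fun i _ ih => cmp (Ds.getD i idD) ih) w
theorem rep_word {gs : List (Mon F)} {Ds : List (List ℕ)} (h : List.Forall₂ Rep gs Ds) (w : List ℕ) :
    Rep (prW gs w) (evW Ds w) := by
  have key : ∀ i, Rep (gs.getD i 1) (Ds.getD i idD) := by
    induction h with
    | nil => exact fun _ => rep_one
    | cons a _ ih => exact fun i => by cases i; exacts [a, ih _]
  induction w with
  | nil => exact rep_one
  | cons i w ih => exact (key i).mul ih
theorem Rep.pow {g : Mon F} {D : List ℕ} (h : Rep g D) (n : ℕ) :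
    Rep (g ^ n) (evW [D] (List.replicate n 0)) := by
  simpa [prW] using rep_word (.cons h .nil) (List.replicate n 0)

end H17.Gr
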