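/- Griess algebra, part 11: the triality and the monomial group; the involution `sM`. -/
import Cfsg.Agent.H17.GrCoc

set_option autoImplicit false
set_option linter.unusedSectionVars false
open Cfsg H79 Finset H71.Gr
open H72 (pt ix gB word ix_pt pt_ix ix_lt pop isG tb)
open scoped Classical Matrix

namespace H17.Gr
attribute [-simp] Fintype.sum_option

variable {F : Type*} [Field F] [Good F]

/-- pulling back along a permutation -/
def pw {α : Type} (π : M24) (w : GolayPt → α) : GolayPt → α := fun i => w (π.1 i)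
/-- pulling back code words -/
def pc (π : M24) (c : C) : C := ⟨pw π c, comp_mem_golay π.2 c.2⟩
section pull
variable (π : M24) (a b : W) (c d : C)
@[simp] theorem pw_inv {α : Type} (w : GolayPt → α) : pw π (pw π⁻¹ w) = w :=
  funext fun i => congrArg w (π.1.symm_apply_apply i)
@[simp] theorem inv_pw {α : Type} (w : GolayPt → α) : pw π⁻¹ (pw π w) = w := pw_inv π⁻¹ w
@[simp] theorem pc_inv : pc π (pc π⁻¹ c) = c := Subtype.ext (pw_inv π c.1)
@[simp] theorem inv_pc : pc π⁻¹ (pc π c) = c := pc_inv π⁻¹ c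
theorem pc_inj : pc π c = pc π d ↔ c = d := ⟨fun h => by rw [← inv_pc π c, h, inv_pc], congrArg _⟩
theorem pc_add : pc π (c + d) = pc π c + pc π d := rfl
theorem pc_coe : (pc π c).1 = pw π c.1 := rfl
theorem pw_mul : pw π a * pw π b = pw π (a * b) := rfl
theorem wt_pw : wt (pw π a) = wt a := Equiv.sum_comp π.1 fun i => iv (a i)
theorem dt_pw : dt (pw π a) (pw π b) = dt a b := Equiv.sum_comp π.1 fun i => a i * b i
theorem hw_pw : hw (pw π a) = hw a := by rw [hw, wt_pw, hw]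
theorem qw_pw : qw (pw π a) = qw a := by rw [qw, wt_pw, qw]
theorem pw_symm {α : Type} (w : GolayPt → α) (i : GolayPt) : pw π w (π.1.symm i) = w i :=
  congrArg w (π.1.apply_symm_apply i)
theorem pw_vA (i j : GolayPt) (s t : ZMod 2) :
    pw π (vA i j s t) = vA (π.1.symm i) (π.1.symm j) s t := funext fun l => by
  simp only [pw, vA_apply, Equiv.eq_symm_apply]
theorem pw_vX (i : GolayPt) : pw π (vX a i) = vX (pw π a) (π.1.symm i) := funext fun l => by
  simp only [pw, vX, Equiv.eq_symm_apply]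
theorem ec_pw {v : V} (hv : v ∈ leechLattice) : ec (pw π v) = pc π (ec v) := Subtype.ext (by
  rw [ec_coe (v := pw π v) (perm_mem_leech π.2 hv), pc_coe, ec_coe hv,
    show om (pw π v) = om v from congrArg (fun x : ℤ => ((x / 8 : ℤ) : ZMod 2)) (Equiv.sum_comp π.1 v)]
  rfl)
theorem Hd_pw (t : F) (f : W → F) :
    Hd a (fun s => t * f (pw π s)) b = t * Hd (pw π a) f (pw π b) := by
  rw [Hd, Hd, ← mul_div_assoc, mul_sum]
  refine congrArg (· / 16) (sum_nbij' (pw π) (pw π⁻¹) (fun s hs => ?_) (fun s hs => ?_)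
    (fun s _ => inv_pw π s) (fun s _ => pw_inv π s) fun s _ => by rw [dt_pw, mul_left_comm])
  · exact mem_Sub.2 (congrArg (pw π) (mem_Sub.1 hs))
  · exact mem_Sub.2 (by simpa only [← pw_mul, inv_pw] using congrArg (pw π⁻¹) (mem_Sub.1 hs))
theorem Vu.pw {f : W → F} (h : Vu (pw π a) f) (t : F) : Vu a fun s => t * f (pw π s) where
  mul s := congrArg _ (h.mul _)
  add s := congrArg _ (h.add _)
  odd s e := by rw [h.odd _ (by rw [dt_pw, e]), mul_zero]
  oct := h.oct.imp (wt_pw π a).symm.trans fun e => by rw [e]; exact funext fun _ => mul_zero _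
theorem mat_permC (i j : GolayPt) : mat F (permC π) i j = if j = π.1.symm i then 1 else 0 := by
  rw [mat, Matrix.of_apply, permC_e8, cv_e8, Pi.single_apply]
  simp only [Equiv.eq_symm_apply, eq_comm (a := i)]
  split_ifs <;> simp [eight_ne]
theorem mul_permC {ι : Type*} (M : Matrix ι GolayPt F) (d : ι) (i : GolayPt) :
    (M * (mat F (permC π))ᵀ) d i = M d (π.1.symm i) := by simp [Matrix.mul_apply, mat_permC]
theorem permC_mul (M : Matrix GolayPt GolayPt F) (i j : GolayPt) :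
    (mat F (permC π) * M) i j = M (π.1.symm i) j := by simp [Matrix.mul_apply, mat_permC]
end pull

/-- monomial maps in coordinates -/
def Cd.pm (c : Cd F) (π : M24) (q : C → ZMod 2) (h : ∀ d (t : ZMod 2), q (d + t • Om) = q d) : Cd F :=
  ⟨fun i => c.a (π.1.symm i), fun i j => c.p1 (π.1.symm i) (π.1.symm j),
    fun i j => c.p2 (π.1.symm i) (π.1.symm j), fun i j => c.p3 (π.1.symm i) (π.1.symm j),
    fun o s => ch (q (pc π o)) * c.u (pc π o) (pw π s),
    fun d i => ch (q (pc π d)) * c.Y1 (pc π d) (π.1.symm i),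
    fun d i => ch (q (pc π d)) * c.Y2 (pc π d) (π.1.symm i),
    fun d i => ch (q (pc π d)) * c.Y3 (pc π d) (π.1.symm i),
    ⟨fun _ _ => c.h1.symm _ _, fun _ => c.h1.diag _⟩, ⟨fun _ _ => c.h2.symm _ _, fun _ => c.h2.diag _⟩,
    ⟨fun _ _ => c.h3.symm _ _, fun _ => c.h3.diag _⟩, fun o => (c.hu (pc π o)).pw π _ _,
    fun d _ => congrArg₂ _ (congrArg _ (h (pc π d) 1)) (c.e1 (pc π d) _),
    fun d _ => congrArg₂ _ (congrArg _ (h (pc π d) 1)) (c.e2 (pc π d) _),
    fun d _ => congrArg₂ _ (congrArg _ (h (pc π d) 1)) (c.e3 (pc π d) _)⟩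
/-- odd cocode elements in coordinates -/
def Cd.sw (c : Cd F) (l : C → ZMod 2) (h : ∀ d, l (d + Om) = l d + 1) : Cd F :=
  have e : ∀ (d : C) i, l (d + Om) + (d + Om).1 i + qw (d + Om).1 = l d + d.1 i + qw d := fun d i => by
    rw [h, Submodule.coe_add, Om_coe, qw_add_one, Pi.add_apply, Pi.one_apply, add_add_add_comm,
      z2_add_self, add_zero]
  ⟨c.a, c.p1, c.p3, c.p2, fun o s => ch (l o) * Dd o (c.u o) s,
    fun d i => ch (l d + d.1 i + qw d) * c.Y1 d i, fun d i => ch (l d + d.1 i + qw d) * c.Y3 d i,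
    fun d i => ch (l d + d.1 i + qw d) * c.Y2 d i, c.h1, c.h3, c.h2, fun o => (c.hu o).dd.pw 1 _ _,
    fun d i => by rw [e, c.e1], fun d i => by rw [e, c.e3], fun d i => by rw [e, c.e2]⟩

variable [Coc]
theorem mon_ext {g h : Mon F} (e : ∀ b c, Rel b c → ∃ d, Rel (g.1 b) d ∧ Rel (h.1 b) d) : g = h :=
  Subtype.ext (LinearEquiv.ext fun b => let ⟨_, h1, h2⟩ := e b _ (rel_cdE b); h1.left_unique h2)
theorem comm_tau {n : Lift F} {π : M24} {q : C → ZMod 2} (h0 : q 0 = 0)
    (h : ∀ d (t : ZMod 2), q (d + t • Om) = q d) (hψ : n.ψ = permC π) (hε : ∀ v, n.ε v = q (ec v))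
    (hγ : ∀ d e, n.γ d e = if e = pc π d then ch (q e) else 0) :
    Lift.act n * tau F = tau F * Lift.act n := by
  have k : ∀ (b : B F) w, ex (n.actL b).x w = ch (q (ec (pw π w))) * ex b.x (pw π w) := fun b w => by
    by_cases e : w ∈ leechLattice
    · rw [← hε ⟨pw π w, perm_mem_leech π.2 e⟩, ← ex_act n b ⟨pw π w, perm_mem_leech π.2 e⟩, hψ]
      exact congrArg _ (inv_pw π w).symm
    · rw [ex_of_not _ fun a => e a.1, ex_of_not _ fun a => e ?_, mul_zero]
      exact inv_pw π w ▸ perm_mem_leech π⁻¹.2 a.1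
  have key : ∀ {b c}, Rel b c → Rel ((Lift.act n).1 b) (c.pm π q h) := fun {b c} r => by
    refine ⟨fun i j => ?_, fun i j s t => ?_, fun o s => ?_, fun d i => ?_, fun d i => ?_⟩ <;>
      rw [Lift.act_apply]
    · rw [Lift.actL_A, hψ, mul_permC, permC_mul, r.hM]; simp [Cd.pm]
    · rw [k, pw_vA, ec_vA, ← zero_add (_ • _), h, h0, ch_zero, one_mul, r.hA]; rfl
    · rw [k, show pw π (vO o s) = vO (pc π o) (pw π s) from rfl, r.hu]
      rcases (c.hu (pc π o)).even_or (pw π s) with e | e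
      · rw [ec_vO _ _ e, h]; rfl
      · simp [Cd.pm, e]
    · rw [k, pw_vX, ← pc_coe, ec_vX, h, r.hT, pc_coe, qw_pw, mul_left_comm]; rfl
    · rw [Lift.actL_w, hψ, mul_permC]
      simp only [Matrix.mul_apply, hγ, ite_mul, zero_mul, sum_ite_eq', mem_univ, if_true, r.hw, Cd.pm,
        pc_coe, pw_symm, qw_pw]
      ring
  refine mon_ext fun b c r => ⟨_, key r.tau, ?_⟩
  suffices e : c.rot.pm π q h = (c.pm π q h).rot from e ▸ (key r).tau
  refine Cd.ext rfl rfl rfl rfl (funext₂ fun o s => ?_) rfl rfl rfl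
  simp only [Cd.rot, Cd.pm, Dd, Hd_pw, pc_coe, pw_mul, hw_pw, mul_left_comm]

theorem dot_be (v : leechLattice) {w : V} (hw : w ∈ leechLattice) :
    ((dotInt v.1 w / 8 : ℤ) : ZMod 2) = dl v (ec w) + dl w (ec v) := by
  rw [show dl v (ec w) = _ from be_symm v.2 hw, add_right_comm, be, z2_add_self, zero_add]
theorem coc_comm {v : leechLattice} (h1 : ec v = 0) (h2 : dl v Om = 0) :
    Lift.act (YY F 0 v) * tau F = tau F * Lift.act (YY F 0 v) :=
  comm_tau (π := 1) (q := dl v) (dl_zero_right _) (fun d t => by rw [dl_right, dl_smul, h2]; simp)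
    (map_one permHom).symm (fun w => (dot_be v w.2).trans (by simp [h1])) fun d e => by
      simp only [YY_γ, ch_zero, one_smul, rho, h1, add_zero, Matrix.of_apply, eq_comm (a := d)]; rfl
theorem coc_inv {v : leechLattice} (h1 : ec v = 0) (h2 : dl v Om = 1) :
    Lift.act (YY F 0 v) * tau F * Lift.act (YY F 0 v) * tau F = 1 := by
  have h : ∀ d, dl v (d + Om) = dl v d + 1 := fun d => by rw [dl_right, h2]
  have k : ∀ (b : B F) w, w ∈ leechLattice →
      ex ((Lift.X F v).actL b).x w = ch (dl v (ec w)) * ex b.x w := fun b w e => by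
    rw [ex_X, dot_be v e, h1, dl_zero_right, add_zero]
  have key : ∀ {b c}, Rel b c → Rel ((Lift.act (YY F 0 v)).1 b) (c.sw _ h) := fun {b c} r => by
    refine ⟨fun i j => ?_, fun i j s t => ?_, fun o s => ?_, fun d i => ?_, fun d i => ?_⟩ <;>
      rw [Lift.act_apply, YY_X]
    · simpa [Lift.actL_A, Lift.X, Cd.sw] using r.hM i j
    · rw [k _ _ (vA_mem i j s t), ec_vA, dl_smul, h2, mul_one, r.hA, ch_add_one, Cd.sw]
      grind [ch_mul_self]
    · rcases (c.hu o).even_or s with e | e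
      · rw [k _ _ (vO_mem s o e), ec_vO _ _ e, dl_right, dl_smul, h2, r.hu]
        rcases (c.hu o).oct with a | a
        · simp [Cd.sw, Dd, qw, a, ch_add, mul_assoc, z2_two]
        · simp [Cd.sw, a]
      · rw [ex_X, r.hu]; simp [Cd.sw, Dd, e]
    · rw [k _ _ (vX_mem i d), ec_vX, dl_right, dl_smul, h2, r.hT]
      simp only [Cd.sw, mul_one, ch_add]; ring
    · simp only [Lift.actL_w, Lift.X, mat_one, Matrix.transpose_one, Matrix.mul_one, rho_mul_apply, h1,
        add_zero, r.hw, Cd.sw, ch_add]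
      grind [ch_mul_self]
  refine mon_ext fun b c r => ⟨c, ?_, r⟩
  suffices e : c = ((c.rot.sw _ h).rot.sw _ h) from e ▸ key (key r.tau).tau
  refine Cd.ext rfl rfl rfl rfl (funext₂ fun o s => ?_) ?_ ?_ ?_
  · have := Hd_pw 1 o (t := ch (dl v o)) (f := Hd o (c.u o))
    simp only [Cd.rot, Cd.sw, Dd_Dd]
    exact ((congrArg _ (this s)).trans ((ch_mul_self' _ _).trans (congrFun (c.hu o).hd_hd s))).symm
  all_goals exact funext₂ fun _ _ => (ch_mul_self' _ _).symm

theorem exists_q (π : M24) : ∃ q : C → ZMod 2, (∀ d e, q (d + e) =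
    q d + q e + (th d e + th (pc π d) (pc π e))) ∧ q Om = 0 ∧ ∀ j, j ≠ 0 → j < 12 → q (gC j) = 0 := by
  let β : C → C → ZMod 2 := fun d e => th d e + th (pc π d) (pc π e)
  have h1 : ∀ u v w, β (u + v) w = β u w + β v w := fun u v w => by
    simp only [β, pc_add, th_add_left, pc_coe, pw_mul, dt_pw]
    linear_combination dt (u * v : W) w * z2_two
  have h2 : ∀ u v w, β u (v + w) = β u v + β u w := fun u v w => by
    simp only [β, pc_add, th_add_right]; ring
  have h3 : ∀ v, β v v = 0 := fun v => by simp [β, pc_coe, qw_pw]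
  have h0 : pc π 0 = 0 := rfl
  let β' := LinearMap.mk₂ (ZMod 2) β h1 (fun c u v => by rcases zmod2_cases c with rfl | rfl <;> simp [β, h0])
    h2 fun c u v => by rcases zmod2_cases c with rfl | rfl <;> simp [β, h0]
  let P : C →ₗ[ZMod 2] C →ₗ[ZMod 2] ZMod 2 :=
    gBas.constr (ZMod 2) fun i => gBas.constr (ZMod 2) fun j => if i < j then β (gBas i) (gBas j) else 0
  have h4 : ∀ u v, β u v = β v u := fun u v => by
    have := h3 (u + v)
    rw [h1, h2, h2, h3, h3, zero_add, add_zero] at this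
    exact z2_eq_iff.2 this
  have k : P + P.flip = β' := LinearMap.ext_basis gBas gBas fun i j => by
    show P (gBas i) (gBas j) + P (gBas j) (gBas i) = β (gBas i) (gBas j)
    simp only [P, Module.Basis.constr_basis]
    rcases lt_trichotomy i j with h | rfl | h
    · simp [h, h.not_gt]
    · simp [h3]
    · simp [h, h.not_gt, h4 (gBas i)]
  refine ⟨fun v => P v v + P Om Om * v.1 (pt 0), fun v w => ?_, by simp, fun j h0 hj => ?_⟩
  · have : P v w + P w v = th v w + th (pc π v) (pc π w) :=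
      LinearMap.congr_fun (LinearMap.congr_fun k v) w
    simp only [map_add, LinearMap.add_apply, ← this, Submodule.coe_add, Pi.add_apply]
    ring
  · beta_reduce
    rw [gC_pt (by decide) hj, if_neg h0.symm, ← gBas_eq ⟨j, hj⟩]
    simp only [P, Module.Basis.constr_basis]; simp
theorem exists_xp (π : M24) : ∃ n : Lift F, n.ψ = permC π ∧ Lift.act n * tau F = tau F * Lift.act n ∧
    (∀ i, n.ε (lX 0 i) = 0) ∧ ∀ i j, j ≠ 0 → j < 12 → n.ε (lX (gC j) i) = 0 := by
  obtain ⟨q, h1, h2, h3⟩ := exists_q π⁻¹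
  have h0 : q 0 = 0 := by simpa [show pc π⁻¹ 0 = 0 from rfl] using h1 0 0
  have h : ∀ d (t : ZMod 2), q (d + t • Om) = q d := fun d t => by
    rcases zmod2_cases t with rfl | rfl <;> simp [h1, h2, h0, show pc π⁻¹ Om = Om from rfl]
  refine ⟨⟨Matrix.of fun d e => if e = pc π d then ch (q e) else 0, permC π, fun v => q (ec v), ?_,
    fun v => ?_⟩, rfl, comm_tau h0 h rfl (fun _ => rfl) fun _ _ => rfl, fun i => ?_, fun i j a b => ?_⟩
  · ext d e
    simp [Matrix.mul_apply, pc_inj, Matrix.one_apply, eq_comm (a := e)]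
  · ext d e
    have e1 : ec (permC π • v : leechLattice) = pc π⁻¹ (ec v) := ec_pw π⁻¹ v.2
    obtain ⟨e, rfl⟩ : ∃ f, e = pc π f := ⟨_, (pc_inv π e).symm⟩
    rw [mul_rho_apply, Matrix.smul_apply, rho_mul_apply, e1, Matrix.of_apply, Matrix.of_apply, pc_add,
      pc_inv]
    by_cases a : pc π e = pc π d + ec v
    · have b : d + pc π⁻¹ (ec v) = e := by rw [← pc_inj π, pc_add, pc_inv, a]
      rw [if_pos a, if_pos (by rw [a, c_add_add']), b, add_comm _ (ec v.1), h1, dl, dl, e1, inv_pc,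
        show kw (permC π • v : leechLattice) = pw π⁻¹ (kw v) from rfl, ← dt_pw π (pw _ _), pw_inv, pc_coe]
      simp only [ch_add, smul_eq_mul]
      grind [ch_mul_self]
    · rw [if_neg a, if_neg fun b => a (by rw [← b, c_add_add'])]; simp
  · exact (congrArg q (ec_vX i 0)).trans ((h _ _).trans h0)
  · exact (congrArg q (ec_vX i _)).trans ((h _ _).trans (h3 j a b))

theorem cj_of_x {g : Mon F} (hz : g * zM F = zM F * g) {r : Sh} {r' : leechLattice} {e : ZMod 2}
    (h : ∀ b, ex (g.1 b).x r' = ch e * ex b.x r.v) :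
    g * Lift.act (YY F 0 r.1) * g⁻¹ = Lift.act (YY F e r') := by
  obtain ⟨n, rfl⟩ := jobC g hz
  obtain ⟨v, rfl⟩ : ∃ v, r' = n.ψ • v := ⟨_, (smul_inv_smul _ _).symm⟩
  have k := h (XX F r)
  rw [Lift.act_apply, ex_act, ex_v, XX_self, mul_one] at k
  have hv : IsSh v := of_not_not fun a => ch_ne_zero e (by rw [← k, ex_of_not _ a, mul_zero])
  obtain ⟨v, rfl⟩ : ∃ R : Sh, v = R.1 := ⟨⟨v, hv.2⟩, rfl⟩
  rw [ex_v, XX_x] at k
  split_ifs at k with a
  · rw [← map_mul, ← map_inv, ← map_mul, conj_YY, act_YY_iff, zero_add, ← ch_inj two_ne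
      ((mul_one _).symm.trans k)]
    rcases a with rfl | rfl
    · exact ⟨rfl, .refl _⟩
    · exact ⟨(n.ε_neg _).symm, ((Cg.neg _).smul _).symm⟩
  · exact absurd (k.symm.trans (mul_zero _)) (ch_ne_zero e)
theorem cod_e8 (i : GolayPt) : Cod (e8 i) 4095 := fun j hj => by
  have h3 : (e8 i).1 = vA i i 0 0 := by rw [e8_coe, vA, ← Pi.single_add]; rfl
  rw [h3, ec_vA, dl_vA, bt_4095 hj, z2_add_self (_ : ZMod 2), z2_add_self (_ : ZMod 2)]
  exact ⟨rfl, by clear h3; revert j; decide⟩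
theorem tau_qq_z : tau F * zM F * (tau F)⁻¹ = qq F 16781311 := by
  rw [tau_z none, ← YY_Xz, ((cod_e8 none).congr (by decide)).qq]; rfl
theorem tau_conj_YY {u : leechLattice} (hu : dl u Om = 0) (a : ZMod 2) (d : C) (i : GolayPt) :
    (tau F)⁻¹ * Lift.act (YY F a u) * tau F * zM F = zM F * ((tau F)⁻¹ * Lift.act (YY F a u) * tau F) ∧
    (tau F)⁻¹ * Lift.act (YY F a u) * tau F * Lift.act (YY F 0 (lX d i)) *
      ((tau F)⁻¹ * Lift.act (YY F a u) * tau F)⁻¹ =
      Lift.act (YY F (a + dl u d + (ec u).1 i) (lX (d + ec u) i)) := by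
  have hz : (tau F)⁻¹ * Lift.act (YY F a u) * tau F * zM F =
      zM F * ((tau F)⁻¹ * Lift.act (YY F a u) * tau F) := by
    have : Lift.act (YY F a u) * Lift.act (YY F 1 (e8 none)) = _ := YY_comm_iff.2 (by
      rw [dot_e8]; have := (intCast_zmod2_eq_zero _).1 ((dl_om u.2).symm.trans hu); omega)
    rw [YY_Xz, ← tau_z] at this
    have k := congrArg (fun x => (tau F)⁻¹ * x * tau F) this
    simpa only [mul_assoc, inv_mul_cancel_left, inv_mul_cancel, mul_one] using k
  refine ⟨hz, cj_of_x hz (r := ⟨lX d i, sqNorm_vX i d⟩) fun b => ?_⟩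
  have r := rel_cdE b
  have r2 := rel_cdE (((tau F)⁻¹ * Lift.act (YY F a u) * tau F).1 b)
  have w1 := fun d t => w_shift r.tau.hw (cdE b).e3 (cdE b).e1 d t i
  have w2 := fun d t => w_shift r2.tau.hw (Cd.e3 _) (Cd.e1 _) d t i
  have e : ∀ d, ((tau F).1 (((tau F)⁻¹ * Lift.act (YY F a u) * tau F).1 b)).w d i =
      ch a * (ch (dl u (d + ec u)) * ((tau F).1 b).w (d + ec u) i) := fun d => by
    rw [← LinearEquiv.mul_apply, ← Subgroup.coe_mul, mul_assoc, mul_inv_cancel_left]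
    show ((YY F a u).actL _).w d i = _
    simp [Lift.actL_w, rho_mul_apply]
  have a0 := w2 (d + ec u) 0
  have a1 := w2 (d + ec u) 1
  rw [e, add_right_comm, c_add_add', w1, dl_right, dl_smul, hu] at a0 a1
  show ex _ (vX (d + ec u).1 i) = _ * ex _ (vX d.1 i)
  rw [r2.hT, r.hT]
  refine mul_left_cancel₀ two_ne ?_
  simp only [Cd.rot, ch_add, ch_zero, ch_one, mul_zero, Submodule.coe_add, Pi.add_apply] at a0 a1 ⊢
  grind [ch_mul_self]

/-- value of the cocode part of `x` at the code word `m` -/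
def lf (x m : ℕ) : ℕ := pa (Nat.land (Nat.land (Nat.shiftRight x 12) m) 4095)
theorem Cod.dl_cW {v : leechLattice} {x : ℕ} (h : Cod v x) (m : ℕ) : Gr.dl v (cW m) = bt (lf x m) 0 := by
  rw [h.dl, lf, pa_spec]
  exact sum_congr rfl fun j hj => by rw [bt_land, bt_shr, cW_pt _ (mem_range.1 hj)]
theorem Cod.ec {v : leechLattice} {x : ℕ} (h : Cod v x) : Gr.ec v = cW x := cW_eq fun j hj => (h j hj).1
omit [Coc] in
theorem Om_eq : Om = cW 4095 := cW_eq fun _ hj => (bt_4095 hj).symm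
omit [Coc] in
theorem cW_zero {x : ℕ} (h : Nat.land x 4095 = 0) : cW x = 0 := (cW_eq fun j hj => by
  rw [← (bt_mask x j).trans (if_pos hj), h]; simp [bt]).symm
theorem qq_tau {x : ℕ} (h : Nat.land x 16781311 = 0) (h2 : lf x 4095 = 0) :
    qq F x * tau F = tau F * qq F x := by
  have : bt x 24 = 0 := (mul_one _).symm.trans ((bt_land x 16781311 24).symm.trans (h ▸ rfl))
  rw [qq, this]
  refine coc_comm ((cod_vec x).ec.trans (cW_zero ?_)) (by rw [Om_eq, (cod_vec x).dl_cW, h2]; rfl)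
  exact (Nat.and_assoc x 16781311 4095).symm.trans (congrArg (· &&& 4095) h)
theorem x0_sq : qq F 4096 * qq F 4096 = 1 := by rw [qq_mul, ← qq_zero]; rfl
theorem x0_tau : qq F 4096 * tau F = (tau F)⁻¹ * qq F 4096 := by
  have := coc_inv (F := F) ((cod_vec 4096).ec.trans (cW_zero rfl))
    (by rw [Om_eq, (cod_vec _).dl_cW]; rfl)
  rw [eq_inv_mul_iff_mul_eq, ← mul_right_inj (qq F 4096), x0_sq, ← this, qq, mul_assoc, mul_assoc]; rfl

/-- an involution exchanging `z` and `qq 4095` -/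
noncomputable def sM (F : Type*) [Field F] [Good F] : Mon F := (tau F)⁻¹ * qq F 4096
theorem sM_eq : sM F = qq F 4096 * tau F := x0_tau.symm
theorem sM_sq : sM F * sM F = 1 := by
  nth_rw 1 [sM_eq]; rw [sM, mul_assoc, mul_inv_cancel_left, x0_sq]
theorem sM_inv : (sM F)⁻¹ = sM F := inv_eq_of_mul_eq_one_right sM_sq
theorem sM_sM (g : Mon F) : sM F * (sM F * g) = g := by rw [← mul_assoc, sM_sq, one_mul]
theorem sM_conj (g : Mon F) :
    sM F * g * sM F = (tau F)⁻¹ * (qq F 4096 * g * (qq F 4096)⁻¹) * tau F := by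
  nth_rw 2 [sM_eq]; rw [sM, inv_eq_of_mul_eq_one_right x0_sq]; simp only [mul_assoc]
theorem cj_s_z : Cj (sM F) ZC 4095 := by
  rw [Cj, sM_eq, qq_z, _root_.mul_inv_rev, ← mul_assoc, mul_assoc _ _ (zM F), mul_assoc _ (_ * _),
    tau_qq_z, cj_qq]; rfl
theorem cj_s_z2 : Cj (sM F) 4095 ZC := by simpa only [sM_inv] using (cj_s_z (F := F)).inv
theorem sM_z : sM F * zM F * sM F = qq F 4095 := by simpa only [Cj, sM_inv, qq_z] using cj_s_z (F := F)
theorem cj_s_coc {x : ℕ} (h : Nat.land x 16781311 = 0) (h2 : lf x 4095 = 0) : Cj (sM F) x x := by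
  have : bt x 0 = 0 := (mul_one _).symm.trans ((bt_land x 16781311 0).symm.trans (by rw [h]; rfl))
  have e : qq F 4096 * qq F x = qq F x * qq F 4096 := by
    rw [qq_mul, qq_mul]
    refine qq_congr fun i hi => ?_
    rcases eq_or_ne i 24 with rfl | k
    · simp [bt_mul24, show 4096 = 2 ^ 12 from rfl, bt_pow, -Nat.reducePow, this, eq_comm (a := 12)]
    · rw [bt_mul _ _ k, bt_mul _ _ k, add_comm]
  rw [Cj, mul_inv_eq_iff_eq_mul, sM, mul_assoc, e, ← mul_assoc, ← (Commute.inv_right (qq_tau h h2)).eq,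
    mul_assoc]
/-- conjugation by `sM` on even cocode elements times `z`, `qq 4095` -/
noncomputable def tauc (x : ℕ) : ℕ := mul (mul (Nat.land x 16773120)
  (Bool.rec (motive := fun _ => ℕ) 0 ZC (tb x 0))) (Bool.rec (motive := fun _ => ℕ) 0 4095 (tb x 24))
/-- the domain of `tauc` -/
noncomputable def okc (x : ℕ) : Bool := Nat.beq (lf (Nat.land x 16773120) 4095) 0 &&
  Nat.beq x (mul (mul (Nat.land x 16773120) (Bool.rec (motive := fun _ => ℕ) 0 4095 (tb x 0)))
    (Bool.rec (motive := fun _ => ℕ) 0 ZC (tb x 24)))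
theorem cj_s {x : ℕ} (h : okc x = true) : Cj (sM F) x (tauc x) := by
  rw [okc, Bool.and_eq_true, Nat.beq_eq, Nat.beq_eq] at h
  have h0 : Cj (sM F) 0 0 := by simp [Cj]
  rw [tauc]; nth_rw 1 [h.2]
  refine ((cj_s_coc ((Nat.and_assoc x _ _).trans (Nat.and_zero x)) h.1).mul ?_).mul ?_
  · cases tb x 0; exacts [h0, cj_s_z2]
  · cases tb x 24; exacts [h0, cj_s_z]
/-- `n` and `s n s` centralise `z` and have data `D` and `E` -/
def Pr (n : Mon F) (D E : List ℕ) : Prop := Rep n D ∧ Rep (sM F * n * sM F) E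
theorem Pr.mul {n m : Mon F} {D E D' E' : List ℕ} (h : Pr n D E) (h' : Pr m D' E') :
    Pr (n * m) (cmp D D') (cmp E E') :=
  ⟨h.1.mul h'.1, by simpa only [mul_assoc, sM_sM] using h.2.mul h'.2⟩
theorem Pr.swap {n : Mon F} {D E : List ℕ} (h : Pr n D E) : Pr (sM F * n * sM F) E D :=
  ⟨h.2, by simpa only [mul_assoc, sM_sM, sM_sq, mul_one] using h.1⟩
end H17.Gr

namespace H17.Gr
variable {F : Type*} [Field F] [Good F]
/-- change of sign -/
def sgx (x b : ℕ) : ℕ := Nat.xor x (Nat.shiftLeft (Nat.land b 1) 24)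
theorem Cod.sgx {v : leechLattice} {x : ℕ} (h : Cod v x) (b : ℕ) : Cod v (sgx x b) :=
  h.congr fun i hi => by rw [Gr.sgx, bt_xor, bt_shl, if_neg hi.not_ge, add_zero]
theorem bt_sgx (x b : ℕ) : bt (sgx x b) 24 = bt x 24 + bt b 0 := by
  rw [sgx, bt_xor, bt_shl, if_pos le_rfl, bt_land]; exact congrArg _ (mul_one _)
/-- parameters of a basis of odd minimal vectors -/
def GP : List (ℕ × ℕ) := [(0, 0), (0, 1), (0, 2), (0, 3), (0, 4), (0, 5), (0, 6), (0, 7), (0, 8), (0, 9),
  (0, 10), (0, 11), (4845570, 0), (13938692, 0), (7221256, 0), (10170384, 0), (11952160, 0),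
  (15515712, 0), (2019456, 0), (4038912, 0), (8077824, 0), (11654144, 0), (14919680, 0), (4845570, 1)]
/-- the standard basis in terms of `GP` -/
def GE : List ℕ := [16769181, 4097, 12129, 16385, 36705, 66326, 131844, 262145, 527477, 1051760, 2097948,
  4195220, 1, 2, 4, 8, 16, 32, 64, 128, 256, 512, 1024, 2048]
theorem rep_GP {g : Mon F} (hz : g * zM F = zM F * g) {f : ℕ × ℕ → ℕ}
    (h : ∀ d i, isG d = true → i < 24 → (d = 0 ∨ ∃ j < 12, j ≠ 0 ∧ d = gN j) → Cj g (codX d i) (f (d, i))) :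
    Rep g (cmp (GP.map f) GE) := by
  have k : ∀ p ∈ GP, isG p.1 = true ∧ p.2 < 24 ∧ (p.1 = 0 ∨ ∃ j < 12, j ≠ 0 ∧ p.1 = gN j) := by
    decide +kernel
  refine Rep2.rebase (A := GP.map fun p => codX p.1 p.2) ⟨hz, ?_⟩ (by decide +kernel)
  rw [List.forall₂_map_left_iff, List.forall₂_map_right_iff, List.forall₂_same]
  exact fun p hp => h _ _ (k p hp).1 (k p hp).2.1 (k p hp).2.2
/-- data of `τ⁻¹ u τ` -/
noncomputable def dT (u : ℕ) : List ℕ := cmp (GP.map fun p =>
  sgx (codX (Nat.xor p.1 (H72.enc (Nat.mod u 4096))) p.2) (Nat.xor (Nat.xor (Nat.shiftRight u 24) (lf u p.1))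
    (Nat.shiftRight (H72.enc (Nat.mod u 4096)) p.2))) GE
theorem rep_dT {u : ℕ} (h : lf u 4095 = 0) : Rep ((tau F)⁻¹ * qq F u * tau F) (dT u) := by
  have k := fun d i => tau_conj_YY (F := F) (u := vec u)
    (by rw [Om_eq, (cod_vec u).dl_cW, h]; rfl) (bt u 24) d i
  refine rep_GP (k 0 none).1 fun d i hd hi _ => ?_
  have g : isG (H72.enc (Nat.mod u 4096)) = true := H72.isG_enc (Nat.mod_lt _ (by decide))
  have e : cW d + ec (vec u) = cW (Nat.xor d (H72.enc (Nat.mod u 4096))) := Subtype.ext (by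
    rw [cW_coe (H72.isG_xor hd g), H72.word_xor, (cod_vec u).ec, Submodule.coe_add, cW_coe hd]; rfl)
  dsimp only
  rw [Cj, (cod_codX hd hi).qq, ((cod_codX (H72.isG_xor hd g) hi).sgx _).qq, bt_sgx, codX, codX, bt_codE,
    bt_codE, (k _ _).2, e, bt_xor, bt_xor, bt_shr, bt_shr, (cod_vec u).dl_cW, (cod_vec u).ec,
    zero_add, add_zero i, ← word_pt _ hi]; rfl
/-- data of `s u s` -/
noncomputable def dY (u : ℕ) : List ℕ := dT (cjc 4096 u)
/-- even codes -/
def evc (u : ℕ) : Bool := Nat.beq (lf (cjc 4096 u) 4095) 0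
theorem pr_qq {u : ℕ} (h : evc u = true) : Pr (qq F u) (inn u) (dY u) :=
  ⟨rep_qq u, by rw [sM_conj, cj_qq]; exact rep_dT (Nat.eq_of_beq_eq_true h)⟩
/-- lifts of elements of `M24` commuting with the triality -/
noncomputable def xL (F : Type*) [Field F] [Good F] (g : ℕ) : Lift F :=
  if h : H72.inM24 g = true then (exists_xp ⟨_, (H72.inM24_spec h).2⟩).choose else 1
/-- the same in `Mon F` -/
noncomputable def xP (F : Type*) [Field F] [Good F] (g : ℕ) : Mon F := Lift.act (xL F g)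
/-- their data -/
noncomputable def dP (g : ℕ) : List ℕ :=
  cmp (GP.map fun p => codX (H72.actM g p.1) (H72.ap g p.2)) GE
section
variable {g : ℕ} (h : H72.inM24 g = true)
include h
theorem xL_psi : (xL F g).ψ = permC ⟨_, (H72.inM24_spec h).2⟩ := by
  rw [xL, dif_pos h]; exact (exists_xp _).choose_spec.1
theorem xP_tau : xP F g * tau F = tau F * xP F g := by
  rw [xP, xL, dif_pos h]; exact (exists_xp _).choose_spec.2.1
theorem rep_xP : Rep (xP F g) (dP g) := by
  refine rep_GP (act_comm _).eq fun d i hd hi k => ?_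
  have v := (H72.inM24_spec h).1
  have e : pw (⟨_, (H72.inM24_spec h).2⟩ : M24)⁻¹ (word d) = word (H72.actM g d) := funext fun p => by
    obtain ⟨p, rfl⟩ := (H72.toPerm g).surjective p
    refine (congrArg (word d) ((H72.toPerm g).symm_apply_apply p)).trans (if_congr ?_ rfl rfl)
    rw [H72.testBit_actM, H72.ix_toPerm v]
    exact ⟨fun a => ⟨_, ix_lt p, a, rfl⟩, fun ⟨j, hj, a, b⟩ => H72.ap_inj v hj (ix_lt p) b ▸ a⟩
  have g2 : isG (H72.actM g d) = true := (H72.word_mem_iff (H72.actM_lt v d)).1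
    (e ▸ comp_mem_golay (M24.inv_mem (H72.inM24_spec h).2) (H72.word_mem_of_isG hd))
  refine cj_act (cod_codX hd hi) ?_ ?_
  · convert cod_codX g2 (H72.ap_lt v hi)
    refine Subtype.ext ?_
    rw [xL_psi h]
    refine (pw_vX _⁻¹ _ _).trans (congrArg₂ vX ?_ (H72.toPerm_pt v hi))
    rw [cW_coe g2, ← e, cW_coe hd]
  · rw [codX, codX, bt_codE, bt_codE, xL, dif_pos h, zero_add, eq_comm]
    rcases k with rfl | ⟨j, a, b, rfl⟩
    · rw [cW_zero rfl]; exact (exists_xp _).choose_spec.2.2.1 _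
    · rw [show cW (gN j) = gC j from Subtype.ext ((cW_coe hd).trans (gC_coe a).symm)]
      exact (exists_xp _).choose_spec.2.2.2 _ j b a
theorem s_xP : sM F * xP F g * sM F = qq F 4096 * xP F g * qq F 4096 := by
  nth_rw 2 [sM]
  rw [sM_eq, mul_assoc _ (tau F), ← xP_tau h]; group
theorem pr_xP : Pr (xP F g) (dP g) (cmp (cmp (inn 4096) (dP g)) (inn 4096)) :=
  ⟨rep_xP h, s_xP (F := F) h ▸ ((rep_qq _).mul (rep_xP h)).mul (rep_qq _)⟩
end

end H17.Gr
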