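/- Griess algebra, part 12: the braid relation `(s k)^3 = 1` (third minimal parabolic). -/
import Cfsg.Agent.H17.GrGen

set_option autoImplicit false
set_option linter.unusedSectionVars false
open Cfsg H79 Finset H71.Gr
open H72 (pt ix ix_pt pt_ix ix_lt tb)
open H77 (PM vecOf isS)

namespace H17.Gr

/-- `vA` as a lattice vector -/
def lA (i j : GolayPt) (b : ZMod 2) : leechLattice := ⟨vA i j 0 b, vA_mem i j 0 b⟩
theorem lA_add (i j : GolayPt) : lA i j 1 + e8 j = lA i j 0 := Subtype.ext (funext fun l => by
  simp only [lA, AddSubgroup.coe_add, Pi.add_apply, vA_apply, e8_coe, Pi.single_apply]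
  split_ifs <;> rfl)
theorem lA_two (i j : GolayPt) : lA i j 1 + lA i j 0 = e8 i := Subtype.ext (funext fun l => by
  simp only [lA, AddSubgroup.coe_add, Pi.add_apply, vA_apply, e8_coe, Pi.single_apply]
  split_ifs <;> rfl)
theorem psi_pm {ψ : Co0} (h8 : ∀ i, Cg (ψ • e8 i) (e8 i)) {a b c : GolayPt} (ab : a ≠ b) (ac : a ≠ c)
    (bc : b ≠ c) (h : ∀ j ≠ a, Cg (ψ • lA a j 1) (lA a j 1) ∨ j ≠ b ∧ j ≠ c ∧ Cg (ψ • lA b j 1) (lA b j 1)) :
    ψ = 1 ∨ ψ = negC := by
  have sh : ∀ {φ : Co0} {i j t}, i ≠ j → Cg (φ • lA i j t) (lA i j t) → _ := fun {φ i j t} e k =>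
    eq_or_neg_of_congr (by rw [co0_sqNorm, lA, sqNorm_vA _ _ _ _ e]; decide)
      (by rw [lA, sqNorm_vA _ _ _ _ e]; decide) k
  have key : ∀ φ : Co0, (∀ v, Cg (φ • v) (ψ • v)) → φ • lA a b 1 = lA a b 1 → φ = 1 := fun φ e e0 => by
    have fx : ∀ {i j t}, i ≠ j → Cg (ψ • lA i j t) (lA i j t) → vA i j 0 t a ≠ vA i j 0 t b →
        φ • lA i j t = lA i j t := fun {i j t} n k d => (sh n ((e _).trans k)).resolve_right fun m => by
      have := co0_dot φ (lA i j t) (lA a b 1)
      rw [m, e0, AddSubgroup.coe_neg, H79.dotInt_neg_left, H79.dotInt_comm, lA, lA, dot_vA, ch_zero,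
        ch_one] at this
      simp only at this
      omega
    have f1 : ∀ j ≠ a, Cg (ψ • lA a j 1) (lA a j 1) → φ • lA a j 1 = lA a j 1 := fun j n k =>
      fx n.symm k (by simp only [vA_apply, n.symm, ab.symm, if_true, if_false]; split_ifs <;> decide)
    have k3 := (h c ac.symm).resolve_right fun x => x.2.1 rfl
    have st : ∀ {i j}, φ • e8 i = e8 i → φ • lA i j 1 = lA i j 1 → φ • e8 j = e8 j := fun {i j} x y => by
      rw [← lA_two i j, ← lA_add, co0_add, co0_add, y] at x
      exact add_left_cancel (add_left_cancel x)
    have ha : φ • e8 a = e8 a := by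
      rw [← lA_two a c, co0_add, f1 c ac.symm k3, fx ac (by rw [← lA_add, co0_add]; exact k3.add (h8 c))
        (by simp [vA_apply, ac, bc, ab.symm])]
    refine co0_ext_e8 fun j => (Eq.trans ?_ (one_smul _ _).symm)
    rcases eq_or_ne j a with rfl | n
    · exact ha
    · exact (h j n).elim (fun k => st ha (f1 j n k)) fun k =>
        st (st ha e0) (fx k.1.symm k.2.2 (by simp [vA_apply, ab, n.symm, k.1.symm]))
  rcases sh ab ((h b ab.symm).resolve_right fun x => x.1 rfl) with e | e
  · exact .inl (key ψ (fun _ => .refl _) e)
  · have := key (negC * ψ) (fun v => by rw [mul_smul, negC_smul]; exact Cg.neg _)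
      (by rw [mul_smul, e, negC_smul, neg_neg])
    exact .inr (by rw [← mul_right_inj negC, this, negC_mul_self])

variable {F : Type*} [Field F] [Good F]
attribute [local irreducible] app cmp vec qq

theorem Rep.cj' [Coc] {g : Mon F} {D : List ℕ} (h : Rep g D) {x y : ℕ} (e : app D x = y) : Cj g x y :=
  e ▸ h.cj x
theorem Rep.of_eq [Coc] {g : Mon F} {D E : List ℕ} (h : Rep g D) (e : D = E) : Rep g E := e ▸ h
theorem Cj.comm [Coc] {g : Mon F} {x y : ℕ} (h : Cj g x y) : g * qq F x = qq F y * g :=
  mul_inv_eq_iff_eq_mul.1 h
theorem mem_QM_of_psi [Coc] {n : Lift F} (h : n.ψ = 1 ∨ n.ψ = negC) : Lift.act n ∈ QM F :=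
  h.elim (fun e => ⟨n, e, rfl⟩) fun e => ⟨Lift.neg F * n, by
    show negC * n.ψ = 1
    rw [e, negC_mul_self], by rw [map_mul, act_neg, one_mul]⟩
theorem appL_ind {P : ℕ → Prop} (h : ∀ x y, P x → P y → P (mul x y)) {D : List ℕ} (hD : ∀ d ∈ D, P d) :
    ∀ x a, P a → P (appL D x a) := by
  induction D with
  | nil => exact fun _ _ k => k
  | cons d D ih =>
    intro x a k
    rw [appL_cons]
    refine ih (fun e he => hD e (.tail _ he)) _ _ ?_
    split_ifs
    exacts [h _ _ k (hD d (.head _)), k]
theorem cod_lA {i j : ℕ} (hi : i < 24) (hj : j < 24) :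
    Cod (lA (pt i) (pt j) 1) (codE 0 (Nat.xor (2 ^ i) (2 ^ j))) := by
  have e : ∀ i < 24, H72.word (2 ^ i) = ew (pt i) := fun i hi => funext fun p => by
    rw [ew_apply]
    exact (bt_pow i (ix p)).trans (if_congr ⟨fun e => by rw [e, pt_ix], fun e => by
      rw [e, ix_pt hi]⟩ rfl rfl)
  exact cod_codE (fun l _ => by rw [lA, ec_vA]; simp [bt]) (by rw [lA, kw_vA, H72.word_xor, e i hi, e j hj])
theorem ec_of_mem {w : ℕ} (h : lf (cjc 4096 w) 4095 = 0) (h2 : sM F * qq F w * sM F ∈ QM F) :
    w % 4096 = 0 ∨ w % 4096 = 4095 := by
  have k := (tau_conj_YY (F := F) (u := vec (cjc 4096 w))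
    (by rw [Om_eq, (cod_vec _).dl_cW, h]; rfl) (bt (cjc 4096 w) 24) 0 none).2
  rw [sM_conj, cj_qq, qq] at h2
  obtain ⟨a, v, e⟩ := mem_QM.1 h2
  rw [e, ← map_mul, ← map_inv, ← map_mul, conj_YY, act_YY_iff, YY_ψ, one_smul, zero_add, zero_add] at k
  have b : ∀ j < 12, (ec (vec (cjc 4096 w))).1 (pt j) = bt w j := fun j hj => by
    rw [(cod_vec _ j hj).1, cjc, bt_mul _ _ (by omega), bt_mul _ _ (by omega), ivc, bt_xor,
      bt_mul _ _ (by omega), z2_add_self, add_zero, add_right_comm, z2_add_self, zero_add]
  refine (eq_or_neg_of_congr (by rw [lX, sqNorm_vX]; decide) (by rw [lX, sqNorm_vX]; decide) k.2).imp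
    (fun e => eq_of_bt (n := 12) (y := 0) fun j hj => ?_) fun e => eq_of_bt (n := 12) (y := 4095) fun j hj => ?_
  · rw [← b j hj, ← (vX_eq_iff.1 (congrArg Subtype.val e)).1]; simp [bt]
  · have := congrFun (congrArg (fun v : leechLattice => cw v) e) (pt j)
    simp only [lX, AddSubgroup.coe_neg, vX_neg, cw_vX, Pi.add_apply, b j hj] at this
    rw [bt_4095 hj]
    exact z2_eq_iff.2 this.symm
theorem track {k : Mon F} {D : List ℕ} (hk : Rep k D) (h2 : cmp D D = idD) {p : ℕ} (hp : Cj k 4095 p)
    (hs : Cj (sM F) p p) {x u : ℕ} (e1 : evc (app D x) = true) (e2 : evc u = true)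
    (e3 : cmp (cmp D (dY (app D x))) D = dY u) (e4 : okc (app D u) = true) :
    Cj ((sM F * k) ^ 3) x (tauc (app D u)) ∨ Cj ((sM F * k) ^ 3) x (mul (tauc (app D u)) p) := by
  have e : ∀ y, Cj ((sM F * k) ^ 3) x y ↔
      sM F * k * (sM F * (k * (sM F * qq F (app D x) * sM F) * k⁻¹) * sM F) * (sM F * k)⁻¹ = qq F y :=
    fun y => by simp only [Cj, ← show _ = _ from hk.cj x, pow_succ, pow_zero, one_mul, mul_inv_rev, sM_inv, mul_assoc]
  simp only [e]
  refine (((hk.mul (pr_qq e1).2).mul (hk.inv h2)).eq ((pr_qq e2).2.of_eq e3.symm)).imp (fun a => ?_) fun a => ?_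
  · rw [a]; simpa only [mul_assoc, sM_sM, sM_sq, mul_one, Cj] using (cj_s e4).comp (hk.cj u)
  · rw [a]; simpa only [mul_assoc, sM_sM, Cj, ← qq_mul, ← sM_z] using
      ((cj_s e4).mul hs).comp ((hk.cj u).mul hp)

/-- a conjugate of Conway's element `ξ` -/
noncomputable def PK : PM := ⟨nat_lit 0x400000000000000000000000000000000000000000000000000000000000000040000000000000000000000000000000400000000000000000000000000000000000000000000000000000000000400000000000000000000000000000004000000000000000000000000000000000000000000040000000000040004000000000000000000000000000000000000000000000000000000000000000000000000000000000000000000040004000000000000000400000000000000000000000000000000000000000000000000000000000000000000000400000000000000000000000400000000000000000000000000000000000000000000000000000000000000000004000000000000000000000000000000000000000000000000000000000000000000000000000000000000000000040000000000000004000000000000000000000004000000000000000000000000000000000000000000000000000400000000000000000000000000000000000000000000000000000000000000040000000000040000000000040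00400000000000000000000000000000000000000000000000000000000000000000000000000000000000000000004000400000000000000000000000000000000000000000000000400000000000000000000000000000000000000040000000000000000000000000000000000000000000000000000000000000000000000040000000000000000000400000000000000000000000000000000000000000000000000000000000000000000000000000000000000000004000000000000000400000000000000000000000000000000000000000000000400000000000000000000000000040000000000000000000000000000000000000000000000000000000000000004000000000004000000000000000000000000000000000000000000000000000000000000000000000000000000000000000000000000000000000004000000000000000000000000000400000000000000000000000000000000000000000000000000000000000000040000000000000000000400000000000000000000000000000000000000040004000000000000000000000000000400000000000000000000000000000000000000000000000000000000000400000000000000000004000000000000000000000000000400000000000000000000000000000000000000000000000000000000000000040000000000040000000000000000000000000000000000000000000000000000000000000000000000000000000000000000000400000000000000000000000000040000000000040000000000040000000000000000000000000000000000000000000000000004000000000000000400000000000000000000000000000000000000000000000000000000000000040000000000040000000000000000000000000000000000000000000000000000000400040000000000000000000000000000000000000000000000000000000000000000000000000000000000000000000000000000000000000000,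
  nat_lit 0x40000000000000000000000000000000000000004000000000000000000000000000000000000000000000000000000040000000000000000000000000000000000000000000400000000000000000000000000000000000000000000000000000000000000000000000000000000000000000000000000000000000000000000000000040000000000000000000000000000000000000000000400000000000000000000000000000000000000000004000000000000000000000000000000000000000000000000000000040000000000000000000000000000000000000004000000000000000000000000000000000000000000000000000000000004000000000000000000000000000000000000000000040000000000000000000000000000000000000000000000000000000400000000000000000000000000000000000000000000000000000004000000000004000000000000000000000000000000000000000000000000000000000000000000000000000000000000000000000000000000000000000000000000000000000000000000000000000000000000000000000000000400000000000400000000000000000000000000000000000000000000000000000000000000000000000000000000000000000004000000000000000000000004000000000000000000000000000000000000000000000000000000000000000000000000000000000000000000000000000000000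0000000000000040004000000000000000000000000000000000004000000000000000000000004000000000000000000000000000000000000000000000000000000000000000000000000000000000000000000040000000000040000000000000000000000000000000400000000000000000000000000000000000400000000000000000000000000000000000000000000000000000000000000000000000000000000000000000000000000000004000000000004000000000000000000000000000000000000000000000000000000000000000000000000000000000000000000000000000000000000000000000000000000000000000000000000000000000000000000000000000000000000000000000000000000000004000000000004000000000000000400000000000000000004000000000000000000000000000000000000000000000000000000000000000000000000000000000000000000000000000000000000000000000000000000000000000000000000000400040000000000000000000000000000000000000000000000000000000000000000000000000000000000000000000000000000000000000000000400000004000000000000000000000000000000000000000000000000000000000000000000000000000000000000000000000000000000000000000000000000000000000000000000000000000000000000000000000000000000000000000400000004000000000004000000000000000400000000000000000000000000000000000000000000000000000000,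
  nat_lit 0x8000800080008000800080008000800080008000800080008000800080008000800080008000800080008000800080⟩
/-- data of its lift -/
def DK : List ℕ := [2450498, 13097845, 20394141, 25833317, 27816066, 17622612, 28998647, 16224045,
  15484863, 27090420, 26746952, 25012416, 1893038, 1380505, 4123985, 5784707,
  3567462, 3976529, 15122228, 11878411, 3974772, 2010449, 3840892, 11314804]
/-- the cocode element of the tetrad `{0, 2, 5, 9}` -/
abbrev ZP : ℕ := 2248704
/-- a permutation of order three -/
def pi3 : ℕ := 529176391254474763897377307615138848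
/-- images of a basis of the even cocode -/
def brU : List (ℕ × ℕ) := [(12288, 654792), (20480, 2228224), (36864, 4499922), (69632, 2788808), (135168, 2113536), (266240, 16407962), (528384, 11119962), (1052672, 2114778), (2101248, 147456), (4198400, 2521554), (8392704, 11551962)]
/-- vectors of type four -/
def brW : List (ℕ × ℕ × ℕ) := [(0, 1, 0x80008000800080008000800080008000800080008000800080008000c000800080008000c00080008000c000c0008),
  (1, 2, 0x80008000800080008000800080008000800080008000800080008000c000800080008000c000800080008000c000c),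
  (0, 3, 0x80008000800080008000800080008000800080008000800080008000c000800080008000c0008000c000c00080008),
  (0, 4, 0x8000800080008000c000c0008000800080008000800080008000800080008000800080008000800080008000c000c),
  (1, 5, 0x80008000800080008000800080008000800080008000800080008000c000800080008000800080008000c000c000c),
  (0, 6, 0x800080008000800080008000800080008000c0008000c0008000800080008000800080008000c000c000800080008),
  (0, 7, 0x80008000c00080008000800080008000c00080008000800080008000800080008000800080008000c0008000c0008),
  (0, 8, 0x80008000800080008000800080008000800080008000800080008000c000c00080008000c00080008000c00080008),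
  (1, 9, 0x800080008000800080008000800080008000800080008000800080008000800080008000c00080008000c000c000c),
  (0, 10, 0x8000800080008000800080008000c00080008000c000800080008000800080008000800080008000c00080008000c),
  (0, 11, 0x800080008000800080008000800080008000800080008000c0008000c000800080008000c00080008000c00080008),
  (0, 12, 0x800080008000800080008000800080008000c0008000800080008000800080008000c0008000c000c000800080008),
  (0, 13, 0x8000800080008000800080008000c00080008000800080008000c000800080008000800080008000c00080008000c),
  (0, 14, 0x80008000800080008000800080008000800080008000c00080008000800080008000c0008000c000c000800080008),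
  (0, 15, 0x80008000c0008000800080008000800080008000800080008000800080008000c000800080008000c0008000c0008),
  (0, 16, 0x8000800080008000800080008000800080008000c00080008000c000800080008000800080008000c00080008000c),
  (0, 17, 0x800080008000800080008000c0008000800080008000800080008000c000800080008000c00080008000c00080008),
  (0, 18, 0x8000800080008000c00080008000800080008000800080008000800080008000800080008000c00080008000c000c),
  (0, 19, 0x80008000800080008000c0008000800080008000800080008000800080008000800080008000c00080008000c000c),
  (0, 20, 0x800080008000c0008000800080008000800080008000800080008000c000800080008000c00080008000c00080008),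
  (0, 21, 0x80008000800080008000800080008000c0008000800080008000800080008000c000800080008000c0008000c0008),
  (0, 22, 0x8000c000800080008000800080008000800080008000800080008000c000800080008000c00080008000c00080008),
  (0, 23, 0xc0008000800080008000800080008000800080008000800080008000c000800080008000c00080008000c00080008)]
theorem braid_mem {k : Mon F} (hk : Rep k DK) : (sM F * k) ^ 3 ∈ QM F ∧
    ∀ x ∈ [ZC, 4095, ZP], Cj ((sM F * k) ^ 3) x x := by
  have k1 : Cj k 4095 ZP := hk.cj' (by decide +kernel)
  have k2 : Cj k ZP 4095 := hk.cj' (by decide +kernel)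
  have k3 := cj_z hk.1
  have s1 : Cj (sM F) ZP ZP := cj_s_coc rfl rfl
  have e : (sM F * k) ^ 3 = sM F * k * (sM F * k * (sM F * k)) := pow_three _
  have g1 : Cj ((sM F * k) ^ 3) ZC ZC :=
    e ▸ (cj_s_z2.comp k2).comp ((s1.comp k1).comp (cj_s_z.comp k3))
  have g2 : Cj ((sM F * k) ^ 3) 4095 4095 :=
    e ▸ (cj_s_z.comp k3).comp ((cj_s_z2.comp k2).comp (s1.comp k1))
  have g3 : Cj ((sM F * k) ^ 3) ZP ZP :=
    e ▸ (s1.comp k1).comp ((cj_s_z.comp k3).comp (cj_s_z2.comp k2))
  refine ⟨?_, by simp [g1, g2, g3]⟩
  obtain ⟨n, hn⟩ := jobC ((sM F * k) ^ 3) (by rwa [Cj, qq_z, mul_inv_eq_iff_eq_mul] at g1)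
  have c1 : ∀ p ∈ brU, evc (app DK p.1) = true ∧ evc p.2 = true ∧
      cmp (cmp DK (dY (app DK p.1))) DK = dY p.2 ∧ okc (app DK p.2) = true ∧
      ((∀ i < 24, bt (tauc (app DK p.2)) i = bt p.1 i) ∨
        ∀ i < 24, bt (tauc (app DK p.2)) i = bt (mul p.1 ZP) i) := by decide +kernel
  let P : ℕ → Prop := fun x => ∀ v, Cod v x → Cg (n.ψ • v) v ∨ Cg (n.ψ • v) (v + vec ZP)
  have z0 : ∀ v, Cg (v + vec ZP + vec ZP) v := fun v => ⟨vec ZP, by abel⟩
  rw [← hn] at g2 g3 ⊢
  have p1 : ∀ x y, P x → P y → P (mul x y) := fun x y hx hy v hv => by
    have c := hv.cg ((cod_vec x).mul (cod_vec y))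
    have d := c.smul n.ψ
    rw [co0_add] at d
    have c' : Cg (vec x + vec ZP + vec y) (v + vec ZP) := add_right_comm (vec x) _ _ ▸ c.symm.add (.refl _)
    rcases hx _ (cod_vec x) with a | a <;> rcases hy _ (cod_vec y) with b | b
    · exact .inl ((d.trans (a.add b)).trans c.symm)
    · exact .inr ((d.trans (a.add b)).trans (add_assoc (vec x) _ _ ▸ c.symm.add (.refl _)))
    · exact .inr ((d.trans (a.add b)).trans c')
    · exact .inl ((d.trans (a.add b)).trans
        (add_assoc (vec x + _) _ _ ▸ (c'.add (.refl _)).trans (z0 v)))
  have p2 : ∀ d ∈ brU.map Prod.fst, P d := fun d hd v hv => by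
    obtain ⟨p, hp, rfl⟩ := List.mem_map.1 hd
    obtain ⟨a, b, c, d, e⟩ := c1 p hp
    have t := track hk (by decide +kernel) k1 s1 a b c d
    rw [← hn] at t
    have m := hv.mul (cod_vec ZP)
    rcases e with e | e
    · have e' := hv.congr fun i hi => (e i hi).symm
      exact t.imp (·.cg hv e') (·.cg hv (e'.mul (cod_vec _)))
    · have e' := m.congr fun i hi => (e i hi).symm
      exact t.symm.imp (fun t => (t.cg hv (e'.mul (cod_vec _))).trans (z0 v)) (·.cg hv e')
  have c2 : ∀ j < 24, j ≠ 0 → ∃ p ∈ brW, p.2.1 = j ∧ (p.1 = 0 ∨ p.1 = 1 ∧ j ≠ 1 ∧ j ≠ 3) ∧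
      isS p.2.2 = true ∧ H77.dotN p.2.2 p.2.2 = 1600 ∧
      codN p.2.2 = mul (codE 0 (Nat.xor (2 ^ p.1) (2 ^ j))) ZP ∧
      appL (brU.map Prod.fst) (codE 0 (Nat.xor (2 ^ p.1) (2 ^ j)) / 8192) 0 =
        codE 0 (Nat.xor (2 ^ p.1) (2 ^ j)) := by decide +kernel
  refine mem_QM_of_psi (psi_pm (a := pt 0) (b := pt 1) (c := pt 3)
    (fun i => g2.cg (cod_e8 i) (cod_e8 i)) (by decide) (by decide) (by decide) fun j hj => ?_)
  obtain ⟨⟨i, _, w⟩, -, rfl, a, b, c, d, e⟩ := c2 _ (ix_lt j) fun e => hj (by rw [← e, pt_ix])
  dsimp only at *
  have l := cod_lA (i := i) (by omega) (ix_lt j)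
  rw [pt_ix] at l
  have n : pt i ≠ j := by
    rintro rfl
    rcases a with rfl | ⟨rfl, a, -⟩
    exacts [hj rfl, a rfl]
  have := (appL_ind p1 p2 _ 0 (fun v hv => .inl (by
    have := hv.cg (cod_zero fun i _ => by simp [bt])
    exact ((this.smul _).trans (by rw [co0_zero]; exact .refl _)).trans this.symm)) _ (e ▸ l)).resolve_right
    fun t => by
      have := sqNorm_eq_of_cg (t.trans ((l.mul (cod_vec _)).cg (d ▸ cod_vecOf b)))
        (by rw [co0_sqNorm, lA, sqNorm_vA _ _ _ _ n]; decide) (H77.short_vecOf b)
      rw [co0_sqNorm, lA, sqNorm_vA _ _ _ _ n, H77.sqNorm_vecOf (H77.isLc_of_isS b), c] at this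
      exact absurd this (by decide)
  rcases a with rfl | ⟨rfl, a, a'⟩
  · exact .inl this
  · exact .inr ⟨fun e => a (by rw [e]; rfl), fun e => a' (by rw [e]; rfl), this⟩
theorem comm_of_three {G : Type*} [Group G] {p k z : G} (hz : z * z = 1) (h1 : z * p = p * z)
    (h : p * k = k * p ∨ p * k = k * p * z) (h3 : p ^ 3 * k = k * p ^ 3) : p * k = k * p :=
  h.elim id fun e => by
    have e' : ∀ x, p * (k * x) = k * (p * (z * x)) := fun x => by simp only [← mul_assoc, e]
    have h' : ∀ x, z * (p * x) = p * (z * x) := fun x => by simp only [← mul_assoc, h1]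
    simp only [pow_three, mul_assoc, e, e', h', hz, h1, mul_one, mul_right_inj, mul_eq_left] at h3
    rw [e, h3, mul_one]
/-- the final check -/
noncomputable def brC (D : List ℕ) (w : ℕ) : Bool :=
  !Nat.beq (lf (cjc 4096 w) 4095) 0 || !Nat.beq (Nat.mod (app D w) 33554432) w || okc w &&
    (!Nat.beq (Nat.mod (app DK w) 33554432) (Nat.mod (tauc w) 33554432) || Nat.beq w 0 || Nat.beq w 19030015)
theorem braid_or {k : Mon F} (hk : Rep k DK) : (sM F * k) ^ 3 = 1 ∨ (sM F * (k * zM F)) ^ 3 = 1 := by
  obtain ⟨h, hc⟩ := braid_mem hk
  obtain ⟨w, hw, e⟩ := exists_qq h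
  have m : H72.inM24 pi3 = true := by decide +kernel
  obtain ⟨DP, d1, d2, d3, d4, d5⟩ : ∃ DP, evW [dP pi3] (List.replicate 4 0) = DP ∧ cmp DP DK = cmp DK DP ∧
      evW [DP] (List.replicate 3 0) = idD ∧ app DP 4096 = 4096 ∧ (List.range 8192).all (fun m =>
        brC DP (Nat.mul 4096 m) && brC DP (Nat.add 4095 (Nat.mul 4096 m))) = true := ⟨[11183377, 14648578, 20873328, 12197912, 7603264, 15889232, 26681616, 6795728,
  27348048, 15938884, 22230336, 25568256, 4096, 8192, 131072, 32768,
  4038656, 2097152, 11243520, 524288, 8388608, 16384, 9691136, 7221248], by decide +kernel⟩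
  have r := ((rep_xP (F := F) m).pow 4).of_eq d1
  have t : Commute (xP F pi3 ^ 4) (tau F) := (show Commute _ _ from xP_tau m).pow_left 4
  generalize xP F pi3 ^ 4 = p at r t
  have pk : Commute p k := comm_of_three zM_mul_self r.1.symm ((r.mul hk).eq ((hk.mul r).of_eq d2.symm)) (by
    rcases ((r.pow 3).of_eq d3).eq_one with a | a <;> simp [a, hk.1])
  have ps : Commute p (sM F) := t.inv_right.mul_right (r.cj' d4).comm
  have a1 : sM F * qq F w * sM F = qq F (app DK w) := by
    have := (Commute.self_pow (sM F * k) 3).eq
    rw [← hk.cj w, ← e, eq_mul_inv_iff_mul_eq, ← mul_right_inj (sM F), ← mul_assoc _ k, this]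
    simp only [mul_assoc, sM_sM]
  have a2 : lf (cjc 4096 w) 4095 = 0 := by
    have := hc 4095 (by simp)
    rw [Cj, e, mul_inv_eq_iff_eq_mul, qq, (cod_e8 none).qq, YY_comm_iff, dot_e8] at this
    have k : bt (lf (cjc 4096 w) 4095) 0 = 0 := by
      rw [← ((cod_vec w).congr fun i hi => ?_).dl_cW, ← Om_eq, dl_om (vec w).2]
      · exact cast2_0 (by omega)
      · rw [cjc, bt_mul _ _ hi.ne, bt_mul _ _ hi.ne, ivc, bt_xor, bt_mul _ _ hi.ne, z2_add_self,
          add_zero, add_right_comm, z2_add_self, zero_add]
    have : lf (cjc 4096 w) 4095 ≤ 1 := Nat.and_le_right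
    rw [bt_zero, ZMod.natCast_eq_zero_iff] at k
    omega
  have a3 : brC DP w = true := by
    have := List.all_eq_true.1 d5 (w / 4096) (List.mem_range.2 (by omega))
    rw [Bool.and_eq_true] at this
    rcases ec_of_mem a2 (a1 ▸ qq_mem _) with b | b
    · rw [← this.1]; exact congrArg _ (show w = 4096 * _ by omega)
    · rw [← this.2]; exact congrArg _ (show w = 4095 + 4096 * _ by omega)
  have a4 : Nat.mod (app DP w) 33554432 = w := (qq_inj ((r.cj w).symm.trans (by
    rw [← e, ((ps.mul_right pk).pow_right 3).eq, mul_inv_cancel_right]))).trans (Nat.mod_eq_of_lt hw)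
  simp only [brC, a2, a4, Nat.beq_refl, Bool.not_true, Bool.false_or, Bool.and_eq_true, Bool.or_eq_true,
    Bool.not_eq_true', Nat.beq_eq, or_assoc] at a3
  have a5 : Nat.mod (app DK w) 33554432 = Nat.mod (tauc w) 33554432 :=
    qq_inj (a1.symm.trans (by simpa only [Cj, sM_inv] using cj_s (F := F) a3.1))
  refine (a3.2.resolve_left (by simp [a5])).imp (fun a => by simp [e, a]) fun a => ?_
  have k1 : k * qq F 4095 = qq F ZP * k :=
    (hk.cj' (by decide +kernel)).comm
  have k2 : k * qq F ZP = qq F 4095 * k :=
    (hk.cj' (by decide +kernel)).comm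
  have b1 : zM F * (sM F * k) = sM F * k * qq F ZP := by
    rw [mul_assoc, k2, ← sM_z]; simp only [mul_assoc, sM_sM]
  have b2 : qq F ZP * (sM F * k) = sM F * k * qq F 4095 := by
    rw [mul_assoc, k1, ← mul_assoc, ← (cj_s_coc (x := ZP) rfl rfl).comm, mul_assoc]
  calc _ = sM F * k * (zM F * (sM F * k)) * (zM F * (sM F * k)) * zM F := by
        simp only [pow_three, mul_assoc]
    _ = (sM F * k) ^ 3 * qq F 4095 * qq F ZP * zM F := by
        rw [b1, mul_assoc (sM F * k) (_ * _), mul_assoc _ (qq F ZP), ← mul_assoc (qq F ZP), b2]
        simp only [pow_three, mul_assoc]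
    _ = 1 := by rw [e, a, ← qq_z, qq_mul, qq_mul, qq_mul, ← qq_zero]; rfl
theorem exists_k : ∃ k : Mon F, Rep k DK ∧ (sM F * k) ^ 3 = 1 := by
  obtain ⟨n, -, h⟩ := exists_lift_PM (F := F) (g := PK) (by decide +kernel)
  have h' : Rep _ DK := (h.mul (rep_qq 15187968)).of_eq (by decide +kernel)
  exact (braid_or h').elim (fun a => ⟨_, h', a⟩) fun a =>
    ⟨_, (h'.mul rep_z).of_eq (by decide +kernel), a⟩
/-- the generator of the third minimal parabolic -/
noncomputable def kM (F : Type*) [Field F] [Good F] : Mon F := exists_k.choose
theorem rep_k : Rep (kM F) DK := exists_k.choose_spec.1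
theorem braid_sk : (sM F * kM F) ^ 3 = 1 := exists_k.choose_spec.2
theorem braid_sq {G : Type*} [Group G] {x y : G} (hy : y * y = 1) (h : (x * y) ^ 3 = 1) :
    x * (y * (x * x) * y) * x = y * (x * x)⁻¹ * y := by
  have e : x * y * x = y * x⁻¹ * y := by
    have hy' : ∀ a, y * (y * a) = a := fun a => by rw [← mul_assoc, hy, one_mul]
    rw [← mul_left_inj (y * (x * y))]
    simpa only [mul_assoc, hy', hy, inv_mul_cancel_left, pow_three] using h
  calc _ = x * y * x * (x * y * x) := by simp only [mul_assoc]
    _ = y * x⁻¹ * (y * y) * x⁻¹ * y := by rw [e]; simp only [mul_assoc]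
    _ = _ := by rw [hy]; group
theorem k_sq : kM F * kM F = 1 :=
  ((rep_k.mul rep_k).of_eq (by decide +kernel)).eq_one.resolve_right fun e => by
    have := braid_sq (x := kM F) sM_sq (by
      rw [← mul_right_inj (sM F), ← mul_pow_mul, braid_sk, one_mul, mul_one])
    rw [e, inv_eq_of_mul_eq_one_right zM_mul_self, sM_z, (rep_k.cj' (y := ZP) (by decide +kernel)).comm,
      mul_assoc, e, ← qq_z, qq_mul] at this
    exact absurd (qq_inj this) (by decide +kernel)
theorem sks : sM F * kM F * sM F = kM F * sM F * kM F := by
  have := braid_sk (F := F)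
  rw [pow_three, ← mul_assoc, ← mul_assoc, ← mul_assoc, mul_assoc, mul_assoc _ (kM F), mul_eq_one_iff_eq_inv,
    mul_inv_rev, mul_inv_rev, sM_inv, inv_eq_of_mul_eq_one_right k_sq] at this
  exact this

end H17.Gr
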