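/- Griess algebra, part 14: the thirteen points, the first line and the symmetries. -/
import Cfsg.Agent.H17.GrBraid
import Cfsg.Agent.H17.GrPlane

set_option autoImplicit false
set_option linter.unusedSectionVars false
set_option maxRecDepth 100000
open Cfsg H79 H71.Gr
open H77 (PM vecOf isS)
open H71 (evw evw_cons evw_nil evw_append)

namespace H17.Gr
open Wr
variable {F : Type*} [Field F] [Good F]
attribute [local irreducible] app cmp vec qq

/-- conjugation by `sM` -/
noncomputable def cs (F : Type*) [Field F] [Good F] : Mon F →* Mon F := (MulAut.conj (sM F)).toMonoidHom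
theorem cs_def (g : Mon F) : cs F g = sM F * g * (sM F)⁻¹ := rfl
theorem cs_eq (g : Mon F) : cs F g = sM F * g * sM F := by rw [cs_def, sM_inv]
theorem cs_z : cs F (zM F) = qq F 4095 := (cs_eq _).trans sM_z
theorem cs_z2 : cs F (qq F 4095) = zM F := qq_z (F := F) ▸ cj_s_z2
theorem Pr.cs {n : Mon F} {D E : List ℕ} (h : Pr n D E) : Rep (cs F n) E := cs_eq n ▸ h.2
theorem qq_comm {x y : ℕ} (h : mul x y = mul y x) : Commute (qq F x) (qq F y) := by
  rw [Commute, SemiconjBy, qq_mul, qq_mul, h]
theorem Rep.ne {g k : Mon F} {D E : List ℕ} (h : Rep g D) (h' : Rep k E)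
    (e : D.map (· % 2 ^ 25) ≠ E.map (· % 2 ^ 25)) : g ≠ k := fun a => e (h.unique (a ▸ h'))

/-- codes of the points -/
def cP (p : ℕ) : ℕ := [9766648, 8182712, 16383, 12054551, 2883016, 651831, 24575, 1979384, 7724784, 13845575, 11091696, 0, 28671].getD p 0
/-- the points -/
noncomputable def rP (F : Type*) [Field F] [Good F] (p : ℕ) : Mon F := cs F (qq F (cP p))
/-- data of the points and of three lines -/
def DC : List (List ℕ) := [[9461761, 4841469, 9449476, 5713911, 26128367, 14258143, 14254144, 5713791,
  17751807, 512, 26125312, 4675584, 1816312, 1804024, 1828600, 18557191,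
  18524423, 18458887, 18852103, 18065671, 763640, 20687111, 22784263, 10200824],
  [21258241, 15802365, 18784251, 28659703, 5943279, 28655648, 18538431, 28659583,
  15720704, 5939712, 28392447, 5941247, 13499320, 13487032, 13478840, 30237767,
  30204999, 30401607, 13233080, 29746247, 31319111, 32367687, 9300920, 21881927],
  [16777217, 16777218, 4, 8, 16, 32, 64, 128,
  256, 512, 1024, 2048, 4096, 8192, 16384, 32768,
  65536, 131072, 262144, 524288, 1048576, 2097152, 4194304, 8388608],
  [26378241, 29753346, 32505860, 20389879, 27557904, 22331359, 23310271, 128,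
  23256831, 22400511, 20341760, 96255, 11968488, 11972584, 11980776, 28704791,
  12029928, 28606487, 28475415, 29261847, 27688983, 26640407, 32931863, 20348951],
  [18796542, 20811773, 18784251, 19103735, 20754415, 1888288, 19099712, 19103615,
  19099904, 1942016, 1024, 2048, 650696, 646600, 638408, 17396279,
  589256, 785864, 17691191, 16904759, 18477623, 2751944, 21623351, 25817655],
  [18796542, 20811773, 18784251, 19103735, 20754415, 18665504, 19099712, 19103615,
  19099904, 18719232, 1024, 2048, 650696, 646600, 638408, 17396279,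
  589256, 785864, 17691191, 16904759, 18477623, 2751944, 21623351, 25817655],
  [16777217, 2, 16777220, 8, 16, 32, 64, 128,
  256, 512, 1024, 2048, 4096, 8192, 16384, 32768,
  65536, 131072, 262144, 524288, 1048576, 2097152, 4194304, 8388608],
  [23998462, 29380610, 9678843, 11423735, 11423727, 16633888, 22257599, 22257535,
  11419904, 22254080, 3030015, 1304575, 13485048, 13497336, 13472760, 30235655,
  30202887, 30399495, 30006279, 29744135, 31316999, 32365575, 9294840, 5100536],
  [15802369, 1101826, 14426116, 20787191, 13406224, 32, 14794816, 14798719,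
  65279, 13406720, 19749887, 19748864, 5807856, 5811952, 5820144, 5770992,
  22642959, 22708495, 22839567, 22053135, 4755184, 24674575, 18383119, 30966031],
  [4481025, 15802365, 18784251, 11882487, 22720495, 11878432, 1761215, 11882367,
  15720704, 22716928, 28392447, 22718463, 13499320, 13487032, 13478840, 30237767,
  30204999, 30401607, 13233080, 29746247, 31319111, 32367687, 9300920, 21881927],
  [15802369, 17879042, 31203332, 4009975, 13406224, 32, 31572032, 31575935,
  16842495, 13406720, 2972671, 2971648, 5807856, 5811952, 5820144, 5770992,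
  22642959, 22708495, 22839567, 22053135, 4755184, 24674575, 18383119, 30966031],
  [1, 2, 4, 8, 16, 32, 64, 128,
  256, 512, 1024, 2048, 4096, 8192, 16384, 32768,
  65536, 131072, 262144, 524288, 1048576, 2097152, 4194304, 8388608],
  [1, 16777218, 16777220, 8, 16, 32, 64, 128,
  256, 512, 1024, 2048, 4096, 8192, 16384, 32768,
  65536, 131072, 262144, 524288, 1048576, 2097152, 4194304, 8388608],
  [3163161, 20217861, 22518036, 28010287, 31115272, 32886288, 27420512, 21072807,
  6518807, 9876775, 26953535, 6784264, 24690488, 24678200, 24702776, 12688951,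
  5397775, 7113999, 262144, 524288, 15519287, 5147919, 31888191, 18563903],
  idD,
  idD,
  idD,
  [12306609, 7372821, 24746555, 5012391, 8149815, 13113984, 21596919, 33018783,
  621352, 620584, 1043767, 659503, 13499320, 13487032, 13478840, 12077751,
  5077935, 32887583, 262144, 955167, 22645431, 18860479, 4194304, 24630047],
  idD,
  idD,
  [30616505, 16831397, 20455555, 18752431, 15079839, 102712, 20546015, 3457967,
  840360, 17645744, 16848575, 16849599, 13499320, 13487032, 13478840, 31431607,
  15145359, 16431503, 262144, 16644927, 17806015, 14203279, 4194304, 25236159]]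
/-- the same by index -/
def dC (n : ℕ) : List ℕ := DC.getD n idD
theorem cP_spec : ∀ p < 13, evc (cP p) = true ∧ dY (cP p) = dC p ∧ mul (cP p) (cP p) = 0 ∧
    ∀ q < 13, mul (cP p) (cP q) = mul (cP q) (cP p) := by decide +kernel
theorem rep_r {p : ℕ} (h : p < 13) : Rep (rP F p) (dC p) := (pr_qq (cP_spec p h).1).cs.of_eq (cP_spec p h).2.1
theorem r_sq {p : ℕ} (h : p < 13) : rP F p * rP F p = 1 := by
  rw [rP, ← map_mul, qq_mul, (cP_spec p h).2.2.1, qq_zero, map_one]
theorem r_comm {p q : ℕ} (h : p < 13) (h' : q < 13) : Commute (rP F p) (rP F q) :=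
  (qq_comm ((cP_spec p h).2.2.2 q h')).map _
theorem r_11 : rP F 11 = 1 := by rw [rP, show cP 11 = 0 from rfl, qq_zero, map_one]
theorem r_Q : rP F 2 = qq F 16789504 ∧ rP F 6 = qq F 16797696 ∧ rP F 12 = qq F 16801792 :=
  ⟨cj_s (x := cP 2) (by decide +kernel), cj_s (x := cP 6) (by decide +kernel),
    cj_s (x := cP 12) (by decide +kernel)⟩

theorem conj_of_braid {G : Type*} [Group G] {x y : G} (hx : x * x = 1) (h : (x * y) ^ 3 = 1)
    (hy : y * y = 1) : x * y * x * (x * y)⁻¹ = y := by
  rw [mul_inv_rev, inv_eq_of_mul_eq_one_right hx, inv_eq_of_mul_eq_one_right hy, ← mul_left_inj y, hy, ← h]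
  simp only [pow_three, mul_assoc]
theorem comm_of_braid {x y p : Mon F} {D E P : List ℕ} (hx : Rep x D) (hy : Rep y E) (hp : Rep p P)
    (h : (x * y) ^ 3 = 1) (c : Commute y p) (e : cmp D P = cmp P D) : Commute x p := by
  have : Commute (x * y) p := comm_of_three zM_mul_self (hx.mul hy).1.symm
    (((hx.mul hp).eq ((hp.mul hx).of_eq e.symm)).imp (fun a => by rw [mul_assoc, c.eq, ← mul_assoc, a, mul_assoc])
      fun a => by rw [mul_assoc, c.eq, ← mul_assoc, a, mul_assoc, ← hy.1]; simp only [mul_assoc]) (by simp [h])
  simpa using this.mul_left c.inv_left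
theorem cl_code {c x : ℕ} (h : isS c = true) (e : ∀ i < 24, bt (codN c) i = bt x i) :
    clM F (qq F x) (vecOf c) := ⟨_, ((cod_vecOf h).congr e).qq⟩
/-- the matrix of the first line -/
noncomputable def PN : PM := ⟨nat_lit 0x4000000000000000000000000000000000000000000000000000000000000000000000004000000000004000000040000000000000000000000000000000000000000000000000000000000000000000000000000000000000000000400000000000000000000000000000000000000000000000000000000000400000000000000000000000000000004000000040000000400040004000000000000000000000000000000000000000000000000000000000000000000000000000000000000000000000000000000000004000000000000000400000000000000000000000000000000000400000000000000000000000000000000000000000000000000000000000000000000000400000000000000000004000000000000000000040000000000000000000400000000000000000000000000000000000000000000000400040000000000000000000000000000000000000000000000000000000000000004000000000000000000000000000400040000000000000000000000000000000000000000000000000000000000000000000000000004000000040004000000000000000000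000000000000000000000000000000000000000000000000000000000000040000000000040004000000000000000000000000000000000000000000000000000000000000000000000000000000000000000400000000000000000004000000000004000000000000000000000000000000000000000000000000000000040004000000000004000000000000000000000000000000000000000000000000000000000000000000000000000000040004000000040000000000000000000000000000000000000000000000000000000000040000000000000000000400000000000000000000000000000000000400000000000000000000000000000000000400000000000000000004000000000000000000000000000400000000000000000000000000000000000000000000000000000000000000040000000000000000000000000000000000000000000000000000000000000000000000000000000000000000000400000000000000000000000000000000000000000000000000000000000000000000000000000000000000040004000000000000000000000000000000000000000000000000000400000000000000000000000000000000000000040004000000000000000400000000000000000000000000000000000000000000000000000000000000000000000400000000000000000004000000000000000000000000000000040000000000000000000000000000000400040000000000000000000000000000000000000000000000000000000000000000000000040000000000000000000400000004000000000000000000000000000000000000000000000000000000000000000000040000000000000000000000040004000000000000000000000000000000000000000000000000000000000000000000040000000000000000,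
  nat_lit 0x40004000000000000000000000000000000000000000000000000000000040000000000000000000000000000000000000000000000000000000000040000000000000000000000000000000000000000000000000000000000000000000000040004000000000000000000000000000000000000000000000000000000000000000400000000000000000000000000000000000000000000000000000000000000000000000400000000000000000000000000000000000000000000000000000000000000000000000000000000000000000000000000000004000000000000000000000000000000000004000000000000000000000000000000000000000000000000000000000000000000000000000000000000000000000000000000000000000000000000000000000000000000000000000000000000000400000000000000000000000000000000000000000000000400000000000000000000000000000000000000000000000000000000000000000000000000040000000000000000000000000000000000000000000000000000000000000000000000000000000000000000000000000000000000000000000000000004000000000000000000000000000000000000000000000000000000000000000000000000000000000000000000000000000400000000000000000000000000000000000000000000000000000000000000000000000000000000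0000000000000000000000000000000000000000000000000000000000040000000000000000000000000000000000000000000000000000000000040000000000000000000000000000000000000000000000000000000000000000000000000000000000000000000000000004000000000000000000000000000000000000000000000000000000000004000000000000000000000000000000000000000000000000000000000000000000000000000000000000000000000000000000000000000000000000000000000000000000040000000000000000000000000000000000000000000000000000000400000000000000000000000000000000000000000000000000000000000400000004000000000000000000000000000000040000000000000000000000000000000000000000000000000000000400000004000000000000000000000000000000000000000400000000000000000000000000000000000000000000000000000000000000000000000000000000000000000000000000000000000000000000000000000000000400000000000000000000000000000000000000000000000000000000000000000000000000000000000400000000000000000000000000000000000000000004000000000000000000000000000000000000000000000000000000000000000000000000000000000000000000040000000000000000000000000000000000000000000000000000000000000000000000000000000000000000000400000000000000000000000000000000000000000000000000000000000000000000000000000000000000000000,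
  nat_lit 0x8000800080008000800080008000800080008000800080008000800080008000800080008000800080008000800080⟩
theorem exists_N [Finite F] : ∃ N : Mon F, Rep N (dC 13) ∧ N * N = 1 ∧ ∀ p < 13, (N * rP F p) ^ lab 13 p = 1 := by
  have tz : ∀ {x y : Mon F}, x * zM F = zM F * x → y * zM F = zM F * y → (x * y) ^ 3 = zM F →
      (x * zM F * y) ^ 3 = 1 := fun {x y} a b e => by
    rw [mul_assoc, ← b, ← mul_assoc, Commute.mul_pow ((show Commute _ _ from a).mul_left b), e, pow_three,
      zM_mul_self, mul_one, zM_mul_self]
  have cube : ∀ {N : Mon F} {p}, Rep N (dC 13) → p < 13 → evW [cmp (dC 13) (dC p)] [0, 0, 0] = idD →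
      (N * rP F p) ^ 3 = 1 ∨ (N * rP F p) ^ 3 = zM F := fun h hp e =>
    (((h.mul (rep_r hp)).pow 3).of_eq e).eq_one
  obtain ⟨N, hN, h9⟩ : ∃ N : Mon F, Rep N (dC 13) ∧ (N * rP F 9) ^ 3 = 1 := by
    obtain ⟨n, -, h⟩ := exists_lift_PM (F := F) (g := PN) (by decide +kernel)
    have h' : Rep _ (dC 13) := (h.mul (rep_qq 5237767)).of_eq (by decide +kernel)
    exact (cube h' (by decide) (by decide +kernel)).elim (fun a => ⟨_, h', a⟩) fun a =>
      ⟨_, (h'.mul rep_z).of_eq (by decide +kernel), tz h'.1 (rep_r (by decide)).1 a⟩
  have r9 := rep_r (F := F) (by decide : 9 < 13)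
  have s9 := r_sq (F := F) (by decide : 9 < 13)
  have h2 : N * N = 1 := ((hN.mul hN).of_eq (by decide +kernel)).eq_one.resolve_right fun e => by
    have := braid_sq s9 h9
    rw [e, inv_eq_of_mul_eq_one_right zM_mul_self, r9.1, mul_assoc (zM F), s9, mul_one, hN.1, mul_assoc, e,
      zM_mul_self] at this
    exact zM_ne this.symm
  have on : ∀ p c, p < 13 → evW [cmp (dC 13) (dC p)] [0, 0, 0] = idD → isS c = true → H77.dotN c c = 1568 →
      (∀ i < 24, bt (codN c) i = bt (cP p) i) → (N * rP F p) ^ 3 = 1 := fun p c hp e a b d =>
    (cube hN hp e).resolve_right fun k => mt_Mon.not_conj_32 (cl_code a d)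
      (by rw [H77.sqNorm_vecOf (H77.isLc_of_isS a), b]; rfl) <| by
      have w : isS 0x800080008000800080006000a000a00080008000800080008000a000800080008000a0008000800080006000e0006 = true := by
        decide +kernel
      have c1 : IsConj (zM F) (qq F (mul (cP 9) 4095)) := mt_Mon.conj_of_64 ⟨sM F, by
        rw [← cs_def, cs_z]; exact ⟨qq_mem _, fun e => absurd (qq_inj (e.trans qq_z.symm)) (by decide)⟩⟩
        (cl_code w (by decide +kernel)) (by rw [H77.sqNorm_vecOf (H77.isLc_of_isS w)]; decide +kernel)
      have c2 : IsConj (N * zM F) (cs F (qq F (mul (cP 9) 4095))) := isConj_iff.2 ⟨N * rP F 9, by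
        rw [← qq_mul, map_mul, cs_z2, ← conj_mul, conj_of_braid h2 h9 s9, (hN.mul r9).1, mul_inv_cancel_right]; rfl⟩
      have c3 : IsConj (N * zM F) (rP F p) := isConj_iff.2 ⟨_, conj_of_braid
        (by rw [mul_assoc, ← mul_assoc (zM F), ← hN.1, mul_assoc, zM_mul_self, mul_one, h2])
        (tz hN.1 (rep_r hp).1 k) (r_sq hp)⟩
      have c4 : ∀ x, IsConj x (cs F x) := fun x => isConj_iff.2 ⟨_, rfl⟩
      exact (((c1.trans (c4 _)).trans c2.symm).trans c3).trans (c4 _).symm
  refine ⟨N, hN, h2, fun p hp => ?_⟩
  have k : ∀ p < 13, lab 13 p = 3 ∧ p ∈ [0, 1, 3, 9] ∨ lab 13 p = 2 ∧ cmp (dC 13) (dC p) = cmp (dC p) (dC 13) := by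
    decide +kernel
  rcases k p hp with ⟨e, a⟩ | ⟨e, a⟩ <;> rw [e]
  · simp only [List.mem_cons, List.not_mem_nil, or_false] at a
    rcases a with rfl | rfl | rfl | rfl
    · exact on _ 0x60008000800080008000a000800080008000800080006000a00080008000a00080008000800080008000a000a000a hp
        (by decide +kernel) (by decide +kernel) (by decide +kernel) (by decide +kernel)
    · exact on _ 0x80008000800080008000a000a0006000800080008000800080006000800080008000a000800080008000a000a000a hp
        (by decide +kernel) (by decide +kernel) (by decide +kernel) (by decide +kernel)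
    · exact on _ 0x6000600080008000800080008000600080008000600080008000800080008000800080008000a0008000a000a000a hp
        (by decide +kernel) (by decide +kernel) (by decide +kernel) (by decide +kernel)
    · exact h9
  · rw [(comm_of_braid hN r9 (rep_r hp) h9 (r_comm (by decide) hp) a).mul_pow, sq, sq, h2, r_sq hp, mul_one]

/-- the ambiguity of the symmetries -/
noncomputable def zeta (F : Type*) [Field F] [Good F] : Wr (Mon F) := de (cs F (zM F))
/-- symmetries given by data -/
def Sy (ω : Wr (Mon F)) (S : List ℕ × ℕ) : Prop :=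
  ∃ g, Rep g S.1 ∧ ω = ka (cs F g) (cs F (qq F S.2 * g))
/-- data of a word -/
noncomputable def evS (Ds : List (List ℕ × ℕ)) (w : List ℕ) : List ℕ × ℕ :=
  List.rec (motive := fun _ => List ℕ × ℕ) (idD, 0) (fun i _ ih =>
    (cmp (Ds.getD i (idD, 0)).1 ih.1, mul (Ds.getD i (idD, 0)).2 (app (Ds.getD i (idD, 0)).1 ih.2))) w
theorem sy_word {ω : ℕ → Wr (Mon F)} {Ds : List (List ℕ × ℕ)} (h : ∀ i, Sy (ω i) (Ds.getD i (idD, 0)))
    (w : List ℕ) : Sy (evw ω w) (evS Ds w) := by
  induction w with
  | nil => exact ⟨1, rep_one, by simp [evS, ka, one_def]⟩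
  | cons i w ih =>
    obtain ⟨g, a, b⟩ := h i
    obtain ⟨k, c, d⟩ := ih
    refine ⟨g * k, a.mul c, ?_⟩
    rw [evw_cons, b, d, ka_mul, ← map_mul, ← map_mul, mul_assoc, ← mul_assoc g, (a.cj _).comm, ← mul_assoc,
      ← mul_assoc, qq_mul, mul_assoc]; rfl
theorem Sy.eq {ω ω' : Wr (Mon F)} {S : List ℕ × ℕ} (h : Sy ω S) (h' : Sy ω' S) :
    ω = ω' ∨ ω = ω' * zeta F := by
  obtain ⟨g, a, rfl⟩ := h
  obtain ⟨k, b, rfl⟩ := h'
  refine (a.eq b).imp (fun e => by rw [e]) fun e => ?_
  rw [e, ← mul_assoc, map_mul _ k, map_mul _ (_ * _)]; rfl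
theorem Sy.comm {ω : Wr (Mon F)} {S : List ℕ × ℕ} (h : Sy ω S) : Commute (zeta F) ω := by
  obtain ⟨g, a, rfl⟩ := h
  show ka _ _ * _ = _ * ka _ _
  simp only [ka_mul, ← map_mul]
  rw [a.1, mul_assoc, a.1, ← mul_assoc, ← mul_assoc, qq_comm_z]
theorem Sy.pt {ω : Wr (Mon F)} {S : List ℕ × ℕ} (h : Sy ω S) {p q : ℕ}
    (e : mul (app S.1 (cP p)) (ivc S.2) = cP q) : ω * nu (rP F p) * ω⁻¹ = nu (rP F q) := by
  obtain ⟨g, a, rfl⟩ := h
  rw [ka_nu, rP, rP, ← map_inv, ← map_mul, ← map_mul, mul_inv_rev, ← mul_assoc, a.cj, ← qq_ivc, qq_mul, e]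

/-- data of `q(u) Y(u') x_π` -/
noncomputable def dN (t : ℕ × ℕ × ℕ) : List ℕ := cmp (inn t.1) (cmp (dY t.2.1) (dP t.2.2))
/-- data of its conjugate by `sM` -/
noncomputable def dW (t : ℕ × ℕ × ℕ) : List ℕ :=
  cmp (dY t.1) (cmp (inn t.2.1) (cmp (cmp (inn 4096) (dP t.2.2)) (inn 4096)))
/-- admissible parameters -/
noncomputable def okT (t : ℕ × ℕ × ℕ) : Bool := evc t.1 && evc t.2.1 && H72.inM24 t.2.2
theorem exists_pr {t : ℕ × ℕ × ℕ} (h : okT t = true) : ∃ n : Mon F, Pr n (dN t) (dW t) := by
  simp only [okT, Bool.and_eq_true] at h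
  exact ⟨_, (pr_qq h.1.1).mul ((pr_qq h.1.2).swap.mul (pr_xP h.2))⟩
theorem transfer {N : Mon F} (hN : Rep N (dC 13)) (h2 : N * N = 1) (h3 : ∀ p < 13, (N * rP F p) ^ lab 13 p = 1)
    (t1 t2 t : ℕ × ℕ × ℕ) {D : List ℕ} {j : ℕ} (y p q : ℕ)
    (e : okT t1 = true ∧ okT t2 = true ∧ okT t = true ∧ cmp (dN t1) (cmp DK (dN t2)) = D ∧
      cmp DK (cmp (dW t2) (dC 13)) = cmp (dN t) (cmp DK (dW t2)) ∧
      cmp (dW t1) (cmp DK (dW t)) = cmp (dC 13) (cmp (dC j) (cmp (dW t1) DK)) ∧
      app (dW t1) ZP = y ∧ mul y y = 0 ∧ app (dC 13) y = y ∧ app (dC j) y = y ∧ app (dC q) y = y ∧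
      j < 13 ∧ p < 13 ∧ q < 13 ∧ lab 13 p = 3 ∧ lab 13 q = 3 ∧ mul (app D (cP p)) (ivc (cP j)) = cP q) :
    ∃ ω, Sy ω (D, cP j) ∧ ω * nu N * ω⁻¹ = nu N := by
  obtain ⟨a1, a2, a3, rfl, e1, e2, e3, e4, e5, e6, e7, hj, hp, hq, l1, l2, e8⟩ := e
  obtain ⟨n1, p1⟩ := exists_pr (F := F) a1
  obtain ⟨n2, p2⟩ := exists_pr (F := F) a2
  obtain ⟨n, p3⟩ := exists_pr (F := F) a3
  have hs : Sy _ (_, cP j) := ⟨_, p1.1.mul (rep_k.mul p2.1), rfl⟩
  refine ⟨_, hs, ?_⟩
  let P : Mon F → Prop := fun v => v * v = 1 ∧ Commute v N ∧ Commute v (rP F j) ∧ Commute v (rP F q) ∧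
    Commute v (zM F)
  have P1 : P 1 := by simp [P]
  have Pz : ∀ {v}, P v → P (zM F * v) := fun ⟨a, b, c, d, e⟩ =>
    ⟨by rw [mul_assoc, ← mul_assoc _ (zM F), e.eq, mul_assoc, a, mul_one, zM_mul_self], .mul_left hN.1.symm b,
      .mul_left (rep_r hj).1.symm c, .mul_left (rep_r hq).1.symm d, .mul_left rfl e⟩
  have Py : P (qq F y) := ⟨by rw [qq_mul, e4, qq_zero], (hN.cj' e5).comm.symm, ((rep_r hj).cj' e6).comm.symm,
    ((rep_r hq).cj' e7).comm.symm, qq_comm_z y⟩
  have W1 := p1.cs.mul rep_k
  have W2 := rep_k.mul p2.cs
  have g1 : cs F (n1 * (kM F * n2)) = cs F n1 * kM F * sM F * (kM F * cs F n2) := by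
    rw [map_mul, map_mul, cs_eq (kM F), sks]; simp only [mul_assoc]
  obtain ⟨a, ha, g2⟩ : ∃ a, (a = 1 ∨ a = zM F) ∧ kM F * cs F n2 * N = n * a * (kM F * cs F n2) :=
    ((rep_k.mul (p2.cs.mul hN)).eq ((p3.1.mul W2).of_eq e1.symm)).elim
      (fun a => ⟨1, .inl rfl, by rw [mul_assoc, a, mul_one]⟩)
      fun a => ⟨_, .inr rfl, by rw [mul_assoc, a, mul_assoc, W2.1, mul_assoc]⟩
  obtain ⟨b, hb, g3⟩ : ∃ b, (b = 1 ∨ b = zM F) ∧
      cs F n1 * kM F * cs F n = N * rP F j * b * (cs F n1 * kM F) :=
    ((p1.cs.mul (rep_k.mul p3.cs)).eq ((hN.mul ((rep_r hj).mul W1)).of_eq e2.symm)).elim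
      (fun a => ⟨1, .inl rfl, by rw [mul_assoc, a, mul_one, mul_assoc]⟩)
      fun a => ⟨_, .inr rfl, by rw [mul_assoc, a, mul_assoc, mul_assoc, W1.1]; simp only [mul_assoc]⟩
  obtain ⟨v, hv, g4⟩ : ∃ v, P v ∧ b * (cs F n1 * kM F) * cs F a = v * (cs F n1 * kM F) := by
    have k : cs F n1 * kM F * qq F 4095 = qq F y * (cs F n1 * kM F) :=
      ((p1.cs.cj' e3).comp (rep_k.cj' (by decide +kernel))).comm
    rcases ha with rfl | rfl <;> rcases hb with rfl | rfl
    · exact ⟨1, P1, by simp⟩
    · exact ⟨_, Pz P1, by simp⟩
    · exact ⟨_, Py, by rw [one_mul, cs_z, k]⟩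
    · exact ⟨_, Pz Py, by rw [mul_assoc, cs_z, k, mul_assoc]⟩
  have g5 : cs F (n1 * (kM F * n2)) * N * (cs F (qq F (cP j) * (n1 * (kM F * n2))))⁻¹ = N * v := by
    rw [mul_inv_eq_iff_eq_mul, map_mul _ (qq _ _), g1, mul_assoc _ _ N, g2, ← rP]
    generalize cs F n1 * kM F = A, kM F * cs F n2 = B at *
    calc _ = A * cs F n * cs F a * (sM F * B) := by simp only [cs_eq, mul_assoc, sM_sM]
      _ = N * (rP F j * v) * (A * sM F * B) := by rw [g3, mul_assoc _ b, mul_assoc (N * _), g4]; simp only [mul_assoc]
      _ = _ := by rw [← hv.2.2.1.eq]; simp only [mul_assoc]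
  have g6 := hs.pt e8
  have g7 : (nu N * nu (rP F p)) ^ 3 = 1 := by rw [nu_mul h2 (r_sq hp), ← map_pow, ← l1, h3 p hp, map_one]
  rw [ka_nu, g5]
  rw [← conj_eq_one_iff (a := ka (cs F (n1 * (kM F * n2))) (cs F (qq F (cP j) * (n1 * (kM F * n2))))),
    ← conj_pow, ← conj_mul, g6, ka_nu, g5, nu_mul (by
      rw [mul_assoc, ← mul_assoc v, hv.2.1.eq, mul_assoc, hv.1, mul_one, h2]) (r_sq hq), ← map_pow,
    ← map_one de, mul_assoc, hv.2.2.2.1.eq, ← mul_assoc, (hv.2.1.mul_right hv.2.2.2.1).symm.mul_pow, ← l2,
    h3 q hq, l2, pow_three, hv.1, mul_one, one_mul] at g7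
  rw [de_inj g7, mul_one]

/-- data of the symmetries -/
def DS : List (List ℕ × ℕ) := [([11213316, 13836289, 12658685, 24625856, 20278016, 13440375, 9930591, 25666048,
  26647423, 25652607, 29828975, 32529024, 201511, 213799, 226087, 482520,
  1266471, 17030360, 16864039, 24648920, 21191896, 14627623, 16932056, 26262744], 0),
  ([32173057, 13482973, 12678636, 3783324, 1334190, 2004992, 1802356, 10202770,
  29389860, 22561646, 11176771, 21342701, 10913120, 26048680, 11499351, 28137640,
  24722382, 12261894, 23935950, 5052934, 25557663, 4561414, 5052046, 6814350], 28671),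
  ([25748327, 26400381, 32357040, 8615122, 21941237, 11905734, 16466551, 6642002,
  31861768, 31344110, 20794752, 3601672, 17118054, 3051857, 19348633, 11545268,
  913070, 19233945, 3125507, 6540860, 32053315, 17267865, 15772340, 22759356], 0)]
/-- data of the symmetry of order three in the chart -/
def WB : List ℕ := [26592763, 22020097, 28174333, 23700160, 4052223, 19057288, 29829280, 25575936,
  22918272, 4227712, 24864623, 3779200, 29338208, 29358688, 29346400, 29091231,
  28306016, 12544608, 12445087, 12888672, 16771680, 23300704, 12511840, 2886240]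
theorem exists_sym {N : Mon F} (hN : Rep N (dC 13)) (h2 : N * N = 1)
    (h3 : ∀ p < 13, (N * rP F p) ^ lab 13 p = 1) : ∃ (ω : ℕ → Wr (Mon F)) (g : Mon F),
    (∀ i, Sy (ω i) (DS.getD i (idD, 0))) ∧ ω 0 = de g ∧ Rep g WB ∧ ∀ i, i ≠ 0 → Commute (ω i) (nu N) := by
  obtain ⟨g, hg⟩ := exists_pr (F := F) (t := (25410144, 3288, 472810246240486471760516281316606978)) (by decide +kernel)
  obtain ⟨ω1, a1, b1⟩ := transfer hN h2 h3 (0, 0, 720976488968757806268494974719987744) (11811200, 160, 632309560998129868531038305355662464)
    (7344695, 3528, 735587957181966863951023041162974209) (D := (DS.getD 1 (idD, 0)).1) (j := 12) 0x226000 1 1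
    (by decide +kernel)
  obtain ⟨ω2, a2, b2⟩ := transfer hN h2 h3 (0, 0, 984818244535754528103549039458486304) (4839744, 410, 306611229357122037469730687014144032)
    (10215159, 3528, 901821933667065175409524752041233409) (D := (DS.getD 2 (idD, 0)).1) (j := 11) 0x225000 0 0
    (by decide +kernel)
  refine ⟨fun i => [de (cs F g), ω1, ω2].getD i 1, _, fun i => ?_, rfl, hg.cs.of_eq (by decide +kernel), fun i hi => ?_⟩
  · rcases i with _ | _ | _ | i
    · exact ⟨g, hg.1.of_eq (by decide +kernel), by simp [DS, de_def, ka]⟩
    · exact a1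
    · exact a2
    · exact ⟨1, rep_one, by simp [DS, ka, one_def]⟩
  · rcases i with _ | _ | _ | i
    · exact absurd rfl hi
    · exact mul_inv_eq_iff_eq_mul.1 b1
    · exact mul_inv_eq_iff_eq_mul.1 b2
    · exact .one_left _

end H17.Gr
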