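/- Griess algebra, part 16: the nodes commuting with `f₃` generate `C(z) ∩ C(t)`, `C(z)`, `Mon F`. -/
import Cfsg.Agent.H17.GrChart
import Cfsg.Agent.H79.RepCo2

set_option autoImplicit false
set_option linter.unusedSectionVars false
set_option maxRecDepth 100000
open Cfsg H79 H71.Gr
open Finset (sum_eq_zero mem_range sum_congr sum_add_distrib)
open H77 (PM vecOf isS St1 vU co2a co2b nm_vecOf dt_vecOf)
open H71 (evw evw_cons evw_nil evw_append evw_pw)

namespace H17.Gr
open Wr
variable {F : Type*} [Field F] [Good F]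
attribute [local irreducible] app cmp vec qq vecOf PM.el

theorem co0_gen {S : Subgroup Co0} {a b u0 u8 u16 : leechLattice} (hn : negC ∈ S) (ha : St1 a ≤ S)
    (hb : St1 b ≤ S) (na : H77.nm a = 32) (nb : H77.nm b = 32) (ab : H77.dt b a = 16)
    (h0 : u0 ∈ H77.S2 b 16 a 0) (h8 : u8 ∈ H77.S2 b 16 a 8) (h16 : u16 ∈ H77.S2 b 16 a 16) : S = ⊤ := by
  obtain ⟨⟨h1, h2, h3, h4, h5, h6, h7⟩, h⟩ := H77.co2_census
  let O : leechLattice → Prop := fun y => ∃ σ ∈ S, σ • a = y
  have key : ∀ {G : Subgroup Co0} {X : Set leechLattice} {x y : leechLattice} {n : ℕ},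
      H77.IsOrb G X n → G ≤ S → x ∈ X → O x → y ∈ X → O y := by
    rintro G X x y n h k hx ⟨g, hg, rfl⟩ hy
    obtain ⟨k', a, hk⟩ := h.trans hx hy
    exact ⟨k' * g, S.mul_mem (k a) hg, by rw [mul_smul, hk]⟩
  have ng : ∀ {x i}, x ∈ H77.S1 a i → O x → -x ∈ H77.S1 a (-i) ∧ O (-x) := fun ⟨c, d⟩ ⟨g, hg, e⟩ =>
    ⟨⟨(H77.nm_neg _).trans c, by rw [H77.dt_neg_right, d]⟩, negC * g, S.mul_mem hn hg, by
      rw [mul_smul, e, negC_smul]⟩
  have aa : a ∈ H77.S1 a 32 := ⟨na, (H77.dt_self _).trans na⟩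
  have Oa : O a := ⟨1, S.one_mem, one_smul _ _⟩
  obtain ⟨g, rfl⟩ := H77.exists_smul_U nb
  have k := fun {y} => key (y := y) (h2.map1 g) hb ⟨na, ab⟩ Oa
  obtain ⟨g, rfl⟩ := H77.exists_smul_U na
  have all : ∀ y, H77.nm y = 32 → O y := fun y hy => by
    have := h (g⁻¹ • y) ((H77.nm_smul _ _).trans hy)
    rw [← H77.dt_smul g, smul_inv_smul] at this
    rcases this with e | e | e | e | e | e | e
    · exact key (h1.map1 g) ha aa Oa ⟨hy, e⟩
    · exact key (h2.map1 g) ha ⟨h16.1.1, h16.2⟩ (k h16.1) ⟨hy, e⟩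
    · exact key (h3.map1 g) ha ⟨h8.1.1, h8.2⟩ (k h8.1) ⟨hy, e⟩
    · exact key (h4.map1 g) ha ⟨h0.1.1, h0.2⟩ (k h0.1) ⟨hy, e⟩
    · exact (ng ⟨h8.1.1, h8.2⟩ (k h8.1)).elim fun c d => key (h5.map1 g) ha c d ⟨hy, e⟩
    · exact (ng ⟨h16.1.1, h16.2⟩ (k h16.1)).elim fun c d => key (h6.map1 g) ha c d ⟨hy, e⟩
    · exact (ng aa Oa).elim fun c d => key (h7.map1 g) ha c d ⟨hy, e⟩
  refine top_unique fun ψ _ => ?_
  obtain ⟨σ, hσ, e⟩ := all (ψ • g • vU) ((H77.nm_smul _ _).trans na)
  simpa using S.mul_mem hσ (ha (show (σ⁻¹ * ψ) • _ = _ by rw [mul_smul, ← e, inv_smul_smul]))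
theorem st_le_of_gen {S : Subgroup Co0} {μ a b : Co0} {v w : leechLattice}
    (h : Subgroup.closure {a, b} = St1 v) (e : μ • v = w) (ha : μ * a * μ⁻¹ ∈ S) (hb : μ * b * μ⁻¹ ∈ S) :
    St1 w ≤ S := fun ψ hψ => by
  have k : St1 v ≤ S.comap (MulAut.conj μ).toMonoidHom := by
    rw [← h, Subgroup.closure_le]
    rintro _ (rfl | rfl)
    exacts [ha, hb]
  simpa [mul_assoc] using k ((H77.conj_mem_St1 μ v (μ⁻¹ * ψ * μ)).1 (by simpa [mul_assoc, e] using hψ))

section
variable {H : Subgroup (Mon F)}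
/-- data realised in a subgroup -/
def RH (H : Subgroup (Mon F)) (D : List ℕ) : Prop := ∃ h ∈ H, Rep h D
theorem RH.mem (hz : zM F ∈ H) {g : Mon F} {D : List ℕ} (h : RH H D) (hg : Rep g D) : g ∈ H := by
  obtain ⟨k, a, b⟩ := h
  rcases hg.eq b with rfl | rfl
  exacts [a, H.mul_mem a hz]
theorem RH.app {D : List ℕ} (h : RH H D) {x : ℕ} (hx : qq F x ∈ H) : qq F (app D x) ∈ H := by
  obtain ⟨k, a, b⟩ := h
  exact b.cj x ▸ H.mul_mem (H.mul_mem a hx) (H.inv_mem a)
theorem rh_word {Ds : List (List ℕ)} {w : List ℕ} (h : ∀ i ∈ w, RH H (Ds.getD i idD)) : RH H (evW Ds w) := by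
  induction w with
  | nil => exact ⟨1, H.one_mem, rep_one⟩
  | cons i w ih =>
    obtain ⟨a, b, c⟩ := h i (.head _)
    obtain ⟨d, e, f⟩ := ih fun j hj => h j (.tail _ hj)
    exact ⟨a * d, H.mul_mem b e, c.mul f⟩
/-- strict evaluation -/
noncomputable def frc {α : Type} (D : List ℕ) : (List ℕ → α) → α :=
  List.rec (motive := fun _ => (List ℕ → α) → α) (fun k => k []) (fun d _ ih k =>
    Nat.rec (motive := fun _ => α) (ih fun E => k (0 :: E)) (fun n _ => ih fun E => k (Nat.succ n :: E)) d) D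
theorem frc_eq {α : Type} (D : List ℕ) : ∀ k : List ℕ → α, frc D k = k D := by
  induction D with
  | nil => exact fun _ => rfl
  | cons d D ih => intro k; cases d <;> exact ih _
/-- straight line programs -/
noncomputable def slp (P : List (List ℕ)) : List (List ℕ) → List (List ℕ) :=
  List.rec (motive := fun _ => List (List ℕ) → List (List ℕ)) id
    (fun w _ ih Ds => frc (evW Ds w) fun D => ih (Ds ++ [D])) P
theorem rh_slp (P : List (List ℕ)) : ∀ {Ds : List (List ℕ)}, (∀ D ∈ Ds, RH H D) → ∀ w, RH H (evW (slp P Ds) w) := by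
  have k : ∀ {Ds : List (List ℕ)}, (∀ D ∈ Ds, RH H D) → ∀ w, RH H (evW Ds w) := fun {Ds} h w =>
    rh_word fun i _ => by
      rcases lt_or_ge i Ds.length with a | a
      · rw [List.getD_eq_getElem _ _ a]; exact h _ (List.getElem_mem _)
      · rw [List.getD_eq_default _ _ a]; exact ⟨1, H.one_mem, rep_one⟩
  induction P with
  | nil => exact k
  | cons w P ih =>
    intro Ds h
    rw [show slp (w :: P) Ds = slp P (Ds ++ [evW Ds w]) from frc_eq _ _]
    exact ih (by simpa [or_imp, forall_and] using ⟨h, k h w⟩)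
theorem mem_congr (hz : zM F ∈ H) {x y : ℕ} (e : ∀ i < 24, bt x i = bt y i) (h : qq F x ∈ H) : qq F y ∈ H := by
  have k : ∀ {w}, (∀ i < 24, bt w i = bt y i) → bt w 24 = bt y 24 → qq F w = qq F y := fun a b =>
    qq_congr fun i hi => (Nat.lt_succ_iff_lt_or_eq.1 hi).elim (a i) fun e => e ▸ b
  by_cases c : bt x 24 = bt y 24
  · exact k e c ▸ h
  · have z : ∀ i < 24, bt ZC i = 0 := by decide
    rw [← k (w := mul ZC x) (fun i hi => by rw [bt_mul _ _ hi.ne, z i hi, zero_add, e i hi]) (by
      rw [bt_mul24, sum_eq_zero fun j hj => by rw [z _ (by have := mem_range.1 hj; omega), zero_mul]]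
      revert c; generalize bt x 24 = a, bt y 24 = b; revert a b; decide), ← qq_mul, qq_z]
    exact H.mul_mem hz h
theorem mem_of_mul (hz : zM F ∈ H) {y c : ℕ} (hc : qq F c ∈ H) (h : qq F (mul y c) ∈ H) : qq F y ∈ H := by
  simpa only [← qq_mul, mul_inv_cancel_right] using H.mul_mem h (H.inv_mem hc)
theorem mem_of_bits (hz : zM F ∈ H) (n : ℕ) : ∀ y, (∀ k < 24, bt y k = 1 → k < n ∧ qq F (2 ^ k) ∈ H) →
    qq F y ∈ H := by
  induction n with
  | zero => exact fun y h => mem_congr hz (x := 0) (fun i hi => by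
      rcases zmod2_cases (bt y i) with e | e
      · rw [e]; simp [bt]
      · exact absurd (h i hi e).1 (by omega)) (by simp)
  | succ n ih =>
    intro y h
    by_cases c : n < 24 ∧ bt y n = 1
    · refine mem_of_mul hz (h n c.1 c.2).2 (ih _ fun k hk e => ?_)
      rw [bt_mul _ _ hk.ne, bt_pow] at e
      split_ifs at e with d
      · rw [← d, c.2] at e; cases e
      · exact (h k hk (by simpa using e)).imp_left (by omega)
    · exact ih y fun k hk e => (h k hk e).imp_left fun a => lt_of_le_of_ne (by omega) (by rintro rfl; exact c ⟨hk, e⟩)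
theorem comm_bits {y i : ℕ} (hi : i = 1 ∨ i = 2) (h : Commute (qq F y) (qq F (ZC + 4096 + 2 ^ (12 + i)))) :
    bt y 0 = bt y i := by
  have := congrArg (bt · 24) (qq_inj ((qq_mul ..).symm.trans (h.eq.trans (qq_mul ..))))
  have e : ∀ i < 3, ∀ j < 12, i ≠ 0 → bt (ZC + 4096 + 2 ^ (12 + i)) j = 0 ∧
    bt (ZC + 4096 + 2 ^ (12 + i)) (12 + j) = (if j = 0 then 1 else 0) + if j = i then 1 else 0 := by decide
  simp only [bt_mod, bt_mul24, add_comm (bt y 24), show 24 < 25 by decide, if_true, add_right_inj] at this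
  rw [sum_eq_zero fun j hj => by rw [(e i (by omega) j (mem_range.1 hj) (by omega)).1, mul_zero],
    sum_congr rfl fun j hj => by rw [(e i (by omega) j (mem_range.1 hj) (by omega)).2]] at this
  simp [add_mul, sum_add_distrib, show i < 12 by omega] at this
  exact z2_eq_iff.2 this.symm
/-- a path of codes -/
noncomputable def pathL (P : List ℕ) : ℕ → List ℕ :=
  List.rec (motive := fun _ => ℕ → List ℕ) (fun x => [x]) (fun i _ ih x => x :: ih (app (DC.getD i idD) x)) P
theorem path_mem {P : List ℕ} (h : ∀ i ∈ P, RH H (DC.getD i idD)) :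
    ∀ x, qq F x ∈ H → ∀ y ∈ pathL P x, qq F y ∈ H := by
  induction P with
  | nil => exact fun x hx y hy => List.mem_singleton.1 hy ▸ hx
  | cons i P ih =>
    exact fun x hx => List.forall_mem_cons.2 ⟨hx, ih (fun j hj => h j (.tail _ hj)) _ ((h i (.head _)).app hx)⟩
/-- the image in `Co0` -/
noncomputable def imS (H : Subgroup (Mon F)) : Subgroup Co0 := (H.comap Lift.act).map Lift.toCo0
theorem neg_mem_imS : negC ∈ imS H := ⟨Lift.neg F, by simp [act_neg], rfl⟩
theorem RH.psi {D E : List ℕ} (h : RH H D) {n : Lift F} (hn : Rep (Lift.act n) E) (x : ℕ)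
    (e : cmp D E = inn x) : n.ψ ∈ imS H := by
  obtain ⟨k, a, b⟩ := h
  obtain ⟨c, v, d⟩ := mem_QM.1 (RH.mem xs_QM.z_mem ⟨_, qq_mem x, rep_qq x⟩ ((b.mul hn).of_eq e))
  refine ⟨n * (YY F c v)⁻¹, ?_, by simp [Lift.toCo0]⟩
  show Lift.act _ ∈ H
  rw [map_mul, map_inv, ← d]; simpa using a
theorem mem_of_imS {n : Lift F} (h : n.ψ ∈ imS H) : ∃ k ∈ H, Lift.act n * k⁻¹ ∈ QM F := by
  obtain ⟨m, a, b⟩ := h
  exact ⟨_, a, n * m⁻¹, by simp [show Lift.toCo0 m = Lift.toCo0 n from b], by simp⟩
end

/-- the diagonal subgroup extended by the swap -/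
def wrH {M : Type*} [Group M] (H : Subgroup M) : Subgroup (Wr M) where
  carrier := {x | x.a = x.b ∧ x.a ∈ H}
  one_mem' := ⟨rfl, H.one_mem⟩
  mul_mem' := fun ⟨a, b⟩ ⟨c, d⟩ => by simpa [mul_def, ← a, ← c] using H.mul_mem b d
  inv_mem' := fun ⟨a, b⟩ => by simpa [inv_def, ← a] using b
/-- first coordinates of the nodes commuting with `f₃` -/
noncomputable def yN (L : ℕ → Wr (Mon F)) (n : ℕ) : Mon F := (L n * L 11).a
/-- the nodes commuting with `f₃` -/
abbrev ns (n : ℕ) : Prop := n < 26 ∧ lab 11 n ≠ 3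
/-- the nodes of `Y₄₃₃` -/
def NB : List ℕ := [13, 0, 17, 4, 14, 3, 20, 8, 9, 22, 12]
/-- the involution `t` -/
noncomputable def tM (F : Type*) [Field F] [Good F] : Mon F := qq F 16797696
/-- data of `k s q s k` -/
def DU : List ℕ := [25816942, 26202114, 32194411, 31341549, 24018813, 1695920, 31567661, 22278162,
  2787346, 18173437, 26070903, 4521599, 15059218, 30963437, 15046930, 27646226,
  33228525, 15194386, 31578386, 2263314, 23451373, 12966162, 31807762, 32888557]
/-- a monomial matrix -/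
noncomputable def PMm : PM := ⟨nat_lit 0x8000000000000000000000000000000000000000000000000000000000000000000000000000000000000000000000000000000000000000000000000000000000000000000000000000000000000000000000000000000000000000000000000000000080000000000000000000000000000000000000000000000000000000000000000000000000000000000000000000000000000000000000000000000000000000000000000000000000000000000000000000000000000000800000000000000000000000000000000000000000000000000000000000000000000000000000000000000000008000000000000000000000000000000000000000000000000000000000000000000000000000000000000000000000000000000000000000000000000000000000000000000000000000000000000000000000000000000000000000800000000000000000000000000000000000000000000000000000000000000000000000000000000000000000000000000000000000000000000000000000000000000000000000000000000000000000000000000000000000000000000000000000000000000000000000000000000000000000000000000000000000000000000000800000000000000000000000000000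00000000000000000000000000000000000000000000000000000000000000000000000000000000000000000000008000000000000000000000000000000000000000000000000000000000000000000000000000000000000000000000000000000000000000000080000000000000000000000000000000000000000000000000000000000080000000000000000000000000000000000000000000000000000000000000000000000000008000000000000000000000000000000000000000000000000000000000000000000000000000000000000000000000000000800000000000000000000000000000000000000000000000000000000000000000000000000000000000000080000000000000000000000000000000000000000000000000000000000000000000000000000000000000000000800000000000000000000000000000000000000000000000000000000000000000000000000000000000000000008000000000000000000000000000000000000000000000000000000000000000000000000000000000000000000000000000000000000000000000000000000000000000000000000000000000000000000000000000000000000000000080000000000000000000000000000000000000000000000000000000000000000000000000000000000000000000000000000000000000000000000000000000000000000000000000000000000000000000000000000000000000008,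
  nat_lit 0x800000000000000000000000000000000000000000000000000000000000000000000000000000000000000000008000000000000000000000000000000000000000000000000000000000000000000000000000000000000000000000000000000000000000000000000000000000000000000080000000000000000000000000000000000000000000000000000000000000000000000000000000000000000000000000000000000000000000000000000000000000000000000000000000000000000000000000000000000000000000000000000000000080000000000000000000000000000000000000000000000000000000000000000000000000000000000000000000000000000000000000000000000000000000000000000000000000000000000000000000000000000000000000000000000000000000000000000000000000000000000000000000000000000000000000000000000000000000000000008000000000000000000000000000000000000000000000000000000000000000000000000000000000000000000000000000000000000000000000000000000000000000000000000000000000000000000000000000000000000000000000000000000000008000000000000000000000000000000000000000000000000000000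00000000000000000000000000000000000000000000000000000000000008000000000000000000000000000000000000000000000000000000000000000000000000000000000000000000000000000000000000000000000000000000000000000000000000000000000000000000000000000000000000000000000000000000000000000000000000000000000000000000000000000000000000000000000000000000000000000000000000000000000000000000000000000000000000000000000000000000000000000000000000000000000000000000000000000000000000000000000000000000000000000000000000000000000000000000000000000000000000000000000000000000000000000000000000000000000000000000000000000000000000000000000000000000000000000000000000000000000000000000000000000000000000000000000000000000000000000000000000000000000000000000000000000000000000000000000000000000000000000000000000000000000000000000000000000000000000000000000000000000000000000000000000000000000000000000000000000000000000000000000000000000000000000000000000000000000000000000000000000800000000000000000000000000000000000000000000000000000000000000000000000000000000000000000000000000000000000000000000000000000000000000000000000000000000000000000000000000000000000000000000000000000000000000000000000000000000000000000000000000000000000000000000000000000000000000000000,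
  nat_lit 0x4000400040004000400040004000400040004000400040004000400040004000400040004000400040004000400040⟩
theorem swap_conj {G : Type*} [Group G] {a b c : G} (ha : a * a = 1) (hb : b * b = 1) (hc : c * c = 1)
    (h1 : (c * a) ^ 3 = 1) (h2 : (c * b) ^ 3 = 1) (h : Commute a b) : c * a * b * c * a = b * (c * a * b * c) := by
  have e : ∀ {x : G}, x * x = 1 → (c * x) ^ 3 = 1 → ∀ y, x * (c * (x * y)) = c * (x * (c * y)) := fun hx k y => by
    have := conj_of_braid hc k hx
    rw [mul_inv_eq_iff_eq_mul] at this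
    simpa only [mul_assoc] using congrArg (· * y) this.symm
  calc _ = c * (b * (a * (c * (a * 1)))) := by rw [mul_assoc c a, h.eq]; simp only [mul_assoc, mul_one]
    _ = _ := by rw [e ha h1, ← e hb h2, mul_one, ← mul_assoc b a, ← h.eq]; simp only [mul_assoc]

namespace Chart
variable {L : ℕ → Wr (Mon F)} {x : ℕ → Mon F} (h : Chart L x)
include h
theorem odd {n : ℕ} (hn : n < 26) : (L n).s = true := by
  have k : ∀ p < 13, (L p).s = true := fun p hp => by rw [(h.nu p (by revert p; decide)).1]; rfl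
  obtain ⟨p, hp, e⟩ := (by decide : ∀ n < 26, ∃ p < 13, n = p ∨ lab n p = 3) n hn
  refine e.elim (· ▸ k p hp) fun e => ?_
  have := congrArg Wr.s (h.n26.br hn (by omega) e)
  simpa [pow_three, mul_def, one_def, k p hp] using this
theorem eq_y {n : ℕ} (hn : ns n) : L n = de (yN L n) * L 11 := by
  have c : Commute (L n) (L 11) := by
    rcases (by decide : ∀ n < 26, lab 11 n ≠ 3 → n = 11 ∨ lab n 11 = 2) n hn.1 hn.2 with rfl | e
    exacts [rfl, h.n26.comm hn.1 (by decide) e]
  rw [yN, ← Wr.eq_de (by simp [mul_def, h.odd hn.1, h.odd (by decide : 11 < 26)])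
    (h.s11 ▸ c.mul_left rfl), mul_assoc, h.n26.sq (by decide), mul_one]
theorem y_eq {n : ℕ} (hn : n ∈ CH) : yN L n = x n := by
  rw [yN, h.eq_de hn, mul_assoc, h.n26.sq (by decide), mul_one]; rfl
theorem evw_y {u : List ℕ} (hu : ∀ n ∈ u, ns n) : evw L u = de (evw (yN L) u) * L 11 ^ u.length := by
  induction u with
  | nil => simp
  | cons n u ih =>
    rw [evw_cons, evw_cons, ih fun m hm => hu m (.tail _ hm), h.eq_y (hu n (.head _)), map_mul,
      List.length_cons, pow_succ', h.s11, mul_assoc, ← mul_assoc (Wr.nu 1), ← (de_comm _).eq]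
    simp only [mul_assoc]
theorem y_pow {u : List ℕ} (hu : ∀ n ∈ u, ns n) (k : ℕ) :
    evw L u ^ k = de (evw (yN L) u ^ k) * L 11 ^ (u.length * k % 2) := by
  rw [h.evw_y hu, h.s11, ((de_comm _).pow_right _).mul_pow, map_pow, ← pow_mul,
    pow_eq_pow_mod (u.length * k) ((_root_.sq _).trans (nu_sq _))]
theorem y_cox {n m : ℕ} (hn : ns n) (hm : ns m) : (yN L n * yN L m) ^ lab n m = 1 := by
  have := h.y_pow (u := [n, m]) (by simpa using ⟨hn, hm⟩) (lab n m)
  simp only [evw_cons, evw_nil, mul_one, h.n26.cox n hn.1 m hm.1, List.length_cons, List.length_nil,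
    Nat.mul_mod_right, zero_add, Nat.reduceAdd, pow_zero] at this
  exact de_inj (this.symm.trans (map_one _).symm)
theorem y_sq {n : ℕ} (hn : ns n) : yN L n * yN L n = 1 := by simpa [lab] using h.y_cox hn hn
theorem y_comm {n m : ℕ} (e : ns n ∧ ns m ∧ lab n m = 2) : Commute (yN L n) (yN L m) := by
  have := h.y_cox e.1 e.2.1
  rw [e.2.2, _root_.sq, mul_assoc, ← h.y_sq e.1, mul_right_inj, ← eq_inv_mul_iff_mul_eq,
    inv_eq_of_mul_eq_one_right (h.y_sq e.2.1)] at this
  exact this
theorem y_e7 {u : List ℕ} {n : ℕ} (hu : (∀ n ∈ u, ns n) ∧ ns n ∧ u.length = 7) (e : L n = evw L u ^ 9) :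
    yN L n = evw (yN L) u ^ 9 := by
  rw [h.y_pow hu.1, h.eq_y hu.2.1, hu.2.2, pow_one, mul_left_inj] at e
  exact de_inj e
theorem y_sym (w : List ℕ) (e : evP w 11 = 11) :
    ∃ g, ∀ n, ns n → ns (evP w n) → g * yN L n * g⁻¹ = yN L (evP w n) := by
  obtain ⟨ω, hω⟩ := h.n26.sym w
  have c : Commute ω (L 11) := mul_inv_eq_iff_eq_mul.1 ((hω 11 (by decide)).trans (by rw [e]))
  obtain ⟨g, hg⟩ : ∃ g, ω = de g ∨ ω = de g * L 11 := by
    cases a : ω.s
    · exact ⟨_, .inl (Wr.eq_de a (h.s11 ▸ c))⟩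
    · exact ⟨_, .inr (by rw [← Wr.eq_de (x := ω * L 11) (by simp [mul_def, a, h.odd (by decide : 11 < 26)])
        (h.s11 ▸ c.mul_left rfl), mul_assoc, h.n26.sq (by decide), mul_one])⟩
  refine ⟨g, fun n hn hn' => de_inj ?_⟩
  have := hω n hn.1
  rw [h.eq_y hn, h.eq_y hn', ← mul_assoc, mul_assoc, ← c.inv_left.eq, ← mul_assoc, mul_left_inj] at this
  rw [← this, map_mul, map_mul, map_inv]
  rcases hg with rfl | rfl
  · rfl
  · rw [mul_assoc _ (L 11), h.s11, ← (de_comm _).eq]; simp [mul_assoc]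
theorem y_t : yN L 6 = tM F := by rw [h.y_eq (by decide), h.pt 6 (by decide), r_Q.2.1, tM]
theorem y_2 : yN L 2 = qq F 16789504 := by rw [h.y_eq (by decide), h.pt 2 (by decide), r_Q.1]
theorem y_z : yN L 6 * yN L 2 * yN L 12 = zM F := by
  rw [h.y_t, h.y_2, h.y_eq (by decide), h.pt 12 (by decide), r_Q.2.2, tM, qq_mul, qq_mul, ← qq_z]; rfl
theorem y_f2 : yN L 6 = evw (yN L) [13, 0, 17, 3, 20, 8, 9] ^ 9 :=
  h.y_e7 (by decide) (h.n26.e7 (by decide) h.e7c [1, 0, 1, 0, 0, 1, 0, 1, 1, 0, 1, 0])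
theorem y_f3 : evw (yN L) [13, 0, 17, 3, 9, 22, 12] ^ 9 = 1 := by
  rw [← h.y_e7 (n := 11) (u := [13, 0, 17, 3, 9, 22, 12]) (by decide)
    (h.n26.e7 (by decide) h.e7d [0, 1, 0, 1, 1, 1, 1, 0, 1, 0]), h.y_eq (by decide), h.pt _ (by decide), r_11]
theorem rep_y {n : ℕ} (hn : n ∈ CH) : Rep (yN L n) (DC.getD n idD) := h.y_eq hn ▸ h.rep n

variable {H : Subgroup (Mon F)} (hH : ∀ n ∈ NB, yN L n ∈ H)
include hH
theorem mem_f : yN L 2 ∈ H ∧ yN L 6 ∈ H ∧ zM F ∈ H := by
  have a : yN L 2 ∈ H := h.y_e7 (by decide) h.e7a ▸ H.pow_mem (H71.evw_mem fun n hn => hH n (by revert n; decide)) 9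
  have b : yN L 6 ∈ H := h.y_f2 ▸ H.pow_mem (H71.evw_mem fun n hn => hH n (by revert n; decide)) 9
  exact ⟨a, b, h.y_z ▸ H.mul_mem (H.mul_mem b a) (hH 12 (by decide))⟩
theorem mem_5 : yN L 5 ∈ H ∧ yN L 10 ∈ H := by
  have k : ∀ w n, (∀ i ∈ w, i ∈ CH ∧ i ∈ NB) ∧ n ∈ CH ∧ evW DC w = DC.getD n idD → yN L n ∈ H := fun w n e =>
    RH.mem (h.mem_f hH).2.2 (e.2.2 ▸ rh_word fun i hi => ⟨_, hH i (e.1 i hi).2, h.rep_y (e.1 i hi).1⟩) (h.rep_y e.2.1)
  exact ⟨k [17, 0, 13, 9, 3, 20, 8, 13, 3, 20, 0, 13, 3, 17, 0, 13, 9, 13, 0, 17, 3, 13, 0, 20, 3, 13, 8, 20, 3,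
    9, 13, 0, 17] 5 (by decide +kernel), k [20, 3, 13, 9, 0, 13, 3, 17, 0, 13, 9, 20, 3, 13, 0, 17, 4, 17, 0, 13,
    3, 20, 9, 13, 0, 17, 3, 13, 0, 9, 13, 3, 20] 10 (by decide +kernel)⟩
theorem mem_ch {n : ℕ} (hn : n ∈ CH) (h1 : n ≠ 1) : yN L n ∈ H := by
  obtain ⟨g, hg⟩ := h.n26.sym [1, 1, 1, 0, 1, 0, 1, 1, 1, 1]
  have k : ∀ n ∈ 11 :: NB, ns n ∧ ns (evP [1, 1, 1, 0, 1, 0, 1, 1, 1, 1] n) ∧
    evP [1, 1, 1, 0, 1, 0, 1, 1, 1, 1] n ∈ 6 :: NB := by decide +kernel
  have k1 : ∀ {n}, ns n → (L n ∈ wrH H ↔ yN L n ∈ H) := fun hn => by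
    rw [h.eq_y hn, h.s11]; simp [wrH, de_def, mul_def, Wr.nu]
  let K := (wrH H).comap (MulAut.conj g).toMonoidHom
  have k2 : ∀ n ∈ 11 :: NB, L n ∈ K := fun n hn => by
    show g * _ * g⁻¹ ∈ wrH H
    rw [hg n (k n hn).1.1, k1 (k n hn).2.1]
    exact (List.mem_cons.1 (k n hn).2.2).elim (fun e => e ▸ (h.mem_f hH).2.1) (hH _)
  have a : L 5 ∈ K := h.eq_y (n := 5) (by decide) ▸ K.mul_mem (h.mem_5 (H := K.comap de) fun n hn =>
    (K.mul_mem_cancel_right (k2 11 (.head _))).1 (h.eq_y (k n (.tail _ hn)).1 ▸ k2 n (.tail _ hn))).1 (k2 11 (.head _))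
  replace a : yN L 7 ∈ H := (k1 (by decide)).1
    ((hg 5 (by decide) : _ = L 7) ▸ (show g * _ * g⁻¹ ∈ wrH H from a))
  rcases (by decide : ∀ n ∈ CH, n ≠ 1 → n ∈ NB ∨ n = 2 ∨ n = 6 ∨ n = 5 ∨ n = 10 ∨ n = 7 ∨ n = 11) n hn h1 with
    e | rfl | rfl | rfl | rfl | rfl | rfl
  exacts [hH n e, (h.mem_f hH).1, (h.mem_f hH).2.1, (h.mem_5 hH).1, (h.mem_5 hH).2, a,
    by rw [h.y_eq (by decide), h.pt _ (by decide), r_11]; exact H.one_mem]
theorem exists_fuse : ∃ w ∈ H, w * zM F * w⁻¹ = qq F ZP ∧ w * yN L 2 * w⁻¹ = yN L 4 ∧ Commute w (tM F) := by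
  have m := fun n a b => h.mem_ch hH (n := n) a b
  have sw : ∀ a b c, ns a ∧ ns b ∧ ns c ∧ lab c a = 3 ∧ lab c b = 3 ∧ lab a b = 2 →
      evw (yN L) [c, a, b, c] * yN L a = yN L b * evw (yN L) [c, a, b, c] := fun a b c ⟨a1, a2, a3, a4, a5, a6⟩ => by
    simpa only [evw_cons, evw_nil, mul_one, mul_assoc] using swap_conj (h.y_sq a1) (h.y_sq a2) (h.y_sq a3)
      (a4 ▸ h.y_cox a3 a1) (a5 ▸ h.y_cox a3 a2) (h.y_comm ⟨a1, a2, a6⟩)
  have cm : ∀ u n, (∀ m ∈ u, ns m ∧ ns n ∧ lab m n = 2 ) → evw (yN L) u * yN L n = yN L n * evw (yN L) u :=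
    fun u n e => (H71.evw_mem (B := Subgroup.centralizer {yN L n}) (fun m hm =>
      Subgroup.mem_centralizer_singleton_iff.2 (h.y_comm (e m hm))) _ rfl).symm
  have a2 : evw (yN L) ([22, 12, 5, 22] ++ [14, 2, 4, 14]) * yN L 2 =
      yN L 4 * evw (yN L) ([22, 12, 5, 22] ++ [14, 2, 4, 14]) := by
    nth_rw 2 [evw_append]
    rw [evw_append, mul_assoc, sw 2 4 14 (by decide), ← mul_assoc, cm _ 4 (by decide), mul_assoc]
  have a12 : evw (yN L) ([22, 12, 5, 22] ++ [14, 2, 4, 14]) * yN L 12 =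
      yN L 5 * evw (yN L) ([22, 12, 5, 22] ++ [14, 2, 4, 14]) := by
    nth_rw 2 [evw_append]
    rw [evw_append, mul_assoc, cm _ 12 (by decide), ← mul_assoc, sw 12 5 22 (by decide), mul_assoc]
  have a6 := cm ([22, 12, 5, 22] ++ [14, 2, 4, 14]) 6 (by decide)
  refine ⟨evw (yN L) ([22, 12, 5, 22] ++ [14, 2, 4, 14]), H71.evw_mem fun n hn => ?_, ?_,
    mul_inv_eq_iff_eq_mul.2 a2, h.y_t ▸ a6⟩
  · exact ((by decide : ∀ n ∈ [22, 12, 5, 22] ++ [14, 2, 4, 14], n ∈ NB ∨ n ∈ CH ∧ n ≠ 1) n hn).elim (hH n)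
      fun e => m n e.1 e.2
  · rw [← h.y_z, ← conj_mul, ← conj_mul, a6, a2, a12, mul_inv_cancel_right, mul_inv_cancel_right,
      mul_inv_cancel_right, h.y_eq (by decide), h.y_eq (by decide), h.y_eq (by decide), h.pt _ (by decide),
      h.pt _ (by decide), h.pt _ (by decide), rP, rP, rP, ← map_mul, ← map_mul, qq_mul, qq_mul]
    exact cj_s_coc (x := ZP) rfl rfl
theorem mem_Q2 {y : ℕ} (h1 : bt y 0 = bt y 1) (h2 : bt y 0 = bt y 2) : qq F y ∈ H := by
  obtain ⟨a, b, hz⟩ := h.mem_f hH
  obtain ⟨w, c, d, -⟩ := h.exists_fuse hH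
  have p : ∀ y ∈ 16789504 :: 16797696 :: pathL [17, 7, 20, 3, 13, 0, 10, 20, 17, 7, 20, 8, 5, 13, 3, 13, 5, 10, 9] ZP,
      qq F y ∈ H := List.forall_mem_cons.2 ⟨h.y_2 ▸ a, List.forall_mem_cons.2 ⟨show tM F ∈ H from h.y_t ▸ b, path_mem
    (fun i hi => ⟨_, h.mem_ch hH (by revert i; decide) (by revert i; decide), h.rep_y (by revert i; decide)⟩) _
      (d ▸ H.mul_mem (H.mul_mem c hz) (H.inv_mem c))⟩⟩
  have k : ∀ t < 24, t ≠ 1 → t ≠ 2 → ∃ s ∈ [3777638, 360239, 1140594, 1969321, 3487265, 3511965, 2416639, 3855214,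
      3944206, 1126573, 1839562, 1839563, 1839560, 3635095, 3657616, 3607226, 1862450, 3648322, 3648166, 3607228,
      1878710, 3631557], ∀ i < 24, bt (appL (16789504 :: 16797696 :: pathL [17, 7, 20, 3, 13, 0, 10, 20, 17, 7, 20,
      8, 5, 13, 3, 13, 5, 10, 9] ZP) s 0) i = bt (if t = 0 then 7 else 2 ^ t) i := by decide +kernel
  have k2 : ∀ t < 24, t ≠ 1 → t ≠ 2 → qq F (if t = 0 then 7 else 2 ^ t) ∈ H := fun t a b c => by
    obtain ⟨s, -, e⟩ := k t a b c
    exact mem_congr hz e (appL_ind (P := fun y => qq F y ∈ H) (fun x y a b => qq_mul (F := F) x y ▸ H.mul_mem a b)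
      p s 0 (by simp))
  have k3 : ∀ y, bt y 0 = 0 → bt y 1 = 0 → bt y 2 = 0 → qq F y ∈ H := fun y a b c =>
    mem_of_bits hz 24 y fun k hk e => ⟨hk, by
      have := k2 k hk (by rintro rfl; simp [b] at e) (by rintro rfl; simp [c] at e)
      rwa [if_neg (by rintro rfl; simp [a] at e)] at this⟩
  rcases zmod2_cases (bt y 0) with e | e
  · exact k3 y e (h1 ▸ e) (h2 ▸ e)
  · refine mem_of_mul hz (k2 0 (by decide) (by decide) (by decide)) (k3 _ ?_ ?_ ?_) <;>
      rw [bt_mul _ _ (by decide)] <;> simp only [← h1, ← h2, e] <;> rfl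
theorem rh_U : RH H DU := by
  obtain ⟨w, c, d, e, f⟩ := h.exists_fuse hH
  have r : Rep (kM F * cs F (qq F 36866) * kM F) DU :=
    ((rep_k.mul (pr_qq (by decide +kernel)).cs).mul rep_k).of_eq (by decide +kernel)
  have k : Cj (kM F * sM F) ZC ZP := (rep_k.cj' (by decide +kernel)).comp cj_s_z
  obtain ⟨y, -, hy⟩ := exists_qq (lx_QM.norm (w⁻¹ * (kM F * sM F)) (by
    rw [mul_assoc, ← qq_z, k.comm, ← d, qq_z]; group) _ (qq_mem 36866))
  have e2 : kM F * cs F (qq F 36866) * kM F = w * qq F y * w⁻¹ := by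
    rw [← hy, cs_def, mul_inv_rev, mul_inv_rev, inv_eq_of_mul_eq_one_right k_sq]; group
  refine ⟨_, ?_, r⟩
  have r4 := h.rep_y (by decide : 4 ∈ CH)
  have c4 := (r.mul r4).eq ((r4.mul r).of_eq (by decide +kernel))
  have c6 := (r.cj' (x := 16797696) (y := 16797696) (by decide +kernel)).comm
  rw [e2] at c4 c6 ⊢
  refine H.mul_mem (H.mul_mem c (h.mem_Q2 hH (comm_bits (F := F) (.inl rfl) ?_)
    (comm_bits (F := F) (.inr rfl) ?_))) (H.inv_mem c)
  · refine (xs_QM.comm _ (qq_mem y) _ (qq_mem 16789504)).resolve_right fun a => ?_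
    rw [← e, h.y_2, conj_mul, conj_mul, a, ← conj_mul (c := zM F), d, ← qq_z, mul_right_inj, mul_eq_left,
      ← qq_zero (F := F)] at c4
    exact c4.elim (fun a => absurd (qq_inj a) (by decide)) fun a => absurd (qq_inj a) (by decide)
  · show Commute _ (tM F)
    rw [← comm_conj w, show w * tM F * w⁻¹ = tM F from mul_inv_eq_iff_eq_mul.2 f]; exact c6
theorem mem_Q1 {y : ℕ} (h2 : bt y 0 = bt y 2) : qq F y ∈ H := by
  by_cases h1 : bt y 0 = bt y 1
  · exact h.mem_Q2 hH h1 h2
  · refine mem_of_mul (h.mem_f hH).2.2 ((h.rh_U hH).app (h.mem_Q2 hH (y := 8) rfl rfl)) (h.mem_Q2 hH ?_ ?_) <;>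
      rw [show app DU 8 = 0x1de3bed by decide +kernel, bt_mul _ _ (by decide), bt_mul _ _ (by decide)]
    · revert h1; generalize bt y 0 = a, bt y 1 = b; revert a b; decide
    · rw [h2]; rfl
theorem st_le : St1 (vecOf 0x80008000800080008000800080008000800080008000800080008000800080008000800080008000800040008000c) ≤
    imS H := by
  have ok : PMm.ok = true := by decide +kernel
  obtain ⟨m, e, hm⟩ := exists_lift_PM (F := F) ok
  have hi := hm.inv (E := [22947840, 16097794, 26651393, 24614916, 13193480, 28133103, 13039039, 22244128,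
  4055295, 8728319, 12864767, 29867391, 21981953, 25697025, 8922366, 25721601,
  25737985, 25770753, 25967361, 25836289, 29899521, 28678913, 31853313, 25180929]) (by decide +kernel)
  have k := rh_slp (H := H) [[4, 7, 9, 10, 17, 8, 3, 20, 0, 5], [3, 7, 8, 20, 10, 0, 13, 4, 17],
    [21, 21, 22, 21, 22, 22, 21, 22, 21, 21, 22, 21, 21], [22, 21, 22, 21, 21, 22, 21, 22, 21, 22],
    [23, 24, 23, 23, 24, 23, 24, 23, 24, 24], [24, 24, 24, 23, 24, 23, 24, 24, 24, 23],
    [23, 23, 24, 24, 24, 24, 23, 24], [26, 26, 26, 26, 27], [25, 26, 27, 27, 26, 26, 27, 25],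
    [25, 26, 25, 25, 26, 25], [29, 27, 29, 28, 30], [29, 27, 27, 28, 30, 29, 30, 29, 29],
    [29, 27, 27, 27, 30, 27, 29, 30, 28]] (Ds := DC.set 1 DU) fun D hD => by
    rcases (by decide +kernel : ∀ D ∈ DC.set 1 DU, D = DU ∨ D = idD ∨ ∃ n ∈ CH, n ≠ 1 ∧ D = DC.getD n idD) D hD with
      rfl | rfl | ⟨n, a, b, rfl⟩
    exacts [h.rh_U hH, ⟨1, H.one_mem, rep_one⟩, ⟨_, h.mem_ch hH a b, h.rep_y a⟩]
  have k2 : ∀ {g : PM} w x, g.ok = true → cmp (evW _ w) (cmp (cmp (dPM PMm) (dPM g)) _) = inn x →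
      PMm.el * g.el * PMm.el⁻¹ ∈ imS H := fun w x a b => by
    obtain ⟨n, e', hn⟩ := exists_lift_PM (F := F) a
    have := (k w).psi (n := m * n * m⁻¹) (by rw [map_mul, map_mul, map_inv]; exact (hm.mul hn).mul hi) x b
    rwa [← e, ← e']
  exact st_le_of_gen RepCo2.gen (PM.smul_vecOf ok H77.cU_isS (by decide +kernel) (by decide +kernel))
    (k2 [31, 31, 30, 27, 29, 26, 26, 25, 26, 23, 23, 24, 23, 23, 23, 21, 22, 21, 22, 22, 22, 21, 22, 21, 1, 17,
      0, 1, 17, 3, 13, 4, 7, 1] 10544049 H77.co2a_ok (by decide +kernel))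
    (k2 [33, 28, 29, 25, 26, 23, 23, 23, 21, 22, 22, 21, 21, 21, 21, 22, 1, 20, 1, 17, 0, 1, 3, 13, 1]
      11795786 H77.co2b_ok (by decide +kernel))
theorem baby_gen {g : Mon F} (h1 : g * zM F = zM F * g) (h2 : g * tM F = tM F * g) : g ∈ H := by
  have hH' : ∀ n ∈ NB, yN L n ∈ H ⊓ CZ (tM F) := fun n hn =>
    ⟨hH n hn, mem_CZ.2 (h.y_t ▸ h.y_comm (by revert n; decide))⟩
  obtain ⟨n, rfl⟩ := jobC g h1
  have s : isS 0x80008000800080008000800080008000800080008000800080008000800080008000800080008000800040008000c = true := by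
    decide +kernel
  have c : Cod _ 16797696 := (cod_vecOf s).congr (by decide +kernel)
  have nv : H77.nm _ = 32 := nm_vecOf (by rw [s]; decide +kernel)
  obtain ⟨k, a, b⟩ : ∃ k ∈ H ⊓ CZ (tM F), Lift.act n * k⁻¹ ∈ QM F := mem_of_imS (by
    rcases eq_or_neg_of_congr (((H77.nm_smul _ _).trans nv).trans_lt (by decide)) (nv.trans_le (by decide))
      (Cj.cg (mul_inv_eq_iff_eq_mul.2 h2) c c) with e | e
    · exact h.st_le hH' e
    · exact ((imS _).mul_mem_cancel_left neg_mem_imS).1
        (h.st_le hH' (show (negC * n.ψ) • _ = _ by rw [mul_smul, e, negC_smul, neg_neg])))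
  obtain ⟨y, -, e⟩ := exists_qq b
  have := h.mem_Q1 hH (comm_bits (F := F) (y := y) (.inr rfl)
    (e ▸ Commute.mul_left h2 (Commute.inv_left (mem_CZ.1 a.2))))
  exact (H.mul_mem_cancel_right (H.inv_mem a.1)).1 (e ▸ this)
theorem mon_gen (h18 : yN L 18 ∈ H) : (∀ g, g * zM F = zM F * g → g ∈ H) ∧ sM F ∈ H ∧ tau F ∈ H := by
  obtain ⟨g, hg⟩ := h.y_sym [1, 0, 1, 0, 0, 1, 0, 1, 1, 0, 1, 0] (by decide +kernel)
  have k : ∀ n ∈ NB, ns n ∧ ns (evP [1, 0, 1, 0, 0, 1, 0, 1, 1, 0, 1, 0] n) ∧
    evP [1, 0, 1, 0, 0, 1, 0, 1, 1, 0, 1, 0] n ∈ 18 :: NB := by decide +kernel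
  have g2 : g * yN L 2 * g⁻¹ = yN L 6 := hg 2 (by decide) (by decide +kernel)
  have g6 : g * yN L 6 * g⁻¹ = yN L 2 := hg 6 (by decide) (by decide +kernel)
  have g12 : g * yN L 12 * g⁻¹ = yN L 12 := hg 12 (by decide) (by decide +kernel)
  have gz : g * zM F * g⁻¹ = zM F := by
    rw [← h.y_z, ← conj_mul, ← conj_mul, g2, g6, g12, (h.y_comm (n := 2) (m := 6) (by decide)).eq]
  have c1 : ∀ c, Commute c (zM F) → Commute c (qq F 16789504) → c ∈ H := fun c a b => by
    simpa [mul_assoc] using h.baby_gen (H := H.comap (MulAut.conj g).toMonoidHom) (g := g⁻¹ * c * g) (fun n hn => by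
      show g * _ * g⁻¹ ∈ H
      rw [hg n (k n hn).1 (k n hn).2.1]
      exact (List.mem_cons.1 (k n hn).2.2).elim (· ▸ h18) (hH _))
      ((comm_conj g).1 (by rw [gz]; simpa [mul_assoc] using a))
      ((comm_conj g).1 (by rw [← h.y_t, g6, h.y_2]; simpa [mul_assoc] using b))
  have hz := (h.mem_f hH).2.2
  have q : ∀ y, qq F y ∈ H := fun y => by
    by_cases e : bt y 0 = bt y 2
    · exact h.mem_Q1 hH e
    · refine mem_of_mul hz (c1 (qq F 4) (qq_comm_z _) (qq_comm rfl)) (h.mem_Q1 hH ?_)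
      rw [bt_mul _ _ (by decide), bt_mul _ _ (by decide)]
      revert e; generalize bt y 0 = a, bt y 2 = b; revert a b; decide
  have top : imS H = ⊤ := co0_gen (u0 := vecOf 0x80008000800080008000800080008000800080008000800080008000800080008000800080008000c000800040008)
    (u8 := vecOf 0xa000800080008000a000a000a0008000a00080006000800080008000800080008000800080008000800080006000a)
    (u16 := vecOf 0x80008000800080008000800080008000800080008000800080008000800080008000800080008000400080008000c)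
    (b := vecOf 0x80008000800080008000800080008000800080008000800080008000800080008000800080008000800080004000c)
    neg_mem_imS (h.st_le hH) (fun ψ hψ => by
      obtain ⟨n, rfl⟩ := lift_surj (F := F) ψ
      have c : Cod (vecOf 0x80008000800080008000800080008000800080008000800080008000800080008000800080008000800080004000c)
        16789504 := (cod_vecOf (by decide +kernel)).congr (by decide +kernel)
      refine ⟨n, ?_, rfl⟩
      show Lift.act n ∈ H
      rcases zmod2_cases (n.ε _) with e | e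
      · exact c1 _ (act_comm n) (cj_act c (hψ.symm ▸ c) (by rw [e, add_zero])).comm
      · exact (H.mul_mem_cancel_left (q 1)).1 (c1 _ (.mul_left (qq_comm_z _) (act_comm n))
          ((cj_qq 1 12288).comp (cj_act c (hψ.symm ▸ c.congr (by decide)) (by rw [e]; rfl))).comm))
    (nm_vecOf (by decide +kernel)) (nm_vecOf (by decide +kernel)) (dt_vecOf (by decide +kernel))
    ⟨⟨nm_vecOf (by decide +kernel), dt_vecOf (by decide +kernel)⟩, dt_vecOf (by decide +kernel)⟩
    ⟨⟨nm_vecOf (by decide +kernel), dt_vecOf (by decide +kernel)⟩, dt_vecOf (by decide +kernel)⟩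
    ⟨⟨nm_vecOf (by decide +kernel), dt_vecOf (by decide +kernel)⟩, dt_vecOf (by decide +kernel)⟩
  have C : ∀ g, g * zM F = zM F * g → g ∈ H := fun g a => by
    obtain ⟨n, rfl⟩ := jobC g a
    obtain ⟨k, b, c⟩ := mem_of_imS (H := H) (n := n) (top ▸ trivial)
    obtain ⟨y, -, e⟩ := exists_qq c
    exact (H.mul_mem_cancel_right (H.inv_mem b)).1 (e ▸ q y)
  obtain ⟨w, a, b, -⟩ := h.exists_fuse hH
  have k : Cj (kM F * sM F) ZC ZP := (rep_k.cj' (by decide +kernel)).comp cj_s_z
  have s : sM F ∈ H := (H.mul_mem_cancel_left (C _ rep_k.1)).1 ((H.mul_mem_cancel_left (H.inv_mem a)).1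
    (C _ (by rw [mul_assoc, ← qq_z, k.comm, ← b, qq_z]; group)))
  exact ⟨C, s, H.inv_mem_iff.1 ((H.mul_mem_cancel_right (q 4096)).1 s)⟩
end Chart

end H17.Gr
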