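/- The subgroup `2^10` of a group of Monster type, part 1: lattice data. -/
import Cfsg.Agent.H17.MLa
import Cfsg.Agent.H72.CoS
import Cfsg.Agent.H79.L2

set_option autoImplicit false
set_option maxRecDepth 100000
open Cfsg H72 H77 H78 H79 H50.Co

namespace H17.Ten

/-- indices of a hyperbolic basis -/
abbrev I : Type := Fin 5 ⊕ Fin 5
/-- the orthogonal space -/
abbrev V : Type := I → ZMod 2
/-- basis vectors -/
abbrev bs (i : I) : V := Pi.single i 1
/-- the index of `z` -/
abbrev i0 : I := .inl 0
/-- the dual index -/
abbrev j0 : I := .inr 0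

/-- the zero vector -/
def Z : ℕ := nat_lit 0x800080008000800080008000800080008000800080008000800080008000800080008000800080008000800080008
/-- `2` on the octad -/
def vx : ℕ := nat_lit 0xa00080008000800080008000a00080008000a00080008000800080008000800080008000a0008000a000a000a000a
/-- a hyperbolic basis of the `E₈` sublattice modulo 2 -/
def U : I → ℕ := Sum.elim ![Z,
  nat_lit 0x1000080008000800080008000800080008000800080008000800080008000800080008000800080008000800080008,
  nat_lit 0xc00080008000800080008000800080008000800080008000800080008000800080008000800080008000c000c000c,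
  nat_lit 0xc00080008000800080008000800080008000c0008000800080008000800080008000800080008000c00080008000c,
  nat_lit 0xc00080008000800080008000c0008000800080008000800080008000800080008000800080008000c0008000c0008] ![Z,
  nat_lit 0xa00080008000800080008000a00080008000a00080008000800080008000800080008000a0008000a000a000a0002,
  nat_lit 0xc00080008000800080008000c00080008000c00080008000800080008000800080008000c00080008000800080008,
  nat_lit 0xc00080008000800080008000800080008000c0008000800080008000800080008000800080008000c000c00080008,
  nat_lit 0xc00080008000800080008000800080008000800080008000800080008000800080008000c0008000c0008000c0008]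
/-- preimages under `1 + z0` -/
def M : I → ℕ := Sum.elim ![Z,
  nat_lit 0xc000800080008000800080008000800080008000800080008000800080008000800080008000c0008000800080008,
  nat_lit 0xa000a00080008000800080008000a00080008000a00080008000800080008000800080008000a0008000a000a000a,
  nat_lit 0xa0008000a0008000a00080008000a0008000a000a000800080008000800080008000800080008000a00080008000a,
  nat_lit 0xa000a00080008000a0008000a000a000800080008000800080008000800080008000a00080008000a0008000a0008] ![Z,
  nat_lit 0x900090009000900090009000900090009000900090009000900090009000900090009000900090009000900090005,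
  nat_lit 0xa0008000a000a0008000a000a00080008000a000a0008000800080008000800080008000a00080008000800080008,
  nat_lit 0xa0008000a00080008000a000800080008000a0008000a0008000800080008000a000800080008000a000a00080008,
  nat_lit 0xa00080008000a000800080008000a000a0008000a0008000800080008000800080008000a0008000a0008000a0008]
/-- further fixed classes -/
def C : Fin 8 → ℕ := ![
  nat_lit 0x80008000800080008000800080008000800080008000800080008000800080008000c0008000c0008000800080008,
  nat_lit 0x80008000800080008000800080008000800080008000800080008000c0008000800080008000c0008000800080008,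
  nat_lit 0x8000800080008000800080008000800080008000800080008000800080008000c00080008000c0008000800080008,
  nat_lit 0x800080008000800080008000800080008000800080008000800080008000c000800080008000c0008000800080008,
  nat_lit 0x80006000600080006000800080006000800080006000800080008000800080006000a0008000a0008000800080008,
  nat_lit 0x80006000800060008000800080006000600080006000800080006000a0008000800080008000a0008000800080008,
  nat_lit 0x80008000a0008000800060008000600060008000800080006000600080008000800060008000a0008000800080008,
  nat_lit 0x8000600080006000800060008000800060008000800080008000800080006000a00060008000a0008000800080008]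
/-- images of `8 e` -/
def X : Fin 3 → ℕ := ![
  nat_lit 0x400080008000800080008000800080008000800080008000800080008000800080008000800080008000c000c000c,
  nat_lit 0x40008000800080008000800080008000800080008000800080008000800080008000800080008000c000c000c0008,
  nat_lit 0xe0008000800080008000800060008000800060008000800080008000800080008000800060008000a00060006000a]
/-- a permutation fixing the octad -/
def pi0 : ℕ := nat_lit 975531072272210791615546592606717987
/-- short representatives -/
def tb8 : ℕ := nat_lit 0x3353335755355535535335353535535753335355355535373333553755553355333535555553533753353337355355555355555735333335335553355533355744644464442444642464464664644646244464666444646644446644444426444442466644464666644644442446444446444446424444464426644644666446335355355535335735353535535353575333353735555355555555373333335533355337555335553553333753355555535533353533555755335335335535574424664644646646424646464646464664444644244446444444446644444426444664444442644446644444426444442466444664664446264464466644644635553335533355575555355733335335335335555535533753533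3373535555535333537535553555533335533555537333533575553553553353535355353574266444646664446444464464444244644244666446446666464444424644444464446444244464426444466664444664446446444424464244646466446464635555557533333353333355755555335335353375535355535353337535355553533535553553537335533555533553733355535555333573553353553355357644444462444444644444664444442644464644444246444464644444246444442446466464464664426446644664466444266464446664642644646466446463533355553555337553333373355555555535557333533353553533553353557533355353555335733335357555535353353353755355355535333553535553742444666464446666644444426444444444644464442444642646446466464462444664664446646444464644444246444644644442446442464446664644466353353375355355533553337553355555553333533355557533553353553355753333357355555355555535733333535335353555535353735353355535355374644644442446444446644444426444426644446666444462446644664466446644444642444446444444646444442464424646644646466424644664646446633353537555353555335335535535537353333575355553555333535335553575535555733533335353553355353355753335337355535553333555555553337444646444442464424464466644644664644446442444464264446466644464644644446442444464246644646466446644464442444644444442666444466663335535555533537355333555335553735335535535533573355353555335357553533353353555753535335353535575333355535555337555555553333333744426466444664664264446646644466424466464644664644264646446646462646444666464446246464466464644624444666644446664444444844444444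
/-- the remaining indices -/
def IL : List I := [.inl 1, .inl 2, .inl 3, .inl 4, .inr 1, .inr 2, .inr 3, .inr 4]
/-- generators of the fixed space of `z0` -/
def BL : List ℕ := IL.map U ++ List.ofFn C ++ [Z]
/-- the short representative with number `m` -/
def rp (m : ℕ) : ℕ := [(0, 0), (4, 16), (8, 32), (12, 48), (16, 80), (20, 224), (24, 272), (28, 368)].foldr
  (fun p a => a + Nat.shiftLeft (Nat.land (Nat.shiftRight tb8 (32 * m + p.1)) 15 * 2) p.2) (codeM o1 0 8)
/-- coordinates as bits -/
def nb (l : List I) (v : V) : ℕ := l.foldr (fun i a => Nat.bit (decide (v i = 1)) a) 0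
/-- action of a coded matrix -/
abbrev apT (A : Mt) (c : ℕ) : ℕ := app A.1 A.2.1 A.2.2 c
/-- the residues modulo four are given by the mask `m` -/
def ptc (c m r : ℕ) : Bool := (List.range 24).all fun i => Nat.beq ((dk c i + r + cond (tb m i) 2 0) % 4) 0

theorem nb_add (l : List I) (u v : V) : nb l (u + v) = Nat.xor (nb l u) (nb l v) := by
  induction l with
  | nil => exact (Nat.xor_self 0).symm
  | cons i l ih =>
    unfold nb at ih ⊢
    rw [List.foldr_cons, List.foldr_cons, List.foldr_cons, ih]
    refine Eq.trans ?_ (Nat.xor_bit _ _ _ _).symm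
    congr 1
    rw [Pi.add_apply]
    generalize u i = a
    generalize v i = b
    revert a b; decide

theorem dB : ∀ c ∈ BL, shortc c = true ∧ isG (bitsM c 24) = true ∧ ptc c (bitsM c 24) 0 = true ∧
    (Nat.land (bitsM c 24) o1 = 0 ∨ Nat.land (bitsM c 24) o1 = o1) ∧ kapN (apT zT c) = kapN c ∧
    dotN c vx % 16 = 0 ∧ ∀ j, dotN c (U j) % 16 = 0 := by decide +kernel
theorem dU : ∀ i, U i ∈ BL ∧ shortc (M i) = true ∧ Nat.xor (kapN (apT zT (M i))) (kapN (M i)) = kapN (U i) ∧
    dotN (U i) (U i) % 32 = 0 ∧ xorSel ((IL.map U).map kapN) (nb IL (bs i)) = kapN (U i) ∧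
    ((∀ k < 24, dk (U i) k % 4 = 0) ∨ ∀ k < 24, (dk (U i) k + dk vx k) % 4 = 0) ∧
    ∀ j, dotN (M i) (U j) % 16 = if j = i.swap ∧ i ≠ i0 ∧ i ≠ j0 then 8 else 0 := by decide +kernel
theorem dX : shortc vx = true ∧ ptc vx o23 2 = true ∧ dotN vx vx = 1568 ∧ kapN Z = 0 ∧
    U (.inl 1) = H77.e8 23 ∧ Nat.xor (kapN vx) (kapN (U (.inl 1))) = kapN (U (.inr 1)) ∧
    dotN (U (.inr 1)) (U (.inr 1)) = 1600 ∧ (∀ k < 24, dk vx k = cond (tb o1 k) 10 8) := by decide +kernel
theorem dS : (BL ++ IL.map M).all shortc = true ∧ latGensL.map kapN = [2097294, 1, 9703854, 31332970, 26614301,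
    10361568, 14292607, 4194304, 22154305, 25825086, 38148, 25876199, 22210104, 14333319, 143, 71, 203, 35, 131072, 229,
    131329, 132097, 133121, 131585, 132997, 132644, 132004, 134767, 169, 134188, 133993, 109, 134531, 135012, 133546,
    133734, 132356].map (xorSel ((BL ++ IL.map M).map kapN)) := by decide +kernel
theorem dT : ∀ m < 256, m = 0 ∨ shortc (rp m) = true ∧ kapN (rp m) = xorSel ((IL.map U).map kapN) m ∧
    dotN (rp m) (rp m) = if pop (Nat.land (Nat.land m (Nat.shiftRight m 4)) 15) % 2 = 0 then 1600 else 1568 := by
  decide +kernel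
theorem dV : ∀ v : V, v j0 = 0 → nb IL v < 256 ∧ (nb IL v = 0 → v = 0 ∨ v = bs i0) ∧ (quadFormPlus 5 (ZMod 2) v = 0 ↔
    pop (Nat.land (Nat.land (nb IL v) (Nat.shiftRight (nb IL v) 4)) 15) % 2 = 0) := by decide +kernel
theorem dC : (∀ i, shortc (X i) = true) ∧ (∀ i, C i ∈ BL) ∧ okM pi0 0 = true ∧ pi0 < 2 ^ 120 ∧ actM pi0 o23 = o23 ∧
    apT xiT (C 0) = C 4 ∧ apT xiT (C 1) = C 5 ∧ apT xiT (U (.inl 1)) = X 0 ∧ apT xiT (X 1) = X 2 ∧
    (∀ k < 24, dk (C 6) (ap pi0 k) = dk (C 4) k) ∧ (∀ k < 24, dk (C 7) (ap pi0 k) = dk (C 5) k) ∧
    (∀ k < 24, dk (X 1) (ap pi0 k) = dk (X 0) k) ∧ (∀ i : Fin 8, i.1 < 4 → ∀ k < 24, dk (C i) k % 4 = 0) ∧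
    (∀ k < 24, dk (M (.inl 1)) k % 4 = 0) ∧ dotN (X 2) (M (.inl 1)) % 16 = 8 := by decide +kernel

theorem isL {c : ℕ} (h : shortc c = true) : isLc c = true := (short_of h).1
theorem vec_pt {c : ℕ} (h : shortc c = true) (p : GolayPt) :
    (vecOf c : GolayPt → ℤ) p = (dk c (ix p) : ℤ) - 8 := by rw [coe_vecOf (isL h), dk_eq]; rfl
theorem cg_of {v w : leechLattice} (h : kap2 (mk2 v) = kap2 (mk2 w)) : Cg v w := (mk2_eq_iff v w).1 (kap2_inj h)
theorem kap_vec {c : ℕ} (h : shortc c = true) : kap2 (mk2 (vecOf c)) = kapN c := kap2_cls h
theorem kap_z0 {c : ℕ} (h : shortc c = true) : kap2 (mk2 (z0 • vecOf c)) = kapN (apT zT c) :=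
  gT_zT ▸ kap2_gM zT_ok h
theorem gT_vec {A : Mt} (hA : chkT A = true) {a b : ℕ} (ha : shortc a = true) (hb : shortc b = true)
    (e : apT A a = b) : gT A • vecOf a = vecOf b :=
  gM_smul_eq hA (short_of ha).2 (short_of hb).2 (by rw [code_vecOf (isL ha), code_vecOf (isL hb)]; exact e)
theorem mo_vec {g a b : ℕ} (hg : okM g 0 = true) (ha : shortc a = true) (hb : shortc b = true)
    (e : ∀ k < 24, dk b (ap g k) = dk a k) : mo g 0 • vecOf a = vecOf b := by
  rw [mo_zero hg]
  refine Subtype.ext (funext fun p => ?_)
  obtain ⟨p, rfl⟩ := (toPerm g).surjective p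
  refine (permC_apply' ⟨_, (okM_spec hg).2.1⟩ _ p).trans ?_
  rw [vec_pt ha, vec_pt hb, ← e _ (ix_lt p), ← ix_pt (ap_lt (okM_spec hg).1 (ix_lt p)),
    ← toPerm_pt (okM_spec hg).1 (ix_lt p), pt_ix]
theorem dot_vec {a b : ℕ} (ha : shortc a = true) (hb : shortc b = true) :
    (16 : ℤ) ∣ dotInt (vecOf a : GolayPt → ℤ) (vecOf b : leechLattice) ↔ dotN a b % 16 = 0 := by
  rw [dotInt_vecOf (isL ha) (isL hb)]; omega
theorem inU_vec {a : ℕ} (ha : shortc a = true) (h : ∀ k < 24, dk a k % 4 = 0) : InU (vecOf a) :=
  ⟨_, fun p => by have := h _ (ix_lt p); rw [vec_pt ha]; omega, Cg.refl _⟩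
theorem shB {c : ℕ} (h : c ∈ BL) : shortc c = true := (dB c h).1
theorem shU (i : I) : shortc (U i) = true := shB (dU i).1
theorem vec_e8 : vecOf (U (.inl 1)) = H79.e8 none :=
  code_inj (short_of (shU _)).2 (short_eight none) (by
    rw [code_vecOf (isL (shU _)), dX.2.2.2.2.1]; exact (code_eight (i := 23) (by decide)).symm)

/-- the residues of `v` modulo four are given by the set `d` -/
def Pt (v : leechLattice) (d : Finset GolayPt) : Prop :=
  ∃ r : ℤ, 2 ∣ r ∧ ∀ i, (4 : ℤ) ∣ (v : GolayPt → ℤ) i + r + if i ∈ d then 2 else 0
theorem pt_vec {c m r : ℕ} (h : shortc c = true) (hr : 2 ∣ r) (e : ptc c m r = true) : Pt (vecOf c) (ofMask m) :=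
  ⟨r, by omega, fun p => by
    have := Nat.eq_of_beq_eq_true (List.all_eq_true.1 e _ (List.mem_range.2 (ix_lt p)))
    rw [vec_pt h, tb_eq] at *
    simp only [mem_ofMask]
    cases e : m.testBit (ix p) <;> simp [e] at this ⊢ <;> omega⟩
theorem sgn_vx {m : ℕ} (hm : isG m = true) (h : Nat.land m o1 = 0 ∨ Nat.land m o1 = o1) :
    Cg (sgnC _ (ofMask_mem_cSets hm) • vecOf vx) (vecOf vx) := by
  have k : ∀ p, (vecOf vx : GolayPt → ℤ) p = if o1.testBit (ix p) then 2 else 0 := fun p => by
    rw [vec_pt dX.1, dX.2.2.2.2.2.2.2 _ (ix_lt p), tb_eq]; cases o1.testBit (ix p) <;> rfl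
  have t : ∀ p, (Nat.land m o1).testBit (ix p) = (m.testBit (ix p) && o1.testBit (ix p)) := fun p => Nat.testBit_and ..
  rcases h with h | h
  · rw [show _ • vecOf vx = vecOf vx from Subtype.ext (funext fun p => by
      have := t p
      rw [h] at this
      rw [sgnC_apply, k]
      cases a : m.testBit (ix p) <;> cases b : o1.testBit (ix p) <;> simp_all)]
    exact Cg.refl _
  · rw [show _ • vecOf vx = -vecOf vx from Subtype.ext (funext fun p => by
      have := t p
      rw [h] at this
      rw [sgnC_apply, AddSubgroup.coe_neg, Pi.neg_apply, k]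
      cases a : m.testBit (ix p) <;> cases b : o1.testBit (ix p) <;> simp_all)]
    exact Cg.neg _

theorem cg_dd {c : Finset GolayPt} (hc : c ∈ GC) {i j : GolayPt} (e : i ≠ j) :
    Cg (sgnC c hc • dd i j) (dd i j) ↔ (i ∈ c ↔ j ∈ c) := by
  refine ⟨fun h => ?_, fun h => ?_⟩
  · have a1 := sgnC_apply c hc (dd i j) i
    have a2 := sgnC_apply c hc (dd i j) j
    rcases eq_or_neg_of_congr (by rw [co0_sqNorm, sqNorm_p4 e]; decide) (by rw [sqNorm_p4 e]; decide) h with a | a <;>
      rw [a] at a1 a2 <;>
      simp only [AddSubgroup.coe_neg, Pi.neg_apply, dd_apply, e, e.symm, if_true, if_false] at a1 a2 <;>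
      split_ifs at a1 a2 <;> first | omega | tauto
  · by_cases a : i ∈ c
    · rw [show _ • dd i j = -dd i j from Subtype.ext (funext fun p => by
        rw [sgnC_apply, AddSubgroup.coe_neg, Pi.neg_apply, dd_apply]; split_ifs <;> simp_all)]
      exact Cg.neg _
    · rw [show _ • dd i j = dd i j from Subtype.ext (funext fun p => by
        rw [sgnC_apply, dd_apply]; split_ifs <;> simp_all)]
      exact Cg.refl _
theorem pr1_sgn {c d : Finset GolayPt} (hc : c ∈ GC) (hd : d ∈ GC) (h : ∀ i, (i ∈ c ↔ none ∈ c) ↔ (i ∈ d ↔ none ∈ d)) :
    pr1 (sgnC c hc) = pr1 (sgnC d hd) := by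
  refine (pr1_eq_iff _ _).2 ((em (none ∈ c ↔ none ∈ d)).imp (fun a => co0_ext_e8 fun i => ?_) fun a => co0_ext_e8 fun i => ?_)
  · have := h i
    rw [sgnC_e8, sgnC_e8]; split_ifs <;> tauto
  · have := h i
    rw [mul_smul, negC_smul, sgnC_e8, sgnC_e8]; split_ifs <;> first | tauto | simp

theorem sel_mem' (A : AddSubgroup L2) : ∀ l : List L2, (∀ b ∈ l, b ∈ A) → ∀ m, sel l m ∈ A
  | [], _, _ => A.zero_mem
  | b :: l, h, m => A.add_mem (by
      cases tb m 0
      exacts [A.zero_mem, h b List.mem_cons_self]) (sel_mem' A l (fun c hc => h c (List.mem_cons_of_mem _ hc)) _)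
theorem span_top (A : AddSubgroup L2) (h : ∀ c ∈ BL ++ IL.map M, cls c ∈ A) (v : leechLattice) : mk2 v ∈ A := by
  obtain ⟨_, hv⟩ := leech_le_of_gens
    { carrier := {w | ∃ hw : w ∈ leechLattice, mk2 ⟨w, hw⟩ ∈ A}
      zero_mem' := ⟨zero_mem _, A.zero_mem⟩
      add_mem' := fun ⟨ha, a⟩ ⟨hb, b⟩ => ⟨add_mem ha hb, A.add_mem a b⟩
      neg_mem' := fun ⟨ha, a⟩ => ⟨neg_mem ha, A.neg_mem a⟩ } (fun g hg => by
      rw [← latGensL_eq] at hg
      obtain ⟨e, -, a⟩ := List.mem_map.1 (dS.2 ▸ List.mem_map_of_mem hg)
      have hs := latGensL_short g hg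
      refine ⟨mem_of_isLc (isL hs), ?_⟩
      rw [show (⟨dec g, _⟩ : leechLattice) = vecOf g from Subtype.ext (coe_vecOf (isL hs)).symm,
        kap2_inj ((kap_vec hs).trans (a.symm.trans (by rw [kap2_sel, map_kap2_cls dS.1])) :
          _ = kap2 (sel ((BL ++ IL.map M).map cls) e))]
      exact sel_mem' A _ (List.forall_mem_map.2 h) e) v.2
  exact hv

end H17.Ten
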