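import Cfsg.Agent.H20.LD4Mon
import Cfsg.Agent.S1169
import Cfsg.Agent.H88.SE

/-! LD4 tower, slot RF2: there is a monomial reflection which is not diagonal. -/

set_option autoImplicit false

namespace H17.RF2

open Cfsg Cfsg.Geo Matrix H20.LD

universe u v

variable {k : Type u} [Field k] {X : Type u} [Group X] {Γ : Type v} [Group Γ] {p : ℕ}
  {ρ : X →* G4 k} {π : X →* Γ}

/-- the diagonal elements -/
def Dg (ρ : X →* G4 k) : Subgroup X where
  carrier := {x | Mon (ρ x) 1}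
  mul_mem' a b := by simpa using Mon.map_mul a b
  one_mem' := by change Mon (ρ 1) 1; rw [map_one]; exact mon_one
  inv_mem' a := by simpa using Mon.map_inv a

theorem dg_ex {x : X} (hx : x ∈ Dg ρ) : ∃ d, (ρ x).val = diagonal d := ⟨_, Mon.eq_diagonal hx⟩

theorem dg_of {x : X} {σ : Equiv.Perm (Fin 4)} (hx : Mon (ρ x) σ) (e : σ = 1) : x ∈ Dg ρ := by
  subst e; exact hx

theorem dg_comm (h : R4 p ρ π) {x y : X} (hx : x ∈ Dg ρ) (hy : y ∈ Dg ρ) : Commute x y := by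
  obtain ⟨d, hd⟩ := dg_ex hx
  obtain ⟨e, he⟩ := dg_ex hy
  exact h.ext (by rw [val_mul', val_mul', hd, he]; exact (commute_diagonal _ _).eq)

theorem dg_conj {x w : X} {σ : Equiv.Perm (Fin 4)} (hx : x ∈ Dg ρ) (hw : Mon (ρ w) σ) :
    w * x * w⁻¹ ∈ Dg ρ := by
  have := (hw.map_mul hx).map_mul hw.map_inv
  rwa [mul_one, mul_inv_cancel] at this

theorem comm_of_sq {a b : Γ} (ha : a * a = 1) (hb : b * b = 1) (e : a * b * (a * b) = 1) :
    Commute a b := by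
  change a * b = b * a
  rw [← inv_eq_of_mul_eq_one_right e, _root_.mul_inv_rev, inv_eq_of_mul_eq_one_right ha,
    inv_eq_of_mul_eq_one_right hb]

/-- lifts of involutions of trace zero, and scalars -/
def I4 (π : X →* Γ) (x : X) : Prop := π x * π x = 1 ∧ x ^ 4 = 1

theorem sq_conj {x : X} (hx : π x * π x = 1) (g : X) : π (g * x * g⁻¹) * π (g * x * g⁻¹) = 1 := by
  rw [← map_mul, conj_mul, map_mul, map_mul, map_mul, hx, mul_one, ← map_mul, mul_inv_cancel, map_one]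

theorem I4.conj {x : X} (hx : I4 π x) (g : X) : I4 π (g * x * g⁻¹) :=
  ⟨sq_conj hx.1 g, by rw [conj_pow, hx.2, mul_one, mul_inv_cancel]⟩

theorem sq_mul {x y : X} (hx : π x * π x = 1) (hy : π y * π y = 1) (c : Commute (π x) (π y)) :
    π (x * y) * π (x * y) = 1 := by
  rw [map_mul, c.symm.mul_mul_mul_comm, hx, hy, mul_one]

theorem I4.mul {x y : X} (hx : I4 π x) (hy : I4 π y) (c : Commute x y) : I4 π (x * y) :=
  ⟨sq_mul hx.1 hy.1 (c.map π), by rw [c.mul_pow, hx.2, hy.2, mul_one]⟩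

theorem I4.congr (h : R4 p ρ π) {x y : X} (hx : I4 π x) (e : π x = π y) : I4 π y := by
  obtain ⟨z, hz, rfl⟩ := R4.exists_ker e
  exact ⟨e ▸ hx.1, by rw [(h.comm_of_ker hz x).mul_pow, h.pow_four hz, hx.2, mul_one]⟩

/-- the diagonal four-group -/
def V0 (h : R4 p ρ π) : Subgroup X where
  carrier := {x | x ∈ Dg ρ ∧ I4 π x}
  mul_mem' a b := ⟨mul_mem a.1 b.1, a.2.mul b.2 (dg_comm h a.1 b.1)⟩
  one_mem' := ⟨one_mem _, by simp, by simp⟩
  inv_mem' a := ⟨inv_mem a.1, by rw [map_inv, ← _root_.mul_inv_rev, a.2.1, inv_one], by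
    rw [inv_pow, a.2.2, inv_one]⟩

theorem V0_congr (h : R4 p ρ π) {x y : X} (hx : x ∈ V0 h) (e : π x = π y) : y ∈ V0 h :=
  ⟨h.mon_congr e hx.1, hx.2.congr h e⟩

theorem fpf_cases : ∀ σ : Equiv.Perm (Fin 4), σ * σ = 1 → (∀ i, σ i ≠ i) →
    σ = Equiv.swap 0 1 * Equiv.swap 2 3 ∨ σ = Equiv.swap 0 2 * Equiv.swap 1 3 ∨
      σ = Equiv.swap 0 3 * Equiv.swap 1 2 := by decide +kernel

theorem fpf_eq {σ τ : Equiv.Perm (Fin 4)} (h1 : σ * σ = 1) (h2 : ∀ i, σ i ≠ i) (h3 : τ * τ = 1)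
    (h4 : ∀ i, τ i ≠ i) (e : σ 0 = τ 0) : σ = τ := by
  rcases fpf_cases σ h1 h2 with rfl | rfl | rfl <;> rcases fpf_cases τ h3 h4 with rfl | rfl | rfl <;>
    first | rfl | exact absurd e (by decide)

theorem perm_sq (h : R4 p ρ π) {u : X} {σ : Equiv.Perm (Fin 4)} (hu : Mon (ρ u) σ)
    (e : π u * π u = 1) : σ * σ = 1 :=
  (hu.map_mul hu).unique (h.mon_ker (by rw [map_mul, e]))

/-- an involution with a fixed point free permutation centralises the four-group -/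
theorem comm_V0 (h : R4 p ρ π) {u t : X} {σ : Equiv.Perm (Fin 4)} (hu : Mon (ρ u) σ)
    (e : π u * π u = 1) (hσ : ∀ i, σ i ≠ i) (ht : t ∈ V0 h) : Commute (π t) (π u) := by
  obtain ⟨d, hd⟩ := dg_ex ht.1
  obtain ⟨-, hs⟩ := h.exists_sign hd ht.2.1
  have h2 : ∀ i, d i ^ 2 = d 0 ^ 2 := fun i => by rcases hs i with a | a <;> rw [a]; ring
  have h4 : d 0 ^ 4 = 1 := by
    have : (ρ (t ^ 4)).val 0 0 = 1 := by rw [ht.2.2]; simp
    rwa [val_pow', hd, diagonal_pow, diagonal_apply_eq] at this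
  have h5 := h.det t
  rw [hd, det_diagonal, Fin.prod_univ_four] at h5
  have h6 : π (u⁻¹ * t * u * t) = 1 := (h.ker _).2 ⟨d (σ 0) * d 0, by
    have := hu.inv.conj_diagonal d
    rw [inv_inv, inv_inv] at this
    rw [val_mul', val_mul', val_mul', hd, map_inv, this, diagonal_mul_diagonal, smul_one_eq_diagonal]
    congr 1
    funext i
    have a1 := h2 1
    have a2 := h2 2
    have a3 := h2 3
    rcases fpf_cases σ (perm_sq h hu e) hσ with rfl | rfl | rfl <;> fin_cases i <;>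
      simp [Equiv.swap_apply_def] <;> grind⟩
  rw [map_mul, map_mul, map_mul, map_inv, mul_eq_one_iff_eq_inv,
    inv_eq_of_mul_eq_one_right ht.2.1] at h6
  calc π t * π u = π u * ((π u)⁻¹ * π t * π u) := by group
    _ = _ := by rw [h6]

theorem sign_aux (h2 : (2 : k) ≠ 0) {f : Fin 4 → k} (h0 : f 0 ≠ 0) (hs : ∀ i, f i = f 0 ∨ f i = -f 0)
    (ht : ∑ i, f i = 0) {i : Fin 4} (hi : i ≠ 0) (e : f i = f 0) (j : Fin 4) :
    f j = if j = 0 ∨ j = i then f 0 else -f 0 := by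
  split_ifs with hj
  · rcases hj with rfl | rfl
    exacts [rfl, e]
  refine (hs j).resolve_left fun a => ?_
  rw [Fin.sum_univ_four] at ht
  have h4 : (2 : k) * f 0 ≠ 0 := mul_ne_zero h2 h0
  have h5 : (2 : k) * (2 * f 0) ≠ 0 := mul_ne_zero h2 h4
  have a1 := hs 1
  have a2 := hs 2
  have a3 := hs 3
  fin_cases i <;> fin_cases j <;> simp at hi hj e a <;> grind

theorem rf_sq (i : Fin 4) : rf k i * rf k i = 1 := by
  rw [rf, diagonal_mul_diagonal, ← diagonal_one]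
  congr 1
  funext j
  split_ifs <;> simp

theorem det_rf (i : Fin 4) : (rf k i).det = -1 := by
  rw [rf, det_diagonal, Finset.prod_ite_eq']; simp

section refl

variable (h : R4 p ρ π) {r : X} {c : k} {i : Fin 4} (hr : (ρ r).val = c • rf k i)
include h hr

omit h in
theorem rf_dg : r ∈ Dg ρ := mon_of_diagonal (by rw [hr, rf, ← diagonal_smul])

theorem rf_inv : π r * π r = 1 := by
  rw [← map_mul, h.ker]
  exact ⟨c * c, by rw [val_mul', hr, Matrix.smul_mul, Matrix.mul_smul, rf_sq, smul_smul]⟩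

theorem rf_c : c ^ 4 = -1 := by
  have := h.det r
  rw [hr, det_smul, det_rf, Fintype.card_fin] at this
  linear_combination -this

theorem rf_pow : (ρ (r ^ 4)).val 0 0 = -1 := by
  rw [val_pow', hr, smul_pow, rf_c h hr, show rf k i ^ 4 = (rf k i * rf k i) ^ 2 by
    rw [← sq, ← pow_mul], rf_sq]
  simp

theorem rf_four (hp : p ≠ 2) : r ^ 4 ≠ 1 := fun e => by
  have := rf_pow h hr
  rw [e] at this
  exact h.two_ne hp (by simp at this; linear_combination this)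

end refl

section main

variable [IsAlgClosed k] (h : R4 p ρ π) (hp : p ≠ 2) (nd : ¬ NDR ρ π)
include h hp

theorem tr_ne {x : X} (e : π x * π x = 1) (h4 : x ^ 4 ≠ 1) : tr ρ x ≠ 0 := fun a =>
  h4 ((h.tr_eq_zero_iff hp (fun b => h4 (h.pow_four b)) e).1 a)

include nd

theorem nd1 {x : X} {σ : Equiv.Perm (Fin 4)} (hx : Mon (ρ x) σ) (e : π x * π x = 1)
    (h4 : x ^ 4 ≠ 1) : σ = 1 :=
  by_contra fun a => nd ⟨x, σ, a, hx, e, tr_ne h hp e h4⟩

/-- a monomial involution of trace zero centralising a diagonal reflection is diagonal -/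
theorem nd2 {u r : X} {σ : Equiv.Perm (Fin 4)} (hu : Mon (ρ u) σ) (e : I4 π u) (hr : r ∈ Dg ρ)
    (r2 : π r * π r = 1) (r4 : r ^ 4 ≠ 1) (c : Commute (π r) (π u)) : σ = 1 := by
  have c' := h.commute_of_tr_ne hp c r2 (tr_ne h hp r2 r4)
  simpa using nd1 h hp nd (hu.map_mul hr) (sq_mul e.1 r2 c.symm)
    (by rwa [c'.symm.mul_pow, e.2, one_mul])

/-- Lemma R -/
theorem lemR {r : X} {c : k} (hr : (ρ r).val = c • rf k 0) {u t g : X} {σ : Equiv.Perm (Fin 4)}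
    (hu : Mon (ρ u) σ) (hσ : ∀ i, σ i ≠ i) (ht : t ∈ Dg ρ) (t1 : π t ≠ 1)
    (hu' : g * u * g⁻¹ ∈ V0 h) (ht' : g * t * g⁻¹ ∈ V0 h) : False := by
  have h2 := h.two_ne hp
  have ne : ∀ y ∈ Dg ρ, π y ≠ π u := fun y hy e =>
    hσ 0 (by rw [hu.unique (h.mon_congr e hy)]; rfl)
  have cj : ∀ x y, π (g * x * g⁻¹) = π (g * y * g⁻¹) → π x = π y := fun x y e => by simpa using e
  obtain ⟨a, ha⟩ := dg_ex hu'.1
  obtain ⟨b, hb⟩ := dg_ex ht'.1
  obtain ⟨τ, hτ⟩ := dg_ex ht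
  obtain ⟨a0, as⟩ := h.exists_sign ha hu'.2.1
  obtain ⟨b0, bs⟩ := h.exists_sign hb ht'.2.1
  have ta := (h.tr_eq_zero_iff hp (fun e => ne 1 (one_mem _) (cj _ _ (by simpa using e.symm)))
    hu'.2.1).2 hu'.2.2
  have tb := (h.tr_eq_zero_iff hp (fun e => t1 (by simpa using e)) ht'.2.1).2 ht'.2.2
  rw [tr, ha, trace_diagonal] at ta
  rw [tr, hb, trace_diagonal] at tb
  have key : (2 * a 0 * b 0) • rf k 0 = (2 * a 0 * b 0) • (1 : M4 k) -
      (a 0 • 1 + diagonal a) * (b 0 • 1 + diagonal b) := by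
    simp only [rf, smul_one_eq_diagonal, diagonal_add, diagonal_mul_diagonal, diagonal_sub,
      ← diagonal_smul]
    congr 1
    funext i
    by_cases hi : i = 0
    · simp [hi]; ring
    rcases as i with e1 | e1
    · rcases bs i with e2 | e2
      · refine (ne t ht (cj _ _ (h.eq_of_smul (c := b 0 / a 0) ?_))).elim
        rw [ha, hb, ← diagonal_smul]
        congr 1
        funext j
        rw [Pi.smul_apply, sign_aux h2 a0 as ta hi e1 j, sign_aux h2 b0 bs tb hi e2 j]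
        split_ifs <;> simp [a0]
      · simp [hi, e2]
    · simp [hi, e1]
  have ent : ∀ i j, 2 * a 0 * b 0 * (ρ (g⁻¹ * r * g)).val i j =
      c * (2 * a 0 * b 0 * (1 : M4 k) i j - (a 0 * (1 : M4 k) i j + (ρ u).val i j) * (b 0 + τ j)) := by
    have e1 : ∀ x, (ρ g)⁻¹.val * (ρ (g * x * g⁻¹)).val * (ρ g).val = (ρ x).val := fun x => by
      rw [← map_inv, ← val_mul', ← val_mul']; congr 2; group
    have e2 : (2 * a 0 * b 0) • (ρ (g⁻¹ * r * g)).val = c • ((2 * a 0 * b 0) • (1 : M4 k) -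
        (a 0 • 1 + (ρ u).val) * (b 0 • 1 + (ρ t).val)) := by
      rw [val_mul', val_mul', hr, map_inv, Matrix.mul_smul, Matrix.smul_mul, smul_comm,
        ← Matrix.smul_mul (2 * a 0 * b 0), ← Matrix.mul_smul _ (2 * a 0 * b 0), key, ← ha, ← hb,
        ← e1 u, ← e1 t]
      congr 1
      generalize (ρ (g * u * g⁻¹)).val = U
      generalize (ρ (g * t * g⁻¹)).val = T
      have e3 : ∀ M : M4 k, (ρ g).val * ((ρ g)⁻¹.val * M) = M := fun M => by
        rw [← mul_assoc, val_mul_inv, one_mul]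
      simp only [mul_sub, sub_mul, mul_add, add_mul, Matrix.mul_smul, Matrix.smul_mul, mul_one,
        one_mul, val_inv_mul, mul_assoc, e3]
    intro i j
    have := congrFun (congrFun e2 i) j
    rw [hτ, smul_one_eq_diagonal (b 0), diagonal_add] at this
    simpa only [Matrix.smul_apply, Matrix.sub_apply, mul_diagonal, Matrix.add_apply, smul_eq_mul]
      using this
  have ts : ∀ j, τ j = b 0 ∨ τ j = -b 0 := fun j => by
    have e1 : π (t * t) = 1 := by simpa using cj (t * t) 1 (by simpa using ht'.2.1)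
    have e2 : g * t * g⁻¹ * (g * t * g⁻¹) = t * t := by
      rw [conj_mul, ← (h.comm_of_ker e1 g).eq, mul_inv_cancel_right]
    have e3 := congrArg (fun x => (ρ x).val j j) e2
    simp only [val_mul' (g * t * g⁻¹), val_mul' t, hb, hτ, diagonal_mul_diagonal,
      diagonal_apply_eq] at e3
    refine mul_self_eq_mul_self_iff.1 (e3.symm.trans ?_)
    rcases bs j with e | e <;> simp [e]
  have n0 : 2 * a 0 * b 0 ≠ 0 := mul_ne_zero (mul_ne_zero h2 a0) b0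
  have c0 : c ≠ 0 := fun e => by simpa [e] using rf_c h hr
  obtain ⟨s, hs⟩ := exists_mon_of_col (g := ρ (g⁻¹ * r * g)) fun i i' j e e' => by
    have := fun i (e : (ρ (g⁻¹ * r * g)).val i j ≠ 0) => ent i j ▸ mul_ne_zero n0 e
    rcases ts j with e1 | e1
    · have k1 : ∀ i, (ρ (g⁻¹ * r * g)).val i j ≠ 0 → i = σ j := fun i e =>
        hu.eq_of_ne fun e2 => this i e (by rw [e1, e2]; ring)
      rw [k1 i e, k1 i' e']
    · have k1 : ∀ i, (ρ (g⁻¹ * r * g)).val i j ≠ 0 → i = j := fun i e =>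
        by_contra fun e2 => this i e (by rw [e1, one_apply_ne e2]; ring)
      rw [k1 i e, k1 i' e']
  have s1 := nd1 h hp nd hs (by simpa using sq_conj (rf_inv h hr) g⁻¹) fun e => rf_four h hr hp (by
    have := conj_pow (a := g⁻¹) (b := r) (i := 4)
    rw [inv_inv, e] at this
    exact conj_eq_one_iff.1 (by rw [inv_inv]; exact this.symm))
  refine t1 ((h.ker t).2 ⟨-b 0, ?_⟩)
  rw [hτ, smul_one_eq_diagonal]
  congr 1
  funext j
  refine (ts j).resolve_left fun e => ?_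
  have := ent (σ j) j
  rw [hs _ _ (by rw [s1]; exact hσ j), one_apply_ne (hσ j), e] at this
  exact mul_ne_zero c0 (mul_ne_zero (hu.ne j) (mul_ne_zero h2 b0)) (by linear_combination this)

end main

section fr

variable (h : R4 p ρ π) {r : Fin 4 → X} {c : Fin 4 → k} (hr : ∀ i, (ρ (r i)).val = c i • rf k i)
include hr

theorem sgn (H : Subgroup X) (rH : ∀ i, r i ∈ H) (e : Fin 4 → k) (he : ∀ i, e i = 1 ∨ e i = -1) :
    ∃ x ∈ H, ∃ a : k, (ρ x).val = a • diagonal e := by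
  have : ∀ i, ∃ x ∈ H, ∃ a : k, (ρ x).val = a • diagonal fun j => if j = i then e i else 1 :=
    fun i => by
    rcases he i with a | a
    · exact ⟨1, one_mem _, 1, by simp [a]⟩
    · exact ⟨r i, rH i, c i, by rw [hr, a]; rfl⟩
  choose x xH a ha using this
  refine ⟨x 0 * x 1 * x 2 * x 3, mul_mem (mul_mem (mul_mem (xH 0) (xH 1)) (xH 2)) (xH 3),
    a 3 * (a 2 * (a 1 * a 0)), ?_⟩
  simp only [val_mul', ha, Matrix.smul_mul, Matrix.mul_smul, smul_smul, diagonal_mul_diagonal]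
  congr 2
  funext j
  fin_cases j <;> simp

include h

theorem gen (H : Subgroup X) (zH : ∀ z, π z = 1 → z ∈ H) (rH : ∀ i, r i ∈ H) {x : X}
    (hx : x ∈ Dg ρ) (e : π x * π x = 1) : x ∈ H := by
  obtain ⟨d, hd⟩ := dg_ex hx
  obtain ⟨d0, ds⟩ := h.exists_sign hd e
  obtain ⟨y, yH, a, ha⟩ := sgn hr H rH (fun i => (d 0)⁻¹ * d i) fun i => by
    rcases ds i with b | b <;> simp [b, d0]
  obtain ⟨z, hz, rfl⟩ := R4.exists_ker (h.eq_of_smul (g := x) (g' := y) (c := a * (d 0)⁻¹) (by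
    rw [ha, hd, mul_smul, ← diagonal_smul (d 0)⁻¹]; rfl))
  exact mul_mem (zH z hz) yH

omit hr in
theorem mul_mem_V0 {a b : X} (ha : a ∈ Dg ρ) (hb : b ∈ Dg ρ) (a2 : π a * π a = 1)
    (b2 : π b * π b = 1) (a4 : a ^ 4 ≠ 1) (b4 : b ^ 4 ≠ 1) : a * b ∈ V0 h := by
  have key : ∀ x, π x * π x = 1 → π (x ^ 4) = 1 ∧ x ^ 4 * x ^ 4 = 1 := fun x e =>
    ⟨by rw [map_pow, show 4 = 2 * 2 from rfl, pow_mul, sq (π x), e, one_pow],
      by rw [← pow_add, h.pow_eight e]⟩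
  have c := dg_comm h ha hb
  exact ⟨mul_mem ha hb, sq_mul a2 b2 (c.map π), by
    rw [c.mul_pow, h.eq_of_sq (key a a2).1 (key a a2).2 a4 (key b b2).1 (key b b2).2 b4, (key b b2).2]⟩

variable (hp : p ≠ 2)
include hp

theorem t_mem (i j : Fin 4) : r i * r j ∈ V0 h :=
  mul_mem_V0 h (rf_dg (hr i)) (rf_dg (hr j)) (rf_inv h (hr i)) (rf_inv h (hr j))
    (rf_four h (hr i) hp) (rf_four h (hr j) hp)

theorem t_ne {i j : Fin 4} (hij : i ≠ j) : π (r i * r j) ≠ 1 := fun e => by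
  obtain ⟨a, ha⟩ := (h.ker _).1 e
  obtain ⟨l, hi, hj⟩ := (by decide : ∀ i j : Fin 4, ∃ l, l ≠ i ∧ l ≠ j) i j
  rw [val_mul', hr, hr, Matrix.smul_mul, Matrix.mul_smul, rf, rf, diagonal_mul_diagonal] at ha
  have h1 := congrFun (congrFun ha i) i
  have h2 := congrFun (congrFun ha l) l
  simp [hij, hi, hj] at h1 h2
  have c0 : ∀ i, c i ≠ 0 := fun i e => by simpa [e] using rf_c h (hr i)
  exact mul_ne_zero (h.two_ne hp) (mul_ne_zero (c0 i) (c0 j)) (by linear_combination h2 - h1)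

theorem t_three : π (r 1 * r 0) ≠ 1 ∧ π (r 0 * r 2) ≠ 1 ∧ π (r 1 * r 0 * (r 0 * r 2)) ≠ 1 :=
  ⟨t_ne h hr hp (by decide), t_ne h hr hp (by decide), fun e => t_ne h hr hp (i := 1) (j := 2)
    (by decide) (by
      rw [← e, map_mul, map_mul, map_mul, map_mul, mul_assoc, ← mul_assoc (π (r 0)),
        rf_inv h (hr 0), one_mul])⟩

variable [IsAlgClosed k] (nd : ¬ NDR ρ π)
include nd

theorem fpf {u : X} {σ : Equiv.Perm (Fin 4)} (hu : Mon (ρ u) σ) (e : I4 π u) (hn : u ∉ Dg ρ)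
    (i : Fin 4) : σ i ≠ i := fun a => by
  have : u * r i * u⁻¹ = r i := h.ext (by
    rw [val_mul', val_mul', hr, map_inv, Matrix.mul_smul, Matrix.smul_mul, rf, hu.conj_diagonal]
    simp [Equiv.symm_apply_eq, a])
  have c' : Commute (r i) u := (mul_inv_eq_iff_eq_mul.1 this).symm
  exact hn (dg_of hu (nd2 h hp nd hu e (rf_dg (hr i)) (rf_inv h (hr i)) (rf_four h (hr i) hp)
    (c'.map π)))

variable [Finite X] {S : Sylow 2 Γ} (ms : ∀ x, π x ∈ (S : Subgroup Γ) → ∃ σ, Mon (ρ x) σ)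
  (rS : ∀ i, π (r i) ∈ (S : Subgroup Γ))
include ms rS

/-- extremal conjugation -/
theorem extr {t : X} (ht : t ∈ V0 h) (g : X) : ∃ y : X, y * (g * t * g⁻¹) * y⁻¹ ∈ V0 h ∧
    ∀ x, π x ∈ (S : Subgroup Γ) → Commute (π x) (π (g * t * g⁻¹)) →
      π (y * x * y⁻¹) ∈ (S : Subgroup Γ) := by
  have := h.finite
  have A2 : (Dg ρ ⊓ (S : Subgroup Γ).comap π).map π ≤ S :=
    Subgroup.map_le_iff_le_comap.2 inf_le_right
  obtain ⟨a, ha, Q, hA, hB⟩ := H8.exists_conj_le_sylow (K := Subgroup.centralizer {π t})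
    (B := ((S : Subgroup Γ) ⊓ Subgroup.centralizer {π (g * t * g⁻¹)}).map
      (MulAut.conj (π g)⁻¹).toMonoidHom)
    (S.isPGroup'.to_le A2) ((S.isPGroup'.to_le inf_le_left).map _)
    (by
      rintro _ ⟨x, hx, rfl⟩
      exact Subgroup.mem_centralizer_singleton_iff.2 ((dg_comm h hx.1 ht.1).map π))
    ((H8.map_conj_le_iff _ _ _).2 fun x hx => Subgroup.mem_centralizer_singleton_iff.2 (by
      have := Subgroup.mem_centralizer_singleton_iff.1 hx.2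
      rw [map_mul, map_mul, map_inv] at this
      calc _ = (π g)⁻¹ * (x * (π g * π t * (π g)⁻¹)) * π g := by group
        _ = _ := by rw [this]; group))
  obtain ⟨b, hb⟩ := MulAction.exists_smul_eq Γ Q S
  obtain ⟨a, rfl⟩ := h.surj a
  obtain ⟨b, rfl⟩ := h.surj b
  have QS : ∀ x, π x ∈ Q → π (b * x * b⁻¹) ∈ (S : Subgroup Γ) := fun x hx => by
    change _ ∈ S
    rw [← hb, H8.mem_smul_sylow_iff]
    simpa [mul_assoc] using hx
  refine ⟨b * a * g⁻¹, ?_, fun x hx cx => ?_⟩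
  · refine V0_congr h (x := b * t * b⁻¹) ⟨?_, ht.2.conj b⟩ ?_
    · refine gen h hr ((Dg ρ).comap (MulAut.conj b).toMonoidHom)
        (fun z hz => h.mon_ker (by simp [hz])) (fun i => ?_) ht.1 ht.2.1
      obtain ⟨σ, hσ⟩ := ms _ (QS _ (hA ⟨r i, ⟨rf_dg (hr i), rS i⟩, rfl⟩))
      exact dg_of hσ (nd1 h hp nd hσ (sq_conj (rf_inv h (hr i)) b)
        (by rw [conj_pow]; simpa using rf_four h (hr i) hp))
    · have := Subgroup.mem_centralizer_singleton_iff.1 ha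
      simp only [map_mul, map_inv]
      calc _ = π b * (π t * π a) * (π b * π a)⁻¹ := by group
        _ = _ := by rw [← this]; group
  · have := QS (a * (g⁻¹ * x * g) * a⁻¹) (hB ⟨_, ⟨π x, ⟨hx,
      Subgroup.mem_centralizer_singleton_iff.2 cx⟩, rfl⟩, by simp⟩)
    convert this using 2
    group

omit nd ms in
/-- the four-group is not strongly closed -/
theorem not_sc (tra : ∃ x σ, π x ∈ (S : Subgroup Γ) ∧ Mon (ρ x) σ ∧ σ 0 = 1) :
    ∃ t ∈ V0 h, ∃ g, π (g * t * g⁻¹) ∈ (S : Subgroup Γ) ∧ g * t * g⁻¹ ∉ Dg ρ := by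
  have := h.finite
  have := h.simple
  by_contra hn
  push Not at hn
  have r2 := rf_inv h (hr 0)
  have rt := tr_ne h hp r2 (rf_four h (hr 0) hp)
  have tm := t_mem h hr hp 0 1
  have tn := t_ne h hr hp (i := 0) (j := 1) (by decide)
  rcases Cfsg.Agent.S1169.result S ((V0 h).map π)
    (fun e => tn (Subgroup.mem_bot.1 (e ▸ Subgroup.mem_map_of_mem π tm)))
    ⟨⟨by rintro ⟨_, x, hx, rfl⟩ ⟨_, y, hy, rfl⟩; exact Subtype.ext ((dg_comm h hx.1 hy.1).map π)⟩⟩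
    ⟨by
      rintro _ ⟨x, hx, rfl⟩
      exact gen h hr ((S : Subgroup Γ).comap π) (fun z hz => by simp [hz]) rS hx.1 hx.2.1, by
      rintro _ ⟨x, hx, rfl⟩ g hg
      obtain ⟨g, rfl⟩ := h.surj g
      exact ⟨g * x * g⁻¹, ⟨hn x hx g (by simpa using hg), hx.2.conj g⟩, by simp⟩⟩ with hc | ⟨H, hH⟩
  · obtain ⟨x, σ, xS, hx, e⟩ := tra
    have c1 := h.commute_of_tr_ne hp
      (congrArg Subtype.val (hc.1.1 ⟨_, rS 0⟩ ⟨_, xS⟩) : Commute (π (r 0)) (π x)) r2 rt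
    have c2 : (ρ (x * r 0 * x⁻¹)).val 1 1 = (ρ (r 0)).val 1 1 := by
      rw [← c1.eq, mul_inv_cancel_right]
    rw [val_mul', val_mul', hr, map_inv, Matrix.mul_smul, Matrix.smul_mul, rf,
      hx.conj_diagonal] at c2
    have c0 : c 0 ≠ 0 := fun e => by simpa [e] using rf_c h (hr 0)
    simp [Equiv.symm_apply_eq, e] at c2
    exact mul_ne_zero (h.two_ne hp) c0 (by linear_combination -c2)
  · exact rt (h.tr_eq_zero_of_isConj (H88.se_isConj hH
      (orderOf_eq_prime (by rw [sq, tm.2.1]) tn) (orderOf_eq_prime (by rw [sq, r2])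
        fun e => rf_four h (hr 0) hp (h.pow_four e))) ((h.tr_eq_zero_iff hp tn tm.2.1).2 tm.2.2))

/-- a conjugate of the four-group inside `S` without diagonal elements -/
theorem exV1 (tra : ∃ x σ, π x ∈ (S : Subgroup Γ) ∧ Mon (ρ x) σ ∧ σ 0 = 1) :
    ∃ y : X, ∀ t ∈ V0 h, π (y * t * y⁻¹) ∈ (S : Subgroup Γ) ∧
      (π t ≠ 1 → ∃ σ, Mon (ρ (y * t * y⁻¹)) σ ∧ ∀ i, σ i ≠ i) := by
  obtain ⟨t, ht, g, uS, hu⟩ := not_sc h hr hp rS tra
  obtain ⟨y, hy, hc⟩ := extr h hr hp nd ms rS ht g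
  obtain ⟨σ, hσ⟩ := ms _ uS
  have f := fpf h hr hp nd hσ (ht.2.conj g) hu
  refine ⟨y, fun s hs => ?_⟩
  have sS := hc s (gen h hr ((S : Subgroup Γ).comap π) (fun z hz => by simp [hz]) rS hs.1 hs.2.1)
    (comm_V0 h hσ (ht.2.conj g).1 f hs)
  obtain ⟨τ, hτ⟩ := ms _ sS
  exact ⟨sS, fun s1 => ⟨τ, hτ, fpf h hr hp nd hτ (hs.2.conj y) fun e =>
    lemR h hp nd (hr 0) hσ f hs.1 s1 hy ⟨e, hs.2.conj y⟩⟩⟩

variable {y : X} (hy : ∀ t ∈ V0 h, π (y * t * y⁻¹) ∈ (S : Subgroup Γ) ∧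
  (π t ≠ 1 → ∃ σ, Mon (ρ (y * t * y⁻¹)) σ ∧ ∀ i, σ i ≠ i))
include hy

theorem no_z {d : X} (hd : d ∈ Dg ρ) (dS : π d ∈ (S : Subgroup Γ)) (ht : d * d ∈ V0 h) :
    π (d * d) = 1 := by
  by_contra t1
  have cm : ∀ s ∈ V0 h, π s ≠ 1 → Commute (π (d * d)) (π (y * s * y⁻¹)) := fun s hs s1 => by
    obtain ⟨σ, hσ, f⟩ := (hy s hs).2 s1
    exact comm_V0 h hσ (hs.2.conj y).1 f ht
  obtain ⟨s, hs, s1, cs⟩ : ∃ s ∈ V0 h, π s ≠ 1 ∧ Commute (d * d) (y * s * y⁻¹) := by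
    obtain ⟨n1, n2, n3⟩ := t_three h hr hp
    have m1 := t_mem h hr hp 1 0
    have m2 := t_mem h hr hp 0 2
    rcases h.pm (cm _ m1 n1) ht.2.1 with a | a
    · exact ⟨_, m1, n1, a⟩
    rcases h.pm (cm _ m2 n2) ht.2.1 with b | b
    · exact ⟨_, m2, n2, b⟩
    refine ⟨_, mul_mem m1 m2, n3, h.ext ?_⟩
    rw [← conj_mul, val_mul' (d * d), val_mul' _ (d * d), val_mul' (y * _ * y⁻¹), ← mul_assoc, a,
      neg_mul, mul_assoc (ρ _).val, b, mul_neg, neg_neg, mul_assoc (ρ _).val]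
  obtain ⟨sS, σ, hσ, f⟩ := (hy s hs).imp_right (· s1)
  obtain ⟨a, ha⟩ := dg_ex hd
  have ht2 : (ρ (d * d)).val = diagonal fun i => a i * a i := by
    rw [val_mul', ha, diagonal_mul_diagonal]
  obtain ⟨a0, as⟩ := h.exists_sign ht2 ht.2.1
  obtain ⟨m, hm⟩ : ∃ m, a m * a m ≠ a 0 * a 0 := by
    by_contra hn
    push Not at hn
    exact t1 ((h.ker _).2 ⟨a 0 * a 0, by rw [ht2, smul_one_eq_diagonal]; simp only [hn]⟩)
  have an : ∀ i, a i ≠ 0 := fun i => by simpa [ha] using Mon.ne hd i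
  classical
  obtain ⟨z, hz⟩ : ∃ z : Fin 4 → k, ∀ i, z i = if a i * a i = a 0 * a 0 then a 0 else a m :=
    ⟨_, fun _ => rfl⟩
  have z2 : ∀ i, z i * z i = a i * a i := fun i => by
    rw [hz]
    split_ifs with e
    · exact e.symm
    · exact ((as m).resolve_left hm).trans ((as i).resolve_left e).symm
  obtain ⟨x, xS, b, hb⟩ := sgn hr ((S : Subgroup Γ).comap π) rS (fun i => (a i)⁻¹ * z i) fun i => by
    rcases mul_self_eq_mul_self_iff.1 (z2 i) with e | e <;> simp [e, an]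
  have hZ : (ρ (d * x)).val = b • diagonal z := by
    rw [val_mul', ha, hb, Matrix.mul_smul, diagonal_mul_diagonal]
    simp [an]
  have b0 : b ≠ 0 := fun e => val_det_ne_zero (ρ (d * x)) (by rw [hZ, e]; simp)
  have inv : ∀ i, a (σ⁻¹ i) * a (σ⁻¹ i) = a i * a i := fun i => by
    have : (ρ (y * s * y⁻¹ * (d * d) * (y * s * y⁻¹)⁻¹)).val i i = (ρ (d * d)).val i i := by
      rw [← cs.eq, mul_inv_cancel_right]
    rwa [val_mul', val_mul' _ (d * d), ht2, map_inv, hσ.conj_diagonal, diagonal_apply_eq,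
      diagonal_apply_eq] at this
  have cz : y * s * y⁻¹ * (d * x) * (y * s * y⁻¹)⁻¹ = d * x := h.ext (by
    rw [val_mul', val_mul' _ (d * x), hZ, map_inv, Matrix.mul_smul, Matrix.smul_mul,
      hσ.conj_diagonal]
    congr 2
    funext i
    rw [hz, hz, inv])
  obtain ⟨g, hg, hc⟩ := extr h hr hp nd ms rS hs y
  obtain ⟨τ, hτ⟩ := ms _ (hc (d * x) (by rw [map_mul]; exact mul_mem dS xS)
    (Commute.map (mul_inv_eq_iff_eq_mul.1 cz).symm π))
  have q : (ρ (d * x)).val * (ρ (d * x)).val =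
      (b * (a 0 + a m)) • (ρ (d * x)).val + (-(b * b * (a 0 * a m))) • 1 := by
    rw [hZ, ← diagonal_smul, diagonal_mul_diagonal, ← diagonal_smul, smul_one_eq_diagonal,
      diagonal_add]
    congr 1
    funext i
    simp only [Pi.smul_apply, smul_eq_mul, hz]
    split_ifs <;> ring
  have t2 : g * (d * x) * g⁻¹ ∈ Dg ρ := dg_of hτ (hτ.eq_one_of_quad (b := -(b * b * (a 0 * a m)))
    (mul_ne_zero b0 fun e : a 0 + a m = 0 => hm (by linear_combination (a m - a 0) * e)) (by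
      rw [← val_mul', conj_mul, val_mul' _ g⁻¹, val_mul' g, val_mul' _ g⁻¹, val_mul' g,
        val_mul' (d * x), q, map_inv]
      simp only [mul_add, add_mul, Matrix.mul_smul, Matrix.smul_mul, mul_one, val_mul_inv]))
  refine lemR h hp nd (hr 0) hσ f ht.1 t1 hg ⟨h.mon_congr ?_ (mul_mem t2 t2), ht.2.conj g⟩
  have : π (d * x * (d * x)) = π (d * d) := h.eq_of_smul (c := b * b) (by
    rw [val_mul', hZ, ht2, Matrix.smul_mul, Matrix.mul_smul, smul_smul, diagonal_mul_diagonal]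
    simp only [z2])
  rw [conj_mul, map_mul, map_mul, this, ← map_mul, ← map_mul]

/-- diagonal elements of `S` have scalar square -/
theorem tse {d : X} (hd : d ∈ Dg ρ) (dS : π d ∈ (S : Subgroup Γ)) : π d * π d = 1 := by
  obtain ⟨n, hn⟩ := S.isPGroup' ⟨π d, dS⟩
  replace hn : π d ^ 2 ^ n = 1 := congrArg Subtype.val hn
  induction n generalizing d with
  | zero => simp at hn; simp [hn]
  | succ n ih =>
    have d2 := ih (mul_mem hd hd) (by rw [map_mul]; exact mul_mem dS dS)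
      (by rw [map_mul, ← sq, ← pow_mul, ← pow_succ', hn])
    rw [← map_mul]
    by_cases d4 : (d * d) ^ 4 = 1
    · exact no_z h hr hp nd ms rS hy hd dS ⟨mul_mem hd hd, d2, d4⟩
    have m1 := t_mem h hr hp 1 0
    obtain ⟨sS, σ, hσ, f⟩ := (hy _ m1).imp_right (· (t_three h hr hp).1)
    have w4 := m1.2.conj y
    generalize y * (r 1 * r 0) * y⁻¹ = w at sS hσ w4
    have e : d * (w * d * w⁻¹) * (d * (w * d * w⁻¹)) = d * d * (w * (d * d) * w⁻¹) := by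
      rw [(dg_comm h (dg_conj hd hσ) hd).mul_mul_mul_comm, conj_mul]
    have := no_z h hr hp nd ms rS hy (mul_mem hd (dg_conj hd hσ))
      (by simp only [map_mul, map_inv]; exact mul_mem dS (mul_mem (mul_mem sS dS) (inv_mem sS)))
      (e ▸ mul_mem_V0 h (mul_mem hd hd) (dg_conj (mul_mem hd hd) hσ) d2 (sq_conj d2 w) d4
        (by rw [conj_pow]; simpa using d4))
    rw [e, map_mul, ← d2, mul_left_cancel_iff, map_mul, map_mul, map_inv, mul_inv_eq_iff_eq_mul] at this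
    exact absurd (by rw [nd2 h hp nd hσ w4 (mul_mem hd hd) d2 d4 this.symm]; rfl) (f 0)

omit [IsAlgClosed k] nd [Finite X] ms rS in
theorem v1_tra (j : Fin 4) : ∃ s ∈ V0 h, ∃ σ, Mon (ρ (y * s * y⁻¹)) σ ∧ σ 0 = j := by
  obtain ⟨n1, n2, n3⟩ := t_three h hr hp
  have m1 := t_mem h hr hp 1 0
  have m2 := t_mem h hr hp 0 2
  obtain ⟨σ, hσ, f⟩ := (hy _ m1).2 n1
  obtain ⟨τ, hτ, g⟩ := (hy _ m2).2 n2
  obtain ⟨υ, hυ, l⟩ := (hy _ (mul_mem m1 m2)).2 n3
  obtain rfl : υ = σ * τ := hυ.unique (by rw [← conj_mul]; exact hσ.map_mul hτ)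
  have s2 := perm_sq h hσ (m1.2.conj y).1
  have a1 : σ 0 ≠ τ 0 := fun e => l 0 (by rw [Equiv.Perm.mul_apply, ← e, ← Equiv.Perm.mul_apply, s2]; rfl)
  have a2 : σ 0 ≠ (σ * τ) 0 := fun e => g 0 (σ.injective e).symm
  have a3 : τ 0 ≠ (σ * τ) 0 := fun e => f _ e.symm
  have : (0 : Fin 4) = j ∨ σ 0 = j ∨ τ 0 = j ∨ (σ * τ) 0 = j := by
    have := f 0
    have := g 0
    have := l 0
    omega
  rcases this with e | e | e | e
  exacts [⟨1, one_mem _, 1, h.mon_ker (by simp), e⟩, ⟨_, m1, _, hσ, e⟩, ⟨_, m2, _, hτ, e⟩,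
    ⟨_, mul_mem m1 m2, _, hυ, e⟩]

/-- the involutions of trace zero in `S` -/
theorem inv_dec {a : X} (aS : π a ∈ (S : Subgroup Γ)) (a4 : I4 π a) :
    ∃ s ∈ V0 h, (y * s * y⁻¹)⁻¹ * a ∈ V0 h := by
  by_cases ha : a ∈ Dg ρ
  · exact ⟨1, one_mem _, by simpa using ⟨ha, a4⟩⟩
  obtain ⟨σ, hσ⟩ := ms a aS
  have f := fpf h hr hp nd hσ a4 ha
  obtain ⟨s, hs, τ, hτ, e⟩ := v1_tra h hr hp hy (σ 0)
  obtain ⟨sS, τ', hτ', g⟩ := (hy s hs).imp_right (· fun s1 => f 0 (by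
    rw [← e, hτ.unique (h.mon_ker (by simp [s1]))]; rfl))
  obtain rfl := hτ.unique hτ'
  have w4 := (inv_mem hs).2.conj y
  obtain rfl := fpf_eq (perm_sq h hτ (hs.2.conj y).1) g (perm_sq h hσ a4.1) f e
  refine ⟨s, hs, ?_⟩
  rw [← conj_inv] at w4
  generalize y * s * y⁻¹ = w at *
  have ed : w⁻¹ * a ∈ Dg ρ := dg_of (hτ.map_inv.map_mul hσ) (inv_mul_cancel _)
  have e2 := tse h hr hp nd ms rS hy ed (by rw [map_mul, map_inv]; exact mul_mem (inv_mem sS) aS)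
  refine ⟨ed, e2, by_contra fun e4 => f 0 ?_⟩
  rw [nd2 h hp nd hσ a4 ed e2 e4 ?_]
  · rfl
  · exact comm_of_sq e2 a4.1 (by rw [map_mul, mul_assoc (π w⁻¹), a4.1, mul_one, w4.1])

theorem fin_false : False := by
  have mul : ∀ {x x' : X} {τ : Equiv.Perm (Fin 4)}, Mon (ρ x') τ → τ 0 = 0 →
      (ρ (x * x')).val 0 0 ^ 4 = (ρ x).val 0 0 ^ 4 * (ρ x').val 0 0 ^ 4 := fun hx e => by
    rw [val_mul', hx.mul_apply, e, mul_pow]
  have dg4 : ∀ {x : X}, x ∈ Dg ρ → (ρ x).val 0 0 ^ 4 = (ρ (x ^ 4)).val 0 0 := fun hx => by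
    obtain ⟨d, hd⟩ := dg_ex hx
    rw [val_pow', hd, diagonal_pow, diagonal_apply_eq, diagonal_apply_eq, Pi.pow_apply]
  have ex : ∀ x, π x ∈ (S : Subgroup Γ) → ∃ s ∈ V0 h, ∃ τ,
      Mon (ρ ((y * s * y⁻¹)⁻¹ * x)) τ ∧ τ 0 = 0 := fun x hx => by
    obtain ⟨σ, hσ⟩ := ms x hx
    obtain ⟨s, hs, τ, hτ, e⟩ := v1_tra h hr hp hy (σ 0)
    exact ⟨s, hs, _, hτ.map_inv.map_mul hσ, by simp [← e]⟩
  have : ∀ x : (S : Subgroup Γ).comap π, ∃ a : k, ∀ s ∈ V0 h, ∀ τ,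
      Mon (ρ ((y * s * y⁻¹)⁻¹ * x)) τ → τ 0 = 0 → a = (ρ ((y * s * y⁻¹)⁻¹ * x)).val 0 0 ^ 4 := fun x => by
    obtain ⟨s₀, h₀, τ₀, m₀, e₀⟩ := ex x x.2
    refine ⟨(ρ ((y * s₀ * y⁻¹)⁻¹ * x)).val 0 0 ^ 4, fun s hs τ m e => ?_⟩
    have s1 : π (s⁻¹ * s₀) = 1 := by_contra fun s1 => by
      obtain ⟨σ, hσ, f⟩ := (hy _ (mul_mem (inv_mem hs) h₀)).2 s1
      refine f 0 ?_
      rw [hσ.unique (by convert m.map_mul m₀.map_inv using 2; group), Equiv.Perm.mul_apply,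
        Equiv.Perm.inv_eq_iff_eq.2 e₀.symm, e]
    obtain ⟨a, a4, ha⟩ := h.exists_smul (g := (y * s * y⁻¹)⁻¹ * x) (g' := (y * s₀ * y⁻¹)⁻¹ * x) (by
      rw [map_mul, map_inv, inv_mul_eq_one] at s1
      simp only [map_mul, map_inv, s1])
    rw [ha, Matrix.smul_apply, smul_eq_mul, mul_pow, a4, one_mul]
  choose d hd using this
  have dd : ∀ x : (S : Subgroup Γ).comap π, (x : X) ∈ Dg ρ → d x = (ρ (x ^ 4 : X)).val 0 0 :=
    fun x hx => by
    rw [hd x 1 (one_mem _) 1 (show _ ∈ Dg ρ by simpa using hx) rfl, ← dg4 hx]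
    simp
  let D : (S : Subgroup Γ).comap π →* k :=
    { toFun := d
      map_one' := by rw [dd 1 (one_mem _)]; simp
      map_mul' := fun x x' => by
        obtain ⟨s, hs, τ, m, e⟩ := ex x x.2
        obtain ⟨s', hs', τ', m', e'⟩ := ex x' x'.2
        have xS : π ((y * s * y⁻¹)⁻¹ * x) ∈ (S : Subgroup Γ) := by
          rw [map_mul, map_inv]; exact mul_mem (inv_mem (hy s hs).1) x.2
        obtain ⟨u, hu, ev⟩ := inv_dec h hr hp nd ms rS hy
          (a := (y * s * y⁻¹)⁻¹ * x * (y * s' * y⁻¹) * ((y * s * y⁻¹)⁻¹ * x)⁻¹)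
          (by rw [map_mul, map_mul, map_inv _ (_ * _)]
              exact mul_mem (mul_mem xS (hy s' hs').1) (inv_mem xS)) ((hs'.2.conj y).conj _)
        have e1 : (y * (s * u) * y⁻¹)⁻¹ * ((x * x' : (S : Subgroup Γ).comap π) : X) =
            (y * u * y⁻¹)⁻¹ * ((y * s * y⁻¹)⁻¹ * x * (y * s' * y⁻¹) * ((y * s * y⁻¹)⁻¹ * x)⁻¹) *
              ((y * s * y⁻¹)⁻¹ * x) * ((y * s' * y⁻¹)⁻¹ * x') := by
          rw [Subgroup.coe_mul]; group
        rw [hd _ _ (mul_mem hs hu) _ (e1 ▸ (Mon.map_mul ev.1 m).map_mul m') (by simp [e, e']), e1,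
          mul m' e', mul m e, dg4 ev.1, ev.2.2, hd x s hs τ m e, hd x' s' hs' τ' m' e']
        simp }
  have r2 := rf_inv h (hr 0)
  have r4 : π (r 0 ^ 4) = 1 := by
    rw [map_pow, show π (r 0) ^ 4 = (π (r 0) * π (r 0)) ^ 2 by rw [← sq, ← pow_mul], r2, one_pow]
  have key := h.tr_lemma S D.toHomUnits (x := r 0) (rS 0) fun g j hg => by
    have h1 : g * r 0 ^ j * g⁻¹ ∈ Dg ρ := by
      obtain ⟨σ, hσ⟩ := ms _ hg
      have j2 : π (r 0 ^ j) * π (r 0 ^ j) = 1 := by rw [map_pow, ← (Commute.refl _).mul_pow, r2, one_pow]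
      obtain ⟨m, rfl | rfl⟩ := Nat.even_or_odd' j
      · exact h.mon_ker (by simp [pow_mul, sq, r2])
      · refine dg_of hσ (nd1 h hp nd hσ (sq_conj j2 g) ?_)
        rw [conj_pow, Ne, conj_eq_one_iff, ← pow_mul, show (2 * m + 1) * 4 = 8 * m + 4 by ring,
          pow_add, pow_mul, h.pow_eight r2, one_pow, one_mul]
        exact rf_four h (hr 0) hp
    rw [← map_pow]
    ext
    refine (dd _ h1).trans ((congrArg (fun x => (ρ x).val 0 0) ?_).trans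
      (dd _ (pow_mem (rf_dg (hr 0)) j)).symm)
    change (g * r 0 ^ j * g⁻¹) ^ 4 = (r 0 ^ j) ^ 4
    rw [conj_pow, pow_right_comm, ← ((h.comm_of_ker r4 g).pow_left j).eq, mul_inv_cancel_right]
  have := (dd _ (rf_dg (hr 0))).symm.trans (congrArg Units.val key)
  rw [rf_pow h (hr 0)] at this
  exact h.two_ne hp (by simp at this; linear_combination -this)

end fr

theorem jobRF2 : JobRF2.{u, v} := by
  intro p k _ _ X _ _ Γ _ ρ π h hp S hF
  by_contra nd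
  have ms : ∀ x, π x ∈ (S : Subgroup Γ) → ∃ σ, Mon (ρ x) σ := fun x hx =>
    (hF.ms x hx).imp fun _ a => a.2
  choose r rS c hr using hF.rf
  obtain ⟨y, hy⟩ := exV1 h hr hp nd ms rS (hF.tra 1)
  exact fin_false h hr hp nd ms rS hy

end H17.RF2
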