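/- A8S (S3152): `C(Z)` and `Q` in `SL₄(2)`. -/
import Cfsg.Agent.H63.A8Def
import Cfsg.Agent.H3.SaFC2
import Cfsg.Agent.H64.SGCov

set_option autoImplicit false
set_option linter.unusedSectionVars false

namespace H17.A8FQ

open H64.SG (O2 Cs Ns)
open H67.SA H63.A8 Matrix Subgroup

theorem cm_mem {G : Type*} [Group G] {A : Subgroup G} {a b c : G} (ha : a ∈ A) (hb : b * c ∈ A)
    (h3 : (b * c) ^ 3 = 1) (h : a * c = c * a) : cm a b ∈ O2 A := by
  have o : Odd (orderOf (b * c)) := Odd.of_dvd_nat (by decide) (orderOf_dvd_of_pow_eq_one h3)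
  have m := H64.SG.mem_O2_of_odd hb o
  have := mul_mem ((mem_normalizer_iff.1 (H64.SG.Ns_le_Ns_O2 A (le_normalizer ha)) _).1 m)
    (inv_mem m)
  rwa [show a * (b * c) * a⁻¹ * (b * c)⁻¹ = a * b * (c * a⁻¹ * c⁻¹) * b⁻¹ by group,
    show c * a⁻¹ * c⁻¹ = a⁻¹ by
      rw [mul_inv_eq_iff_eq_mul, eq_inv_mul_iff_mul_eq, ← mul_assoc, h, mul_inv_cancel_right]] at this

variable {F : Type} [Field F] [Finite F] [CharP F 2]

theorem cube {n : ℕ} {i j : Fin (n + 1)} (h : i ≠ j) : (x i j (1 : F) * x j i 1) ^ 3 = 1 := by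
  have e := pm_mul (F := F) (Equiv.swap i j) (Equiv.swap j i)
  rw [pm_swap h, pm_swap h.symm, Equiv.swap_comm j i, Equiv.swap_mul_self, pm_one] at e
  rw [e]
  simp only [pow_succ, pow_zero, one_mul, mul_assoc]

theorem cen (hp : Par8 3 F) : center (SLn 3 F) = ⊥ := by
  refine eq_bot_iff.2 fun g hg => ?_
  obtain ⟨r, h1, h2⟩ := Matrix.SpecialLinearGroup.mem_center_iff.1 hg
  rcases hp.fld r with rfl | rfl
  · simp at h1
  · exact Subtype.ext (by rw [← h2]; simp)

theorem cz0 (hp : Par8 3 F) : Cs (ZZ 3 F) = P00 3 F := by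
  refine le_antisymm (fun g hg => ?_) P00_le_Cs
  have h0 : (0 : Fin 4) ≠ la 3 := by decide
  have e : ∀ a b, (x 0 (la 3) (1 : F) * g).1 a b = (g * x 0 (la 3) (1 : F)).1 a b := fun a b => by
    rw [mem_centralizer_iff.1 hg _ (x_mem_ZZ 1)]
  simp only [val_mul, x_coe h0, mul_add, add_mul, mul_one, one_mul, Matrix.add_apply,
    add_right_inj] at e
  have k : ∀ a, a ≠ 0 → g.1 a 0 = 0 := fun a ha => by
    have := e a (la 3)
    rwa [single_mul_apply_of_ne _ _ _ _ _ ha, mul_single_apply_same, mul_one, eq_comm] at this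
  refine H3.SA.cpr (c := 1) (by omega) one_ne_zero ⟨mem_Pr.2 fun a => ?_,
    H64.SG.mem_Cz.2 (mem_centralizer_iff.1 hg _ (x_mem_ZZ 1))⟩
  split_ifs with ha
  · subst ha
    refine (hp.fld _).resolve_left fun z => one_ne_zero (α := F) ?_
    rw [← g.2]
    exact det_eq_zero_of_column_eq_zero 0 fun a => by
      by_cases ha : a = 0
      · rw [ha, z]
      · exact k a ha
  · exact k a ha

theorem oq (hp : Par8 3 F) : QQ 3 F ≤ O2 (Cs (ZZ 3 F)) := by
  have m : ∀ i j : Fin 4, j ≠ 0 → i ≠ la 3 → x i j (1 : F) ∈ Cs (ZZ 3 F) := fun i j a b =>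
    P00_le_Cs (x_mem_Pat (S := fun a b => b ≠ 0 ∧ a ≠ la 3) ⟨a, b⟩ 1)
  have r12 := mul_mem (m 1 2 (by decide) (by decide)) (m 2 1 (by decide) (by decide))
  have r21 := mul_mem (m 2 1 (by decide) (by decide)) (m 1 2 (by decide) (by decide))
  have a2 := cm_mem (m 0 1 (by decide) (by decide)) r12 (cube (by decide))
    (x_comm (by decide) (by decide) 1 1)
  have a1 := cm_mem (m 0 2 (by decide) (by decide)) r21 (cube (by decide))
    (x_comm (by decide) (by decide) 1 1)
  have b1 := inv_mem (cm_mem (m 2 3 (by decide) (by decide)) r12 (cube (by decide))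
    (x_comm (by decide) (by decide) 1 1))
  have b2 := inv_mem (cm_mem (m 1 3 (by decide) (by decide)) r21 (cube (by decide))
    (x_comm (by decide) (by decide) 1 1))
  rw [← H3.SA.cm_swap] at b1 b2
  rw [x_cm (by decide) (by decide) (by decide), mul_one] at a1 a2 b1 b2
  have z := mul_mem (mul_mem (mul_mem a1 b1) (inv_mem a1)) (inv_mem b1)
  rw [← cm, x_cm (by decide) (by decide) (by decide), mul_one] at z
  rw [QQ_eq]
  refine Pat_le.2 fun i j h s c => ?_
  rcases hp.fld c with rfl | rfl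
  · rw [x_zero]; exact one_mem _
  · fin_cases i <;> fin_cases j <;> first | assumption | exact absurd rfl h | exact absurd s (by decide)

theorem ma (A B : Matrix (Fin (3 + 1)) (Fin (3 + 1)) F) (i j : Fin (3 + 1)) :
    (A * B) i j = A i 0 * B 0 j + A i 1 * B 1 j + A i 2 * B 2 j + A i 3 * B 3 j :=
  Fin.sum_univ_four fun k => A i k * B k j

theorem qU (hp : Par8 3 F) {P : Subgroup (SLn 3 F)} (hP : P ≤ UU 3 F) (hc : 32 ≤ Nat.card P)
    (h : ∀ a ∈ P, ∀ b ∈ P, cm a b ∈ ZZ 3 F) : P = QQ 3 F := by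
  have cQ : Nat.card (QQ 3 F) = 32 := by rw [card_QQ (by omega), hp.two]; rfl
  refine eq_of_le_of_card_ge (fun g hg => ?_) (cQ.trans_le hc)
  obtain ⟨g1, g2⟩ := mem_UU.1 (hP hg)
  by_cases g12 : g.1 1 2 = 0
  · refine mem_QQ.2 ⟨g1, fun a b h1 h2 h3 => ?_⟩
    fin_cases a <;> fin_cases b <;>
      first | exact g2 _ _ (by decide) | exact g12 | exact absurd rfl h1 | exact absurd rfl h2 | exact absurd rfl h3
  have hS : Uni fun a b : Fin 4 => a.val + 2 ≤ b.val :=
    uni_of_lt (fun _ _ _ h => by rw [Fin.lt_def]; omega) fun _ _ _ _ _ _ _ => by omega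
  have k1 : QQ 3 F ⊓ P ≤ Pat 3 F fun a b => a.val + 2 ≤ b.val := fun u hu => by
    obtain ⟨u1, u2⟩ := mem_QQ.1 hu.1
    obtain ⟨c, e⟩ := mem_ZZ.1 (h g hg u hu.2)
    rw [cm, mul_inv_eq_iff_eq_mul, mul_inv_eq_iff_eq_mul, mul_assoc] at e
    have h0 : (0 : Fin 4) ≠ la 3 := by decide
    have e1 := congrArg (fun s : SLn 3 F => s.1 0 2) e
    have e2 := congrArg (fun s : SLn 3 F => s.1 1 3) e
    have a1 := u2 1 2 (by decide) (by decide) (by decide)
    have a2 := u2 3 2 (by decide) (by decide) (by decide)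
    have a3 := u2 1 0 (by decide) (by decide) (by decide)
    have a4 := g2 1 0 (by decide)
    have a5 := g2 3 2 (by decide)
    have a6 := u2 3 0 (by decide) (by decide) (by decide)
    have a7 := u2 3 1 (by decide) (by decide) (by decide)
    simp only [val_mul, x_coe h0, add_mul, one_mul, Matrix.add_apply, single_mul_apply_same] at e1 e2
    rw [single_mul_apply_of_ne _ _ _ _ _ (by decide)] at e2
    simp only [ma, g1, u1, a1, a2, a3, a4, a5, a6, a7, show la 3 = 3 from rfl,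
      mul_one, one_mul, mul_zero, zero_mul, add_zero, zero_add] at e1 e2
    have b1 : u.1 0 1 = 0 := (mul_eq_zero.1 (by linear_combination -e1)).resolve_right g12
    have b2 : u.1 2 3 = 0 := (mul_eq_zero.1 (by linear_combination e2)).resolve_left g12
    refine (mem_Pat hS).2 ⟨u1, fun a b h1 h2 => ?_⟩
    fin_cases a <;> fin_cases b <;>
      first | exact u2 _ _ (by decide) (by decide) (by decide) | exact absurd rfl h1 |
        exact absurd (by decide) h2 | exact b1 | exact b2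
  have k2 := card_le_of_le k1
  rw [card_Pat hS, hp.two, Nat.card_eq_fintype_card (α := {p : Fin 4 × Fin 4 // _}),
    show Fintype.card {p : Fin 4 × Fin 4 // p.1 ≠ p.2 ∧ p.1.val + 2 ≤ p.2.val} = 3 by decide] at k2
  have k3 := H67.SA.card_mul_rel (QQ_le_UU (n := 3) (F := F))
  rw [cQ, card_UU, hp.two] at k3
  have k4 := H67.SA.card_mul_rel (inf_le_right : QQ 3 F ⊓ P ≤ P)
  have k5 := relIndex_le_of_le_right (H := QQ 3 F) hP FiniteIndex.index_ne_zero
  rw [inf_relIndex_right] at k4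
  have : NN 3 = 6 := rfl
  rw [this] at k3
  have := Nat.mul_le_mul k2 k5
  omega

theorem jobFQ : J8FQ := fun n F _ _ _ hp => by
  obtain rfl := hp.three
  refine ⟨cen hp, cz0 hp, oq hp, fun P h1 h2 h3 h4 => ?_⟩
  obtain ⟨g, hg, e⟩ := ((H64.SG.syl_iff.1 syl_UU).of_le UU_le_Cs le_top).exists_le_cj h2 h1
  have k := qU hp (P := H98.cj g⁻¹ P) (fun u hu => by
    simpa [mul_assoc] using H98.mem_cj.1 (e (H98.mem_cj.1 hu))) (by
    rwa [card_map_of_injective (MulAut.conj g⁻¹).injective]) (by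
    rintro _ ⟨a, ha, rfl⟩ _ ⟨b, hb, rfl⟩
    have := mem_centralizer_iff.1 hg _ (h4 a ha b hb)
    convert h4 a ha b hb using 1
    rw [← mul_right_inj g, ← this]
    simp [cm, mul_assoc])
  have n := P00_le_Ns (cz0 hp ▸ hg)
  ext u
  rw [mem_normalizer_iff''.1 n u, ← k, H98.mem_cj]
  simp [mul_assoc]

end H17.A8FQ
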