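/- BM tower, stage II: the nodes of `Y₅₅₃` in the model. -/
import Cfsg.Agent.H17.BMTr
import Cfsg.Agent.H17.MLa
import Cfsg.Agent.H75.BMJob

set_option autoImplicit false
set_option maxRecDepth 100000
open Cfsg H79 H17.Gr H71.Gr H23.Om
open H75.BM (PP mem_PP TK TB PP_le_GG sM_mem)
open H77 (PM vecOf isS St2 vU nm_vecOf dt_vecOf)
open H71 (evw evw_cons evw_nil evw_pw)

namespace H17.BM
open Wr
variable {F : Type} [Field F] [Good F]
attribute [local irreducible] app Gr.cmp vec qq vecOf PM.el
local notation "GG" => H75.BM.GG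

/-- `PP TK` is maximal in `GG TK` -/
theorem max_K {K : Subgroup (Mon F)} (h : PP F TK ≤ K) {g : Mon F} (hg : g ∈ K) (h1 : g ∈ GG F TK)
    (h2 : g ∉ PP F TK) : sM F ∈ K := by
  obtain ⟨e, lab, -, L, -⟩ := (H11.BMC.main.{0} H75.BM.base (List.Subset.refl TK) (fun _ e => by cases e)
    (H75.BM.dcK (F := F)) (by norm_num) H11.BMC.sepK).1
  have L := L (PP F TK) fun c => c.2
  obtain ⟨i, hi, a, ha, c, hc, rfl⟩ := L.cover h1
  have i0 : i ≠ 0 := by rintro rfl; exact h2 (by rw [L.e0, mul_one]; exact mul_mem ha hc)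
  obtain ⟨_, ⟨d, hd, rfl⟩, l⟩ := Set.nonempty_of_ncard_ne_zero ((L.cnt i hi i hi).trans_ne
    ((by decide : ∀ i < 5, i ≠ 0 → H11.BMC.mm H75.BM.mK i i ≠ 0) i hi i0))
  obtain ⟨a', ha', c', hc', k⟩ := L.cl i hi d hd
  have m := (K.mul_mem_cancel_left (h ha)).1 ((K.mul_mem_cancel_right (h hc)).1 hg)
  exact (K.mul_mem_cancel_left (mul_mem m (h hd))).1 (k ▸ l.symm ▸ mul_mem (mul_mem (h ha') m) (h hc'))

theorem st2_of {S : Subgroup Co0} {μ a b : Co0} {u v u' v' : leechLattice}
    (h : ∀ K ≤ St2 u v, a ∈ K → b ∈ K → K = St2 u v) (ha : a ∈ St2 u v) (hb : b ∈ St2 u v)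
    (ka : μ * a * μ⁻¹ ∈ S) (kb : μ * b * μ⁻¹ ∈ S) (e1 : μ • u = u') (e2 : μ • v = v') : St2 u' v' ≤ S := fun ψ hψ => by
  simpa [mul_assoc] using ((h (St2 u v ⊓ S.comap (MulAut.conj μ).toMonoidHom) inf_le_left ⟨ha, ka⟩ ⟨hb, kb⟩).ge
    (x := μ⁻¹ * ψ * μ) (H77.mem_St2.2 ⟨by rw [mul_smul, mul_smul, e1, hψ.1, ← e1, inv_smul_smul],
      by rw [mul_smul, mul_smul, e2, hψ.2, ← e2, inv_smul_smul]⟩)).2
/-- strict test for `cmp A B = C` -/
noncomputable def eqc (A B C : List ℕ) : Bool :=
  frc A fun A => frc B fun B => frc (Gr.cmp A B) fun D => frc C fun C => decide (D = C)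
theorem eqc_eq {A B C : List ℕ} (h : eqc A B C = true) : Gr.cmp A B = C := by simpa [eqc, frc_eq] using h
/-- the nodes of `Y₃₃₃` -/
def NP : List ℕ := [13, 0, 17, 4, 3, 20, 8, 9, 22, 12]
/-- a monomial matrix -/
noncomputable def PMk : PM := ⟨nat_lit 0x8000000000000000000000000000000000000000000000000000000000000000000000000000000000000000000000000000000000008000000000000000000000000000000000000000000000000000000000000000000000000000000000000000000000000000000000000000000000000000000000000000000000000000000000000000000000000000000000000000000000000000000000000000000000000000000000000000000000000000000000000000000000000000000000000000000000000000000000000000000000000000000000000000000000000000000000000000000000000000000000000000000000000000000000000000000000000000800000000000000000000000000000000000000000000000000000000000000000000000000000000000000000000000000000000000000000000000000000000000000000000000000000000000000000000000000000000000000000000000000000008000000000000000000000000000000000000000000000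00000000000000000000000000000000000000000000000000000000000000000000000000000000000000000000000000000000000000000080000000000000000000000000000000000000000000000000000000000000000000000000000000000000000000000000000000000000008000000000000000000000000000000000000000000000000000000000000000000080000000000000000000000000000000000000000000000000000000000000000000000000000000000000000000000000000000000000000000000000000000000000008000000000000000000000000000000000000000000000000000000000000000000000000000000000000000000000000000000080000000000000000000000000000000000000000000000000000000000000000000800000000000000000000000000000000000000000000000000000000000000000008000000000000000000000000000000000000000000000000000000000000000000000000000000000000000000000000000000000000000000000000000000000000000000000000000000000000000800000000000000000000000000080000000000000000000000000000000000000000000000000000000000000000000000000000000000000000000800000000000000000000000000000000000000000000000000000000000000000000000000000000000000000008000000000000000000000000000000000000000000000000000000000000000000000000000000000000000000000000000000000000000000000000000000000000000000000000000000000000000000000000000000000000000000000000000000000000000000000000000000000000000000000000000000000000000000000000000000000000000000000000000000000000000000000000000000000000000000000000000000000000000000000000000000000008,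
  nat_lit 0x800000000000000000000000000000000000000000000000000000000000000000000000000000000000000000000000000000000000000000000000000000000000000000000000000000000000000000000000000000000000000000000000000000000000000000000000000000000000000000000000000000000000000000000000000000000000000000000000000000008000000000000000000000000000000000000000000000000000000000000000000000000000000080000000000000000000000000000000000000000000000000000000000000000000000000000000000000000000000000000000000000000000000000000000000080000000000000000000000000000000000000000000000000000000000000000000000000000000000000000000000000000000000000000000000000000000000000000000000080000000000000000000000000000000000000000000000000000000000000000000000000000000000000000000000000000000000000000000000000000000000000000000000000000000000000000000000000000000000000000000000000000000000000000000000000000000000000000000000000000000800000000000000000000000000000000000000000000000000000000000000000000000000000000000000000000000000000000000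00000000000000000000000000000000000000000000000000000000000000000000000000000000000000000000000000000000000000000000000000000000000000000000000000000000000000000000000000000000000000000000000000000000000000000000000000000000000000000000000000000000000000000000000000000000000000000000000000000000000000000000000000000000000000000000000000000000000000000000000000000000000000000000000000000000000000000000000000000000000000000000000000000000000000000000000000000000000000000000000000000000000000000000000000000000000000000000000000000000000000000000000000000000000000000000000000000000000000000000000000000000000000000000000000000000000000000000000000000000000000000000000000000000000000000000000000000000000000000000000000000000000000000000000000000000000000000000000000000000000000000000000000000000000000000000000000000000000000000000000000000000000000000000000000000000000000000000000000000000000000000000000000000000000000000000000000000000000000000000000080000000000000000000000000000000000000000000000000000000000000000000000000000000000000000000800000000000000000000000000000000000000000000000000000000000000000000000000000000000000000000000000000000000000000000000000000000000000000000000000000000000000000000000000000000000000000000,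
  nat_lit 0x4000400040004000400040004000400040004000400040004000400040004000400040004000400040004000400040⟩
/-- the vector of `t` -/
abbrev c1 : ℕ := 0x80008000800080008000800080008000800080008000800080008000800080008000800080008000800080004000c
/-- the vector of `t'` -/
abbrev c2 : ℕ := 0x80008000800080008000800080008000800080008000800080008000800080008000800080008000800040008000c

section
variable {L : ℕ → Wr (Mon F)} {x : ℕ → Mon F} (h : Chart L x)
include h
theorem y_11 : yN L 11 = 1 := by rw [h.y_eq (by decide), h.pt _ (by decide), r_11]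
variable {H : Subgroup (Mon F)} (hH : ∀ n ∈ NP, yN L n ∈ H)
include hH
theorem mem_f : yN L 2 ∈ H ∧ yN L 6 ∈ H ∧ zM F ∈ H := by
  have a : yN L 2 ∈ H := h.y_e7 (by decide) h.e7a ▸ H.pow_mem (H71.evw_mem fun n hn => hH n (by revert n; decide)) 9
  have b : yN L 6 ∈ H := h.y_f2 ▸ H.pow_mem (H71.evw_mem fun n hn => hH n (by revert n; decide)) 9
  exact ⟨a, b, h.y_z ▸ H.mul_mem (H.mul_mem b a) (hH 12 (by decide))⟩
theorem mem_5 : yN L 5 ∈ H ∧ yN L 10 ∈ H := by
  have k : ∀ w n, (∀ i ∈ w, i ∈ CH ∧ i ∈ NP) ∧ n ∈ CH ∧ evW DC w = DC.getD n idD → yN L n ∈ H := fun w n e =>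
    RH.mem (mem_f h hH).2.2 (e.2.2 ▸ rh_word fun i hi => ⟨_, hH i (e.1 i hi).2, h.rep_y (e.1 i hi).1⟩) (h.rep_y e.2.1)
  exact ⟨k [17, 0, 13, 9, 3, 20, 8, 13, 3, 20, 0, 13, 3, 17, 0, 13, 9, 13, 0, 17, 3, 13, 0, 20, 3, 13, 8, 20, 3,
    9, 13, 0, 17] 5 (by decide +kernel), k [20, 3, 13, 9, 0, 13, 3, 17, 0, 13, 9, 20, 3, 13, 0, 17, 4, 17, 0, 13,
    3, 20, 9, 13, 0, 17, 3, 13, 0, 9, 13, 3, 20] 10 (by decide +kernel)⟩
theorem rh_ch {n : ℕ} (hn : n ∈ CH ∧ n ≠ 1) : RH H (DC.getD n idD) := by
  obtain ⟨g, hg⟩ := h.n26.sym [1, 1, 1, 0, 1, 0, 1, 1, 1, 1]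
  have k : ∀ n ∈ 11 :: NP, ns n ∧ ns (evP [1, 1, 1, 0, 1, 0, 1, 1, 1, 1] n) ∧
    evP [1, 1, 1, 0, 1, 0, 1, 1, 1, 1] n ∈ 6 :: NP := by decide +kernel
  have k1 : ∀ {n}, ns n → (L n ∈ wrH H ↔ yN L n ∈ H) := fun hn => by
    rw [h.eq_y hn, h.s11]; simp [wrH, de_def, mul_def, Wr.nu]
  let K := (wrH H).comap (MulAut.conj g).toMonoidHom
  have k2 : ∀ n ∈ 11 :: NP, L n ∈ K := fun n hn => by
    show g * _ * g⁻¹ ∈ wrH H
    rw [hg n (k n hn).1.1, k1 (k n hn).2.1]
    exact (List.mem_cons.1 (k n hn).2.2).elim (fun e => e ▸ (mem_f h hH).2.1) (hH _)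
  have a : L 5 ∈ K := h.eq_y (n := 5) (by decide) ▸ K.mul_mem (mem_5 h (H := K.comap de) fun n hn =>
    (K.mul_mem_cancel_right (k2 11 (.head _))).1 (h.eq_y (k n (.tail _ hn)).1 ▸ k2 n (.tail _ hn))).1 (k2 11 (.head _))
  replace a : yN L 7 ∈ H := (k1 (by decide)).1
    ((hg 5 (by decide) : _ = L 7) ▸ (show g * _ * g⁻¹ ∈ wrH H from a))
  refine ⟨_, ?_, h.rep_y hn.1⟩
  rcases (by decide : ∀ n ∈ CH, n ≠ 1 → n ∈ NP ∨ n = 2 ∨ n = 6 ∨ n = 5 ∨ n = 10 ∨ n = 7 ∨ n = 11) n hn.1 hn.2 with
    e | rfl | rfl | rfl | rfl | rfl | rfl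
  exacts [hH n e, (mem_f h hH).1, (mem_f h hH).2.1, (mem_5 h hH).1, (mem_5 h hH).2, a, y_11 h ▸ H.one_mem]
theorem mem_Q2 {y : ℕ} (h1 : bt y 0 = bt y 1) (h2 : bt y 0 = bt y 2) : qq F y ∈ H := by
  obtain ⟨a, b, hz⟩ := mem_f h hH
  have p : ∀ y ∈ 16789504 :: 16797696 :: pathL [17, 7, 20, 3, 13, 0, 10, 20, 17, 7, 20, 8, 5, 13, 3, 13, 5, 10, 9] 19005440,
      qq F y ∈ H := List.forall_mem_cons.2 ⟨h.y_2 ▸ a, List.forall_mem_cons.2 ⟨show tM F ∈ H from h.y_t ▸ b, path_mem
    (fun i hi => rh_ch h hH (by revert i; decide)) _ (RH.mem hz (rh_word (Ds := DC) (w := [4, 5]) fun i hi =>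
      rh_ch h hH (by revert i; decide)) ((rep_qq _).of_eq (by decide +kernel)))⟩⟩
  have k : ∀ t < 24, t ≠ 1 → t ≠ 2 → ∃ s ∈ [3777638, 360239, 1140594, 1969323, 3487267, 3511965, 2416637, 3855212, 3944204, 1126573, 1839562,
      1839563, 1839560, 3635095, 3657618, 3607224, 1862450, 3648320, 3648166, 3607228, 1878708, 3631557], ∀ i < 24, bt (appL (16789504 :: 16797696 ::
      pathL [17, 7, 20, 3, 13, 0, 10, 20, 17, 7, 20, 8, 5, 13, 3, 13, 5, 10, 9] 19005440) s 0) i = bt (if t = 0 then 7 else 2 ^ t) i := by decide +kernel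
  have k2 : ∀ t < 24, t ≠ 1 → t ≠ 2 → qq F (if t = 0 then 7 else 2 ^ t) ∈ H := fun t a b c => by
    obtain ⟨s, -, e⟩ := k t a b c
    exact mem_congr hz e (appL_ind (P := fun y => qq F y ∈ H) (fun x y a b => qq_mul (F := F) x y ▸ H.mul_mem a b)
      p s 0 (by simp))
  have k3 : ∀ y, bt y 0 = 0 → bt y 1 = 0 → bt y 2 = 0 → qq F y ∈ H := fun y a b c =>
    mem_of_bits hz 24 y fun k hk e => ⟨hk, by
      have := k2 k hk (by rintro rfl; simp [b] at e) (by rintro rfl; simp [c] at e)
      rwa [if_neg (by rintro rfl; simp [a] at e)] at this⟩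
  rcases zmod2_cases (bt y 0) with e | e
  · exact k3 y e (h1 ▸ e) (h2 ▸ e)
  · refine mem_of_mul hz (k2 0 (by decide) (by decide) (by decide)) (k3 _ ?_ ?_ ?_) <;>
      rw [bt_mul _ _ (by decide)] <;> simp only [← h1, ← h2, e] <;> rfl
theorem st2_le : St2 (vecOf c1) (vecOf c2) ≤ imS H := by
  have ok : PMk.ok = true := by decide +kernel
  obtain ⟨m, e, hm⟩ := exists_lift_PM (F := F) ok
  have hi := hm.inv (E := [8556864, 14552385, 12006466, 21246395, 5721352, 19469840, 32576959, 25319456,
  12853503, 20089664, 630015, 22919104, 12241155, 25003772, 25016060, 8247555,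
  8198403, 8165635, 9115907, 8362243, 3434755, 4208899, 14027011, 7706883]) (by decide +kernel)
  have k := rh_slp (H := H) [[13, 17, 20, 9, 4, 4, 17, 0, 7, 10, 20, 13, 3, 5], [13, 17, 20, 8, 13, 5, 3, 20, 7, 10, 8, 9, 17, 0],
      [13, 17, 20, 9, 9, 13, 17, 8, 7, 0, 20, 3, 4, 5], [22, 23, 22, 23, 21, 23, 22, 22, 21], [21, 21, 22, 22,
      22, 23, 21, 22, 23, 21, 21, 23, 23, 21, 23, 21, 22]] (Ds := DC.set 1 idD) fun D hD => by
    rcases (by decide +kernel : ∀ D ∈ DC.set 1 idD, ∃ n < 21, (n ∈ CH ∧ n ≠ 1) ∧ D = DC.getD n idD) D hD with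
      ⟨n, -, a, rfl⟩
    exact rh_ch h hH a
  have k2 : ∀ {g : PM} w x, g.ok = true → eqc (evW _ w) (Gr.cmp (Gr.cmp (dPM PMk) (dPM g)) _) (inn x) = true →
      PMk.el * g.el * PMk.el⁻¹ ∈ imS H := fun w x a b => by
    obtain ⟨n, e', hn⟩ := exists_lift_PM (F := F) a
    have := (k w).psi (n := m * n * m⁻¹) (by rw [map_mul, map_mul, map_inv]; exact (hm.mul hn).mul hi) x (eqc_eq b)
    rwa [← e, ← e']
  exact st2_of H77.pu62_gen H77.pu62a_mem H77.pu62b_mem
    (k2 [25, 24, 25, 25, 25, 24, 25, 24, 24, 24, 22, 23, 21, 22, 22, 21, 21, 22, 22, 13, 17, 20, 0, 13, 17, 3,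
      20, 7, 17, 20] 6776041 H77.pu62a_ok (by decide +kernel))
    (k2 [24, 24, 24, 25, 25, 24, 25, 24, 25, 22, 22, 22, 23, 23, 21, 22, 23, 23, 13, 17, 20, 0, 13, 17, 3, 13, 8] 10492993 H77.pu62b_ok (by decide +kernel))
    (PM.smul_vecOf ok H77.cU_isS (by decide +kernel) (by decide +kernel))
    (PM.smul_vecOf ok H77.cX_isS (by decide +kernel) (by decide +kernel))
theorem pk_le : PP F TK ≤ H := fun g hg => by
  have hH' : ∀ n ∈ NP, yN L n ∈ H ⊓ (CZ (yN L 2) ⊓ CZ (yN L 6)) := fun n hn =>
    ⟨hH n hn, mem_CZ.2 (h.y_comm (by revert n; decide)), mem_CZ.2 (h.y_comm (by revert n; decide))⟩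
  obtain ⟨h1, h2⟩ := mem_PP.1 hg
  obtain ⟨n, rfl⟩ := jobC g h1
  have n1 : H77.nm (vecOf c1) = 32 := nm_vecOf (by decide +kernel)
  have n2 : H77.nm (vecOf c2) = 32 := nm_vecOf (by decide +kernel)
  have d : H77.dt (vecOf c1) (vecOf c2) = 16 := dt_vecOf (by decide +kernel)
  have d' := H77.dt_smul n.ψ (vecOf c1) (vecOf c2)
  obtain ⟨k, a, b⟩ : ∃ k ∈ H ⊓ (CZ (yN L 2) ⊓ CZ (yN L 6)), Lift.act n * k⁻¹ ∈ QM F := mem_of_imS (by
    rcases psi_fix (h2 12288 (by simp)) ((cod_vecOf (by decide +kernel)).congr (by decide +kernel)) n1 with e | e <;>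
    rcases psi_fix (h2 20480 (by simp)) ((cod_vecOf (by decide +kernel)).congr (by decide +kernel)) n2 with f | f
    · exact st2_le h hH' ⟨e, f⟩
    · rw [e, f, H77.dt_neg_right] at d'; omega
    · rw [e, f, H77.dt_neg_left] at d'; omega
    · exact ((imS _).mul_mem_cancel_left neg_mem_imS).1 (st2_le h hH'
        ⟨show (negC * n.ψ) • _ = _ by rw [mul_smul, e, negC_smul, neg_neg],
          show (negC * n.ψ) • _ = _ by rw [mul_smul, f, negC_smul, neg_neg]⟩))
  obtain ⟨y, -, e⟩ := exists_qq b
  have := mem_Q2 h hH (comm_bits (F := F) (y := y) (.inl rfl) (e ▸ Commute.mul_left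
      ((cj_z h1).mul (h2 12288 (by simp))).comm (Commute.inv_left (h.y_2 ▸ mem_CZ.1 a.2.1 :))))
    (comm_bits (F := F) (y := y) (.inr rfl) (e ▸ Commute.mul_left
      ((cj_z h1).mul (h2 20480 (by simp))).comm (Commute.inv_left (h.y_t ▸ mem_CZ.1 a.2.2 :))))
  exact (H.mul_mem_cancel_right (H.inv_mem a.1)).1 (e ▸ this)
end

theorem pick [Finite F] {g : Mon F} {c : ℕ} (w : ℕ) (h : Rep g (dY c)) (hg : ¬ IsConj (zM F) g)
    (e : evc c = true ∧ (isS w && decide ((H77.dotN w w : ℤ) - 1536 = 64)) = true ∧
      ∀ i < 24, bt (codN w) i = bt (mul c 4095) i) : g = cs F (qq F c) :=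
  (h.eq (pr_qq e.1).cs).resolve_right fun a => hg <| by
    rw [a, show cs F (qq F c) * zM F = cs F (qq F (mul c 4095)) by rw [← qq_mul, map_mul, cs_z2]]
    exact (mt_Mon.conj_of_64 ⟨sM F, by
      rw [← cs_def, cs_z]; exact ⟨qq_mem _, fun e => absurd (qq_inj (e.trans qq_z.symm)) (by decide)⟩⟩
      (cl_code (Bool.and_eq_true_iff.1 e.2.1).1 e.2.2) (nm_vecOf e.2.1)).trans (isConj_iff.2 ⟨_, rfl⟩)
theorem exists_m : ∃ m ∈ CZ (zM F), Cj m 12288 24297664 ∧ Cj m 20480 897975 := by
  obtain ⟨a, a1, a2⟩ := H77.exists_UX nm_t nm_t' dt_tt'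
  obtain ⟨b, b1, b2⟩ := H77.exists_UX
    (v := vecOf 0x6000a0006000a000800080006000800080008000800060008000800080008000a000a000800080008000800080008)
    (w := vecOf 0x6000a0008000a0008000800080008000a0008000800080006000a000800080008000a00080008000a000800080008)
    (nm_vecOf (by decide +kernel)) (nm_vecOf (by decide +kernel)) (dt_vecOf (by decide +kernel))
  obtain ⟨c, hc, e⟩ := (mt_Mon (F := F)).conj_of_smul (y := qq F 24297664) (b * a⁻¹) (cl_qq cod_t) (by
    rw [← a1, mul_smul, inv_smul_smul, b1]; exact cl_code (by decide +kernel) (by decide +kernel))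
    (fun e => absurd (qq_inj (e.trans qq_zero.symm)) (by decide))
    fun e => absurd (qq_inj (e.trans qq_z.symm)) (by decide)
  have k := mt_Mon.act c _ hc.symm (cl_qq cod_t')
  rw [← a2, mul_smul, inv_smul_smul, b2] at k
  rcases (mt_Mon.eq_iff k (cl_code (x := 897975) (by decide +kernel) (by decide +kernel))).2 (.refl _) with d | d
  · exact ⟨c, c.2, e, d⟩
  · have r := rep_qq (F := F) 4
    refine ⟨c * qq F 4, mul_mem c.2 (mem_CZ.2 r.1), Cj.comp e (r.cj' (by decide +kernel)),
      Cj.comp (y := mul 20480 ZC) ?_ (r.cj' (by decide +kernel))⟩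
    rw [Cj, ← qq_mul, ← conj_mul, d, qq_z, mem_CZ.1 c.2, mul_inv_cancel_right, mul_assoc, zM_mul_self, mul_one]

open H71.BM2 in
theorem jobY [Finite F] : JobY F := fun L x h => by
  have s : ∀ k, ns (nd k) ∧ (nd k ∈ 18 :: Gr.NB ∨ nd k ∈ CH) := fun k => by
    rcases lt_or_ge k 14 with a | a
    · revert k; decide
    · rw [show nd k = 11 from List.getD_eq_default _ _ a]; decide
  have ev : ∀ u, evw (yM L) u = qq F 1 * evw (yN L) (u.map nd) * (qq F 1)⁻¹ := fun u => by
    rw [← H71.Y5.evw_ren, evw_conj (L := fun l => yN L (nd l)) (L' := yM L) (f := id) fun _ _ => rfl, List.map_id]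
  have r := rep_qq (F := F) 1
  have q := CZ_le_GG (mem_CZ.2 r.1)
  have t1 : yM L 5 = qq F 12288 := by rw [yM, show nd 5 = 2 from rfl, h.y_2]; exact r.cj' (by decide +kernel)
  have t2 : yM L 10 = qq F 20480 := by rw [yM, show nd 10 = 6 from rfl, h.y_t]; exact r.cj' (by decide +kernel)
  have z : yM L 5 * yM L 10 * yM L 13 = zM F := by
    rw [yM, yM, yM, conj_mul, conj_mul, mul_inv_eq_iff_eq_mul, ← r.1, ← h.y_z,
      ← (h.y_comm (n := 2) (m := 6) (by decide)).eq]; rfl
  have mem : ∀ k, yM L k ∈ GG F [] := fun k => mul_mem (mul_mem q ((s k).2.elim (ML.y_mem_M h)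
    fun a => CZ_le_GG (mem_CZ.2 (h.rep_y a).1))) (inv_mem q)
  have cm : ∀ k l, lab (nd k) (nd l) = 2 → Commute (yM L k) (yM L l) := fun k l e =>
    (h.y_comm ⟨(s k).1, (s l).1, e⟩).conj _
  have qz : ∀ {g}, Commute g (zM F) → Commute ((qq F 1)⁻¹ * g * qq F 1) (zM F) := fun a =>
    .mul_left (.mul_left (Commute.inv_left r.1) a) r.1
  have sK : ∀ H : Subgroup (Mon F), (∀ k ∈ NK, yM L k ∈ H) → PP F TK ≤ H ∧ sM F ∈ H := fun H hH => by
    have p : PP F TK ≤ H := fun g hg => by
      have k : ∀ y ∈ TK, Cj ((qq F 1)⁻¹ * g * qq F 1) y y := fun y hy => by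
        have e : Cj (qq F 1) y (mul y ZC) := r.cj' (by revert y; decide +kernel)
        exact (e.inv.comp (((mem_PP.1 hg).2 y hy).mul (cj_z (mem_PP.1 hg).1))).comp e
      simpa [mul_assoc] using pk_le h (H := H.comap (MulAut.conj (qq F 1)).toMonoidHom) (fun n hn => by
        obtain ⟨k, a, rfl⟩ := (by decide : ∀ n ∈ NP, ∃ k ∈ NK, nd k = n) n hn
        exact hH k a) (mem_PP.2 ⟨qz (mem_PP.1 hg).1, k⟩)
    refine ⟨p, max_K p (hH 12 (by decide)) ((H75.BM.ord (F := F)).centK ▸ ⟨Subgroup.mem_centralizer_singleton_iff.2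
      (t2 ▸ cm 12 10 rfl), (H75.BM.ord (F := F)).centB ▸ ⟨Subgroup.mem_centralizer_singleton_iff.2 (t1 ▸ cm 12 5 rfl),
        mem 12⟩⟩) fun a => ?_⟩
    have b : Commute (yM L 12) (yM L 5 * yM L 10 * yM L 13) := z ▸ (mem_PP.1 a).1
    have c : Commute (yN L 22) (yN L 12) := (comm_conj (qq F 1)).1 (show Commute (yM L 12) (yM L 13) by
      simpa only [inv_mul_cancel_left] using ((cm 12 5 rfl).mul_right (cm 12 10 rfl)).inv_right.mul_right b)
    have d := eq_of_braid (h.y_sq (by decide)) (h.y_sq (by decide)) (h.y_cox (by decide) (by decide)) c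
    have e := eq_of_braid (h.y_sq (by decide)) (h.y_sq (by decide)) (h.y_cox (n := 22) (m := 9) (by decide) (by decide))
      (d ▸ h.y_comm (by decide))
    exact (h.rep_y (by decide : 12 ∈ CH)).ne (h.rep_y (by decide : 9 ∈ CH)) (by decide +kernel) (d.symm.trans e)
  refine ⟨⟨fun l => by rw [yM, conj_mul, h.y_sq (s l).1, mul_one, mul_inv_cancel], by
    rw [yM, show nd 16 = 11 from rfl, y_11 h, mul_one, mul_inv_cancel], fun a ha b hb => ?_, ?_⟩, ?_, t1, t2, z, mem,
    fun H hH => ?_, fun H hH => (Subgroup.closure_le _).2 (Set.union_subset (sK H hH).1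
      (Set.singleton_subset_iff.2 (sK H hH).2)), ?_⟩
  · rw [yM, yM, conj_mul, conj_pow, show H71.Y5.lab a b = lab (nd a) (nd b) by revert a b; decide +kernel,
      h.y_cox (s a).1 (s b).1, mul_one, mul_inv_cancel]
  · have k := h.y_pow (u := [13, 0, 17, 13, 3, 20, 13, 9, 22]) (by decide) 10
    rw [h.n26.spider h.e7b] at k
    rw [evw_pw, ev, conj_pow, show List.map nd _ = [13, 0, 17, 13, 3, 20, 13, 9, 22] from rfl,
      de_inj ((mul_one _).symm.trans (k.symm.trans (map_one _).symm)), mul_one, mul_inv_cancel]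
  · rw [wF3, evw_pw, ev, conj_pow, show List.map nd _ = [13, 9, 0, 3, 22, 17, 12] from rfl,
      ← h.y_e7 (n := 11) (u := [13, 9, 0, 3, 22, 17, 12]) (by decide)
      (h.n26.e7 (by decide) h.e7a [0, 1, 0, 1, 1, 1, 1, 0, 1, 0]), y_11 h, mul_one, mul_inv_cancel]
  · refine (Subgroup.closure_le _).2 (Set.union_subset (fun c hc => ?_)
      (Set.singleton_subset_iff.2 (sK H fun k hk => hH k (by revert k; decide)).2))
    obtain ⟨g, hg⟩ := h.y_sym [1, 0, 1, 0, 0, 1, 0, 1, 1, 0, 1, 0] (by decide +kernel)
    have g2 : g * yN L 2 * g⁻¹ = yN L 6 := hg 2 (by decide) (by decide +kernel)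
    have g6 : g * yN L 6 * g⁻¹ = yN L 2 := hg 6 (by decide) (by decide +kernel)
    have g12 : g * yN L 12 * g⁻¹ = yN L 12 := hg 12 (by decide) (by decide +kernel)
    have gz : g * zM F * g⁻¹ = zM F := by
      rw [← h.y_z, ← conj_mul, ← conj_mul, g2, g6, g12, (h.y_comm (n := 2) (m := 6) (by decide)).eq]
    simpa [mul_assoc] using h.baby_gen (H := H.comap (MulAut.conj (qq F 1 * g)).toMonoidHom)
      (g := (qq F 1 * g)⁻¹ * c * (qq F 1 * g)) (fun n hn => by
        obtain ⟨a, b, k, d, e⟩ := (by decide +kernel : ∀ n ∈ Gr.NB, ns n ∧ ns (evP [1, 0, 1, 0, 0, 1, 0, 1, 1, 0, 1, 0] n) ∧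
          ∃ k ∈ H71.BM2.NB, nd k = evP [1, 0, 1, 0, 0, 1, 0, 1, 1, 0, 1, 0] n) n hn
        have := hH k d
        rw [yM, e, ← hg n a b] at this
        simpa [mul_assoc] using this)
      ((comm_conj g).1 (by rw [gz]; simpa [mul_assoc] using qz (mem_PP.1 hc).1))
      ((comm_conj (qq F 1 * g)).1 (by
        have : qq F 1 * g * tM F * (qq F 1 * g)⁻¹ = qq F 12288 := by
          rw [← h.y_t, ← t1, yM, show nd 5 = 2 from rfl, ← g6]; group
        rw [this]; simpa [mul_assoc] using show Commute _ _ from ((mem_PP.1 hc).2 12288 (by simp)).comm))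
  · obtain ⟨m, hm, m1, m2⟩ := exists_m (F := F)
    have K := (rep_k (F := F)).mul (rep_xP (g := 849608889757764574028539280119400480) (by decide +kernel))
    have Ki := K.inv (E := [32337938, 28978677, 1266477, 9172437, 8890370, 24581428, 25880055, 20508365,
      6723439, 29540596, 14142232, 29000080, 31110254, 18305065, 27179921, 17842211,
      27402198, 26934161, 10008548, 26690347, 20578132, 31390609, 25755612, 27402068]) (eqc_eq (by decide +kernel))
    generalize kM F * _ = k at K Ki
    have a1 := (h.rep_y (by decide : 0 ∈ CH)).mul (h.rep_y (by decide : 4 ∈ CH))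
    have c := h.rep_y (by decide : 17 ∈ CH)
    have n1 : ¬ IsConj (zM F) (yN L 0 * yN L 4) := fun e => mt_Mon.not_conj_32 (cl_code (x := 29293360)
      (c := 0xa000800080008000a000800080008000800080008000a0006000800060006000800080006000a0008000800080008)
      (by decide +kernel) (by decide +kernel)) (nm_vecOf (by decide +kernel)) (e.trans (by
        rw [h.y_eq (by decide), h.y_eq (by decide), h.pt _ (by decide), h.pt _ (by decide), rP, rP, ← map_mul, qq_mul]
        exact (isConj_iff.2 ⟨_, rfl⟩).symm))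
    have b1 := pick (c := 24297664)
      0x6000a0006000a0008000800060008000800080008000e0008000800080008000a000a000800080008000800080008
      (((K.mul a1).mul Ki).of_eq (eqc_eq (by decide +kernel))) (fun e => n1 (e.trans (isConj_iff.2 ⟨_, rfl⟩).symm))
      (by decide +kernel)
    have b2 := pick (c := 897975)
      0x6000a0008000a0008000800080008000a000800080008000e000a000800080008000a00080008000a000800080008
      (((K.mul ((c.mul a1).mul c)).mul Ki).of_eq (eqc_eq (by decide +kernel))) (fun e => n1 ((e.trans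
        (isConj_iff.2 ⟨_, rfl⟩).symm).trans (isConj_iff.2 ⟨yN L 17, by
          rw [inv_eq_of_mul_eq_one_right (h.y_sq (by decide))]⟩).symm)) (by decide +kernel)
    refine ⟨qq F 1 * k⁻¹ * sM F * m, mul_mem (mul_mem (mul_mem q (CZ_le_GG (mem_CZ.2 Ki.1))) sM_mem) (CZ_le_GG hm), ?_, ?_⟩
    · rw [t1, yM, yM, conj_mul, show nd 1 = 0 from rfl, show nd 3 = 4 from rfl,
        eq_inv_mul_iff_mul_eq.2 (eq_mul_inv_iff_mul_eq.1 (inv_inv k ▸ b1.symm :)).symm, cs_def, ← m1]; group
    · rw [t2, yM, yM, yM, conj_mul, conj_mul, conj_mul, show nd 1 = 0 from rfl, show nd 3 = 4 from rfl,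
        show nd 2 = 17 from rfl,
        eq_inv_mul_iff_mul_eq.2 (eq_mul_inv_iff_mul_eq.1 (inv_inv k ▸ b2.symm :)).symm, cs_def, ← m2]; group

end H17.BM
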