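import Cfsg.Agent.H53.CKSpec

/-! CK-PENT: no generalised pentagon in `PG(4, q)`. -/

set_option autoImplicit false

namespace H17.CKP

open Module Submodule

universe u v

theorem trace_idem {I : Type*} [Fintype I] [DecidableEq I] (E : Matrix I I ℝ) (h : E * E = E) :
    ∃ f : ℕ, E.trace = f := by
  have h1 : IsIdempotentElem (Matrix.toLin' E) := by
    unfold IsIdempotentElem
    rw [Module.End.mul_eq_comp, ← Matrix.toLin'_mul, h]
  refine ⟨finrank ℝ (LinearMap.range (Matrix.toLin' E)), ?_⟩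
  rw [← (LinearMap.IsIdempotentElem.isProj_range _ h1).trace, Matrix.trace_toLin'_eq]

section

variable {F : Type u} [Field F] [Finite F] {U : Type v} [AddCommGroup U] [Module F U]
  [FiniteDimensional F U]

open Classical in
theorem sum_mem [Fintype {u : U // u ≠ 0}] (S : Submodule F U) :
    ∑ t : {u : U // u ≠ 0}, (if t.1 ∈ S then (1 : ℝ) else 0) =
      (Nat.card F : ℝ) ^ finrank F S - 1 := by
  have : Finite U := Module.finite_of_finite F
  rw [Finset.sum_boole]
  have h1 : (Finset.univ.filter fun t : {u : U // u ≠ 0} => t.1 ∈ S).card + 1 = Nat.card S := by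
    rw [← Fintype.card_subtype, ← Nat.card_eq_fintype_card]
    have e : Option {t : {u : U // u ≠ 0} // t.1 ∈ S} ≃ S :=
      { toFun := fun o => o.elim 0 fun t => ⟨t.1.1, t.2⟩
        invFun := fun s => if h : s.1 = 0 then none else some ⟨⟨s.1, h⟩, s.2⟩
        left_inv := by
          rintro (_ | ⟨⟨t, ht⟩, hs⟩)
          · simp
          · simp [ht]
        right_inv := by
          rintro ⟨s, hs⟩
          by_cases h : s = 0
          · subst h; simp only [dite_true]; rfl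
          · simp [h] }
    rw [← Nat.card_congr e, Finite.card_option]
  rw [Module.natCard_eq_pow_finrank (K := F)] at h1
  have h2 : ((Finset.univ.filter fun t : {u : U // u ≠ 0} => t.1 ∈ S).card : ℝ) + 1 =
      (Nat.card F : ℝ) ^ finrank F S := by exact_mod_cast h1
  linarith

open Classical in
/-- incidence matrix of a family of subspaces -/
noncomputable def mat (A : U → Submodule F U) : Matrix {u : U // u ≠ 0} {u : U // u ≠ 0} ℝ :=
  fun a b => if b.1 ∈ A a.1 then 1 else 0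

theorem mat_mul [Fintype {u : U // u ≠ 0}] (A B : U → Submodule F U)
    (hB : ∀ x y, x ≠ 0 → y ≠ 0 → y ∈ B x → x ∈ B y) (a b : {u : U // u ≠ 0}) :
    (mat A * mat B) a b = (Nat.card F : ℝ) ^ finrank F ↥(A a.1 ⊓ B b.1) - 1 := by
  classical
  rw [← sum_mem, Matrix.mul_apply]
  refine Finset.sum_congr rfl fun t _ => ?_
  have : b.1 ∈ B t.1 ↔ t.1 ∈ B b.1 := ⟨hB _ _ t.2 b.2, hB _ _ b.2 t.2⟩
  simp only [mat, mem_inf, this]
  by_cases h1 : t.1 ∈ A a.1 <;> by_cases h2 : t.1 ∈ B b.1 <;> simp [h1, h2]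

omit [Finite F] in
theorem rk_span_of_mem {S : Submodule F U} {x : U} (hx : x ≠ 0) (h : x ∈ S) :
    finrank F ↥(S ⊓ F ∙ x) = 1 := by
  rw [inf_eq_right.2 ((span_singleton_le_iff_mem x S).2 h), finrank_span_singleton hx]

omit [Finite F] [FiniteDimensional F U] in
theorem rk_span_of_notMem {S : Submodule F U} {x : U} (h : x ∉ S) :
    finrank F ↥(S ⊓ F ∙ x) = 0 := by
  rw [(disjoint_span_singleton_of_notMem h).eq_bot, finrank_bot]

end

theorem arith (q : ℝ) (hq : 2 ≤ q) (s : ℝ) (hs : s * s = 5) :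
    ∃ α β γ : ℝ, α ^ 2 * (q ^ 2 - q) + 2 * α * β * (q - 1) = α ∧
      α ^ 2 * (q ^ 3 - q ^ 2) + β ^ 2 * (q - 1) = β ∧
      α ^ 2 * (q - 1) + γ ^ 2 * (q ^ 5 - 1) + 2 * α * γ * (q ^ 3 - 1) + 2 * β * γ * (q - 1) = γ ∧
      s * (q ^ 4 + q ^ 3 + q ^ 2 + q - 2 * ((q ^ 5 - 1) * (α + β + γ))) =
        q * (q - 1) ^ 2 * (q + 1) := by
  have h1 : q - 1 ≠ 0 := by linarith
  have h0 : q ≠ 0 := by linarith
  have h5 : q ^ 4 + q ^ 3 + q ^ 2 + q + 1 ≠ 0 := by positivity
  have e5 : q ^ 5 - 1 = (q - 1) * (q ^ 4 + q ^ 3 + q ^ 2 + q + 1) := by ring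
  have hs2 : s ^ 2 = 5 := by rw [sq, hs]
  refine ⟨s / (5 * (q - 1) * q), (5 - s) / (10 * (q - 1)),
    (-(q ^ 2 + q + 1) * s / (5 * q) + (s - 5) / 10) / ((q - 1) * (q ^ 4 + q ^ 3 + q ^ 2 + q + 1)),
    ?_, ?_, ?_, ?_⟩
  · field_simp
    grind
  · field_simp
    grind
  · rw [e5]
    field_simp
    grind
  · rw [e5]
    field_simp
    grind

theorem jobPent : H53.CK.JobPent.{u, v} := by
  intro F _ _ U _ _ _ W h5 hself hsm hsy h3 h2 h1
  classical
  have : Finite U := Module.finite_of_finite F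
  have : Fintype {u : U // u ≠ 0} := Fintype.ofFinite _
  have hq1 : 1 < Nat.card F := Finite.one_lt_card
  set q : ℝ := (Nat.card F : ℝ) with hqd
  have hq : 2 ≤ q := by rw [hqd]; exact_mod_cast hq1
  have hs : √5 * √5 = 5 := Real.mul_self_sqrt (by norm_num)
  obtain ⟨α, β, γ, e1, e2, e3, e4⟩ := arith q hq (√5) hs
  let P : U → Submodule F U := fun x => F ∙ x
  let T : U → Submodule F U := fun _ => ⊤
  have hP : ∀ x y, x ≠ 0 → y ≠ 0 → y ∈ P x → x ∈ P y := fun x y hx hy h => by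
    by_contra hc
    exact H62.notMem_span_symm hy hc h
  have hT : ∀ x y, x ≠ 0 → y ≠ 0 → y ∈ T x → x ∈ T y := fun _ _ _ _ _ => mem_top
  obtain ⟨f, hf⟩ := trace_idem (α • mat W + β • mat P + γ • mat T) (by
    ext a b
    simp only [add_mul, mul_add, smul_mul_assoc, mul_smul_comm, Matrix.add_apply,
      Matrix.smul_apply, smul_eq_mul, mat_mul _ W hsy, mat_mul _ P hP, mat_mul _ T hT]
    have r1 : finrank F ↥(W a.1 ⊓ T b.1) = 3 := by rw [inf_top_eq, h3 _ a.2]
    have r2 : finrank F ↥(T a.1 ⊓ W b.1) = 3 := by rw [top_inf_eq, h3 _ b.2]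
    have r3 : finrank F ↥(P a.1 ⊓ T b.1) = 1 := by rw [inf_top_eq, finrank_span_singleton a.2]
    have r4 : finrank F ↥(T a.1 ⊓ P b.1) = 1 := by rw [top_inf_eq, finrank_span_singleton b.2]
    have r5 : finrank F ↥(T a.1 ⊓ T b.1) = 5 := by rw [top_inf_eq, finrank_top, h5]
    rw [r1, r2, r3, r4, r5, ← hqd]
    have mT : mat T a b = 1 := if_pos mem_top
    by_cases hw : b.1 ∈ W a.1
    · have hw' : a.1 ∈ W b.1 := hsy _ _ a.2 b.2 hw
      have r6 : finrank F ↥(W a.1 ⊓ P b.1) = 1 := rk_span_of_mem b.2 hw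
      have r7 : finrank F ↥(P a.1 ⊓ W b.1) = 1 := by rw [inf_comm]; exact rk_span_of_mem a.2 hw'
      have mW : mat W a b = 1 := if_pos hw
      by_cases hp : b.1 ∈ P a.1
      · have r8 : finrank F ↥(P a.1 ⊓ P b.1) = 1 := rk_span_of_mem b.2 hp
        have r9 : finrank F ↥(W a.1 ⊓ W b.1) = 3 := by
          obtain ⟨c, hc⟩ := mem_span_singleton.1 hp
          have hc0 : c ≠ 0 := by
            rintro rfl
            exact b.2 (by rw [← hc, zero_smul])
          rw [← hc, hsm c _ hc0, inf_idem, h3 _ a.2]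
        have mP : mat P a b = 1 := if_pos hp
        rw [r6, r7, r8, r9, mT, mW, mP]
        linear_combination e1 + e2 + e3
      · have r8 : finrank F ↥(P a.1 ⊓ P b.1) = 0 := rk_span_of_notMem hp
        have mP : mat P a b = 0 := if_neg hp
        rw [r6, r7, r8, h2 _ _ a.2 hw hp, mT, mW, mP]
        linear_combination e1 + e3
    · have hw' : a.1 ∉ W b.1 := fun h => hw (hsy _ _ b.2 a.2 h)
      have hp : b.1 ∉ P a.1 := fun h => hw ((span_singleton_le_iff_mem _ _).2 (hself _) h)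
      have r6 : finrank F ↥(W a.1 ⊓ P b.1) = 0 := rk_span_of_notMem hw
      have r7 : finrank F ↥(P a.1 ⊓ W b.1) = 0 := by rw [inf_comm]; exact rk_span_of_notMem hw'
      have r8 : finrank F ↥(P a.1 ⊓ P b.1) = 0 := rk_span_of_notMem hp
      have mW : mat W a b = 0 := if_neg hw
      have mP : mat P a b = 0 := if_neg hp
      rw [r6, r7, r8, h1 _ _ a.2 hw, mT, mW, mP]
      linear_combination e3)
  have hN : (Fintype.card {u : U // u ≠ 0} : ℝ) = q ^ 5 - 1 := by
    have := sum_mem (F := F) (⊤ : Submodule F U)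
    rw [finrank_top, h5] at this
    simpa using this
  have ht : (α • mat W + β • mat P + γ • mat T).trace = (q ^ 5 - 1) * (α + β + γ) := by
    have : ∀ a : {u : U // u ≠ 0}, (α • mat W + β • mat P + γ • mat T) a a = α + β + γ := by
      intro a
      have m1 : mat W a a = 1 := if_pos (hself _)
      have m2 : mat P a a = 1 := if_pos (mem_span_singleton_self _)
      have m3 : mat T a a = 1 := if_pos mem_top
      simp only [Matrix.add_apply, Matrix.smul_apply, smul_eq_mul, m1, m2, m3, mul_one]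
    simp only [Matrix.trace, Matrix.diag_apply, this, Finset.sum_const, Finset.card_univ,
      nsmul_eq_mul, hN]
  rw [← ht, hf] at e4
  have hpos : 0 < q * (q - 1) ^ 2 * (q + 1) := by
    have : 0 < q - 1 := by linarith
    positivity
  have hirr : Irrational (√5) := by
    simpa using (by norm_num : Nat.Prime 5).irrational_sqrt
  have hne : q ^ 4 + q ^ 3 + q ^ 2 + q - 2 * (f : ℝ) ≠ 0 := by
    intro h0
    rw [h0, mul_zero] at e4
    linarith
  refine hirr ⟨((Nat.card F : ℚ) * ((Nat.card F : ℚ) - 1) ^ 2 * ((Nat.card F : ℚ) + 1)) /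
    ((Nat.card F : ℚ) ^ 4 + (Nat.card F : ℚ) ^ 3 + (Nat.card F : ℚ) ^ 2 + (Nat.card F : ℚ) -
      2 * (f : ℚ)), ?_⟩
  push_cast
  rw [← hqd, div_eq_iff hne, e4]

end H17.CKP
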