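import Cfsg.Agent.H53.CKSpec

/-! CK-WF: consequences of `H53.CK.WS`. -/

set_option autoImplicit false

namespace H17.CKW

open Module Submodule H53.CK

universe u v

theorem dcount {A B : Type*} [Finite A] [Finite B] (s : Set A) (t : Set B) (R : A → B → Prop)
    {m n : ℕ} (hm : ∀ a ∈ s, {b | b ∈ t ∧ R a b}.ncard = m)
    (hn : ∀ b ∈ t, {a | a ∈ s ∧ R a b}.ncard = n) : s.ncard * m = t.ncard * n := by
  classical
  have hs := s.toFinite
  have ht := t.toFinite
  rw [Set.ncard_eq_toFinset_card s hs, Set.ncard_eq_toFinset_card t ht]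
  refine Finset.card_mul_eq_card_mul R (fun a ha => ?_) (fun b hb => ?_)
  · rw [← hm a (by simpa using ha), ← Set.ncard_coe_finset]
    congr 1
    ext b
    simp [Finset.bipartiteAbove]
  · rw [← hn b (by simpa using hb), ← Set.ncard_coe_finset]
    congr 1
    ext a
    simp [Finset.bipartiteBelow]

variable {F : Type u} [Field F] {V : Type v} [AddCommGroup V] [Module F V]

theorem ncard_diff [Finite F] [FiniteDimensional F V] {S T : Submodule F V} (h : S ≤ T) :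
    (((T : Set V) \ (S : Set V)).ncard : ℤ) =
      (Nat.card F : ℤ) ^ finrank F T - (Nat.card F : ℤ) ^ finrank F S := by
  have : Finite V := Module.finite_of_finite F
  have h1 := Set.ncard_diff_add_ncard_of_subset (show (S : Set V) ⊆ T from h)
  have e : ∀ U : Submodule F V, (U : Set V).ncard = Nat.card F ^ finrank F U := fun U => by
    rw [← Module.natCard_eq_pow_finrank (K := F), ← Nat.card_coe_set_eq]; rfl
  rw [e, e] at h1
  have h2 : (((T : Set V) \ (S : Set V)).ncard : ℤ) + (Nat.card F : ℤ) ^ finrank F S =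
      (Nat.card F : ℤ) ^ finrank F T := by exact_mod_cast h1
  linarith

theorem mem_ann {S : Submodule F V} {φ : Dual F V} :
    φ ∈ S.dualAnnihilator ↔ S ≤ LinearMap.ker φ := by
  rw [mem_dualAnnihilator]; rfl

variable {X : Subgroup (V ≃ₗ[F] V)} (S : WS X)

theorem mem_iff {g : V ≃ₗ[F] V} (hg : g ∈ X) (x y : V) : g y ∈ S.W (g x) ↔ y ∈ S.W x :=
  ⟨fun h => by
    have := S.map g⁻¹ (X.inv_mem hg) _ _ h
    change g.symm (g y) ∈ S.W (g.symm (g x)) at this
    simpa using this, S.map g hg x y⟩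

theorem rk_eq {A B : Submodule F V} (g : V ≃ₗ[F] V) (h : ∀ y, g y ∈ B ↔ y ∈ A) :
    finrank F A = finrank F B := by
  have : A.map (g : V →ₗ[F] V) = B := by
    ext z
    obtain ⟨y, rfl⟩ := g.surjective z
    rw [h]
    exact ⟨fun ⟨y', hy', e⟩ => g.injective e ▸ hy', fun hy => ⟨y, hy, rfl⟩⟩
  rw [← this, LinearEquiv.finrank_map_eq]

theorem pair {x y x' y' : V} (hx : x ≠ 0) (hx' : x' ≠ 0) (hy : y ∈ S.W x) (hy' : y' ∈ S.W x')
    (hn : y ∉ F ∙ x) (hn' : y' ∉ F ∙ x') :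
    ∃ g ∈ X, g y = y' ∧ S.W (g x) = S.W x' := by
  obtain ⟨φ, h1, h2⟩ := H62.exists_dual_pair hn
  obtain ⟨φ', h1', h2'⟩ := H62.exists_dual_pair hn'
  obtain ⟨g, hg, c, hc, hgy, -⟩ := S.key x y x' y' φ φ' hx hx' hy hy' h2 h1 h2' h1'
  refine ⟨g, hg, hgy, ?_⟩
  rw [hc, S.smul]
  rintro rfl
  exact hx (g.injective (by rw [hc, zero_smul, map_zero]))

theorem mem_circ {U : Submodule F V} {y : V} : y ∈ S.circ U ↔ S.W y ≤ U := Iff.rfl

theorem circ_iff {g : V ≃ₗ[F] V} (hg : g ∈ X) {φ φ' : Dual F V} (h : ∀ v, φ' (g v) = φ v) (y : V) :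
    g y ∈ S.circ (LinearMap.ker φ') ↔ y ∈ S.circ (LinearMap.ker φ) := by
  rw [mem_circ, mem_circ]
  constructor
  · intro h1 z hz
    have := h1 (S.map g hg _ _ hz)
    rwa [LinearMap.mem_ker, h] at this
  · intro h1 z hz
    obtain ⟨z, rfl⟩ := g.surjective z
    rw [LinearMap.mem_ker, h]
    exact h1 ((mem_iff S hg _ _).1 hz)

theorem exists_one {U : Submodule F V} {φ : Dual F V} (h : ¬ U ≤ LinearMap.ker φ) :
    ∃ y ∈ U, φ y = 1 := by
  obtain ⟨y, hy, h0⟩ := SetLike.not_le_iff_exists.1 h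
  rw [LinearMap.mem_ker] at h0
  exact ⟨(φ y)⁻¹ • y, U.smul_mem _ hy, by simp [h0]⟩

theorem exists_const {A : Type*} (s : Set A) (f : A → ℕ) (h : ∀ a ∈ s, ∀ b ∈ s, f a = f b) :
    ∃ m, ∀ a ∈ s, f a = m := by
  rcases s.eq_empty_or_nonempty with rfl | ⟨b, hb⟩
  · exact ⟨0, by simp⟩
  · exact ⟨f b, fun a ha => h a ha b hb⟩

theorem W_eq {x y : V} (hy : y ≠ 0) (h : y ∈ F ∙ x) : S.W y = S.W x := by
  obtain ⟨c, rfl⟩ := mem_span_singleton.1 h
  refine S.smul c x ?_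
  rintro rfl
  exact hy (zero_smul _ _)

theorem min_le {x : V} (hx : x ≠ 0) (I : Submodule F V) (hI : x ∈ I) (h : ∃ y ∈ I, y ∉ F ∙ x)
    (hinv : ∀ g ∈ X, g x ∈ F ∙ x → ∀ y ∈ I, g y ∈ I) : S.W x ≤ I := by
  intro z hz
  by_contra hzI
  obtain ⟨y, hy, hyx⟩ := h
  obtain ⟨φ, h1, h2⟩ := H62.exists_dual_eq_one hzI
  obtain ⟨ψ, h3, h4⟩ := H62.exists_dual_pair hyx
  obtain ⟨g, hg, c, hc, -, hφ⟩ := S.key x z x z (φ + ψ - ψ z • φ) φ hx hx hz hz
    (by simp [h2 x hI, h4]) (by simp [h1]) (h2 x hI) h1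
  have h5 := hφ y
  rw [h2 _ (hinv g hg (mem_span_singleton.2 ⟨c, hc.symm⟩) y hy)] at h5
  simp [h2 y hy, h3] at h5

variable [Finite F] [FiniteDimensional F V]

theorem circ_rk (hA : AF X) {w : ℕ} (hw : ∀ x, x ≠ 0 → finrank F (S.W x) = w) (φ : Dual F V)
    (hφ : φ ≠ 0) : finrank F (S.circ (LinearMap.ker φ)) + w = finrank F V := by
  have : Finite V := Module.finite_of_finite F
  have : Finite (Dual F V) := Module.finite_of_finite F
  have hone : ∀ ψ : Dual F V, ψ ≠ 0 → ∃ y, ψ y = 1 := fun ψ hψ => by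
    obtain ⟨y, -, hy⟩ := exists_one (U := ⊤) (φ := ψ) fun h =>
      hψ (LinearMap.ext fun v => h (mem_top (x := v)))
    exact ⟨y, hy⟩
  obtain ⟨x0, hx0⟩ := hone φ hφ
  have hx : x0 ≠ 0 := by
    rintro rfl
    simp at hx0
  have hq : (1 : ℤ) < Nat.card F := by exact_mod_cast Finite.one_lt_card
  obtain ⟨k, hk⟩ : ∃ k, k + w = finrank F V :=
    ⟨finrank F V - w, Nat.sub_add_cancel (hw x0 hx ▸ finrank_le _)⟩
  have hc := dcount ((⊤ : Submodule F V) \ (⊥ : Submodule F V) : Set V)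
    ((⊤ : Submodule F (Dual F V)) \ (⊥ : Submodule F (Dual F V)) : Set (Dual F V))
    (fun y ψ => S.W y ≤ LinearMap.ker ψ) (m := Nat.card F ^ k - 1)
    (n := Nat.card F ^ finrank F (S.circ (LinearMap.ker φ)) - 1) (fun y hy => by
      have hy0 : y ≠ 0 := by simpa using hy
      have h1 := ncard_diff (bot_le (a := (S.W y).dualAnnihilator))
      have h2 := Subspace.finrank_add_finrank_dualAnnihilator_eq (S.W y)
      rw [hw y hy0] at h2
      rw [show finrank F (S.W y).dualAnnihilator = k by omega, finrank_bot, pow_zero] at h1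
      have h3 : {b | b ∈ ((⊤ : Submodule F (Dual F V)) \ (⊥ : Submodule F (Dual F V)) :
          Set (Dual F V)) ∧ S.W y ≤ LinearMap.ker b} =
          ((S.W y).dualAnnihilator : Set (Dual F V)) \ (⊥ : Submodule F (Dual F V)) := by
        ext ψ
        simp [-mem_dualAnnihilator, mem_ann, and_comm]
      rw [h3]
      zify [Nat.one_le_pow k _ (Nat.card_pos (α := F))]
      exact h1) (fun ψ hψ => by
      have hψ0 : ψ ≠ 0 := by simpa using hψ
      obtain ⟨y, hy⟩ := hone ψ hψ0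
      obtain ⟨g, hg, -, hgφ⟩ := hA x0 y φ ψ hx0 hy
      rw [rk_eq g (circ_iff S hg hgφ)]
      have h1 := ncard_diff (bot_le (a := S.circ (LinearMap.ker ψ)))
      rw [finrank_bot, pow_zero] at h1
      have h3 : {a | a ∈ ((⊤ : Submodule F V) \ (⊥ : Submodule F V) : Set V) ∧
          S.W a ≤ LinearMap.ker ψ} =
          (S.circ (LinearMap.ker ψ) : Set V) \ (⊥ : Submodule F V) := by
        ext a
        simp [mem_circ, and_comm]
      rw [h3]
      zify [Nat.one_le_pow _ _ (Nat.card_pos (α := F))]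
      exact h1)
  zify [Nat.one_le_pow _ _ (Nat.card_pos (α := F))] at hc
  rw [ncard_diff bot_le, ncard_diff bot_le, finrank_top, finrank_top, finrank_bot, finrank_bot,
    Subspace.dual_finrank_eq, pow_zero] at hc
  have hn : 0 < finrank F V := finrank_pos_iff_exists_ne_zero.2 ⟨x0, hx⟩
  have h1 : (Nat.card F : ℤ) ^ finrank F V - 1 ≠ 0 := by
    have := one_lt_pow₀ hq hn.ne'
    linarith
  have h2 := mul_left_cancel₀ h1 hc
  have h3 : k = finrank F (S.circ (LinearMap.ker φ)) :=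
    pow_right_injective₀ (by linarith) hq.ne' (by simpa using h2)
  omega

theorem arith {q : ℤ} (hq : 1 < q) {k e w f : ℕ} (hw : 1 ≤ w) (he : 1 ≤ e)
    (h : (q ^ (w + 1) - q ^ 1) * (q ^ (k + e) - q ^ k) = (q ^ (k + e + w) - q ^ (k + e)) *
      (q ^ f - 1)) : e = 1 := by
  by_contra h1
  obtain ⟨e, rfl⟩ : ∃ e', e = e' + 2 := ⟨e - 2, by omega⟩
  have h2 : q ^ w - 1 ≠ 0 := by
    have := one_lt_pow₀ hq (by omega : w ≠ 0)
    linarith
  have h0 : q ≠ 0 := by linarith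
  have h3 : (q ^ w - 1) * q ^ (k + 1) * (q * (q ^ (e + 1) - q ^ e * (q ^ f - 1)) - 1) = 0 := by
    linear_combination h
  have h4 := (mul_eq_zero.1 h3).resolve_left (mul_ne_zero h2 (pow_ne_zero _ h0))
  have h5 : q ∣ 1 := ⟨_, (sub_eq_zero.1 h4).symm⟩
  have := Int.le_of_dvd one_pos h5
  linarith

theorem cod_one {w d : ℕ} (hw : ∀ x, x ≠ 0 → finrank F (S.W x) = w) {x : V} (hx : x ≠ 0)
    (hd : ∀ y ∈ S.W x, y ∉ F ∙ x → finrank F ↥(S.W x ⊓ S.W y) = d) (hlt : d < w) :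
    d + 1 = w := by
  have : Finite V := Module.finite_of_finite F
  have : Finite (Dual F V) := Module.finite_of_finite F
  have hq : (1 : ℤ) < Nat.card F := by exact_mod_cast Finite.one_lt_card
  have hxW : (F ∙ x) ≤ S.W x := (span_singleton_le_iff_mem _ _).2 (S.self x)
  obtain ⟨y0, hy0, hy0'⟩ := S.nt x hx
  have hne : ∀ y, y ∉ F ∙ x → y ≠ 0 := fun y hy h => hy (h ▸ zero_mem _)
  obtain ⟨e, rfl⟩ : ∃ e, w = d + e := ⟨w - d, by omega⟩
  have hsup : ∀ y ∈ S.W x, y ∉ F ∙ x → finrank F ↥(S.W x ⊔ S.W y) = d + e + e := fun y hy hy' => by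
    have := finrank_sup_add_finrank_inf_eq (S.W x) (S.W y)
    rw [hd y hy hy', hw x hx, hw y (hne y hy')] at this
    omega
  obtain ⟨k, hk⟩ : ∃ k, finrank F V = k + (d + e + e) :=
    ⟨finrank F V - (d + e + e), (Nat.sub_add_cancel (hsup y0 hy0 hy0' ▸ finrank_le _)).symm⟩
  have h2 : 1 < d + e := by
    have := finrank_lt_finrank_of_lt (lt_of_le_of_ne hxW fun h => hy0' (h ▸ hy0))
    rwa [finrank_span_singleton hx, hw x hx] at this
  obtain ⟨w', hw'⟩ : ∃ w', d + e = w' + 1 := ⟨d + e - 1, by omega⟩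
  set Φ : Set (Dual F V) := ((F ∙ x).dualAnnihilator : Set (Dual F V)) \ (S.W x).dualAnnihilator
    with hΦ
  have mΦ : ∀ φ, φ ∈ Φ ↔ φ x = 0 ∧ ¬ S.W x ≤ LinearMap.ker φ := fun φ => by
    simp [hΦ, -mem_dualAnnihilator, mem_ann]
  obtain ⟨f, hf⟩ := exists_const Φ (fun φ => finrank F ↥(S.circ (LinearMap.ker φ) ⊓ S.W x))
    fun φ hφ φ' hφ' => by
      obtain ⟨h1, h2⟩ := (mΦ _).1 hφ
      obtain ⟨h1', h2'⟩ := (mΦ _).1 hφ'
      obtain ⟨y, hy, h3⟩ := exists_one h2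
      obtain ⟨y', hy', h3'⟩ := exists_one h2'
      obtain ⟨g, hg, c, hc, -, hgφ⟩ := S.key x y x y' φ φ' hx hx hy hy' h1 h3 h1' h3'
      have hW : S.W (g x) = S.W x :=
        W_eq S (by simpa using hx) (mem_span_singleton.2 ⟨c, hc.symm⟩)
      refine rk_eq g fun z => ?_
      rw [mem_inf, mem_inf, circ_iff S hg hgφ, ← mem_iff S hg x z, hW]
  have hle : Nat.card F ^ k ≤ Nat.card F ^ (k + e) :=
    Nat.pow_le_pow_right Nat.card_pos (by omega)
  have hc := dcount ((S.W x : Set V) \ (F ∙ x : Submodule F V)) Φ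
    (fun y ψ => S.W y ≤ LinearMap.ker ψ) (m := Nat.card F ^ (k + e) - Nat.card F ^ k)
    (n := Nat.card F ^ f - 1) (fun y hy => by
      obtain ⟨hy1, hy2⟩ := hy
      have h1 := ncard_diff (dualAnnihilator_anti (le_sup_right (a := S.W x) (b := S.W y)))
      have h2 := Subspace.finrank_add_finrank_dualAnnihilator_eq (S.W y)
      have h2' := Subspace.finrank_add_finrank_dualAnnihilator_eq (S.W x ⊔ S.W y)
      rw [hw y (hne y hy2)] at h2
      rw [hsup y hy1 hy2] at h2'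
      rw [show finrank F (S.W y).dualAnnihilator = k + e by omega,
        show finrank F (S.W x ⊔ S.W y).dualAnnihilator = k by omega] at h1
      have h3 : {b | b ∈ Φ ∧ S.W y ≤ LinearMap.ker b} =
          ((S.W y).dualAnnihilator : Set (Dual F V)) \ (S.W x ⊔ S.W y).dualAnnihilator := by
        ext ψ
        simp only [Set.mem_setOf_eq, mΦ, Set.mem_diff, SetLike.mem_coe, mem_ann, sup_le_iff]
        exact ⟨fun h => ⟨h.2, fun h' => h.1.2 h'.1⟩, fun h =>
          ⟨⟨h.1 (S.symm x y (hne y hy2) hy1), fun h' => h.2 ⟨h', h.1⟩⟩, h.1⟩⟩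
      rw [h3]
      zify [hle]
      exact h1) (fun ψ hψ => by
      have h1 := ncard_diff (bot_le (a := S.circ (LinearMap.ker ψ) ⊓ S.W x))
      rw [finrank_bot, pow_zero, hf ψ hψ] at h1
      have h3 : {a | a ∈ ((S.W x : Set V) \ (F ∙ x : Submodule F V)) ∧
          S.W a ≤ LinearMap.ker ψ} =
          ((S.circ (LinearMap.ker ψ) ⊓ S.W x : Submodule F V) : Set V) \ (⊥ : Submodule F V) := by
        ext a
        simp only [Set.mem_setOf_eq, Set.mem_diff, SetLike.mem_coe, mem_inf, mem_circ, mem_bot]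
        exact ⟨fun h => ⟨⟨h.2, h.1.1⟩, hne a h.1.2⟩, fun h => ⟨⟨h.1.2, fun h' =>
          ((mΦ ψ).1 hψ).2 (W_eq S h.2 h' ▸ h.1.1)⟩, h.1.1⟩⟩
      rw [h3]
      zify [Nat.one_le_pow _ _ (Nat.card_pos (α := F))]
      exact h1)
  zify [hle, Nat.one_le_pow _ _ (Nat.card_pos (α := F))] at hc
  have a1 := Subspace.finrank_add_finrank_dualAnnihilator_eq (F ∙ x)
  have a2 := Subspace.finrank_add_finrank_dualAnnihilator_eq (S.W x)
  rw [finrank_span_singleton hx] at a1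
  rw [hw x hx] at a2
  rw [ncard_diff hxW, hΦ, ncard_diff (dualAnnihilator_anti hxW), finrank_span_singleton hx,
    hw x hx, hw', show finrank F (S.W x).dualAnnihilator = k + e by omega,
    show finrank F (F ∙ x).dualAnnihilator = k + e + w' by omega] at hc
  have := arith hq (by omega) (by omega) hc
  omega

theorem jobWF : JobWF.{u, v} := by
  intro F _ _ V _ _ _ X S _ hA h2
  obtain ⟨x0, hx0⟩ := finrank_pos_iff_exists_ne_zero.1 (show 0 < finrank F V by omega)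
  obtain ⟨y0, hy0, hy0'⟩ := S.nt x0 hx0
  have hw : ∀ x, x ≠ 0 → finrank F (S.W x) = finrank F (S.W x0) := fun x hx => by
    obtain ⟨y, hy, hy'⟩ := S.nt x hx
    obtain ⟨g, hg, -, h⟩ := pair S hx hx0 hy hy0 hy' hy0'
    exact rk_eq g fun z => by rw [← h, mem_iff S hg]
  have hd : ∀ x y, x ≠ 0 → y ∈ S.W x → y ∉ F ∙ x →
      finrank F ↥(S.W x ⊓ S.W y) = finrank F ↥(S.W x0 ⊓ S.W y0) := fun x y hx hy hy' => by
    obtain ⟨g, hg, h1, h⟩ := pair S hx hx0 hy hy0 hy' hy0'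
    exact rk_eq g fun z => by rw [← h, ← h1, mem_inf, mem_inf, mem_iff S hg, mem_iff S hg]
  refine ⟨_, hw, circ_rk S hA hw, fun x hx I => min_le S hx I, ?_⟩
  rcases (finrank_mono (inf_le_left (a := S.W x0) (b := S.W y0))).eq_or_lt with h | h
  · refine .inl fun x y hy hyx => ?_
    by_cases hs : y ∈ F ∙ x
    · exact W_eq S hy hs
    have hx : x ≠ 0 := by
      rintro rfl
      rw [S.zero] at hyx
      exact hy hyx
    have h1 := hd x y hx hyx hs
    have e1 : S.W x ⊓ S.W y = S.W x := eq_of_le_of_finrank_eq inf_le_left (by rw [h1, h, hw x hx])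
    have e2 : S.W x ⊓ S.W y = S.W y := eq_of_le_of_finrank_eq inf_le_right (by rw [h1, h, hw y hy])
    rw [← e2, e1]
  · refine .inr fun x y hx hy hy' => ?_
    rw [hd x y hx hy hy']
    exact cod_one S hw hx0 (fun y => hd x0 y hx0) h

end H17.CKW
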