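import Cfsg.Agent.H90.D3Emb

/-! D3 tower (row S5261), slot Emb: the coordinates describe a Sylow subgroup of the triality group. -/

set_option autoImplicit false
set_option linter.unusedSectionVars false
set_option linter.unusedSimpArgs false
set_option linter.unusedTactic false
set_option linter.unreachableTactic false
set_option linter.unnecessarySeqFocus false

open Subgroup H90.D3 H68 Cfsg.Lie

universe v

namespace H17.D3E

variable {K : Type*} [Field K] {T : CF K}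

/-- right multiplication by `x` is respected -/
def Rt (x : Co T) : Prop := ∀ u : Co T, wd (u * x) = wd u * wd x

theorem eng' (v : List K) (hv : v.length ≤ 16) (w₁ w₂ : PW) {l₁ l₂ : List (ℕ × K)}
    (h : H65.chkWords chevD4 id 0 12 4095 H65.rowsD4 (flatPW w₁) (flatPW w₂) = true)
    (e₁ : l₁ = evPW v w₁) (e₂ : l₂ = evPW v w₂) : (mat chevD4 K).wd l₁ = (mat chevD4 K).wd l₂ := by
  rw [e₁, e₂]; exact engD4 v hv w₁ w₂ h

/-- the short root element -/
noncomputable def wa (T : CF K) (t : K) : GL chevD4.Idx K :=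
  (mat chevD4 K).wd [(18, t), (13, T.σ t), (12, T.σ (T.σ t))]

/-- the part in `Q₁` -/
noncomputable def wq (u : Co T) : GL chevD4.Idx K :=
  (mat chevD4 K).wd [(14, u.b), (19, u.c), (16, -T.σ u.c), (15, -T.σ (T.σ u.c)), (17, u.d),
    (20, -T.σ u.d), (21, -T.σ (T.σ u.d)), (22, u.e), (23, u.g)]

theorem q_xa (t : K) (u : Co T) : wa T t * wq (u * xa T t) = wq u * wa T t := by
  simp only [wa, wq, ← CM.wd_append]
  refine eng' [u.b, u.c, T.σ u.c, T.σ (T.σ u.c), u.d, T.σ u.d, T.σ (T.σ u.d), u.e, u.g, t, T.σ t, T.σ (T.σ t)]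
    (by simp)
    [(18, [(1, [9])]), (13, [(1, [10])]), (12, [(1, [11])]), (14, [(1, [0])]), (19, [(1, [1]), (1,
     [0, 9])]), (16, [(-1, [2]), (-1, [0, 10])]), (15, [(-1, [3]), (-1, [0, 11])]), (17, [(1, [4]),
     (1, [2, 11]), (1, [3, 10]), (1, [0, 10, 11])]), (20, [(-1, [5]), (-1, [1, 11]), (-1, [3, 9]),
     (-1, [0, 9, 11])]), (21, [(-1, [6]), (-1, [1, 10]), (-1, [2, 9]), (-1, [0, 9, 10])]), (22, [(1,
     [7]), (1, [4, 9]), (1, [5, 10]), (1, [6, 11]), (1, [1, 10, 11]), (1, [2, 9, 11]), (1, [3, 9,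
     10]), (1, [0, 9, 10, 11])]), (23, [(1, [8]), (1, [1, 2, 11]), (1, [1, 3, 10]), (1, [2, 3, 9]),
     (1, [0, 1, 10, 11]), (1, [0, 2, 9, 11]), (1, [0, 3, 9, 10]), (1, [0, 0, 9, 10, 11])])]
    [(14, [(1, [0])]), (19, [(1, [1])]), (16, [(-1, [2])]), (15, [(-1, [3])]), (17, [(1, [4])]),
     (20, [(-1, [5])]), (21, [(-1, [6])]), (22, [(1, [7])]), (23, [(1, [8])]), (18, [(1, [9])]),
     (13, [(1, [10])]), (12, [(1, [11])])]
    (by decide +kernel) ?_ ?_
  · simp [evPW, xa, CF.tr, CF.nm, CF.sh, CF.cr, T.cube]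
    all_goals (repeat' constructor) <;> ring
  · simp [evPW, xa]

theorem q_xb (t : T.k) (u : Co T) : wq (u * xb T t) = wq u * wq (xb T t) := by
  simp only [wq, ← CM.wd_append]
  refine eng' [u.b, u.c, T.σ u.c, T.σ (T.σ u.c), u.d, T.σ u.d, T.σ (T.σ u.d), u.e, u.g, (t : K)]
    (by simp)
    [(14, [(1, [0]), (1, [9])]), (19, [(1, [1])]), (16, [(-1, [2])]), (15, [(-1, [3])]), (17, [(1,
     [4])]), (20, [(-1, [5])]), (21, [(-1, [6])]), (22, [(1, [7])]), (23, [(1, [8]), (-1, [7, 9])])]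
    [(14, [(1, [0])]), (19, [(1, [1])]), (16, [(-1, [2])]), (15, [(-1, [3])]), (17, [(1, [4])]),
     (20, [(-1, [5])]), (21, [(-1, [6])]), (22, [(1, [7])]), (23, [(1, [8])]), (14, [(1, [9])]),
     (19, []), (16, []), (15, []), (17, []), (20, []), (21, []), (22, []), (23, [])]
    (by decide +kernel) ?_ ?_
  · simp [evPW, xb, CF.tr, CF.nm, CF.sh, CF.cr, T.cube]
    all_goals (repeat' constructor) <;> ring
  · simp [evPW, xb]

theorem q_xc (t : K) (u : Co T) : wq (u * xc T t) = wq u * wq (xc T t) := by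
  simp only [wq, ← CM.wd_append]
  refine eng' [u.b, u.c, T.σ u.c, T.σ (T.σ u.c), u.d, T.σ u.d, T.σ (T.σ u.d), u.e, u.g, t, T.σ t, T.σ (T.σ t)]
    (by simp)
    [(14, [(1, [0])]), (19, [(1, [1]), (1, [9])]), (16, [(-1, [2]), (-1, [10])]), (15, [(-1, [3]),
     (-1, [11])]), (17, [(1, [4])]), (20, [(-1, [5])]), (21, [(-1, [6])]), (22, [(1, [7])]), (23,
     [(1, [8]), (1, [4, 9]), (1, [5, 10]), (1, [6, 11])])]
    [(14, [(1, [0])]), (19, [(1, [1])]), (16, [(-1, [2])]), (15, [(-1, [3])]), (17, [(1, [4])]),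
     (20, [(-1, [5])]), (21, [(-1, [6])]), (22, [(1, [7])]), (23, [(1, [8])]), (14, []), (19, [(1,
     [9])]), (16, [(-1, [10])]), (15, [(-1, [11])]), (17, []), (20, []), (21, []), (22, []), (23,
     [])]
    (by decide +kernel) ?_ ?_
  · simp [evPW, xc, CF.tr, CF.nm, CF.sh, CF.cr, T.cube]
    all_goals (repeat' constructor) <;> ring
  · simp [evPW, xc]

theorem q_xd (t : K) (u : Co T) : wq (u * xd T t) = wq u * wq (xd T t) := by
  simp only [wq, ← CM.wd_append]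
  refine eng' [u.b, u.c, T.σ u.c, T.σ (T.σ u.c), u.d, T.σ u.d, T.σ (T.σ u.d), u.e, u.g, t, T.σ t, T.σ (T.σ t)]
    (by simp)
    [(14, [(1, [0])]), (19, [(1, [1])]), (16, [(-1, [2])]), (15, [(-1, [3])]), (17, [(1, [4]), (1,
     [9])]), (20, [(-1, [5]), (-1, [10])]), (21, [(-1, [6]), (-1, [11])]), (22, [(1, [7])]), (23,
     [(1, [8])])]
    [(14, [(1, [0])]), (19, [(1, [1])]), (16, [(-1, [2])]), (15, [(-1, [3])]), (17, [(1, [4])]),
     (20, [(-1, [5])]), (21, [(-1, [6])]), (22, [(1, [7])]), (23, [(1, [8])]), (14, []), (19, []),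
     (16, []), (15, []), (17, [(1, [9])]), (20, [(-1, [10])]), (21, [(-1, [11])]), (22, []), (23,
     [])]
    (by decide +kernel) ?_ ?_
  · simp [evPW, xd, CF.tr, CF.nm, CF.sh, CF.cr, T.cube]
    all_goals (repeat' constructor) <;> ring
  · simp [evPW, xd]

theorem q_xe (t : T.k) (u : Co T) : wq (u * xe T t) = wq u * wq (xe T t) := by
  simp only [wq, ← CM.wd_append]
  refine eng' [u.b, u.c, T.σ u.c, T.σ (T.σ u.c), u.d, T.σ u.d, T.σ (T.σ u.d), u.e, u.g, (t : K)]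
    (by simp)
    [(14, [(1, [0])]), (19, [(1, [1])]), (16, [(-1, [2])]), (15, [(-1, [3])]), (17, [(1, [4])]),
     (20, [(-1, [5])]), (21, [(-1, [6])]), (22, [(1, [7]), (1, [9])]), (23, [(1, [8])])]
    [(14, [(1, [0])]), (19, [(1, [1])]), (16, [(-1, [2])]), (15, [(-1, [3])]), (17, [(1, [4])]),
     (20, [(-1, [5])]), (21, [(-1, [6])]), (22, [(1, [7])]), (23, [(1, [8])]), (14, []), (19, []),
     (16, []), (15, []), (17, []), (20, []), (21, []), (22, [(1, [9])]), (23, [])]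
    (by decide +kernel) ?_ ?_
  · simp [evPW, xe, CF.tr, CF.nm, CF.sh, CF.cr, T.cube]
    all_goals (repeat' constructor) <;> ring
  · simp [evPW, xe]

theorem q_xg (t : T.k) (u : Co T) : wq (u * xg T t) = wq u * wq (xg T t) := by
  simp only [wq, ← CM.wd_append]
  refine eng' [u.b, u.c, T.σ u.c, T.σ (T.σ u.c), u.d, T.σ u.d, T.σ (T.σ u.d), u.e, u.g, (t : K)]
    (by simp)
    [(14, [(1, [0])]), (19, [(1, [1])]), (16, [(-1, [2])]), (15, [(-1, [3])]), (17, [(1, [4])]),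
     (20, [(-1, [5])]), (21, [(-1, [6])]), (22, [(1, [7])]), (23, [(1, [8]), (1, [9])])]
    [(14, [(1, [0])]), (19, [(1, [1])]), (16, [(-1, [2])]), (15, [(-1, [3])]), (17, [(1, [4])]),
     (20, [(-1, [5])]), (21, [(-1, [6])]), (22, [(1, [7])]), (23, [(1, [8])]), (14, []), (19, []),
     (16, []), (15, []), (17, []), (20, []), (21, []), (22, []), (23, [(1, [9])])]
    (by decide +kernel) ?_ ?_
  · simp [evPW, xg, CF.tr, CF.nm, CF.sh, CF.cr, T.cube]
    all_goals (repeat' constructor) <;> ring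
  · simp [evPW, xg]

theorem wa_add (s t : K) : wa T (s + t) = wa T s * wa T t := by
  simp only [wa, ← CM.wd_append]
  refine eng' [s, T.σ s, T.σ (T.σ s), t, T.σ t, T.σ (T.σ t)] (by simp)
    [(18, [(1, [0]), (1, [3])]), (13, [(1, [1]), (1, [4])]), (12, [(1, [2]), (1, [5])])]
    [(18, [(1, [0])]), (13, [(1, [1])]), (12, [(1, [2])]), (18, [(1, [3])]), (13, [(1, [4])]),
     (12, [(1, [5])])] (by decide +kernel) ?_ ?_ <;> simp [evPW]

theorem wa_zero : wa T 0 = 1 := by simp [wa]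

theorem wd_split (u : Co T) : wd u = wa T u.a * wq u :=
  (wd_def u).trans ((mat chevD4 K).wd_append [(18, u.a), (13, T.σ u.a), (12, T.σ (T.σ u.a))] _)

theorem Rt.mul {x y : Co T} (hx : Rt x) (hy : Rt y) : Rt (x * y) := fun u => by
  rw [← mul_assoc, hy (u * x), hx u, hy x, mul_assoc]

theorem r_q {x : Co T} (h : x.a = 0) (k : ∀ u, wq (u * x) = wq u * wq x) : Rt x := fun u => by
  simp only [wd_split, Co.mul_a, h, add_zero, wa_zero, one_mul, k, mul_assoc]

theorem r_xa (t : K) : Rt (xa T t) := fun u => by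
  have e : wq (xa T t) = 1 := by simp [wq, xa]
  simp only [wd_split, e, mul_one, mul_assoc]
  exact (congrArg (· * _) (wa_add u.a t)).trans ((mul_assoc _ _ _).trans (congrArg _ (q_xa t u)))

theorem wd_mul (u w : Co T) : wd (u * w) = wd u * wd w :=
  (nf w).symm ▸ (((((r_xa _).mul (r_q rfl (q_xb _))).mul (r_q rfl (q_xc _))).mul
    (r_q rfl (q_xd _))).mul (r_q rfl (q_xe _))).mul (r_q rfl (q_xg _)) <| u

theorem nfU : (mat chevD4 K).NF (mat chevD4 K).T.U [18, 13, 12, 14, 19, 16, 15, 17, 20, 21, 22, 23] :=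
  UJ_univ (T := (mat chevD4 K).T) ▸ (mat chevD4 K).nf_UJ (fun _ => true) (by simp) _ (by decide +kernel)

theorem wd_inj : Function.Injective (wd (T := T)) := fun u w e => by
  have := nfU.inj _ _ rfl rfl ((wd_def u).symm.trans (e.trans (wd_def w)))
  simp only [List.cons.injEq, Prod.mk.injEq, true_and] at this
  obtain ⟨h1, -, -, h2, h3, -, -, h4, -, -, h5, h6, -⟩ := this
  exact Co.ext h1 h2 h3 h4 h5 h6

theorem σ_wd [Fintype K] {q : ℕ} (hq : IsPrimePow q) (hK : Fintype.card K = q ^ 3)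
    (a a' a'' b c c' c'' d d' d'' e g : K) :
    (smD4 hq hK).σ ((mat chevD4 K).wd [(18, a), (13, a'), (12, a''), (14, b), (19, c), (16, c'),
      (15, c''), (17, d), (20, d'), (21, d''), (22, e), (23, g)]) =
    (mat chevD4 K).wd [(18, a'' ^ q), (13, a ^ q), (12, a' ^ q), (14, b ^ q), (19, -c'' ^ q),
      (16, -c ^ q), (15, c' ^ q), (17, -d'' ^ q), (20, -d ^ q), (21, d' ^ q), (22, e ^ q), (23, g ^ q)] := by
  rw [(smD4 hq hK).map_wd (by simp; decide)]
  have h1 : (mat chevD4 K).wd [(13, a ^ q), (12, a' ^ q), (18, a'' ^ q)] =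
      (mat chevD4 K).wd [(18, a'' ^ q), (13, a ^ q), (12, a' ^ q)] := by
    refine eng' [a ^ q, a' ^ q, a'' ^ q] (by simp)
      [(13, [(1, [0])]), (12, [(1, [1])]), (18, [(1, [2])])]
      [(18, [(1, [2])]), (13, [(1, [0])]), (12, [(1, [1])])] (by decide +kernel) ?_ ?_ <;> simp [evPW]
  have h2 : (mat chevD4 K).wd [(16, -c ^ q), (15, c' ^ q), (19, -c'' ^ q)] =
      (mat chevD4 K).wd [(19, -c'' ^ q), (16, -c ^ q), (15, c' ^ q)] := by
    refine eng' [-c ^ q, c' ^ q, -c'' ^ q] (by simp)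
      [(16, [(1, [0])]), (15, [(1, [1])]), (19, [(1, [2])])]
      [(19, [(1, [2])]), (16, [(1, [0])]), (15, [(1, [1])])] (by decide +kernel) ?_ ?_ <;> simp [evPW]
  have h3 : (mat chevD4 K).wd [(20, -d ^ q), (21, d' ^ q), (17, -d'' ^ q)] =
      (mat chevD4 K).wd [(17, -d'' ^ q), (20, -d ^ q), (21, d' ^ q)] := by
    refine eng' [-d ^ q, d' ^ q, -d'' ^ q] (by simp)
      [(20, [(1, [0])]), (21, [(1, [1])]), (17, [(1, [2])])]
      [(17, [(1, [2])]), (20, [(1, [0])]), (21, [(1, [1])])] (by decide +kernel) ?_ ?_ <;> simp [evPW]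
  simp only [CM.wd_cons, CM.wd_nil, mul_one] at h1 h2 h3
  simp only [List.map_cons, List.map_nil, smD4_ρ, smD4_γ, smD4_e, rhoD4, gamD4, CM.wd_cons, CM.wd_nil,
    mul_one, List.getD_cons_succ, List.getD_cons_zero, Int.cast_one, Int.cast_neg, one_mul, neg_mul]
  have k : ∀ {x y z : GL chevD4.Idx K}, x * (y * z) = z * (x * y) →
      ∀ w, x * (y * (z * w)) = z * (x * (y * w)) := fun h w => by
    simpa only [mul_assoc] using congrArg (· * w) h
  rw [k h1, k h2, k h3]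

theorem mem_iff [Finite K] (g : GL chevD4.Idx K) :
    g ∈ (mat chevD4 K).T.U ⊓ twistedD4 K T.q ↔ ∃ u : Co T, g = wd u := by
  have := Fintype.ofFinite K
  have hK : Fintype.card K = T.q ^ 3 := Nat.card_eq_fintype_card.symm.trans T.card
  rw [twistedD4_eq_Fix T.pp hK, nfU.mem_inf_Fix]
  change g ∈ _ ∧ (smD4 T.pp hK).σ g = g ↔ _
  constructor
  · rintro ⟨hg, e⟩
    obtain ⟨w, hw, rfl⟩ := nfU.ex g hg
    obtain ⟨a, a', a'', b, c, c', c'', d, d', d'', e', g, rfl⟩ : ∃ a a' a'' b c c' c'' d d' d'' e g : K,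
        w = [(18, a), (13, a'), (12, a''), (14, b), (19, c), (16, c'), (15, c''), (17, d), (20, d'),
          (21, d''), (22, e), (23, g)] := by
      simp only [List.map_eq_cons_iff, List.map_eq_nil_iff, Prod.exists, exists_and_left,
        exists_eq_left] at hw
      obtain ⟨_, a, _, rfl, rfl, _, a', _, rfl, rfl, _, a'', _, rfl, rfl, _, b, _, rfl, rfl, _, c, _, rfl, rfl,
        _, c', _, rfl, rfl, _, c'', _, rfl, rfl, _, d, _, rfl, rfl, _, d', _, rfl, rfl, _, d'', _, rfl, rfl,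
        _, e', _, rfl, rfl, _, g, _, rfl, rfl, rfl⟩ := hw
      exact ⟨_, _, _, _, _, _, _, _, _, _, _, _, rfl⟩
    rw [σ_wd] at e
    have := nfU.inj _ _ rfl rfl e
    simp only [List.cons.injEq, Prod.mk.injEq, true_and, ← T.pw] at this
    obtain ⟨-, rfl, rfl, h1, -, rfl, rfl, -, rfl, rfl, h2, h3, -⟩ := this
    exact ⟨⟨a, b, c, d, e', g, h1, h2, h3⟩, by rw [wd_def]; simp only [map_neg]⟩
  · rintro ⟨u, rfl⟩
    rw [wd_def, σ_wd]
    exact ⟨nfU.wd_mem (by simp), by simp [← T.pw, T.cube]⟩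

theorem jobEmb : JobEmb.{v} := fun _ _ _ _ _ _ _ => ⟨wd_mul, wd_inj, mem_iff⟩

theorem jobModel : JobModel.{v} := by
  intro p hp K _ _ _ n hn hK S
  have hq : IsPrimePow (p ^ n) := hp.out.isPrimePow.pow (by omega)
  obtain ⟨f, hf⟩ := exists_frob hq hK
  obtain ⟨ω, hω⟩ : ∃ ω : K, f ω ≠ ω := by
    by_contra h
    push Not at h
    have h1 := card_fix hq.one_lt hK
    rw [Nat.card_congr (Equiv.subtypeUnivEquiv fun t => (hf t).symm.trans (h t)),
      Nat.card_eq_fintype_card, hK] at h1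
    have := Nat.pow_lt_pow_right hq.one_lt (show 1 < 3 by omega)
    rw [pow_one] at this
    omega
  let T : CF K := ⟨f, p ^ n, hf, fun x => by
    rw [hf, hf, hf, ← pow_mul, ← pow_mul, ← pow_three, ← hK, FiniteField.pow_card], ω, hω, hq,
    Nat.card_eq_fintype_card.trans hK⟩
  let ι : Co T →* twistedD4 K (p ^ n) :=
    (MonoidHom.mk' wd wd_mul).codRestrict _ fun u => ((mem_iff (T := T) _).2 ⟨u, rfl⟩).2
  have hι : Function.Injective ι := fun u w e => wd_inj (congrArg Subtype.val e)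
  have hr : ι.range = ((mat chevD4 K).T.U ⊓ twistedD4 K (p ^ n)).subgroupOf _ := by
    ext g
    exact ⟨fun ⟨u, e⟩ => (mem_iff (T := T) _).2 ⟨u, (congrArg Subtype.val e).symm⟩,
      fun h => ((mem_iff (T := T) _).1 h).imp fun u e => Subtype.ext e.symm⟩
  have hc : Nat.card ι.range = (p ^ n) ^ 12 := by
    rw [hr, Nat.card_congr (subgroupOfEquivOfLe inf_le_right).toEquiv, card_U_D4 hq hK]
  have hi : ¬ p ∣ ι.range.index := by
    have h1 := ι.range.card_mul_index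
    rw [hc, card_D4 hq hK, mul_assoc, mul_assoc] at h1
    rw [Nat.eq_of_mul_eq_mul_left (Nat.pow_pos hq.pos) h1]
    have hd : ∀ k, k ≠ 0 → p ∣ (p ^ n) ^ k := fun k hk => dvd_pow (dvd_pow_self p (by omega)) hk
    have hs : ∀ k, k ≠ 0 → ¬ p ∣ (p ^ n) ^ k - 1 := fun k hk h => hp.out.one_lt.ne' (Nat.dvd_one.1
      ((Nat.dvd_sub_iff_right (Nat.one_le_pow _ _ hq.pos) (hd k hk)).1 h))
    intro h
    rcases (Nat.Prime.dvd_mul hp.out).1 h with h | h
    · exact hs 2 (by omega) h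
    rcases (Nat.Prime.dvd_mul hp.out).1 h with h | h
    · exact hs 6 (by omega) h
    · exact hp.out.one_lt.ne' (Nat.dvd_one.1
        ((Nat.dvd_add_right (dvd_add (hd 8 (by omega)) (hd 4 (by omega)))).1 h))
  let S' : Sylow p (twistedD4 K (p ^ n)) :=
    (IsPGroup.of_card (n := n * 12) (by rw [hc, pow_mul])).toSylow hi
  exact ⟨T, ⟨(S.equiv S').trans (MonoidHom.ofInjective hι).symm⟩⟩

end H17.D3E
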