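import Cfsg.Agent.H90.D3Kit

/-! D3 tower (row S5261), slot L1. -/

set_option autoImplicit false
set_option linter.unusedSectionVars false
set_option linter.unusedSimpArgs false

open Subgroup H90.D3
open H90.RF (cm Au Pr Ok le_nor cm_eq_one)

universe v

namespace H17.D3L1

variable {K : Type*} [Field K] [Finite K] {T : CF K} {E M : Subgroup (Co T)} {p : ℕ}
  {β : Co T → Co T} {u : Co T}

/-- the norm is not additive on a plane -/
theorem na (T : CF K) (d : K) : ∃ t t', T.tr (t * d) = 0 ∧ T.tr (t' * d) = 0 ∧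
    T.tr (T.sh t * t') + T.tr (t * T.sh t') ≠ 0 := by
  by_contra hc
  push Not at hc
  obtain ⟨v, w, hv, hw, hvw⟩ := T.exists_perp2 d
  have perp : ∀ x y : T.k, T.tr ((x * v + y * w) * d) = 0 := fun x y => by
    rw [add_mul, T.tr_add, mul_assoc, mul_assoc, T.tr_k, T.tr_k, mul_comm v, mul_comm w, hv, hw]
    simp
  have inj : Function.Injective fun x : T.k × T.k => T.nmk (x.1 * v + x.2 * w) := by
    rintro ⟨x, y⟩ ⟨x', y'⟩ e
    have e1 : T.nm (x * v + y * w) = T.nm (x' * v + y' * w) := congrArg Subtype.val e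
    have e2 := T.nm_add (x * v + y * w) (-(x' * v + y' * w))
    have e3 := hc (x * v + y * w) (-(x' * v + y' * w)) (perp x y)
      (by rw [neg_mul, T.tr_neg, perp, neg_zero])
    rw [T.nm_neg] at e2
    have e4 : x * v + y * w + -(x' * v + y' * w) = 0 :=
      T.nm_eq_zero.1 (by linear_combination e2 + e3 + e1)
    have e5 : ((y - y' : T.k) : K) * T.wg v w = 0 := by
      have : ((y - y' : T.k) : K) * w = ((x' - x : T.k) : K) * v := by
        push_cast; linear_combination e4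
      rw [← T.wg_fix (T.σ_k _), this, T.wg_fix (T.σ_k _), T.wg_self, mul_zero]
    have e6 : y = y' := sub_eq_zero.1 (Subtype.ext ((mul_eq_zero.1 e5).resolve_right hvw))
    have v0 : v ≠ 0 := fun e => hvw (by simp [e, CF.wg])
    subst e6
    have e7 : x = x' := Subtype.ext (mul_right_cancel₀ v0 (by linear_combination e4))
    rw [e7]
  have := Nat.card_le_card_of_injective _ inj
  have h2 := Finite.one_lt_card (α := T.k)
  rw [Nat.card_prod] at this
  nlinarith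

theorem cm_in {s m : Co T} (hs : s ∈ E) (hm : m ∈ E) : cm s m ∈ E :=
  mul_mem (inv_mem hm) (mul_mem (mul_mem hs hm) (inv_mem hs))

section
variable (h : Bw p (zA T) 1 E M β u)
include h

theorem fr (s : Co T) : s ∈ E ↔ cm s (β u) ∈ sZ T := h.fr s

theorem fr' (s : Co T) : s ∈ E ↔
    (cm s (β u)).c = 0 ∧ (cm s (β u)).d = 0 ∧ (cm s (β u)).e = 0 :=
  (fr h s).trans ⟨fun k => k.2.2, fun k => ⟨cm_a _ _, cm_b _ _, k⟩⟩

theorem uW : u ∈ sW T := h.hu

theorem WE : sW T ≤ E := h.q.le.trans h.q.ME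

theorem nW' : β u ∉ sW T := fun k =>
  h.q.ne (eq_top_iff.2 fun s _ => (fr h s).2 (cm_Z s k))

theorem sq (two : (2 : K) = 0) : β u * β u = 1 := by
  obtain ⟨h1, h2, h3, h4⟩ := uW h
  have : u * u = 1 := by
    ext <;> simp [h1, h2, h3, h4]
    · linear_combination u.e * two
    · linear_combination u.g * two
  rw [← h.ok.1.mul _ (WE h (uW h)) _ (WE h (uW h)), this, h.ok.1.one]

theorem fr3 {s : Co T} (hs : s ∈ sZ3 T) : s ∈ E ↔ T.tr ((β u).a * s.d) = 0 := by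
  rw [fr h, ← cm_e3' hs]
  obtain ⟨h1, h2, h3, h4⟩ := cm_W' hs (β u)
  exact ⟨fun k => k.2.2.2.2, fun k => ⟨h1, h2, h3, h4, k⟩⟩

theorem caseA2 (ha : (β u).a = 0) (hb : (β u).b = 0) (hc : (β u).c ≠ 0) : E ≤ sQ1 T := fun s hs => by
  by_contra sa
  have sa : s.a ≠ 0 := sa
  obtain ⟨-, e1, e2⟩ := (fr' h s).1 hs
  simp [cm_d, ha, hb] at e1
  simp [cm_e, ha, hb] at e2
  obtain ⟨k, l, hl⟩ := T.cr_eq_zero sa e1
  have two : (2 : K) = 0 := by_contra fun two => hc (k two)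
  have e3 := congrArg Co.g (sq h two)
  simp [ha, hb] at e3
  have l0 : (l : K) ≠ 0 := fun e => hc (by rw [hl, e, zero_mul])
  rw [hl, mul_assoc, T.tr_k] at e3
  rw [hl, mul_left_comm, T.tr_k, mul_comm (T.sh _), T.mul_sh, T.tr_of_fix (T.σ_nm _)] at e2
  have e4 : T.tr (s.a * (β u).d) = 0 :=
    mul_left_cancel₀ l0 (by linear_combination e3 - (β u).g * two)
  have e5 : (l : K) * T.nm s.a = 0 := by linear_combination e2 + e4 - l * T.nm s.a * two
  simp [l0, sa] at e5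

theorem caseA3 (hw : β u ∈ sZ3 T) : False := by
  have d0 : (β u).d ≠ 0 := fun e => nW' h ⟨hw.1, hw.2.1, hw.2.2, e⟩
  obtain ⟨r, hr⟩ := T.exists_tr d0 (β u).ek
  rw [mul_comm, Co.coe_ek] at hr
  obtain ⟨t, t', ht, ht', ne⟩ := na T (β u).d
  have ue : u.e ≠ 0 := fun e => nW' h (Z_le (h.ok.2 1 le_rfl u
    ⟨(uW h).1, (uW h).2.1, (uW h).2.2.1, (uW h).2.2.2, e⟩))
  have pre : ∀ s, T.tr (s.a * (β u).d) = 0 → s.b * (β u).e = T.tr (s.c * (β u).d) →
      ∃ s' ∈ E, s' ∈ sQ2 T ∧ β s' = s := fun s k1 k2 => by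
    obtain ⟨h1, h2, h3, h4⟩ := cm_W s hw
    have h5 : (cm s (β u)).e = 0 := by rw [cm_e3 s hw, k1, neg_zero]
    have k : cm s (β u) = 1 :=
      eq_of_Z ⟨h1, h2, h3, h4, h5⟩ (one_mem _) (by rw [cm_g3 s hw, k2, sub_self, Co.one_g])
    obtain ⟨s', hs', rfl⟩ := h.ok.1.sur s ((fr h s).2 ⟨h1, h2, h3, h4, h5⟩)
    refine ⟨s', hs', ?_, rfl⟩
    rw [← h.ok.1.cm hs' (WE h (uW h))] at k
    have k' := congrArg Co.g (h.ok.1.inj _ (cm_in hs' (WE h (uW h))) k)
    rw [cm_g3 s' (W_le (uW h))] at k'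
    simpa [(uW h).2.2.2, ue, mem_sQ2] using k'
  obtain ⟨x, hx, x2, ex⟩ := pre (xa T t) ht (by simp [xa])
  obtain ⟨x', hx', -, ex'⟩ := pre (xa T t') ht' (by simp [xa])
  obtain ⟨y, hy, y2, ey⟩ := pre (w1 T 1 r 0 0) (by simp [w1]) (by simp [w1, hr])
  have k := congrArg β (cm_Q2_W y2 (cm_W x' (cm_Q2 x2 y2)))
  rw [h.ok.1.cm hy (cm_in hx' (cm_in hx hy)), h.ok.1.cm hx' (cm_in hx hy), h.ok.1.cm hx hy,
    h.ok.1.one, ex, ex', ey] at k
  have k' := congrArg Co.g k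
  rw [cm_g3 _ (cm_Z3 _ (cm_Z4 _ _)), cm_e, cm_d, cm_d, cm_c] at k'
  simp only [cm_a, cm_b, xa, w1, Co.one_g] at k'
  apply ne
  simp only [CF.tr, CF.nm, CF.sh, CF.cr, map_add, map_mul, map_sub, map_neg, map_zero, map_one, T.cube,
    OneMemClass.coe_one] at k' ⊢
  linear_combination -k'

theorem caseB (ha : (β u).a ≠ 0) (hb : (β u).b = 0) : False := by
  have hE : E ≤ sQ2 T := fun s hs => by
    simpa [cm_c, hb, ha, mem_sQ2] using ((fr' h s).1 hs).1
  have ex : ∀ a, ∃ y ∈ E, y.a = a := fun a => by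
    obtain ⟨c, hc⟩ : ∃ c, T.cr (β u).a c = T.cr a (β u).c := by
      by_cases two : (2 : K) = 0
      · have e := congrArg Co.d (sq h two)
        simp [hb] at e
        obtain ⟨-, l, hl⟩ := T.cr_eq_zero (y := (β u).c) ha (by linear_combination e - (β u).d * two)
        exact ⟨l * a, by rw [hl, T.cr_fix (T.σ_k l), T.cr_fix (T.σ_k l), T.cr_comm]⟩
      · exact T.cr_sur two ha _
    obtain ⟨d, hd⟩ := T.exists_tr ha (T.trk (a * (β u).d - T.sh (β u).a * c + c * T.cr (β u).a a -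
      T.sh a * (β u).c))
    rw [CF.coe_trk, T.tr_sub, T.tr_add, T.tr_sub] at hd
    refine ⟨w2 T a c d, (fr' h _).2 ⟨?_, ?_, ?_⟩, rfl⟩
    · simp [cm_c, w2, hb]
    · simp [cm_d, w2, hb, hc]
    · simp [cm_e, w2, hb, hd]; ring
  obtain ⟨v, v0, hv⟩ := T.exists_perp (β u).a
  obtain ⟨a, haa⟩ := T.exists_tr v0 u.ek
  obtain ⟨y, hy, rfl⟩ := ex a
  have x3 : xd T v ∈ sZ3 T := ⟨rfl, rfl, rfl⟩
  have hx : xd T v ∈ E := (fr3 h x3).2 hv
  have m : (cm (xd T v) y)⁻¹ * u ∈ sZ T := (mod1 (cm_W' x3 y)).2 ⟨uW h, by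
    rw [cm_e3' x3, mul_comm]; exact haa.symm⟩
  have : β u ∈ sZ3 T := by
    rw [← mul_inv_cancel_left (cm (xd T v) y) u,
      h.ok.1.mul _ (cm_in hx hy) _ (WE h (Z_le m)), h.ok.1.cm hx hy]
    exact mul_mem (cm_Q2 (hE (h.ok.1.mem _ hx)) (hE (h.ok.1.mem _ hy)))
      (W_le (Z_le (h.ok.2 1 le_rfl _ m)))
  exact ha this.1

theorem caseC (ha : (β u).a ≠ 0) (hb : (β u).b ≠ 0) : False := by
  have two : (2 : K) ≠ 0 := fun two => by
    have e := congrArg Co.c (sq h two)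
    simp only [Co.mul_c, Co.one_c] at e
    exact mul_ne_zero ha hb (by linear_combination e - (β u).c * two)
  let B : Subgroup (Co T) :=
    { carrier := {y | y ∈ sZ4 T ∧ T.tr (T.sh (β u).a * y.c) = 0}
      one_mem' := ⟨one_mem _, by simp⟩
      mul_mem' := fun {x y} hx hy => ⟨mul_mem hx.1 hy.1, by
        simp [hy.1.1, mul_add, T.tr_add, hx.2, hy.2]⟩
      inv_mem' := fun {x} hx => ⟨inv_mem hx.1, by simp [hx.1.1, T.tr_neg, hx.2]⟩ }
  obtain ⟨r, r0, hr⟩ := T.exists_perp (T.sh (β u).a)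
  obtain ⟨v, hv⟩ := T.exists_tr ha 1
  have x3 : xd T v ∈ sZ3 T := ⟨rfl, rfl, rfl⟩
  refine h.q.no2 (B := B) (le_nor fun y hy x hx => (fr3 h (cm_Z3' hy.1 x)).2 ?_)
    (fun x hx y hy m _ => cm_Q1 hx.1.1 (cm_a _ _)) (s := xd T v) ⟨Z3_le x3, by simp [xd]⟩
    (fun k => ?_) (fun x y : T.k => xc T (x * r) * xd T (y * v)) (xe T)
    (fun x y => ⟨⟨by simp [xc, xd], by simp [xc, xd]⟩, by
      simp [xc, xd, mul_left_comm (T.sh _), T.tr_k, hr]⟩)
    (fun x y x' y' k => ?_) fun m _ => ⟨T.trk (m.a * v), (mod1 ⟨rfl, rfl, rfl, rfl⟩).2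
      ⟨cm_W' x3 m, cm_e3' x3 m⟩⟩
  · have e := ((fr' h x).1 hx).1
    rw [cm_c] at e
    have e1 : x.a = (x.bk / (β u).bk : T.k) * (β u).a := by
      push_cast [Co.coe_bk]; field_simp; linear_combination -e
    rw [cm_d, hy.1.1, hy.1.2, e1, T.cr_comm _ y.c, T.cr_fix (T.σ_k _), T.cr_comm y.c]
    simp [mul_left_comm (β u).a, -Subfield.coe_div, T.tr_k, T.tr_cr_self, hy.2]
  · have := (fr3 h x3).1 k
    simp [xd, hv] at this
  · have e := ((fr' h _).1 k).2.1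
    simp [cm_d, xc, xd] at e
    have e1 := (T.cr_eq_zero ha e).1 two
    have e2 : x = x' := Subtype.ext (mul_right_cancel₀ r0 (by linear_combination -e1))
    subst e2
    have e3 := (fr3 h ⟨by simp [xc, xd], by simp [xc, xd], by simp [xc, xd]⟩).1 k
    simp [xc, xd, mul_add, T.tr_add, T.tr_neg, mul_left_comm (β u).a, T.tr_k, hv] at e3
    exact ⟨rfl, Subtype.ext (by linear_combination -e3)⟩

theorem lev1 : E = sQ1 T := by
  by_cases ha : (β u).a = 0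
  · refine le_antisymm ?_ fun s hs => (fr h s).2 (cm_Q1 hs ha)
    by_cases hb : (β u).b = 0
    · by_cases hc : (β u).c = 0
      · exact (caseA3 h ⟨ha, hb, hc⟩).elim
      · exact caseA2 h ha hb hc
    · exact fun s hs => by simpa [cm_c, ha, hb, mem_sQ1] using ((fr' h s).1 hs).1
  · by_cases hb : (β u).b = 0
    exacts [(caseB h ha hb).elim, (caseC h ha hb).elim]

end

theorem jobL1 : JobL1.{v} := fun _ _ _ _ _ _ _ _ _ _ _ h => lev1 h

end H17.D3L1
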