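/- S3275, chapter U0, section B: a Sylow 3-subgroup over `D` that centralises `x`. -/
import Cfsg.Agent.H92.DP0BSpec
import Cfsg.Agent.H46.Nil

set_option autoImplicit false

namespace H17.DPSY

open Subgroup Cfsg H98 H48.DP H57.DPC H48.DP2 H92.DPB
open scoped commutatorElement

universe u

variable {G : Type u} [Group G]

theorem pg_of_ex {D : Subgroup G} (h : ∀ d ∈ D, d ^ 3 = 1) : IsPGroup 3 D :=
  fun a => ⟨1, Subtype.ext (by simpa using h a a.2)⟩

theorem le_c1 [Finite G] {P : Subgroup G} {x : G} (hP : IsPGroup 3 P) (hx : x ∈ P)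
    (x3 : orderOf x = 3) (hn : P ≤ No (zpowers x)) : P ≤ C1 x := by
  have : Fact (Nat.Prime 3) := ⟨Nat.prime_three⟩
  have h1 : zpowers x ≠ ⊥ := fun e => by
    rw [zpowers_eq_bot.1 e, orderOf_one] at x3; omega
  have hlt : ⁅zpowers x, P⁆ < zpowers x :=
    H46.nil_commutator_lt hP.isNilpotent (zpowers_le.2 hx) le_rfl hn h1
  have : Fact (Nat.card (zpowers x)).Prime := ⟨by rw [Nat.card_zpowers, x3]; norm_num⟩
  have hb : ⁅zpowers x, P⁆ = ⊥ := by
    rcases ((⁅zpowers x, P⁆).subgroupOf (zpowers x)).eq_bot_or_eq_top_of_prime_card with e | e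
    · rw [subgroupOf_eq_bot, disjoint_iff, inf_eq_left.2 hlt.le] at e; exact e
    · exact absurd (subgroupOf_eq_top.1 e) hlt.not_ge
  intro g hg
  have h2 := commutator_eq_bot_iff_le_centralizer.1 hb (mem_zpowers x) g hg
  exact mem_centralizer_singleton_iff.2 h2

theorem job : JobSY.{u} := by
  intro k3 g0 na G _ _ M Q H D x hU hB
  have : Fact (Nat.Prime 3) := ⟨Nat.prime_three⟩
  have x3' : x ^ 3 = 1 := hB.x3 ▸ pow_orderOf_eq_one x
  have h1 : zpowers x ≠ ⊥ := fun e => by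
    have := hB.x3
    rw [zpowers_eq_bot.1 e, orderOf_one] at this; omega
  have hDH : No D ≤ No (zpowers x) := hB.der ▸ H98.le_normalizer_commutator le_rfl le_rfl
  have hne : No (zpowers x) ≠ ⊤ := no_ne_top hU.toHyp2.toHyp (el_pg (el_zp x3')) h1
  obtain ⟨B, hE, hBH, hBD⟩ := hB.big
  have hBM : B ≤ M := hBH.trans inf_le_right
  have hB' : B ≤ No (zpowers x) ⊓ M := le_inf (hBD.trans hDH) hBM
  obtain ⟨-, h | h | ⟨D', x', hb⟩⟩ := g0 G M Q _ B hU hne hE hB'
  · exact absurd (inf_le_right.trans (hDH.trans h)) hB.out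
  · exact absurd h (na G M Q _ B hU hne hE hB')
  have hDB : IsPGroup 3 ↥(B ⊔ D) :=
    IsPGroup.to_sup_of_normal_right' (el_pg hE.1) (pg_of_ex hB.ex) hBD
  obtain ⟨P, hP, hle⟩ := exists_isSyl_le hDB
    (sup_le (hBD.trans hDH) (le_normalizer.trans hDH))
  have hDP : D ≤ P := le_sup_right.trans hle
  have hxP : x ∈ P := hDP (commutator_le_of_le le_rfl le_rfl (hB.der ▸ mem_zpowers x))
  have hPx : P ≤ C1 x := le_c1 hP.isPGroup hxP hB.x3 hP.le
  obtain ⟨k, hk, hkD⟩ := hP.exists_cj_le (pg_of_ex hb.ex) (hb.le.trans inf_le_left)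
  have key : ∀ c ∈ P, P ≤ C1 c → c ^ 3 = 1 → c ∈ cj k (zpowers x') := fun c hc hPc c3 => by
    rw [mem_cj]
    refine hb.cen _ (mul_mem (mul_mem (inv_mem hk) (hP.le hc)) hk) (fun d hd => ?_) ?_
    · have h2 := mem_centralizer_singleton_iff.1 (hPc (hkD (conj_mem_cj hd)))
      calc d * (k⁻¹ * c * k) = k⁻¹ * (k * d * k⁻¹ * c) * k := by group
        _ = k⁻¹ * (c * (k * d * k⁻¹)) * k := by rw [h2]
        _ = k⁻¹ * c * k * d := by group
    · have : (k⁻¹ * c * k) ^ 3 = k⁻¹ * c ^ 3 * k := by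
        simpa using conj_pow (i := 3) (a := k⁻¹) (b := c)
      rw [this, c3, mul_one, inv_mul_cancel]
  have hZ : zpowers x = cj k (zpowers x') :=
    eq_of_le_of_card_ge (zpowers_le.2 (key x hxP hPx x3'))
      (by rw [card_cj, Nat.card_zpowers, Nat.card_zpowers, hb.x3, hB.x3])
  have hN : No P ≤ No (zpowers x) := fun g hg => by
    refine mem_normalizer_of_cj_le ?_
    have hc : g * x * g⁻¹ ∈ zpowers x := by
      rw [hZ]
      refine key _ (conj_mem_of_mem_normalizer hg hxP) (fun p hp => ?_) ?_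
      · have h2 := mem_centralizer_singleton_iff.1 (hPx (conj_mem_of_mem_normalizer' hg hp))
        refine mem_centralizer_singleton_iff.2 ?_
        calc p * (g * x * g⁻¹) = g * (g⁻¹ * p * g * x) * g⁻¹ := by group
          _ = g * (x * (g⁻¹ * p * g)) * g⁻¹ := by rw [h2]
          _ = g * x * g⁻¹ * p := by group
      · rw [conj_pow, x3', mul_one, mul_inv_cancel]
    rw [cj, MonoidHom.map_zpowers]
    exact zpowers_le.2 hc
  have hS : IsSyl 3 P ⊤ := isSyl_of_isSyl_normalizer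
    (hP.of_le (le_inf le_top le_normalizer) (inf_le_right.trans hN))
  obtain ⟨S, rfl⟩ := isSyl_top_iff.1 hS
  exact ⟨S, hDP, ((k3 G M Q hU B hE hBM).2.1 _ hP.isPGroup (le_sup_left.trans hle)).1, hPx⟩

end H17.DPSY
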