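/- S3275, chapter C4: a section of the upper central series moved by `z`. -/
import Cfsg.Agent.H48.DC4Spec
import Cfsg.Agent.H46.Nil
import Cfsg.Agent.H1.CoprimeGen

set_option autoImplicit false

namespace H17.DPZI

open Subgroup Cfsg H48.DP H48.DP2
open scoped commutatorElement

universe u

variable {G : Type u} [Group G]

theorem mem_E {y z a : G} (y3 : y ^ 3 = 1) (z3 : z ^ 3 = 1) (c : Commute y z)
    (ha : a ∈ closure ({y, z} : Set G)) : ∃ i j : ℕ, i < 3 ∧ j < 3 ∧ a = y ^ i * z ^ j := by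
  have h : ∃ i j : ℕ, a = y ^ i * z ^ j := by
    induction ha using closure_induction with
    | mem x hx =>
      rcases hx with rfl | rfl
      · exact ⟨1, 0, by simp⟩
      · exact ⟨0, 1, by simp⟩
    | one => exact ⟨0, 0, by simp⟩
    | mul a b _ _ h1 h2 =>
      obtain ⟨i, j, rfl⟩ := h1
      obtain ⟨k, l, rfl⟩ := h2
      refine ⟨i + k, j + l, ?_⟩
      rw [pow_add, pow_add, mul_assoc, mul_assoc, ← mul_assoc (z ^ j), ← (c.pow_pow k j).eq,
        mul_assoc]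
    | inv a _ h1 =>
      obtain ⟨i, j, rfl⟩ := h1
      refine ⟨2 * i, 2 * j, inv_eq_of_mul_eq_one_right ?_⟩
      rw [mul_assoc, ← mul_assoc (z ^ j), ← (c.pow_pow (2 * i) j).eq, mul_assoc, ← pow_add,
        ← mul_assoc, ← pow_add, show i + 2 * i = 3 * i by ring, show j + 2 * j = 3 * j by ring,
        pow_mul, pow_mul, y3, z3, one_pow, one_pow, one_mul]
  obtain ⟨i, j, rfl⟩ := h
  refine ⟨i % 3, j % 3, Nat.mod_lt _ (by norm_num), Nat.mod_lt _ (by norm_num), ?_⟩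
  rw [← pow_eq_pow_mod i y3, ← pow_eq_pow_mod j z3]

theorem cyc3 {g a : G} (g3 : g ^ 3 = 1) (h : a ∈ zpowers g) : a = 1 ∨ a = g ∨ a = g * g := by
  obtain ⟨i, j, hi, hj, e⟩ := mem_E (y := g) (z := 1) g3 (one_pow 3) (Commute.one_right g)
    (a := a) (zpowers_le.2 (subset_closure (Set.mem_insert _ _)) h)
  rw [one_pow, mul_one] at e
  interval_cases i
  · exact .inl (by simpa using e)
  · exact .inr (.inl (by simpa using e))
  · exact .inr (.inr (by rw [e, pow_two]))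

/-- Coprime generation for the group `⟨y, z⟩`. -/
theorem gen [Finite G] {Z : Subgroup G} {y z : G} (hZ : IsPGroup 2 Z) (y3 : y ^ 3 = 1)
    (z3 : z ^ 3 = 1) (c : Commute y z) (z1 : z ≠ 1) (hyz : y ∉ zpowers z) (hy : y ∈ No Z)
    (hz : z ∈ No Z) (h0 : ∀ w ∈ Z, Commute w y → Commute w z)
    (h1 : ∀ w ∈ Z, Commute w (y * z) → Commute w z)
    (h2 : ∀ w ∈ Z, Commute w (y * z * z) → Commute w z) : Z ≤ C1 z := by
  have : Fact (Nat.Prime 3) := ⟨Nat.prime_three⟩
  let E : Subgroup G := closure {y, z}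
  have cube : ∀ a ∈ E, a ^ 3 = 1 := fun a ha => by
    obtain ⟨i, j, -, -, rfl⟩ := mem_E y3 z3 c ha
    rw [(c.pow_pow i j).mul_pow, ← pow_mul, ← pow_mul, mul_comm i, mul_comm j, pow_mul, pow_mul,
      y3, z3, one_pow, one_pow, one_mul]
  have : IsMulCommutative E := ⟨⟨fun a b => Subtype.ext (by
    obtain ⟨i, j, -, -, e⟩ := mem_E y3 z3 c a.2
    obtain ⟨k, l, -, -, e'⟩ := mem_E y3 z3 c b.2
    rw [coe_mul, coe_mul, e, e']
    exact (((Commute.refl y).pow_pow i k).mul_right (c.pow_pow i l)).mul_left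
      ((c.symm.pow_pow j k).mul_right ((Commute.refl z).pow_pow j l)))⟩⟩
  have hE : IsPGroup 3 E := fun a => ⟨1, Subtype.ext (by simpa using cube a a.2)⟩
  have y4 : y * y * (y * y) = y := by
    calc y * y * (y * y) = y ^ 3 * y := by rw [pow_succ, pow_two]; group
      _ = y := by rw [y3, one_mul]
  have z4 : z * z * (z * z) = z := by
    calc z * z * (z * z) = z ^ 3 * z := by rw [pow_succ, pow_two]; group
      _ = z := by rw [z3, one_mul]
  refine H1.le_of_noncyclic_centralizer_le (A := E) (fun hc => ?_)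
    ((closure_le _).2 (by rintro _ (rfl | rfl) <;> assumption))
    (IsPGroup.coprime_card_of_ne 3 2 (by norm_num) _ _ hE hZ) _ fun a ha a1 w hw => ?_
  · obtain ⟨g, hg⟩ := hc.exists_generator
    have k : ∀ a (ha : a ∈ E), a ∈ zpowers (g : G) := fun a ha => by
      obtain ⟨k, e⟩ := hg ⟨a, ha⟩
      exact ⟨k, congrArg Subtype.val e⟩
    have g3 := cube g g.2
    have hg' : (g : G) ∈ zpowers z := by
      rcases cyc3 g3 (k z (subset_closure (by simp))) with e | e | e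
      · exact absurd e z1
      · exact e ▸ mem_zpowers z
      · have : (g : G) = z * z := by
          rw [e]
          calc (g : G) = g ^ 3 * g := by rw [g3, one_mul]
            _ = _ := by rw [pow_succ, pow_two]; group
        exact this ▸ mul_mem (mem_zpowers z) (mem_zpowers z)
    exact hyz (zpowers_le.2 hg' (k y (subset_closure (by simp))))
  · have hw1 : w ∈ Z := hw.1
    have hw2 : Commute w a := mem_centralizer_singleton_iff.1 hw.2
    have hw3 : Commute w (a * a) := hw2.mul_right hw2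
    refine mem_centralizer_singleton_iff.2 (show Commute w z from ?_)
    obtain ⟨i, j, hi, hj, rfl⟩ := mem_E y3 z3 c ha
    have sq : y ^ i * z ^ j * (y ^ i * z ^ j) = y ^ i * y ^ i * (z ^ j * z ^ j) := by
      rw [mul_assoc, ← mul_assoc (z ^ j), ← (c.pow_pow i j).eq, mul_assoc, mul_assoc]
    rw [sq] at hw3
    interval_cases i <;> interval_cases j <;>
      simp only [pow_zero, pow_one, pow_two, one_mul, mul_one, y4, z4] at a1 hw2 hw3
    · exact absurd rfl a1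
    · exact hw2
    · exact hw3
    · exact h0 w hw1 hw2
    · exact h1 w hw1 hw2
    · exact h2 w hw1 (by rwa [mul_assoc])
    · exact h0 w hw1 hw3
    · exact h2 w hw1 (by rwa [mul_assoc])
    · exact h1 w hw1 hw3

theorem core [Finite G] {Q : Subgroup G} {y z u : G} (hQ : IsPGroup 2 Q) (cq : Ce Q ≤ Q)
    (hy : y ∈ No Q) (hz : z ∈ No Q) (hu : u ∈ No Q) (y3 : orderOf y = 3) (z3 : orderOf z = 3)
    (c : Commute y z) (cu : Commute u z) (uy : u * y * u⁻¹ = y * z) :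
    ∃ A : Subgroup G, A ≠ ⊥ ∧ A ≤ Q ∧ A ≤ C1 (y * z) ∧ ⁅A, zpowers z⁆ = A ∧
      A ≤ Ce (Q ⊓ C1 z) := by
  have : Fact (Nat.Prime 3) := ⟨Nat.prime_three⟩
  have y3' : y ^ 3 = 1 := y3 ▸ pow_orderOf_eq_one y
  have z3' : z ^ 3 = 1 := z3 ▸ pow_orderOf_eq_one z
  have z1 : z ≠ 1 := by
    rintro rfl
    simp at z3
  have hzp : IsPGroup 3 (zpowers z) := IsPGroup.of_card (n := 1) (by rw [Nat.card_zpowers, z3]; rfl)
  have ce : ∀ X : Subgroup G, X ≤ C1 z ↔ ⁅X, zpowers z⁆ = ⊥ := fun X => by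
    rw [commutator_eq_bot_iff_le_centralizer, zpowers_eq_closure, centralizer_closure]
  have hQz : ¬ Q ≤ C1 z := fun h => by
    have h1 : z ∈ Q := cq fun q hq => mem_centralizer_singleton_iff.1 (h hq)
    have h2 := IsPGroup.disjoint_of_ne 3 2 (by norm_num) _ _ hzp hQ
    exact z1 (mem_bot.1 (h2.le_bot ⟨mem_zpowers z, h1⟩))
  obtain ⟨Z, ⟨hZQ, hZn, hZz⟩, hmin⟩ := Set.Finite.exists_minimal
    (s := {Z : Subgroup G | Z ≤ Q ∧ No Q ≤ No Z ∧ ¬ Z ≤ C1 z}) (Set.toFinite _)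
    ⟨Q, le_rfl, le_rfl, hQz⟩
  have hZ : IsPGroup 2 Z := hQ.to_le hZQ
  have hlt : ⁅Z, Q⁆ < Z := H46.nil_commutator_lt hQ.isNilpotent hZQ le_rfl (le_normalizer.trans hZn)
    (by rintro rfl; exact hZz bot_le)
  have hc : ⁅Z, Q⁆ ≤ C1 z := by
    by_contra h
    exact hlt.not_ge (hmin ⟨hlt.le.trans hZQ, H1.le_normalizer_commutator hZn le_rfl, h⟩ hlt.le)
  have h3 : ⁅⁅Z, zpowers z⁆, Q ⊓ C1 z⁆ = ⊥ := by
    refine commutator_commutator_eq_bot_of_rotate ?_ ?_
    · rw [commutator_comm (zpowers z), (ce _).1 inf_le_right, commutator_bot_left]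
    · rw [commutator_comm (Q ⊓ C1 z)]
      exact (ce _).1 ((commutator_mono le_rfl inf_le_left).trans hc)
  have cj : ∀ {g w a : G}, Commute w a → Commute (g * w * g⁻¹) (g * a * g⁻¹) := fun {g w a} h => by
    have := h.map (MulAut.conj g)
    simpa only [MulAut.conj_apply] using this
  have uz : u * z * u⁻¹ = z := by rw [cu.eq, mul_inv_cancel_right]
  have uz' : u⁻¹ * z * u⁻¹⁻¹ = z := by rw [cu.inv_left.eq, mul_inv_cancel_right]
  have hD : ¬ Z ⊓ C1 (y * z) ≤ C1 z := fun h => by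
    have h1 : ∀ w ∈ Z, Commute w (y * z) → Commute w z := fun w hw e =>
      mem_centralizer_singleton_iff.1 (h ⟨hw, mem_centralizer_singleton_iff.2 e⟩)
    refine hZz (gen hZ y3' z3' c z1 ?_ (hZn hy) (hZn hz) (fun w hw e => ?_) h1 fun w hw e => ?_)
    · rintro ⟨k, rfl⟩
      rw [(cu.zpow_right k).eq, mul_inv_cancel_right] at uy
      exact z1 (mul_eq_left.1 uy.symm)
    · have h2 := cj (g := u⁻¹) (h1 _ ((mem_normalizer_iff.1 (hZn hu) w).1 hw) (uy ▸ cj e))
      rwa [uz', show u⁻¹ * (u * w * u⁻¹) * u⁻¹⁻¹ = w by group] at h2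
    · have h4 : u⁻¹ * (y * z * z) * u⁻¹⁻¹ = y * z := by
        calc u⁻¹ * (y * z * z) * u⁻¹⁻¹ = u⁻¹ * (u * y * u⁻¹ * (u * z * u⁻¹)) * u⁻¹⁻¹ := by rw [uy, uz]
          _ = y * z := by group
      have h2 := cj (g := u) (h1 _ ((mem_normalizer_iff.1 (hZn (inv_mem hu)) w).1 hw) (h4 ▸ cj e))
      rwa [uz, show u * (u⁻¹ * w * u⁻¹⁻¹) * u⁻¹ = w by group] at h2
  have hzc : zpowers z ≤ C1 (y * z) :=
    zpowers_le.2 (mem_centralizer_singleton_iff.2 (c.symm.mul_right (Commute.refl z)))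
  have hn : zpowers z ≤ No (Z ⊓ C1 (y * z)) :=
    H1.le_normalizer_inf (zpowers_le.2 (hZn hz)) (hzc.trans le_normalizer)
  have hle := H1.commutator_le_of_le_normalizer hn
  refine ⟨⁅Z ⊓ C1 (y * z), zpowers z⁆, fun h => hD ((ce _).2 h),
    hle.trans (inf_le_left.trans hZQ), hle.trans inf_le_right,
    H1.commutator_commutator_eq hn
      (IsPGroup.coprime_card_of_ne 3 2 (by norm_num) _ _ hzp (hZ.to_le inf_le_left))
      (.inl inferInstance), ?_⟩
  exact (commutator_mono inf_le_left le_rfl).trans (commutator_eq_bot_iff_le_centralizer.1 h3)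

theorem job : ZI.{u} := by
  intro G _ _ M Q y z u h
  obtain ⟨P, hP, hy, hz, hu, hc, -⟩ := h.syl
  have hM : M ≤ No Q := h.no.ge
  exact core (h.o2 ▸ H98.isPGroup_pCoreOf M) h.cq (hM (hP hy)) (hM (hP hz)) (hM (hP hu)) h.y3 h.z3
    (mem_centralizer_singleton_iff.1 (hc hy)) (mem_centralizer_singleton_iff.1 (hc hu)) h.uy

end H17.DPZI
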