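import Cfsg.Agent.H34.DdSpec
import Cfsg.Agent.H28.GenChar
import Mathlib.Algebra.Module.Lattice
import Mathlib.RingTheory.Flat.TorsionFree
import Mathlib.RingTheory.LocalRing.Module

/-! Job RED of `blueprints/DADE.md`: lattices over a valuation ring, Fourier inversion mod `p`. -/

set_option autoImplicit false

namespace H17.Dd

open Cfsg H28 H34.Dd Matrix Module

universe u

theorem jobLat : JobLat.{u} := by
  rintro O X _ _ _ ⟨n, ρ, rfl⟩
  let L : Submodule O (Fin n → ℂ) :=
    Submodule.span O (Set.range fun q : X × Fin n => ρ q.1 (Pi.single q.2 1))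
  have hL : Submodule.IsLattice ℂ L := ⟨Submodule.fg_span (Set.finite_range _), eq_top_iff.2 (by
    rw [← (Pi.basisFun ℂ (Fin n)).span_eq]
    refine Submodule.span_mono ?_
    rintro _ ⟨i, rfl⟩
    exact Submodule.subset_span ⟨(1, i), by simp⟩)⟩
  have : Module.Finite O L := Module.Finite.iff_fg.2 hL.fg
  have : Module.Flat O L := (Module.Flat.flat_iff_torsion_eq_bot_of_isBezout).2
    (Submodule.isTorsionFree_iff_torsion_eq_bot.1 inferInstance)
  have : Module.Free O L := Module.free_of_flat_of_isLocalRing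
  let b := Module.finBasis O L
  have st : ∀ g, ∀ v ∈ L, (ρ g).restrictScalars O v ∈ L := fun g v hv => by
    refine (Submodule.span_le (p := L.comap ((ρ g).restrictScalars O))).2 ?_ hv
    rintro _ ⟨q, rfl⟩
    exact Submodule.subset_span ⟨(g * q.1, q.2), by simp⟩
  let r : X →* Matrix (Fin (finrank O L)) (Fin (finrank O L)) O :=
    { toFun := fun g => LinearMap.toMatrix b b (((ρ g).restrictScalars O).restrict (st g))
      map_one' := by
        rw [← LinearMap.toMatrix_one b]
        exact congrArg _ (LinearMap.ext fun v => Subtype.ext (by simp))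
      map_mul' := fun g h => by
        rw [← LinearMap.toMatrix_mul]
        exact congrArg _ (LinearMap.ext fun v => Subtype.ext (by simp)) }
  have tr : ∀ x, (((r x).trace : O) : ℂ) = ρ.character x := fun x => by
    rw [Representation.character, LinearMap.trace_eq_matrix_trace ℂ (b.extendOfIsLattice ℂ)]
    refine (map_sum O.subtype _ _).trans (Finset.sum_congr rfl fun i _ => ?_)
    have e := congrArg L.subtype (b.sum_repr (((ρ x).restrictScalars O).restrict (st x) (b i)))
    rw [map_sum] at e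
    rw [diag_apply, diag_apply, LinearMap.toMatrix_apply, Basis.extendOfIsLattice_apply]
    refine ((congrArg (fun v => (b.extendOfIsLattice ℂ).repr v i) e).symm.trans ?_).symm
    have sm : ∀ (c : O) (v : Fin n → ℂ), c • v = (c : ℂ) • v := fun _ _ => rfl
    simp only [map_smul, Submodule.subtype_apply, ← Basis.extendOfIsLattice_apply ℂ b, sm,
      Basis.repr_sum_self]
    simp [r, LinearMap.toMatrix_apply]
  exact ⟨_, r, by rw [← tr, map_one, trace_one]; simp, tr⟩

/-- Schur orthogonality -/
def Orth {R X : Type*} [CommRing R] [Group X] [Fintype X] {n : ℕ}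
    (ρ : X →* Matrix (Fin n) (Fin n) R) : Prop :=
  ∀ a b c d, (n : R) * ∑ x, ρ x⁻¹ a b * ρ x c d = if b = c ∧ a = d then (Nat.card X : R) else 0

section

variable {R S X : Type*} [CommRing R] [CommRing S] [Group X] [Fintype X] {n : ℕ}

theorem Orth.map {ρ : X →* Matrix (Fin n) (Fin n) R} (f : R →+* S) (h : Orth ρ) :
    Orth (f.mapMatrix.toMonoidHom.comp ρ) := fun a b c d => by
  simpa [apply_ite f] using congrArg f (h a b c d)

theorem Orth.of_map {ρ : X →* Matrix (Fin n) (Fin n) R} {f : R →+* S} (hf : Function.Injective f)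
    (h : Orth (f.mapMatrix.toMonoidHom.comp ρ)) : Orth ρ := fun a b c d =>
  hf (by simpa [apply_ite f] using h a b c d)

theorem Orth.fi {k : Type*} [Field k] {ρ : X →* Matrix (Fin n) (Fin n) k} (h : Orth ρ)
    (h0 : (Nat.card X : k) ≠ 0) : FI ρ := fun s => by
  ext c d
  have : (n : k) * ∑ x, (s * ρ x⁻¹).trace * ρ x c d =
      ∑ b, ∑ a, s b a * (n * ∑ x, ρ x⁻¹ a b * ρ x c d) := by
    simp only [trace, diag_apply, mul_apply, Finset.sum_mul, Finset.mul_sum, mul_assoc,
      mul_left_comm (n : k)]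
    rw [Finset.sum_comm]
    exact Finset.sum_congr rfl fun _ _ => Finset.sum_comm
  simp only [Matrix.smul_apply, Matrix.sum_apply, smul_eq_mul, div_mul_eq_mul_div, this, h _ _ c d,
    div_eq_iff h0]
  simp [ite_and]

theorem orth_complex (ρ : X →* Matrix (Fin n) (Fin n) ℂ)
    (h : IsIrrCharacter X fun x => (ρ x).trace) : Orth ρ := fun a b c d => by
  let r : Representation ℂ X (Fin n → ℂ) := (toLinAlgEquiv' (R := ℂ) (n := Fin n)).toMonoidHom.comp ρ
  have := isIrreducible_of_isIrrCharacter r (by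
    convert h using 2 with x
    exact trace_toLin'_eq (ρ x))
  have cm : ∀ g, (∑ x, ρ x⁻¹ * single b c 1 * ρ x) * ρ g = ρ g * ∑ x, ρ x⁻¹ * single b c 1 * ρ x :=
    fun g => by
      rw [Finset.sum_mul, Finset.mul_sum, ← Equiv.sum_comp (Equiv.mulRight g⁻¹)]
      exact Finset.sum_congr rfl fun x _ => by
        rw [mul_assoc, ← map_mul]; simp [mul_assoc]
  obtain ⟨z, hz⟩ := exists_eq_smul_id_of_comm r (toLin' (∑ x, ρ x⁻¹ * single b c 1 * ρ x)) fun g =>
    (toLin'_mul _ _).symm.trans ((congrArg _ (cm g)).trans (toLin'_mul _ _))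
  rw [← toLin'_one, ← map_smul, toLin'.injective.eq_iff] at hz
  have e1 := congrArg trace hz
  have e2 := congrFun (congrFun hz a) d
  simp only [trace_sum, trace_mul_cycle (ρ _⁻¹), ← map_mul, mul_inv_cancel, map_one, one_mul,
    Finset.sum_const, Finset.card_univ, trace_smul, trace_one, Fintype.card_fin, smul_eq_mul,
    nsmul_eq_mul, ← Nat.card_eq_fintype_card (α := X)] at e1
  have e3 : ∀ x, (ρ x⁻¹ * single b c 1 * ρ x : Matrix _ _ ℂ) a d = ρ x⁻¹ a b * ρ x c d := fun x => by
    rw [mul_assoc, mul_apply, Finset.sum_eq_single b (fun j _ hj => by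
      rw [single_mul_apply_of_ne _ _ _ _ _ hj, mul_zero]) (by simp), single_mul_apply_same, one_mul]
  simp only [Matrix.sum_apply, e3, Matrix.smul_apply, Matrix.one_apply, smul_eq_mul] at e2
  rw [e2, ← mul_assoc, mul_comm _ z, ← e1]
  by_cases h1 : b = c <;> by_cases h2 : a = d <;> simp [h1, h2]

end

theorem card_ne {k : Type*} [Field k] (p : ℕ) [CharP k p] {m : ℕ} (h : ¬ p ∣ m) : (m : k) ≠ 0 :=
  mt (CharP.cast_eq_zero_iff k p m).1 h

theorem jobFI : JobFI.{u} := fun O p _ _ X _ _ n ρ hp h =>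
  (Orth.map _ (Orth.of_map O.subtype_injective (orth_complex _ (by
    convert h using 2 with x
    exact (AddMonoidHom.map_trace O.subtype (ρ x)).symm)))).fi (card_ne p hp)

section lift

variable {k X : Type*} [Field k] [Group X] [Fintype X] {n m : ℕ}
  (r : X →* Matrix (Fin n) (Fin n) k) (τ : X →* Matrix (Fin m) (Fin m) k)

/-- the transfer map -/
noncomputable def tf : Matrix (Fin n) (Fin n) k →ₗ[k] Matrix (Fin m) (Fin m) k where
  toFun s := ((n : k) / (Nat.card X : k)) • ∑ x : X, (s * r x⁻¹).trace • τ x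
  map_add' s t := by simp only [add_mul, trace_add, add_smul, Finset.sum_add_distrib, smul_add]
  map_smul' c s := by
    simp only [smul_mul_assoc, trace_smul, smul_assoc, ← Finset.smul_sum, RingHom.id_apply]
    exact smul_comm _ _ _

theorem tf_apply (s : Matrix (Fin n) (Fin n) k) :
    tf r τ s = ((n : k) / (Nat.card X : k)) • ∑ x : X, (s * r x⁻¹).trace • τ x := rfl

theorem tf_left (y : X) (s : Matrix (Fin n) (Fin n) k) : tf r τ (r y * s) = τ y * tf r τ s := by
  rw [tf_apply, tf_apply, mul_smul_comm, Finset.mul_sum, ← Equiv.sum_comp (Equiv.mulLeft y)]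
  refine congrArg _ (Finset.sum_congr rfl fun x _ => ?_)
  rw [Equiv.coe_mulLeft, mul_assoc, trace_mul_comm, mul_assoc, ← map_mul, map_mul τ, mul_smul_comm]
  simp

theorem tf_right (y : X) (s : Matrix (Fin n) (Fin n) k) : tf r τ (s * r y) = tf r τ s * τ y := by
  rw [tf_apply, tf_apply, smul_mul_assoc, Finset.sum_mul, ← Equiv.sum_comp (Equiv.mulRight y)]
  refine congrArg _ (Finset.sum_congr rfl fun x _ => ?_)
  rw [Equiv.coe_mulRight, mul_assoc, ← map_mul, map_mul τ, smul_mul_assoc]
  simp

theorem tf_inj (h : FI r) (h1 : tf r τ 1 ≠ 0) : Function.Injective (tf r τ) := by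
  refine (injective_iff_map_eq_zero _).2 fun t ht => by_contra fun h0 => h1 ?_
  have l : ∀ a t, tf r τ t = 0 → tf r τ (a * t) = 0 := fun a t e => by
    rw [← h a]
    simp only [smul_mul_assoc, Finset.sum_mul, map_smul, map_sum, tf_left, e, mul_zero, smul_zero,
      Finset.sum_const_zero]
  have l' : ∀ a t, tf r τ t = 0 → tf r τ (t * a) = 0 := fun a t e => by
    rw [← h a]
    simp only [mul_smul_comm, Finset.mul_sum, map_smul, map_sum, tf_right, e, zero_mul, smul_zero,
      Finset.sum_const_zero]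
  obtain ⟨i, j, e⟩ : ∃ i j, t i j ≠ 0 := by
    by_contra! e
    exact h0 (Matrix.ext e)
  rw [← sum_single_one, map_sum]
  refine Finset.sum_eq_zero fun a _ => ?_
  have := l' (single j a 1) _ (l (single a i (t i j)⁻¹) t ht)
  rwa [single_mul_mul_single, inv_mul_cancel₀ e, mul_one] at this

end lift

theorem jobLift : JobLift.{u} := by
  intro O p _ _ X C _ _ _ _ j d m σ τ hX hC hη hm hmd hs
  have := Fintype.ofFinite X
  choose n ρ hn hρ using fun ψ : IrrCharacter X => jobLat O ψ.2.isCharacter
  have fi : ∀ ψ, FI (redM (ρ ψ)) := fun ψ => jobFI O p (ρ ψ) hX (by simpa only [hρ] using ψ.2)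
  have trr : ∀ {Y : Type u} [Group Y] {l : ℕ} (ρ : Y →* Matrix (Fin l) (Fin l) O) (y : Y),
      (redM ρ y).trace = IsLocalRing.residue O (ρ y).trace := fun ρ y =>
    (AddMonoidHom.map_trace (IsLocalRing.residue O) (ρ y)).symm
  have one : ∑ ψ, tf (redM (ρ ψ)) τ 1 = 1 := by
    classical
    have e : ∀ x : X, ∑ ψ, (n ψ : O) * (ρ ψ x⁻¹).trace = if x = 1 then (Nat.card X : O) else 0 :=
      fun x => O.subtype_injective (by
        simpa [hρ, ← hn, apply_ite, regChar] using sum_degree_mul_apply x⁻¹)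
    simp only [tf_apply, one_mul, Finset.smul_sum, ← mul_smul, div_mul_eq_mul_div, trr]
    rw [Finset.sum_comm]
    simp only [← Finset.sum_smul, ← Finset.sum_div, ← map_natCast (IsLocalRing.residue O) (n _),
      ← map_mul, ← map_sum, e]
    rw [Finset.sum_eq_single 1 (fun x _ hx => by simp [hx]) (by simp)]
    rw [if_pos rfl, map_natCast, div_self (card_ne p hX), map_one, one_smul]
  obtain ⟨ψ, -, h0⟩ := Finset.exists_ne_zero_of_sum_ne_zero (s := Finset.univ)
    (f := fun ψ => tf (redM (ρ ψ)) τ 1) (by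
      have : Nonempty (Fin m) := ⟨⟨0, hm⟩⟩
      rw [one]; exact one_ne_zero)
  have inj := tf_inj _ τ (fi ψ) h0
  have le : n ψ ≤ d := by
    have := LinearMap.finrank_le_finrank_of_injective inj
    simp only [finrank_matrix, Fintype.card_fin, finrank_self, mul_one] at this
    exact (Nat.mul_self_le_mul_self_iff.1 this).trans hmd
  have e1 : ((d : IsLocalRing.ResidueField O) / (Nat.card C : IsLocalRing.ResidueField O)) •
      ∑ c : C, (redM σ c⁻¹).trace • redM (ρ ψ) (j c) = 1 := inj (by
    conv_rhs => rw [← one_mul (tf _ _ _), ← hs]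
    simp only [map_smul, map_sum, smul_mul_assoc, Finset.sum_mul, ← tf_left, mul_one])
  have n0 : (n ψ : IsLocalRing.ResidueField O) ≠ 0 := fun e => h0 (by rw [tf_apply, e]; simp)
  have hc := ψ.2.isCharacter.comp j
  have ne : classInner (fun c => ψ.1 (j c)) (fun c => (((σ c).trace : O) : ℂ)) ≠ 0 := fun e => n0 (by
    rw [classInner_eq_sum_inv _ hη.isCharacter, mul_eq_zero, inv_eq_zero] at e
    have e2 : ∑ c, (σ c⁻¹).trace * (ρ ψ (j c)).trace = 0 := O.subtype_injective (by
      simpa [hρ, mul_comm] using e.resolve_left (card_ne_zero' C))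
    have := congrArg trace e1
    simp only [trace_smul, trace_sum, smul_eq_mul, trr, ← map_mul, ← map_sum, e2] at this
    simpa using this.symm)
  obtain ⟨l, hl⟩ := hc.classInner_nat hη.isCharacter
  have d1 : (((σ 1).trace : O) : ℂ) = d := by simp
  have ge := hc.mult_mul_degree_le hη hl (d := n ψ) (by simpa using hn ψ) d1
  have l0 : 0 < l := Nat.pos_of_ne_zero fun e => ne (by rw [hl, e, Nat.cast_zero])
  have := hc.eq_irr_of_degree_eq hη ne (by
    rw [d1, ← le_antisymm le ((Nat.le_mul_of_pos_left d l0).trans ge)]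
    simpa using hn ψ)
  exact ⟨ψ, ψ.2, congrFun this⟩

end H17.Dd
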