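/- Tower EA: the integer lemma for three orthogonal columns of norm sixteen. -/
import Cfsg.Agent.H68.EaSpec

set_option autoImplicit false

namespace H17.EAN5

open Finset

universe u

/-- Test vectors supported on four rows. -/
theorem four {ι : Type u} {s : Finset ι} {a b c : ι → ℤ}
    (hw : ∀ w : ι → ℤ, ∑ i ∈ s, a i * w i = 0 → ∑ i ∈ s, b i * w i = 0 →
      ∑ i ∈ s, c i * w i = 0 → Even (∑ i ∈ s, w i))
    {p q r t : ι} (hp : p ∈ s) (hq : q ∈ s) (hr : r ∈ s) (ht : t ∈ s) (k l m n : ℤ)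
    (ha : a p * k + a q * l + a r * m + a t * n = 0)
    (hb : b p * k + b q * l + b r * m + b t * n = 0)
    (hc : c p * k + c q * l + c r * m + c t * n = 0) : Even (k + l + m + n) := by
  classical
  have key : ∀ f : ι → ℤ, ∑ i ∈ s, f i * ((if i = p then k else 0) + (if i = q then l else 0) +
      (if i = r then m else 0) + (if i = t then n else 0)) =
      f p * k + f q * l + f r * m + f t * n := by
    intro f
    simp only [mul_add, sum_add_distrib, mul_ite, mul_zero, sum_ite_eq', hp, hq, hr, ht, if_true]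
  have h := hw _ (by rw [key]; exact ha) (by rw [key]; exact hb) (by rw [key]; exact hc)
  have h1 := key (fun _ => 1)
  simp only [one_mul] at h1
  rwa [h1] at h

/-- The eight normalised rows. -/
def Row (x y z : ℤ) : Prop :=
  (x = 1 ∧ y = 1 ∧ z = 1) ∨ (x = -3 ∧ y = 1 ∧ z = 1) ∨ (x = 1 ∧ y = -3 ∧ z = 1) ∨
    (x = 1 ∧ y = 1 ∧ z = -3) ∨ (x = 2 ∧ y = 2 ∧ z = 2) ∨ (x = 2 ∧ y = 2 ∧ z = -2) ∨
    (x = 2 ∧ y = -2 ∧ z = 2) ∨ (x = 2 ∧ y = -2 ∧ z = -2)

theorem rowOf (x y z : ℤ) (hx : x ≠ 0) (hy : y ≠ 0) (hz : z ≠ 0) (h : x ^ 2 + y ^ 2 + z ^ 2 < 16)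
    (h1 : 4 ∣ x - y) (h2 : 4 ∣ x - z) : Row x y z ∨ Row (-x) (-y) (-z) := by
  have hx1 : x ≤ 3 := by nlinarith [sq_nonneg y, sq_nonneg z]
  have hx2 : -3 ≤ x := by nlinarith [sq_nonneg y, sq_nonneg z]
  have hy1 : y ≤ 3 := by nlinarith [sq_nonneg x, sq_nonneg z]
  have hy2 : -3 ≤ y := by nlinarith [sq_nonneg x, sq_nonneg z]
  have hz1 : z ≤ 3 := by nlinarith [sq_nonneg x, sq_nonneg y]
  have hz2 : -3 ≤ z := by nlinarith [sq_nonneg x, sq_nonneg y]
  have n1 : ¬ ((x = 3 ∨ x = -3) ∧ (y = 3 ∨ y = -3)) := by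
    rintro ⟨rfl | rfl, rfl | rfl⟩ <;> nlinarith [sq_nonneg z]
  have n2 : ¬ ((x = 3 ∨ x = -3) ∧ (z = 3 ∨ z = -3)) := by
    rintro ⟨rfl | rfl, rfl | rfl⟩ <;> nlinarith [sq_nonneg y]
  have n3 : ¬ ((y = 3 ∨ y = -3) ∧ (z = 3 ∨ z = -3)) := by
    rintro ⟨rfl | rfl, rfl | rfl⟩ <;> nlinarith [sq_nonneg x]
  clear h
  unfold Row
  interval_cases x <;> interval_cases y <;> (try (exfalso; omega)) <;> interval_cases z <;>
    first | decide | (exfalso; omega)

open Classical in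
/-- The number of rows of a given shape. -/
noncomputable def N {ι : Type u} (s : Finset ι) (a b c : ι → ℤ) (x y z : ℤ) : ℤ :=
  ∑ i ∈ s, if a i = x ∧ b i = y ∧ c i = z then 1 else 0

theorem N_nonneg {ι : Type u} (s : Finset ι) (a b c : ι → ℤ) (x y z : ℤ) : 0 ≤ N s a b c x y z := by
  unfold N
  exact sum_nonneg fun i _ => by split_ifs <;> norm_num

theorem N_ex {ι : Type u} {s : Finset ι} {a b c : ι → ℤ} {x y z : ℤ} (h : N s a b c x y z ≠ 0) :
    ∃ i ∈ s, a i = x ∧ b i = y ∧ c i = z := by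
  unfold N at h
  obtain ⟨i, hi, h'⟩ := exists_ne_zero_of_sum_ne_zero h
  refine ⟨i, hi, ?_⟩
  by_contra hc
  exact h' (if_neg hc)

theorem sum_eq {ι : Type u} {s : Finset ι} {a b c : ι → ℤ}
    (hrow : ∀ i ∈ s, Row (a i) (b i) (c i)) (F : ℤ → ℤ → ℤ → ℤ) :
    ∑ i ∈ s, F (a i) (b i) (c i) = F 1 1 1 * N s a b c 1 1 1 + F (-3) 1 1 * N s a b c (-3) 1 1 +
      F 1 (-3) 1 * N s a b c 1 (-3) 1 + F 1 1 (-3) * N s a b c 1 1 (-3) +
      F 2 2 2 * N s a b c 2 2 2 + F 2 2 (-2) * N s a b c 2 2 (-2) +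
      F 2 (-2) 2 * N s a b c 2 (-2) 2 + F 2 (-2) (-2) * N s a b c 2 (-2) (-2) := by
  unfold N
  simp only [mul_sum, ← sum_add_distrib]
  refine sum_congr rfl fun i hi => ?_
  rcases hrow i hi with h | h | h | h | h | h | h | h <;> obtain ⟨h1, h2, h3⟩ := h <;>
    rw [h1, h2, h3] <;> norm_num

theorem core {ι : Type u} {s : Finset ι} {a b c : ι → ℤ}
    (hrow : ∀ i ∈ s, Row (a i) (b i) (c i)) (haa : ∑ i ∈ s, a i ^ 2 = 16)
    (hbb : ∑ i ∈ s, b i ^ 2 = 16) (hcc : ∑ i ∈ s, c i ^ 2 = 16)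
    (hab : ∑ i ∈ s, a i * b i = 0) (hac : ∑ i ∈ s, a i * c i = 0) (hbc : ∑ i ∈ s, b i * c i = 0)
    (ho : ∃ i ∈ s, a i ≠ 2) (he : ∃ i ∈ s, a i = 2)
    (hw : ∀ w : ι → ℤ, ∑ i ∈ s, a i * w i = 0 → ∑ i ∈ s, b i * w i = 0 →
      ∑ i ∈ s, c i * w i = 0 → Even (∑ i ∈ s, w i)) : False := by
  have e1 := sum_eq hrow fun x _ _ => x ^ 2
  have e2 := sum_eq hrow fun _ y _ => y ^ 2
  have e3 := sum_eq hrow fun _ _ z => z ^ 2
  have e4 := sum_eq hrow fun x y _ => x * y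
  have e5 := sum_eq hrow fun x _ z => x * z
  have e6 := sum_eq hrow fun _ y z => y * z
  have e7 := sum_eq hrow fun x _ _ => if x = 2 then 0 else 1
  have e8 := sum_eq hrow fun x _ _ => if x = 2 then 1 else 0
  have p7 : (1 : ℤ) ≤ ∑ i ∈ s, if a i = 2 then 0 else 1 := by
    obtain ⟨i, hi, h⟩ := ho
    have := single_le_sum (f := fun i => if a i = 2 then (0 : ℤ) else 1)
      (fun i _ => by split_ifs <;> norm_num) hi
    rwa [if_neg h] at this
  have p8 : (1 : ℤ) ≤ ∑ i ∈ s, if a i = 2 then 1 else 0 := by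
    obtain ⟨i, hi, h⟩ := he
    have := single_le_sum (f := fun i => if a i = 2 then (1 : ℤ) else 0)
      (fun i _ => by split_ifs <;> norm_num) hi
    rwa [if_pos h] at this
  rw [haa] at e1
  rw [hbb] at e2
  rw [hcc] at e3
  rw [hab] at e4
  rw [hac] at e5
  rw [hbc] at e6
  rw [e7] at p7
  rw [e8] at p8
  clear e7 e8
  have n1 := N_nonneg s a b c 1 1 1
  have n2 := N_nonneg s a b c (-3) 1 1
  have n3 := N_nonneg s a b c 1 (-3) 1
  have n4 := N_nonneg s a b c 1 1 (-3)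
  have n5 := N_nonneg s a b c 2 2 2
  have n6 := N_nonneg s a b c 2 2 (-2)
  have n7 := N_nonneg s a b c 2 (-2) 2
  have n8 := N_nonneg s a b c 2 (-2) (-2)
  norm_num at e1 e2 e3 e4 e5 e6 p7 p8
  have hcase : N s a b c 1 1 1 ≠ 0 ∧ (N s a b c 2 2 2 ≠ 0 ∨ (N s a b c 2 2 (-2) ≠ 0 ∧
      N s a b c 2 (-2) 2 ≠ 0 ∧ N s a b c 2 (-2) (-2) ≠ 0)) := by omega
  obtain ⟨h1, h2⟩ := hcase
  obtain ⟨t, ht, t1, t2, t3⟩ := N_ex h1
  rcases h2 with h2 | ⟨h2, h3, h4⟩
  · obtain ⟨p, hp, p1, p2, p3⟩ := N_ex h2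
    have := four hw hp hp hp ht 1 0 0 (-2) (by rw [p1, t1]; norm_num) (by rw [p2, t2]; norm_num)
      (by rw [p3, t3]; norm_num)
    exact absurd this (by decide)
  · obtain ⟨p, hp, p1, p2, p3⟩ := N_ex h2
    obtain ⟨q, hq, q1, q2, q3⟩ := N_ex h3
    obtain ⟨r, hr, r1, r2, r3⟩ := N_ex h4
    have := four hw hp hq hr ht 1 1 (-1) (-2) (by rw [p1, q1, r1, t1]; norm_num)
      (by rw [p2, q2, r2, t2]; norm_num) (by rw [p3, q3, r3, t3]; norm_num)
    exact absurd this (by decide)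

theorem sgn_ex {x y : ℤ} (hx : Odd x) (h : 4 ∣ x * x - y * y) :
    ∃ e : ℤ, e * e = 1 ∧ ∀ v w : ℤ, 4 ∣ v * x - w * y → 4 ∣ v - e * w := by
  have hy : Odd y := by
    have h1 : Odd (x * x) := hx.mul hx
    obtain ⟨k, hk⟩ := h
    have h2 : Odd (y * y) := by
      obtain ⟨m, hm⟩ := h1
      exact ⟨m - 2 * k, by linarith⟩
    exact (Int.odd_mul.1 h2).1
  obtain ⟨m, rfl⟩ := hx
  obtain ⟨n, rfl⟩ := hy
  rcases Int.even_or_odd (m - n) with ⟨k, hk⟩ | ⟨k, hk⟩
  · refine ⟨1, by norm_num, fun v w ⟨j, hj⟩ => ?_⟩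
    obtain rfl : n = m - 2 * k := by linarith
    exact ⟨(2 * m + 1) * (j - w * k) - (m * m + m) * (v - w), by linear_combination (2 * m + 1) * hj⟩
  · refine ⟨-1, by norm_num, fun v w ⟨j, hj⟩ => ?_⟩
    obtain rfl : n = m - 2 * k - 1 := by linarith
    exact ⟨(2 * m + 1) * (j + w * (m - k)) - (m * m + m) * (v + w),
      by linear_combination (2 * m + 1) * hj⟩

theorem jobN5 : H68.EA.JobN5.{u} := by
  intro ι s a b c haa hab hac hbc hne hlt hbb hcc hdv ⟨o, ho, hodd⟩ hw p hp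
  by_contra hev
  obtain ⟨β, hβ, hb⟩ := sgn_ex hodd (hdv o ho o ho).1
  obtain ⟨γ, hγ, hc⟩ := sgn_ex hodd (hdv o ho o ho).2
  have hβ0 : β ≠ 0 := by rintro rfl; norm_num at hβ
  have hγ0 : γ ≠ 0 := by rintro rfl; norm_num at hγ
  have hex : ∀ i, ∃ e : ℤ, (e = 1 ∨ e = -1) ∧
      (i ∈ s → Row (e * a i) (e * (β * b i)) (e * (γ * c i))) := by
    intro i
    by_cases hi : i ∈ s
    · obtain ⟨h1, h2, h3⟩ := hne i hi
      have h4 : a i ^ 2 + (β * b i) ^ 2 + (γ * c i) ^ 2 < 16 := by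
        have := hlt i hi
        have e : a i ^ 2 + (β * b i) ^ 2 + (γ * c i) ^ 2 = a i ^ 2 + b i ^ 2 + c i ^ 2 := by
          linear_combination b i ^ 2 * hβ + c i ^ 2 * hγ
        rwa [e]
      rcases rowOf _ _ _ h1 (mul_ne_zero hβ0 h2) (mul_ne_zero hγ0 h3) h4
        (hb _ _ (hdv i hi o ho).1) (hc _ _ (hdv i hi o ho).2) with h | h
      · exact ⟨1, Or.inl rfl, fun _ => by simpa only [one_mul] using h⟩
      · exact ⟨-1, Or.inr rfl, fun _ => by simpa only [neg_one_mul] using h⟩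
    · exact ⟨1, Or.inl rfl, fun h => absurd h hi⟩
  choose e he hrow using hex
  have hee : ∀ i, e i * e i = 1 := fun i => by rcases he i with h | h <;> rw [h] <;> norm_num
  refine core (s := s) (a := fun i => e i * a i) (b := fun i => e i * (β * b i))
    (c := fun i => e i * (γ * c i)) (fun i hi => hrow i hi) ?_ ?_ ?_ ?_ ?_ ?_ ?_ ?_ ?_
  · rw [← haa]
    exact sum_congr rfl fun i _ => by linear_combination a i ^ 2 * hee i
  · rw [← hbb]
    exact sum_congr rfl fun i _ => by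
      linear_combination (β * b i) ^ 2 * hee i + b i ^ 2 * hβ
  · rw [← hcc]
    exact sum_congr rfl fun i _ => by
      linear_combination (γ * c i) ^ 2 * hee i + c i ^ 2 * hγ
  · rw [← mul_zero β, ← hab, mul_sum]
    exact sum_congr rfl fun i _ => by linear_combination (β * a i * b i) * hee i
  · rw [← mul_zero γ, ← hac, mul_sum]
    exact sum_congr rfl fun i _ => by linear_combination (γ * a i * c i) * hee i
  · rw [← mul_zero (β * γ), ← hbc, mul_sum]
    exact sum_congr rfl fun i _ => by linear_combination (β * γ * b i * c i) * hee i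
  · refine ⟨o, ho, fun h => ?_⟩
    obtain ⟨m, hm⟩ := hodd
    have h' : e o * a o = 2 := h
    rcases he o with h1 | h1 <;> rw [h1] at h' <;> omega
  · refine ⟨p, hp, ?_⟩
    have h := hrow p hp
    obtain ⟨m, hm⟩ := Int.not_odd_iff_even.1 hev
    show e p * a p = 2
    unfold Row at h
    rcases he p with h1 | h1 <;> rw [h1] at h ⊢ <;> omega
  · intro w w1 w2 w3
    have k1 : ∑ i ∈ s, a i * (e i * w i) = 0 := by
      rw [← w1]
      exact sum_congr rfl fun i _ => by ring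
    have k2 : ∑ i ∈ s, b i * (e i * w i) = 0 := by
      have : β * ∑ i ∈ s, b i * (e i * w i) = 0 := by
        rw [← w2, mul_sum]
        exact sum_congr rfl fun i _ => by ring
      exact (mul_eq_zero.1 this).resolve_left hβ0
    have k3 : ∑ i ∈ s, c i * (e i * w i) = 0 := by
      have : γ * ∑ i ∈ s, c i * (e i * w i) = 0 := by
        rw [← w3, mul_sum]
        exact sum_congr rfl fun i _ => by ring
      exact (mul_eq_zero.1 this).resolve_left hγ0
    have h := hw _ k1 k2 k3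
    have h2 : Even (∑ i ∈ s, (w i - e i * w i)) := by
      refine even_sum _ fun i _ => ?_
      rcases he i with h1 | h1 <;> rw [h1]
      · exact ⟨0, by ring⟩
      · exact ⟨w i, by ring⟩
    rw [sum_sub_distrib] at h2
    simpa using h2.add h

end H17.EAN5
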