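import Cfsg.Agent.H74.FRed

/-! FUSMC: `JobB`. -/

set_option autoImplicit false
set_option linter.unusedSectionVars false

namespace H17.FMB
open Cfsg H92 H92.Es H93 H92.P5 Subgroup H74.FT H74.FM Module
open scoped commutatorElement

universe u

section lin
variable {k : Type*} [Field k] {M : Type*} [AddCommGroup M] [Module k M] {d : ℕ}

theorem alt_sem (ω : M [⋀^Fin d]→ₗ[k] k) (ι : (Fin d → k) →ₗ[k] M) (T : End k (Fin d → k)) :
    ω (fun i => ι (T (Pi.basisFun k (Fin d) i))) =
      LinearMap.det T * ω (fun i => ι (Pi.basisFun k (Fin d) i)) := by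
  have e := (ω.compLinearMap ι).eq_smul_basis_det (Pi.basisFun k (Fin d))
  have e1 := DFunLike.congr_fun e (T ∘ Pi.basisFun k (Fin d))
  rw [AlternatingMap.smul_apply, Basis.det_comp, Basis.det_self, mul_one, smul_eq_mul,
    mul_comm] at e1
  exact e1

theorem alt_ex (u v : (Fin d → k) →ₗ[k] M) (hv : Function.Injective v)
    (h : ¬ LinearMap.range u ≤ LinearMap.range v) : ∃ ω : M [⋀^Fin d]→ₗ[k] k,
      ω (fun i => v (Pi.basisFun k (Fin d) i)) = 1 ∧ ω (fun i => u (Pi.basisFun k (Fin d) i)) = 0 := by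
  obtain ⟨z, hz, hz'⟩ := SetLike.not_le_iff_exists.1 h
  have sp : ∀ w : (Fin d → k) →ₗ[k] M,
      Submodule.span k (Set.range fun i => w (Pi.basisFun k (Fin d) i)) = LinearMap.range w :=
    fun w => by
      rw [LinearMap.range_eq_map, ← (Pi.basisFun k (Fin d)).span_eq, Submodule.map_span,
        ← Set.range_comp]
      rfl
  have li : LinearIndependent k (Fin.cons z fun i => v (Pi.basisFun k (Fin d) i) : Fin (d + 1) → M) :=
    linearIndependent_finCons.2 ⟨(Pi.basisFun k (Fin d)).linearIndependent.map' v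
      (LinearMap.ker_eq_bot.2 hv), by rwa [sp]⟩
  obtain ⟨L, hL⟩ := (Fintype.linearCombination k _).exists_leftInverse_of_injective
    (LinearMap.ker_eq_bot.2 li.fintypeLinearCombination_injective)
  refine ⟨((Pi.basisFun k (Fin (d + 1))).det.compLinearMap L).curryLeft z, ?_, ?_⟩
  · rw [AlternatingMap.curryLeft_apply_apply, AlternatingMap.compLinearMap_apply,
      ← (Pi.basisFun k (Fin (d + 1))).det_self]
    congr 1
    funext i
    have := LinearMap.congr_fun hL (Pi.single i 1)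
    simpa [Matrix.vecCons] using this
  · rw [AlternatingMap.curryLeft_apply_apply]
    exact AlternatingMap.map_linearDependent _ _ fun r =>
      (linearIndependent_finCons.1 r).2 (by rwa [sp])

theorem det_flag [FiniteDimensional k M] {V : ℕ → Submodule k M} (h : Flag V d)
    (hd : finrank k M = d) (ne : ∀ i < d, ¬ V i ≤ V (i + 1)) (T : End k M) (c : ℕ → k)
    (hc : ∀ i < d, ∀ v ∈ V i, T v - c i • v ∈ V (i + 1)) :
    LinearMap.det T = ∏ i ∈ Finset.range d, c i := by
  classical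
  have ex : ∀ i : Fin d, ∃ v ∈ V i, v ∉ V (i + 1) := fun i => SetLike.not_le_iff_exists.1 (ne i i.2)
  choose b h1 h2 using ex
  have le : ∀ j, V j ≤ Submodule.span k (b '' {i | j ≤ i.val}) := fun j =>
    h.le_of fun i a e => .inr ⟨b ⟨i, e⟩, Submodule.subset_span ⟨⟨i, e⟩, a, rfl⟩, h1 ⟨i, e⟩, h2 ⟨i, e⟩⟩
  let B := basisOfTopLeSpanOfCardEqFinrank b
    (h.top ▸ (le 0).trans (Submodule.span_mono (Set.image_subset_range _ _))) (by simp [hd])
  have hB : ⇑B = b := coe_basisOfTopLeSpanOfCardEqFinrank _ _ _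
  have key : ∀ i j : Fin d, i ≤ j → LinearMap.toMatrix B B T i j = if i = j then c j else 0 :=
    fun i j hij => by
      have h3 := le _ (hc j j.2 _ (h1 j))
      rw [← hB, B.mem_span_image] at h3
      have h4 : B.repr (T (B j) - c j • B j) i = 0 := by
        by_contra r
        have : (j : ℕ) + 1 ≤ i := h3 (Finsupp.mem_support_iff.2 r)
        have : (i : ℕ) ≤ j := hij
        omega
      rw [map_sub, Finsupp.sub_apply, sub_eq_zero] at h4
      rw [LinearMap.toMatrix_apply, h4]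
      simp [Finsupp.single_apply, eq_comm]
  rw [← LinearMap.det_toMatrix B, Matrix.det_of_lowerTriangular _ (fun i j hij => by
    have : i < j := hij
    rw [key i j this.le, if_neg this.ne]), ← Fin.prod_univ_eq_prod_range]
  exact Finset.prod_congr rfl fun i _ => by rw [key i i le_rfl, if_pos rfl]

end lin

theorem alt_deg {p : ℕ} [Fact p.Prime] {M : Type*} [AddCommGroup M] [Module (ZMod p) M]
    [FiniteDimensional (ZMod p) M] {d ν : ℕ} (ω : M [⋀^Fin d]→ₗ[ZMod p] ZMod p) (v w : Fin d → M)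
    (R : Submodule (ZMod p) M) (hw : ∀ i, w i ∈ R) (hν : min d (finrank (ZMod p) R) ≤ ν) :
    (fun q : ZMod p => ω (fun i => v i + q • w i)) ∈ (g1 p).Fil (ZMod p) ν := by
  classical
  have e : (fun q : ZMod p => ω (fun i => v i + q • w i)) =
      ∑ s : Finset (Fin d), fun q : ZMod p => q ^ s.card • ω (s.piecewise w v) := by
    funext q
    rw [Finset.sum_apply, show (fun i => v i + q • w i) = (fun i => q • w i) + v from
      funext fun i => add_comm _ _, ω.map_add_univ]
    refine Finset.sum_congr rfl fun s _ => ?_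
    have := ω.toMultilinearMap.map_piecewise_smul (fun _ => q) (s.piecewise w v) s
    rw [Finset.prod_const] at this
    refine Eq.trans ?_ this
    refine congrArg ω (funext fun i => ?_)
    by_cases hi : i ∈ s <;> simp [hi]
  rw [e]
  refine Submodule.sum_mem _ fun s _ => ?_
  by_cases hs : s.card ≤ ν
  · exact Gr.gen (Γ := g1 p) ⟨s.card, hs, rfl⟩ _
  · rw [ω.map_linearDependent _ fun r => hs ?_]
    · simp only [smul_zero]
      exact zero_mem _
    have h1 : LinearIndependent (ZMod p) fun i : s => (⟨w i, hw i⟩ : R) := by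
      refine LinearIndependent.of_comp R.subtype ?_
      have e' : (R.subtype ∘ fun i : s => (⟨w i, hw i⟩ : R)) = s.piecewise w v ∘ fun i : s => i.1 :=
        funext fun i => by simp [i.2]
      exact e' ▸ r.comp (fun i : s => i.1) Subtype.val_injective
    have h2 := h1.fintype_card_le_finrank
    have h3 := s.card_le_univ
    rw [Fintype.card_coe] at h2
    rw [Fintype.card_fin] at h3
    omega

variable {Ω : Type u} [Group Ω] [Finite Ω] {S : Subgroup Ω} {γ : ℕ → Subgroup Ω} {p n κ : ℕ}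
  [hp : Fact p.Prime] {F : FusionSystem S}

theorem exists_incl {A B C : Subgroup Ω} {M M' : Type} [AddCommGroup M] [Module (ZMod p) M]
    [AddCommGroup M'] [Module (ZMod p) M'] {π : Ω → M} {π' : Ω → M'} (h : H9.Coord A B π)
    (h' : H9.Coord C B π') (l : C ≤ A) :
    ∃ ι : M' →ₗ[ZMod p] M, Function.Injective ι ∧ ∀ y ∈ C, ι (π' y) = π y := by
  choose s hs hs' using h'.surj
  have key : ∀ y ∈ C, π (s (π' y)) = π y := fun y hy =>
    (h.eq_iff (l (hs _)) (l hy)).2 ((h'.eq_iff (hs _) hy).1 (hs' _))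
  let f : M' →+ M := AddMonoidHom.mk' (fun v => π (s v)) fun v w => by
    rw [← h.add _ (l (hs _)) _ (l (hs _)), ← key _ (mul_mem (hs v) (hs w)), h'.add _ (hs _) _ (hs _),
      hs', hs']
  refine ⟨f.toZModLinearMap p, fun v w e => ?_, key⟩
  rw [← hs' v, ← hs' w]
  exact (h'.eq_iff (hs _) (hs _)).2 ((h.eq_iff (l (hs _)) (l (hs _))).1 e)

theorem om_exp (P : Pw p n F γ κ) {k : ℕ} (h1 : 1 ≤ k) (h2 : k < n) :
    ∃ c, ∀ t ∈ Nm S, om p γ k t = om p γ 0 t ^ c := by
  by_cases e : k + 2 ≤ n ∨ γ 1 ≤ Ct (γ (n - 2))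
  · exact ⟨k + κ, fun t ht => P.pw t ht k h1 (e.imp_right fun r => ⟨h2, r⟩)⟩
  · have := P.n5
    obtain rfl : k = n - 1 := by omega
    refine ⟨1 + κ + (n - 2 + κ), fun t ht => ?_⟩
    rw [P.mx.om_last ht fun r => e (.inr r), P.pw t ht 1 le_rfl (.inl (by omega)),
      P.pw t ht (n - 2) (by omega) (.inl (by omega)), ← pow_add]

theorem jobB (jk : JobK.{u}) : JobB.{u} := by
  intro Ω _ _ S p n hp F γ c κ E P hn m' m U x D π ρ q
  have m := c.mx
  have p5 := P.p5
  obtain ⟨d, rfl⟩ := Nat.exists_eq_add_of_le q.con.lt.le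
  have d1 : 1 ≤ d := by have := q.con.lt; omega
  have hSA : S ≤ Aut F (γ 1) := fun s hs => Nm_le_Aut F _ ⟨hs, m.nmS 1 hs⟩
  obtain ⟨tv, pw⟩ := (jobRed p n F γ c).2.2 _ m' (m' + d) hSA (Aut_le_Nm F _) q.one q.le q.con
  have l1 : γ m' ≤ γ 1 := m.anti q.one
  have l2 : γ (m' + d) ≤ γ m' := m.anti (Nat.le_add_right _ _)
  obtain ⟨d', π', ρ', sec, ed⟩ := exists_sec l2 (le_of_tv (l1.trans tv)) pw
  obtain rfl : d = d' := Nat.pow_right_injective hp.out.two_le ((m.relIndex q.le).symm.trans ed)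
  obtain ⟨ι, inj, hι⟩ := exists_incl (p := p) q.sec.co sec.co q.u1
  have nA : Aut F (γ 1) ≤ Nm (γ m') ⊓ Nm (γ (m' + d)) := le_inf q.con.n1 q.con.n2
  have nG : Aut F E ≤ Nm U ⊓ Nm (γ (m' + d)) := le_inf q.u3 q.g1
  have R := q.sec.rp.mono nG
  have hc : ∀ i, ∃ c, i < d → ∀ t ∈ Nm S, om p γ (m' + i) t = om p γ 0 t ^ c := fun i => by
    by_cases r : i < d
    · exact (om_exp P.toPw (k := m' + i) (by have := q.one; omega)
        (by have := q.le; omega)).imp fun _ h _ => h
    · exact ⟨0, fun h => (r h).elim⟩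
  choose cc hc using hc
  obtain ⟨k1, k2⟩ := jk p n F γ c κ P.toPw (Aut F (γ 1)) (fun y => LinearMap.det (ρ' y))
    (∑ i ∈ Finset.range d, cc i) le_rfl hSA
    (fun y hy => ((sec.rp.isUnit (nA hy)).map LinearMap.det).ne_zero)
    (fun y hy z hz => by rw [sec.rp.mul y (nA hy) z (nA hz), map_mul]) fun y hy t ht e => by
      have ht' := Aut_le_Nm F S ht
      rw [det_flag (sec.flag m le_rfl inf_le_right) (by simp) (fun i hi r => ?_) (ρ' y)
        (fun i => om p γ (m' + i) t) fun i hi v hv => sec.wt (m.sp (by have := q.le; omega)) (nA hy)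
          (Ct_anti l1 e) (m.nm _ ht') (m.nm _ ht') hv, ← Finset.prod_pow_eq_pow_sum]
      · exact Finset.prod_congr rfl fun i hi => hc i (Finset.mem_range.1 hi) t ht'
      · obtain ⟨y, a, b⟩ := m.ex (i := m' + i) (by have := q.le; omega)
        have a' := m.anti (Nat.le_add_right m' i) a
        exact b ((sec.mem_sb' (m.anti (by omega)) a').1 (r (sec.mk_mem a' a)))
  generalize (∑ i ∈ Finset.range d, cc i) = c0 at k1 k2
  obtain ⟨o, ho⟩ := Nat.gcd_dvd_right c0 (p - 1)
  generalize c0.gcd (p - 1) = e at k1 k2 ho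
  have e0 : 0 < e := Nat.pos_of_ne_zero fun r => by rw [r] at ho; omega
  have o0 : 0 < o := Nat.pos_of_ne_zero fun r => by rw [r] at ho; omega
  rw [ho, Nat.mul_div_cancel_left _ e0] at k1
  have hx : x ∈ S ⊓ Nm E := ⟨m.le 1 q.x1.1, q.x1.2⟩
  have hxG : x ∈ Aut F E := Nm_le_Aut F E hx
  have rg : LinearMap.range ι = q.sec.sb (γ m') := by
    ext v
    constructor
    · rintro ⟨w, rfl⟩
      obtain ⟨y, hy, rfl⟩ := sec.co.surj w
      exact hι y hy ▸ q.sec.mk_mem (q.u1 hy) hy
    · rintro ⟨y, -, hy, rfl⟩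
      exact ⟨_, hι y hy⟩
  have hr : d + finrank (ZMod p) (LinearMap.range (ρ x - 1)) ≤ p - 1 := by
    have h1 := (ρ x - 1).finrank_range_add_finrank_ker
    have h2 : LinearMap.range ι ≤ LinearMap.ker (ρ x - 1) := by
      rw [rg]
      rintro _ ⟨y, a, b, rfl⟩
      rw [LinearMap.mem_ker, q.sec.sub_app (nG hxG) a]
      exact (q.sec.co.ker _ (q.sec.com_mem (nG hxG) a)).2 (com_of_tv (tv q.x1.1) b)
    have h3 := Submodule.finrank_mono h2
    rw [LinearMap.finrank_range_of_inj inj] at h3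
    have := q.hD
    simp only [finrank_fintype_fun_eq_card, Fintype.card_fin] at h1 h3
    omega
  have key : ¬ o * min d (finrank (ZMod p) (LinearMap.range (ρ x - 1))) < p - 1 := fun lt =>
    q.g2 fun g hg => by
      by_contra hg'
      obtain ⟨ω, w1, w2⟩ := alt_ex ι (ρ g ∘ₗ ι) ((R.inj hg).comp inj) fun r => hg' (by
        refine inv_mem_iff.1 (q.sec.nm_of l2 q.u1 (nG (inv_mem hg)) fun v hv => ?_)
        rw [← rg] at hv ⊢
        obtain ⟨w, rfl⟩ := r hv
        exact ⟨w, (R.inv_app hg _).symm⟩)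
      have := (seA1 c.sat P.ess.2.1 hx q.x2 q.x3).line1 (Γ := g1 p)
        (f := fun g => ω fun i => ρ g (ι (Pi.basisFun (ZMod p) (Fin d) i))) (fun u hu g hg => ?_) o0 lt
        (fun h hh hh' => ?_) hg
      · simp only [R.one, End.one_apply, w2, Submodule.span_zero_singleton, Submodule.mem_bot] at this
        exact one_ne_zero (w1.symm.trans this)
      · convert alt_deg (ω.compLinearMap (ρ u)) (fun i => ρ g (ι (Pi.basisFun (ZMod p) (Fin d) i)))
          (fun i => (ρ x - 1) (ρ g (ι (Pi.basisFun (ZMod p) (Fin d) i)))) (LinearMap.range (ρ x - 1))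
          (fun i => LinearMap.mem_range_self _ _) le_rfl using 2 with t
        obtain ⟨Q, hQ⟩ := one_add_pow (ρ x - 1) t.val
        rw [q.sq, zero_mul, add_zero, sub_add_cancel, ZMod.natCast_zmod_val] at hQ
        rw [AlternatingMap.compLinearMap_apply]
        refine congrArg ω (funext fun i => ?_)
        rw [t1, R.app (mul_mem hu (pow_mem hxG _)) hg, R.app hu (pow_mem hxG _), R.pow hxG, hQ]
        rfl
      · obtain ⟨t, ht, e⟩ := P.ext h hh'
        refine ⟨_, k1 t ht, fun g hg => ?_⟩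
        have e1 : ∀ v, ρ h (ι v) = ι (ρ' t v) := fun v => by
          obtain ⟨y, hy, rfl⟩ := sec.co.surj v
          rw [hι y hy, sec.app t (nA ht) y hy, hι _ (conj_mem_of_Nm (nA ht).1 hy),
            q.sec.app h (nG hh) y (q.u1 hy), conj_eq_iff_Ct.2 e y (q.u2 (q.u1 hy))]
        simp only [R.app hg hh, e1]
        exact alt_sem ω (ρ g ∘ₗ ι) (ρ' t)
  have rk := q.rk
  generalize finrank (ZMod p) (LinearMap.range (ρ x - 1)) = r at hr key rk
  have h1 : e ≤ min d r := by
    by_contra h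
    refine key ?_
    rw [ho, mul_comm e]
    exact Nat.mul_lt_mul_of_pos_left (not_le.1 h) o0
  rcases d1.eq_or_lt with rfl | d2
  · obtain ⟨a, d, a1, a5, a3, a4⟩ := MX.exists_con m (Aut_le_Nm F _) hn
    obtain ⟨b1, b2, -⟩ := k2 a d a1 a5 a3 a4
    obtain rfl : e = 1 := by omega
    omega
  · obtain ⟨-, -, b3, b4⟩ := k2 m' d q.one q.le d2 q.con
    obtain rfl : e = d := by omega
    have h2 := b4 le_rfl
    have h3 : 2 < o := Nat.lt_of_mul_lt_mul_left (a := e) (by omega)
    have h4 := Nat.mul_le_mul_left e h3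
    omega

end H17.FMB
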