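import Cfsg.Agent.H74.FRed

/-! FUSMC: `JobJB`. -/

set_option autoImplicit false
set_option linter.unusedSectionVars false

namespace H17.FMJB
open Cfsg H92 H92.Es H93 H92.P5 Subgroup H74.FT H74.FM Module Polynomial
open scoped commutatorElement

universe u

section lin
variable {k : Type*} [Field k] {M : Type*} [AddCommGroup M] [Module k M] [FiniteDimensional k M]
  {J N : End k M} {V : ℕ → Submodule k M} {L μ : ℕ} {Q : k[X]} (U : Uni J V L)
  (hQ : Q.coeff 0 ≠ 0) (e : N = J ^ μ * aeval J Q)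
include U hQ e

theorem map_N (i : ℕ) : (V i).map N = V (μ + i) := by
  rw [e, ← U.range_pow, ← U.range_pow, ← LinearMap.range_comp, ← End.mul_eq_comp, mul_assoc,
    ← ((commute_aeval J Q).pow_left i).eq, ← mul_assoc, ← pow_add,
    range_mul_unit (isUnit_aeval U.nil hQ)]

theorem range_N (i : ℕ) : LinearMap.range (N ^ i) = V (μ * i) := by
  rw [e, ((commute_aeval J Q).pow_left μ).mul_pow, range_mul_unit ((isUnit_aeval U.nil hQ).pow i),
    ← pow_mul, U.range_pow]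

end lin

theorem arith {p g f ν B d μ : ℕ} (p5 : 5 ≤ p) (h1 : p - 1 = g * f) (h2 : g ∣ μ) (h3 : 1 ≤ μ)
    (h4 : μ * ν ≤ p - 2) (h0 : 1 ≤ ν) (h5 : ν * B + 1 ≤ f) (h6 : p - 1 ≤ 1 * (ν + ν) + B * (ν + ν))
    (h7 : p - 1 ≤ g * (d - 1)) (h8 : d ≤ g ∨ p ≤ d + g) : μ < d := by
  obtain ⟨o, rfl⟩ := h2
  have o1 : 1 ≤ o := Nat.pos_of_ne_zero fun r => by simp [r] at h3
  have k1 : g * ν ≤ g * o * ν := Nat.mul_le_mul_right _ (Nat.le_mul_of_pos_right _ o1)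
  have k2 : ν < f := Nat.lt_of_mul_lt_mul_left (a := g) (by omega)
  have k3 : g * f + 4 ≤ 4 * f := by nlinarith
  rcases h8 with h8 | h8
  · have k4 : f ≤ d - 1 := Nat.le_of_mul_le_mul_left (h1 ▸ h7) (Nat.pos_of_ne_zero fun r => by
      simp [r] at h3)
    have k5 : g < 4 := Nat.lt_of_mul_lt_mul_right (a := f) (by omega)
    interval_cases g <;> omega
  · have k4 : g * o ≤ g * o * ν := Nat.le_mul_of_pos_right _ h0
    have k5 : o < f := Nat.lt_of_mul_lt_mul_left (a := g) (by omega)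
    have k6 := Nat.mul_le_mul_left g k5
    rw [Nat.mul_succ] at k6
    omega

theorem jobJB (jk : JobK.{u}) : JobJB.{u} := by
  intro Ω _ _ S p n hp F γ c κ P a L j hn
  have m := c.mx
  have p5 := P.p5
  have a2 := j.a2
  have aL := j.le
  have hL := j.hL
  obtain ⟨x, x1, x2⟩ := SetLike.not_le_iff_exists.1 j.nt
  obtain ⟨s, hs, s1, s2⟩ := m.exists_unif
  have l2 : γ (a + L) ≤ γ a := m.anti (Nat.le_add_right _ _)
  have l1 : γ a ≤ γ 2 := m.anti a2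
  obtain ⟨D, π, ρ, sec, -⟩ := exists_sec l2 (le_of_tv (l1.trans j.tv)) j.pow
  have U := Sec.uni m sec aL hs fun i hi hi' w hw hw' =>
    m.unif' hs s1 s2 (by omega) (by omega) hw hw'
  have nG : Aut F (γ 2) ≤ Nm (γ a) ⊓ Nm (γ (a + L)) := le_inf j.con.n1 j.con.n2
  have nS : S ≤ Nm (γ a) ⊓ Nm (γ (a + L)) := le_inf (m.nmS _) (m.nmS _)
  have R := sec.rp.mono nG
  have xS := m.le 1 x1
  have x3 : x ∉ γ 2 := fun r => x2 (j.tv r)
  have sp1 : Sp p (γ 1) (γ 2) := m.sp (by omega)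
  have cm : Commute (ρ s - 1) (ρ x - 1) := by
    have : Commute (ρ s) (ρ x) := by
      rw [Commute, SemiconjBy, ← sec.rp.mul _ (nS hs) _ (nS xS), ← sec.rp.mul _ (nS xS) _ (nS hs)]
      refine sec.congr (nS (mul_mem xS hs)) (j.tv ?_)
      have := m.top.le (commutator_mem_commutator (inv_mem hs) (inv_mem xS))
      simpa [commutatorElement_def, mul_assoc] using this
    exact (this.sub_left (Commute.one_left _)).sub_right (Commute.one_right _)
  obtain ⟨μ, μL, Q, hQ, e⟩ := U.comm_unit cm fun r =>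
    x2 ((sec.eq_one_iff (nS xS)).1 (sub_eq_zero.1 r))
  have mp := map_N U hQ e
  have rg := range_N U hQ e
  have up : ∀ i d, i + d ≤ L → x ∈ Tv (γ (a + i)) (γ (a + (i + d))) → 1 ≤ d → d ≤ μ :=
    fun i d h1 h2 h3 => by
      by_contra r
      refine U.ne (μ + i) (by omega) (le_trans ?_ (U.anti (by omega : μ + i + 1 ≤ i + d)))
      rw [← mp]
      rintro _ ⟨_, ⟨y, b1, b2, rfl⟩, rfl⟩
      rw [sec.sub_app (nS xS) b1]
      exact sec.mk_mem (sec.com_mem (nS xS) b1) (com_of_tv h2 b2)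
  have μ1 : 1 ≤ μ := up 0 1 (by omega) (m.tvS _ xS) le_rfl
  have dn : ∀ i, ∀ y ∈ γ (a + i), μ + i ≤ L → ⁅x, y⁆ ∈ γ (a + (μ + i)) := fun i y hy h => by
    have b := m.anti (Nat.le_add_right a i) hy
    rw [← sec.mem_sb' (m.anti (by omega)) (sec.com_mem (nS xS) b), ← sec.sub_app (nS xS) b]
    exact (mp i).le ⟨_, sec.mk_mem b hy, rfl⟩
  have pw : ∀ t ∈ Nm S, ∀ i < L, om p γ (a + i) t = om p γ 0 t ^ (a + i + κ) := fun t ht i hi =>
    P.pw t ht _ (by omega) (j.ne.imp (by omega) fun r => ⟨by omega, r⟩)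
  have w1 : ∀ t ∈ Nm S, om p γ 1 t = om p γ 0 t ^ μ := fun t ht => by
    obtain ⟨_, ⟨_, ⟨y, b1, -, rfl⟩, rfl⟩, b2⟩ :=
      SetLike.not_le_iff_exists.1 (fun r => U.ne μ μL ((mp 0).ge.trans r))
    rw [sec.sub_app (nS xS) b1] at b2
    have t1 : γ 2 ≤ Tv (γ a) (γ (a + μ + 1)) := fun z hz =>
      mem_Tv_of_le (j.tv hz) (m.anti (by omega)) (m.nmS _ (m.le _ hz))
    have := m.om_com (r := a + μ) (by omega) sp1 (m.le 1) (m.nm _ ht) (m.nm _ ht)
      (k := a) (by omega) (m.nm _ ht) (m.nm _ ht) (m.nm _ ht) (m.nm _ ht) le_rfl (m.nmS _)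
      inf_le_right b1 x1 (commutator_comm (γ 1) _ ▸ le_of_tv (sp1.le_of
        (t1.trans (Tv_anti (m.succ a) _)) x1 x3 (tv_of_com (m.nmS _ xS) fun y hy =>
          dn 1 y hy μL))) (le_of_tv t1) (com_symm (dn 0 y b1 μL.le))
      fun r => b2 (sec.mk_mem (sec.com_mem (nS xS) b1) (com_symm r))
    rw [pw t ht μ μL, show om p γ a t = _ from pw t ht 0 (by omega), add_right_comm, pow_add,
      mul_comm] at this
    exact (mul_right_cancel₀ (pow_ne_zero _ (m.om_ne ht (by omega))) this).symm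
  let Y := Aut F (γ 1) ⊓ Nm (γ 2)
  have SY : S ≤ Y := fun s hs => ⟨Nm_le_Aut F _ ⟨hs, m.nmS 1 hs⟩, m.nmS 2 hs⟩
  have YG : Y ≤ Aut F (γ 2) := fun y hy => ((M.of_Aut hy.1 (m.le 1)).mono (m.succ 1)).mem_Aut hy.2
  have ext : ∀ h ∈ XE F (γ 2), ∃ t ∈ Y, h⁻¹ * t ∈ Ct (γ 2) := fun h hh => by
    obtain ⟨t, ht, e⟩ := P.ext h hh
    exact ⟨t, ⟨ht, Nm_of_div_Ct (XE_le_Aut F _ hh).1 e⟩, e⟩
  obtain ⟨k1, k2⟩ := jk p n F γ c κ P.toPw Y (om p γ 1) μ inf_le_left SY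
    (fun y hy => wt_ne sp1 hy.1.1 hy.2) (fun y hy z hz => wt_mul sp1 hy.1.1 hy.2 hz.1.1 hz.2)
    fun y hy t ht e => (wt_congr sp1 hy.1.1 hy.2 e).symm.trans (w1 t ht.1)
  obtain ⟨f, hf⟩ := Nat.gcd_dvd_right μ (p - 1)
  have gμ := Nat.gcd_dvd_left μ (p - 1)
  generalize μ.gcd (p - 1) = g at k1 k2 hf gμ
  have g0 : 0 < g := Nat.pos_of_ne_zero fun r => by rw [r] at hf; omega
  have f0 : 0 < f := Nat.pos_of_ne_zero fun r => by rw [r] at hf; omega
  rw [hf, Nat.mul_div_cancel_left _ g0] at k1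
  obtain ⟨ν, ν1, ν2⟩ : ∃ ν, μ * ν ≤ L - 1 ∧ L ≤ μ * (ν + 1) :=
    ⟨(L - 1) / μ, Nat.mul_div_le _ _, by have := Nat.lt_mul_div_succ (L - 1) μ1; omega⟩
  have ν0 : 1 ≤ ν := Nat.pos_of_ne_zero fun r => by rw [r] at ν2; omega
  obtain ⟨B, i, i1, i2, hB⟩ : ∃ B i, 1 ≤ i ∧ i ≤ ν ∧ ν * B + i = f :=
    ⟨(f - 1) / ν, (f - 1) % ν + 1, by omega, Nat.mod_lt _ ν0, by
      have := Nat.div_add_mod (f - 1) ν; omega⟩
  have nil : (ρ x - 1) ^ (ν + 1) = 0 := LinearMap.range_eq_bot.1 (by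
    rw [rg]; exact le_bot_iff.1 (U.bot ▸ U.anti ν2))
  have hx : x ∈ S ⊓ Nm (γ 2) := ⟨xS, m.nmS _ xS⟩
  have xG := Nm_le_Aut F _ hx
  have se := seA1 c.sat P.ess.2.1 hx x3 (sp1.pow x1)
  have rl : ∀ i, LinearMap.range (lg (ρ x) ^ i) = sec.sb (γ (a + μ * i)) := fun i => by
    rw [← sub_add_cancel (ρ x) 1, lg_pow (by omega) ⟨_, nil⟩, rg]
  have key : p - 1 ≤ 1 * (ν + ν) + B * (ν + ν) := by
    by_contra lt
    have b1 := Nat.mul_le_mul_left μ i2
    have b2 := Nat.mul_le_mul μ1 i1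
    refine j.con.no (a + μ * i) (by omega) (by omega) fun g hg => ?_
    refine sec.nm_of (m.anti (by omega)) (m.anti (by omega)) (nG hg) ?_
    rw [← rl]
    have dg := R.dg_end se.mem (R.rd_nil xG nil)
    have := se.line2 (dg (lg (ρ x) ^ i)) (dg (lg (ρ x) ^ ν)) (fun g hg => R.conj_ne hg fun r => ?_)
      le_rfl (not_le.1 lt) (fun h hh hh' => ?_) hg
    · exact (R.end_inv hg this).1
    · refine U.ne (μ * ν) (by omega) ?_
      rw [← rl, r]
      simp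
    · obtain ⟨t, ht, e⟩ := ext h hh'
      have e1 : ρ t = ρ h := sec.congr (nG hh)
        (mem_Tv_of_Ct (Ct_anti l1 e) (mul_mem (inv_mem (nG hh).2) (nG (YG ht)).2))
      have e2 := wt_W sp1 ht.1.1 ht.2 (c := ((om p γ 1 t).val : ℤ)) (by simp) x1
      have e3 : ρ h * lg (ρ x) = om p γ 1 t • (lg (ρ x) * ρ h) := by
        refine lg_conj ?_ (wt_ne sp1 ht.1.1 ht.2) ?_
        · rw [← R.pow xG]
          exact (sec.eq_one_iff (nG (pow_mem xG _))).2 (j.tv (sp1.pow x1))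
        · rw [W, zpow_natCast] at e2
          rw [← e1, ← R.pow xG, ← sec.congr (nG (pow_mem xG _)) (j.tv e2), ← R.mul _ (YG ht) _ xG,
            ← R.mul _ (mul_mem (mul_mem (YG ht) xG) (inv_mem (YG ht))) _ (YG ht), inv_mul_cancel_right]
      refine ⟨_, _, ?_, R.sem_end hh (R.pow_conj e3 i), R.sem_end hh (R.pow_conj e3 ν)⟩
      rw [pow_one, ← pow_mul, ← pow_add, add_comm, hB, k1 t ht]
  have inv : ∀ i ≤ L, Y ≤ Nm (γ (a + i)) := fun i hi => by
    by_contra r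
    obtain ⟨a', d, b1, b2, b3, b4⟩ := exists_con (YG.trans j.con.n1) (YG.trans j.con.n2)
      (Nat.le_add_right a i) (by omega) r
    obtain ⟨i', rfl⟩ := Nat.exists_eq_add_of_le b1
    obtain ⟨-, c1, c2, -⟩ := k2 _ d (by omega) (by omega) b3 b4
    have := up i' d (by omega) (add_assoc a i' d ▸ ((jobRed p n F γ c).2.2 _ _ _ SY
      (inf_le_left.trans (Aut_le_Nm F _)) (by omega) (by omega) b4).1 x1) (by omega)
    exact this.not_gt (arith p5 hf gμ μ1 (by omega) ν0 (by omega) key c1 c2)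
  have sp0 : Sp p (γ a) (γ (a + 1)) := m.sp (by omega)
  have sp2 : Sp p (γ (a + 1)) (γ (a + 2)) := m.sp (by omega)
  have n0 := inv 0 (by omega)
  have n1 := inv 1 (by omega)
  have n2 := inv 2 (by omega)
  obtain ⟨a', d, b1, b2, b3, b4⟩ := MX.exists_con (Y := Y) m (inf_le_left.trans (Aut_le_Nm F _))
    fun r => hn fun k hk h hh => by
      obtain ⟨t, ht, e⟩ := ext h hh
      exact Nm_of_div_Ct (r k (by omega) ht) (div_symm (Ct_anti (m.anti hk) e))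
  obtain ⟨c1, c2, -⟩ := (jk p n F γ c κ P.toPw Y (fun y => om p γ (a + 1) y / om p γ a y) 1
    inf_le_left SY (fun y hy => div_ne_zero (wt_ne sp2 (n1 hy) (n2 hy)) (wt_ne sp0 (n0 hy) (n1 hy)))
    (fun y hy z hz => by
      rw [om, om, wt_mul sp2 (n1 hy) (n2 hy) (n1 hz) (n2 hz),
        wt_mul sp0 (n0 hy) (n1 hy) (n0 hz) (n1 hz), mul_div_mul_comm])
    fun y hy t ht e => by
      rw [om, om, ← wt_congr sp2 (n1 hy) (n2 hy) (Ct_anti (m.anti (by omega)) e),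
        ← wt_congr sp0 (n0 hy) (n1 hy) (Ct_anti (m.anti (by omega)) e),
        show wt p (γ (a + 1)) (γ (a + 2)) t = _ from pw t ht.1 1 (by omega),
        show wt p (γ a) (γ (a + 1)) t = _ from pw t ht.1 0 (by omega), add_right_comm, pow_succ', add_zero,
        mul_div_cancel_right₀ _ (pow_ne_zero _ (m.om_ne ht.1 (by omega))), pow_one]).2 a' d b1 b2 b3 b4
  rw [Nat.gcd_one_left] at c2
  omega

end H17.FMJB
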