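/- Tower FS: two commuting involutory actions on a span have the same commutator with `z`. -/
import Cfsg.Agent.H82.FSSpec3

set_option autoImplicit false
set_option linter.all false

namespace H17.FSTw

open Subgroup H82.FS
open scoped commutatorElement

universe u

variable {G : Type u} [Group G] {X : Subgroup G}

theorem zX {w : G} (hw : w ∈ ⁅X, X⁆) : w ∈ X := by
  have h : ⁅X, X⁆ ≤ X := comm_le_left le_normalizer
  exact h hw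

theorem zc (hc : ⁅X, X⁆ ≤ centralizer (X : Set G)) {w u : G} (hw : w ∈ ⁅X, X⁆) (hu : u ∈ X) :
    u * w = w * u := hc hw u hu

theorem mul_r (hc : ⁅X, X⁆ ≤ centralizer (X : Set G)) {x u v : G} (hx : x ∈ X) (hu : u ∈ X)
    (hv : v ∈ X) : ⁅x, u * v⁆ = ⁅x, u⁆ * ⁅x, v⁆ := by
  have h := zc hc (commutator_mem_commutator hx hv) hu
  calc ⁅x, u * v⁆ = ⁅x, u⁆ * (u * ⁅x, v⁆) * u⁻¹ := by simp only [commutatorElement_def]; group
    _ = _ := by rw [h]; group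

theorem mul_l (hc : ⁅X, X⁆ ≤ centralizer (X : Set G)) {x u v : G} (hx : x ∈ X) (hu : u ∈ X)
    (hv : v ∈ X) : ⁅u * v, x⁆ = ⁅u, x⁆ * ⁅v, x⁆ := by
  have h := zc hc (commutator_mem_commutator hv hx) hu
  have h' := zc hc (commutator_mem_commutator hv hx) (zX (commutator_mem_commutator hu hx))
  calc ⁅u * v, x⁆ = (u * ⁅v, x⁆) * u⁻¹ * ⁅u, x⁆ := by simp only [commutatorElement_def]; group
    _ = ⁅v, x⁆ * ⁅u, x⁆ := by rw [h]; group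
    _ = _ := h'.symm

theorem z_r (hc : ⁅X, X⁆ ≤ centralizer (X : Set G)) {x w : G} (hx : x ∈ X) (hw : w ∈ ⁅X, X⁆) :
    ⁅x, w⁆ = 1 := commutatorElement_eq_one_iff_mul_comm.2 (zc hc hw hx)

theorem z_l (hc : ⁅X, X⁆ ≤ centralizer (X : Set G)) {x w : G} (hx : x ∈ X) (hw : w ∈ ⁅X, X⁆) :
    ⁅w, x⁆ = 1 := commutatorElement_eq_one_iff_mul_comm.2 (zc hc hw hx).symm

theorem cjX {e u : G} (he : e ∈ normalizer (X : Set G)) (hu : u ∈ X) : e * u * e⁻¹ ∈ X :=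
  (mem_normalizer_iff.1 he u).1 hu

theorem nX {e u : G} (he : e ∈ normalizer (X : Set G)) (hu : u ∈ X) : ⁅e, u⁆ ∈ X := by
  rw [commutatorElement_def]
  exact X.mul_mem (cjX he hu) (X.inv_mem hu)

/-- The basic identity. -/
theorem id1 (hc : ⁅X, X⁆ ≤ centralizer (X : Set G)) {e u v : G} (he : e ∈ normalizer (X : Set G))
    (hu : u ∈ X) (hv : v ∈ X) :
    ⁅e, ⁅u, v⁆⁆ = ⁅⁅e, u⁆, ⁅e, v⁆⁆ * ⁅⁅e, u⁆, v⁆ * ⁅u, ⁅e, v⁆⁆ := by
  have h1 : e * ⁅u, v⁆ * e⁻¹ = ⁅⁅e, u⁆ * u, ⁅e, v⁆ * v⁆ := by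
    simp only [commutatorElement_def]; group
  rw [mul_l hc (X.mul_mem (nX he hv) hv) (nX he hu) hu, mul_r hc (nX he hu) (nX he hv) hv,
    mul_r hc hu (nX he hv) hv] at h1
  rw [commutatorElement_def e, h1]; group

theorem nn (hsq : ∀ y ∈ X, y ^ 2 ∈ ⁅X, X⁆) {e u : G} (he : e ∈ normalizer (X : Set G))
    (h2 : ∀ y ∈ X, ⁅e ^ 2, y⁆ ∈ ⁅X, X⁆) (hu : u ∈ X) : ⁅e, ⁅e, u⁆⁆ ∈ ⁅X, X⁆ := by
  have : ⁅e, ⁅e, u⁆⁆ = ⁅e ^ 2, u⁆ * (u * (e * u * e⁻¹)⁻¹) ^ 2 := by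
    simp only [commutatorElement_def, pow_two]; group
  rw [this]
  exact mul_mem (h2 u hu) (hsq _ (X.mul_mem hu (X.inv_mem (cjX he hu))))

theorem id2 (hc : ⁅X, X⁆ ≤ centralizer (X : Set G)) (hsq : ∀ y ∈ X, y ^ 2 ∈ ⁅X, X⁆) {e u v : G}
    (he : e ∈ normalizer (X : Set G)) (h2 : ∀ y ∈ X, ⁅e ^ 2, y⁆ ∈ ⁅X, X⁆) (hu : u ∈ X)
    (hv : v ∈ X) : ⁅⁅e, u⁆, ⁅e, v⁆⁆ = ⁅e, ⁅u, ⁅e, v⁆⁆⁆ := by
  rw [id1 hc he hu (nX he hv), z_r hc (nX he hu) (nn hsq he h2 hv), z_r hc hu (nn hsq he h2 hv),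
    one_mul, mul_one]

theorem id3 (hc : ⁅X, X⁆ ≤ centralizer (X : Set G)) {e u v : G}
    (he : e ∈ normalizer (X : Set G)) (hu : u ∈ X) (hv : v ∈ X) (h0 : ⁅e, u⁆ ∈ ⁅X, X⁆) :
    ⁅u, ⁅e, v⁆⁆ = ⁅e, ⁅u, v⁆⁆ := by
  rw [id1 hc he hu hv, z_l hc (nX he hv) h0, z_l hc hv h0, one_mul, one_mul]

/-- The two actions commute modulo `⁅X, X⁆`. -/
theorem swap (hc : ⁅X, X⁆ ≤ centralizer (X : Set G)) {e e' x v : G}
    (he : e ∈ normalizer (X : Set G)) (he' : e' ∈ normalizer (X : Set G))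
    (h : ∀ y ∈ X, ⁅⁅e, e'⁆, y⁆ ∈ ⁅X, X⁆) (hx : x ∈ X) (hv : v ∈ X) :
    ⁅x, ⁅e, ⁅e', v⁆⁆⁆ = ⁅x, ⁅e', ⁅e, v⁆⁆⁆ := by
  have ht : e' * (e * v * e⁻¹) * e'⁻¹ ∈ X := cjX he' (cjX he hv)
  have hp : (e * v * e⁻¹)⁻¹ ∈ X := X.inv_mem (cjX he hv)
  have hq : (e' * v * e'⁻¹)⁻¹ ∈ X := X.inv_mem (cjX he' hv)
  have e1 : ⁅e, ⁅e', v⁆⁆ = ⁅⁅e, e'⁆, e' * (e * v * e⁻¹) * e'⁻¹⁆ * ((e' * (e * v * e⁻¹) * e'⁻¹) *
      ((e * v * e⁻¹)⁻¹ * (v * (e' * v * e'⁻¹)⁻¹))) := by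
    simp only [commutatorElement_def]; group
  have e2 : ⁅e', ⁅e, v⁆⁆ = (e' * (e * v * e⁻¹) * e'⁻¹) *
      ((e' * v * e'⁻¹)⁻¹ * (v * (e * v * e⁻¹)⁻¹)) := by
    simp only [commutatorElement_def]; group
  rw [e1, e2]
  generalize e' * (e * v * e⁻¹) * e'⁻¹ = t at ht ⊢
  generalize (e * v * e⁻¹)⁻¹ = p at hp ⊢
  generalize (e' * v * e'⁻¹)⁻¹ = q at hq ⊢
  rw [mul_r hc hx (zX (h t ht)) (X.mul_mem ht (X.mul_mem hp (X.mul_mem hv hq))), z_r hc hx (h t ht),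
    one_mul, mul_r hc hx ht (X.mul_mem hp (X.mul_mem hv hq)), mul_r hc hx hp (X.mul_mem hv hq),
    mul_r hc hx hv hq, mul_r hc hx ht (X.mul_mem hq (X.mul_mem hv hp)),
    mul_r hc hx hq (X.mul_mem hv hp), mul_r hc hx hv hp]
  have a1 := zc hc (commutator_mem_commutator hx hp) (zX (commutator_mem_commutator hx hv))
  have a2 := zc hc (commutator_mem_commutator hx hp) (zX (commutator_mem_commutator hx hq))
  have a3 := zc hc (commutator_mem_commutator hx hv) (zX (commutator_mem_commutator hx hq))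
  congr 1
  rw [← mul_assoc, ← a1, mul_assoc, ← a2, ← mul_assoc, ← a3, mul_assoc]

/-- `⁅X, X⁆` has exponent two. -/
theorem sq_one (hc : ⁅X, X⁆ ≤ centralizer (X : Set G)) (hsq : ∀ y ∈ X, y ^ 2 ∈ ⁅X, X⁆) {w : G}
    (hw : w ∈ ⁅X, X⁆) : w * w = 1 := by
  have key : ⁅X, X⁆ ≤
      { carrier := {w | w ∈ ⁅X, X⁆ ∧ w * w = 1}
        one_mem' := ⟨one_mem _, mul_one 1⟩
        mul_mem' := fun {a b} ha hb => ⟨mul_mem ha.1 hb.1, by
          calc a * b * (a * b) = a * (b * a) * b := by group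
            _ = (a * a) * (b * b) := by rw [zc hc ha.1 (zX hb.1)]; group
            _ = 1 := by rw [ha.2, hb.2, mul_one]⟩
        inv_mem' := fun {a} ha => ⟨inv_mem ha.1, by rw [← mul_inv_rev, ha.2, inv_one]⟩ } := by
    rw [commutator_le]
    intro u hu v hv
    refine ⟨commutator_mem_commutator hu hv, ?_⟩
    rw [← mul_l hc hv hu hu, ← pow_two]
    exact z_l hc hv (hsq u hu)
  exact (key hw).2

theorem cen_one {e w : G} (hw : w ∈ center G) : ⁅e, w⁆ = 1 :=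
  commutatorElement_eq_one_iff_mul_comm.2 (mem_center_iff.1 hw e)

/-- The action on `⁅X, X⁆`. -/
theorem act (hc : ⁅X, X⁆ ≤ centralizer (X : Set G)) (hsq : ∀ y ∈ X, y ^ 2 ∈ ⁅X, X⁆)
    (H1 : ∀ z ∈ ⁅X, X⁆, ∀ z' ∈ ⁅X, X⁆, z ∉ center G → z' ∉ center G → z * z' ∈ center G)
    {z e w : G} (hz : z ∈ ⁅X, X⁆) (h1 : ⁅e, z⁆ ≠ 1) (hw : w ∈ ⁅X, X⁆) (hn : w ∉ center G) :
    ⁅e, w⁆ = ⁅e, z⁆ := by
  have h := H1 w hw z hz hn fun h => h1 (cen_one h)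
  have e1 : w = w * z * z := by rw [mul_assoc, sq_one hc hsq hz, mul_one]
  have a1 := mem_center_iff.1 h e
  have a2 := mem_center_iff.1 h (e * z * e⁻¹ * z⁻¹)
  rw [e1]
  generalize w * z = c at a1 a2
  calc ⁅e, c * z⁆ = e * c * z * e⁻¹ * z⁻¹ * c⁻¹ := by simp only [commutatorElement_def]; group
    _ = c * (e * z * e⁻¹ * z⁻¹) * c⁻¹ := by rw [a1]; group
    _ = _ := by rw [← a2, commutatorElement_def]; group

/-- An `A`-invariant set of commuting elements of a span centralises `A`. -/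
theorem ab_cen [Finite G] {p : ℕ} {A : Subgroup G} (hL : Lin p 2 A) (han : An A)
    (hX : IsPGroup 2 X) (S : Set G) (hS : S ⊆ X) (hA : ∀ a ∈ A, ∀ s ∈ S, a * s * a⁻¹ ∈ S)
    (hcm : ∀ s ∈ S, ∀ t ∈ S, s * t = t * s) : ∀ s ∈ S, s ∈ centralizer (A : Set G) := by
  intro s hs
  have hW : closure S ≤ X := (closure_le X).2 hS
  have hN : A ≤ normalizer (closure S : Set G) := by
    intro a ha
    refine norm_of_cj_le ?_
    rw [map_le_iff_le_comap, closure_le]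
    intro t ht
    exact subset_closure (hA a ha t ht)
  have hcom : ∀ a ∈ closure S, ∀ b ∈ closure S, a * b = b * a := by
    have h1 : closure S ≤ centralizer S := (closure_le _).2 fun t ht u hu => hcm u hu t ht
    have h2 : closure S ≤ centralizer (closure S : Set G) := by
      rw [centralizer_closure]; exact h1
    intro a ha b hb
    exact h2 hb a ha
  have hsW : s ∈ closure S := subset_closure hs
  refine hL.norm_cen (hL.cop (hX.to_le hW)) hN hsW (cj_eq_iff.1 ?_)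
  by_contra h
  refine han s h ⟨⟨fun a b => Subtype.ext ?_⟩⟩
  exact hcom _ (hL.kl_le' hN hsW a.2) _ (hL.kl_le' hN hsW b.2)

theorem cj_n {A : Subgroup G} {e a : G} (he : e ∈ centralizer (A : Set G)) (ha : a ∈ A) (u : G) :
    a * ⁅e, u⁆ * a⁻¹ = ⁅e, a * u * a⁻¹⁆ := by
  have h : a * e * a⁻¹ = e := by rw [he a ha]; group
  calc a * ⁅e, u⁆ * a⁻¹ = ⁅a * e * a⁻¹, a * u * a⁻¹⁆ := by simp only [commutatorElement_def]; group
    _ = _ := by rw [h]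

theorem jobTw : JobTw.{u} := by
  intro G _ _ p A X hU han hsp hcl H1 z hz e heA e' heA' he he' h2 h2' hk hc1 hc1' h1 h1'
  obtain ⟨hZ, hc, hsq⟩ := hcl
  by_contra hne
  -- the action on the commutator subgroup
  have hact : ∀ w ∈ ⁅X, X⁆, ⁅e, w⁆ = 1 ∨ ⁅e, w⁆ = ⁅e, z⁆ := fun w hw => by
    by_cases hn : w ∈ center G
    · exact Or.inl (cen_one hn)
    · exact Or.inr (act hc hsq H1 hz h1 hw hn)
  have hact' : ∀ w ∈ ⁅X, X⁆, ⁅e', w⁆ = 1 ∨ ⁅e', w⁆ = ⁅e', z⁆ := fun w hw => by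
    by_cases hn : w ∈ center G
    · exact Or.inl (cen_one hn)
    · exact Or.inr (act hc hsq H1 hz h1' hw hn)
  have hcen : ∀ u ∈ X, ∀ v ∈ X, ⁅⁅e, u⁆, ⁅e, v⁆⁆ ∈ center G := fun u hu v hv => by
    rw [id2 hc hsq he h2 hu hv]
    rcases hact _ (commutator_mem_commutator hu (nX he hv)) with h | h <;> rw [h]
    · exact one_mem _
    · exact hc1
  -- the product of the two actions vanishes
  have hNN : ∀ u ∈ X, ⁅e', ⁅e, u⁆⁆ ∈ ⁅X, X⁆ := by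
    intro u hu
    rw [hZ]
    refine ⟨nX he' (nX he hu), ab_cen hU.lin han hsp.1 {s | ∃ u ∈ X, s = ⁅e', ⁅e, u⁆⁆} ?_ ?_ ?_ _
      ⟨u, hu, rfl⟩⟩
    · rintro _ ⟨u, hu, rfl⟩
      exact nX he' (nX he hu)
    · rintro a ha _ ⟨u, hu, rfl⟩
      exact ⟨a * u * a⁻¹, cjX (hsp.2.1 ha) hu, by rw [cj_n heA' ha, cj_n heA ha]⟩
    · rintro _ ⟨u, hu, rfl⟩ _ ⟨v, hv, rfl⟩
      rw [← commutatorElement_eq_one_iff_mul_comm, id2 hc hsq he' h2' (nX he hu) (nX he hv),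
        ← swap hc he he' hk (nX he hu) hv]
      exact cen_one (hcen u hu _ (nX he' hv))
  have hNN' : ∀ u ∈ X, ⁅e, ⁅e', u⁆⁆ ∈ ⁅X, X⁆ := by
    intro u hu
    rw [hZ]
    refine ⟨nX he (nX he' hu), ab_cen hU.lin han hsp.1 {s | ∃ u ∈ X, s = ⁅e, ⁅e', u⁆⁆} ?_ ?_ ?_ _
      ⟨u, hu, rfl⟩⟩
    · rintro _ ⟨u, hu, rfl⟩
      exact nX he (nX he' hu)
    · rintro a ha _ ⟨u, hu, rfl⟩
      exact ⟨a * u * a⁻¹, cjX (hsp.2.1 ha) hu, by rw [cj_n heA ha, cj_n heA' ha]⟩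
    · rintro _ ⟨u, hu, rfl⟩ _ ⟨v, hv, rfl⟩
      rw [← commutatorElement_eq_one_iff_mul_comm, swap hc he he' hk (nX he (nX he' hu)) hv]
      exact z_r hc (nX he (nX he' hu)) (hNN v hv)
  -- mixed commutators vanish
  have hmix : ∀ u ∈ X, ∀ v ∈ X, ⁅⁅e', v⁆, ⁅e, u⁆⁆ = 1 := by
    intro u hu v hv
    have a1 := id3 hc he (nX he' hv) hu (hNN' v hv)
    have a2 := id3 hc he' (nX he hu) hv (hNN u hu)
    have a3 : ⁅⁅e', v⁆, ⁅e, u⁆⁆ = ⁅⁅e, u⁆, ⁅e', v⁆⁆ := by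
      rw [← commutatorElement_inv, inv_eq_iff_mul_eq_one]
      exact sq_one hc hsq (commutator_mem_commutator (nX he hu) (nX he' hv))
    rcases hact _ (commutator_mem_commutator (nX he' hv) hu) with h | h
    · rw [a1, h]
    · rcases hact' _ (commutator_mem_commutator (nX he hu) hv) with h' | h'
      · rw [a3, a2, h']
      · exact absurd (by rw [← h, ← a1, a3, a2, h']) hne
  have hb : ∀ u ∈ X, ∀ v ∈ X, ⁅u, ⁅e', v⁆⁆ ∈ center G := by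
    intro u hu v hv
    rw [← commutatorElement_inv]
    refine inv_mem ?_
    by_contra hn
    apply h1
    rw [← act hc hsq H1 hz h1 (commutator_mem_commutator (nX he' hv) hu) hn,
      ← id3 hc he (nX he' hv) hu (hNN' v hv)]
    exact hmix u hu v hv
  have hN : ∀ u ∈ X, ⁅e', u⁆ ∈ ⁅X, X⁆ := by
    intro u hu
    rw [hZ]
    refine ⟨nX he' hu, ab_cen hU.lin han hsp.1 {s | ∃ u ∈ X, s = ⁅e', u⁆} ?_ ?_ ?_ _ ⟨u, hu, rfl⟩⟩
    · rintro _ ⟨u, hu, rfl⟩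
      exact nX he' hu
    · rintro a ha _ ⟨u, hu, rfl⟩
      exact ⟨a * u * a⁻¹, cjX (hsp.2.1 ha) hu, by rw [cj_n heA' ha]⟩
    · rintro _ ⟨u, hu, rfl⟩ _ ⟨v, hv, rfl⟩
      rw [← commutatorElement_eq_one_iff_mul_comm, id2 hc hsq he' h2' hu hv]
      exact cen_one (hb u hu v hv)
  have hfin := cen_comm (W := X) (Z := ⁅X, X⁆) heA'
    (fun w hw => by rw [← commutatorElement_inv]; exact inv_mem (hN w hw))
    (hZ.le.trans inf_le_right) hc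
  rw [hsp.2.2] at hfin
  exact h1' (commutatorElement_eq_one_iff_mul_comm.2
    (mem_centralizer_singleton_iff.1 (hfin (zX hz))).symm)

end H17.FSTw
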