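import Cfsg.Agent.H7.HKSSpec3
import Cfsg.Agent.H72.HKS1
import Cfsg.Agent.H3.HkKit2

/-! HKS part 3: calculus in the centraliser of an involution of type L. -/

set_option autoImplicit false
set_option linter.unusedSectionVars false

namespace H17.HK

open MulAction Cfsg Subgroup H89.K H65 H7.HKS

universe u

variable {G Ω : Type u} [Group G] [Finite G] [MulAction G Ω] {U : Ω → Subgroup G}
  {F : Type} [Field F] [Fintype F] {x y : F → G} {a b c : Ω} {t g k l w : G}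

theorem mem_cent : g ∈ centralizer ({t} : Set G) ↔ g * t = t * g := by
  rw [mem_centralizer_singleton_iff]

theorem mem_norm : g ∈ normalizer ({t} : Set G) ↔ g * t = t * g := by
  refine ⟨fun h => ?_, fun h n => ?_⟩
  · have := (h t).1 rfl
    exact mul_inv_eq_iff_eq_mul.1 this
  · simp only [Set.mem_singleton_iff, mul_inv_eq_iff_eq_mul, ← h, mul_left_cancel_iff]

theorem mem_Fx : c ∈ Fx Ω {t} ↔ t • c = c := by simp [Fx]

theorem mem_Fx2 : c ∈ Fx Ω {w, t} ↔ w • c = c ∧ t • c = c := by simp [Fx]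

theorem mem_Kh : k ∈ Kh Ω {t} ↔ Triv Ω {t} k ∧ k * t = t * k := by
  rw [Kh, mem_inf, mem_cent, mem_fixingSubgroup_iff]; rfl

theorem self_Kh : t ∈ Kh Ω {t} := mem_Kh.2 ⟨fun _ hc => mem_Fx.1 hc, rfl⟩

theorem L_comm (hl : l ∈ LX U {t}) : l * t = t * l := mem_cent.1 (H72.HKS.lx_le hl)

theorem smul_Fx (hg : g * t = t * g) (hc : c ∈ Fx Ω {t}) : g • c ∈ Fx Ω {t} :=
  mem_Fx.2 (fix_of_comm hg (mem_Fx.1 hc))

theorem inn_L (hl : l ∈ LX U {t}) : Inn U {t} l := ⟨l, hl, fun _ _ => rfl⟩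

theorem inn_triv (hk : Triv Ω {t} k) : Inn U {t} k := ⟨1, one_mem _, fun c hc => by rw [hk c hc, one_smul]⟩

theorem inn_mul (h : Inn U {t} g) (h' : Inn U {t} w) : Inn U {t} (g * w) := by
  obtain ⟨l, hl, e⟩ := h
  obtain ⟨l', hl', e'⟩ := h'
  exact ⟨l * l', mul_mem hl hl', fun c hc => by
    rw [mul_smul, e' c hc, e _ (smul_Fx (L_comm hl') hc), mul_smul]⟩

/-- inner elements of `C(t)` lie in `L K` -/
theorem inn_dec (h : Inn U {t} g) (hg : g * t = t * g) :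
    ∃ l ∈ LX U {t}, ∃ k ∈ Kh Ω {t}, g = l * k := by
  obtain ⟨l, hl, e⟩ := h
  refine ⟨l, hl, l⁻¹ * g, mem_Kh.2 ⟨fun c hc => by rw [mul_smul, e c hc, inv_smul_smul], ?_⟩, by group⟩
  rw [mul_assoc, hg, ← mul_assoc, L_comm (inv_mem hl), mul_assoc]

/-- the frame of an element of type L -/
structure Fm (U : Ω → Subgroup G) (a b : Ω) (t : G) (x y : F → G) : Prop where
  rg : Rg U
  ne : a ≠ b
  st : t ∈ St G a b
  ld : LD x y (CU U {t} a) (CU U {t} b) a b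

namespace Fm

variable (h : Fm U a b t x y)
include h

theorem sub : ({t} : Set G) ⊆ St G a b := by simpa using h.st

theorem fa : a ∈ Fx Ω {t} := mem_Fx.2 h.st.1

theorem fb : b ∈ Fx Ω {t} := mem_Fx.2 h.st.2

theorem tl : TL U {t} a b := ⟨F, inferInstance, inferInstance, x, y, h.ld⟩

theorem lx : LX U {t} = CU U {t} a ⊔ CU U {t} b := H3.HK2.kit2.lx h.rg h.ne h.sub h.ld

theorem card : Nat.card (CU U {t} a) = Fintype.card F :=
  (H3.HK2.kit2.bas h.rg.sr h.ne inf_le_left inf_le_left h.ld).2.1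

theorem odd : Odd (Fintype.card F) :=
  (H3.HK2.kit2.bas h.rg.sr h.ne inf_le_left inf_le_left h.ld).1

theorem LK (hl : l ∈ LX U {t}) (hk : k ∈ Kh Ω {t}) : k * l = l * k :=
  H72.HKS.lx_comm h.rg h.ne h.sub k (mem_Kh.1 hk).1 l hl

theorem n_mem (e : F) : sl2n x y e ∈ LX U {t} := h.lx ▸ H3.HK2.nm h.ld e

theorem h_mem (e : F) : sl2h x y e ∈ LX U {t} := mul_mem (h.n_mem _) (h.n_mem _)

theorem h_st {e : F} (he : e ≠ 0) : sl2h x y e ∈ St G a b :=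
  (H3.HK2.kit2.bas h.rg.sr h.ne inf_le_left inf_le_left h.ld).2.2.2.1 e he

theorem n_sq {e : F} (he : e ≠ 0) : sl2n x y e * sl2n x y e = sl2h x y (-1) :=
  (H3.HK2.kit2.bas h.rg.sr h.ne inf_le_left inf_le_left h.ld).2.2.2.2.2.1 e he

theorem z_sq : sl2h x y (-1) * sl2h x y (-1) = 1 := by
  have n1 : (-1 : F) ≠ 0 := neg_ne_zero.2 one_ne_zero
  rw [h.ld.rel.h_mul' n1 n1, neg_mul_neg, one_mul, h.ld.rel.h_one]

theorem z_comm (hl : l ∈ LX U {t}) : l * sl2h x y (-1) = sl2h x y (-1) * l :=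
  (H3.HK2.kit2.bas h.rg.sr h.ne inf_le_left inf_le_left h.ld).2.2.2.2.2.2.2.1 l (h.lx ▸ hl)

theorem z_Kh : sl2h x y (-1) ∈ Kh Ω {t} := mem_Kh.2
  ⟨(H72.HKS.kit1.fx h.rg h.ne h.sub).2.2.2.2.2.2.1 _ (h.h_st (by simp)) fun u hu =>
    (h.z_comm (H72.HKS.mem_lx h.fa hu)).symm, L_comm (h.h_mem _)⟩

/-- `L ⊓ K = ⟨ζ⟩` -/
theorem inf (hl : l ∈ LX U {t}) (hk : l ∈ Kh Ω {t}) : l = 1 ∨ l = sl2h x y (-1) :=
  (H3.HK2.kit2.grp h.rg.sr h.ne inf_le_left inf_le_left h.ld).2.2.1 l (h.lx ▸ hl)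
    fun _ hl' => h.LK (h.lx ▸ hl') hk

theorem z_eq (ht : t ≠ 1) (sl : SLt U t) : sl2h x y (-1) = t :=
  ((h.inf sl self_Kh).resolve_left ht).symm

theorem n_ne {e : F} (he : e ≠ 0) : ¬ Triv Ω {t} (sl2n x y e) := fun T =>
  h.ne ((T a h.fa).symm.trans (h.ld.sw e he).1)

/-- an element of `C(t)` of order two on `Fix t` without fixed points is inner for `q ≡ 3 (4)` -/
theorem inn_of_empty (k3 : Kit3.{u}) (q3 : Fintype.card F % 4 = 3) (hg : g * t = t * g)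
    (h2 : Triv Ω {t} (g * g)) (he : Fx Ω {g, t} = ∅) : Inn U {t} g := by
  obtain ⟨d, φ, h1, -, h3⟩ := k3.out h.rg h.ne h.sub h.ld
  rcases h3 ⟨g, mem_norm.2 hg⟩ h2 (fun T => by
    have : a ∈ Fx Ω {g, t} := mem_Fx2.2 ⟨T a h.fa, h.st.1⟩
    simp [he] at this) with ⟨-, e, -⟩ | ⟨-, e, -⟩ | ⟨e, -, e'⟩
  · simp [he] at e
  · simp [he] at e
  · exact (h1 ⟨g, mem_norm.2 hg⟩).1 ⟨e'.2 q3, e⟩

/-- decomposition of an inner involution -/
theorem dec_sq (hl : l ∈ LX U {t}) (hk : k ∈ Kh Ω {t}) (e : l * k * (l * k) = 1) :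
    (l * l = 1 ∧ k * k = 1) ∨ (l * l = sl2h x y (-1) ∧ k * k = sl2h x y (-1)) := by
  have c := h.LK hl hk
  have e' : l * l * (k * k) = 1 := by
    rw [← e, mul_assoc l k, ← mul_assoc k l, c]; group
  have m : l * l ∈ Kh Ω {t} := by
    rw [eq_inv_of_mul_eq_one_left e']; exact inv_mem (mul_mem hk hk)
  rcases h.inf (mul_mem hl hl) m with p | p
  · exact .inl ⟨p, by simpa [p] using e'⟩
  · refine .inr ⟨p, ?_⟩
    rw [p] at e'
    rw [← (eq_inv_of_mul_eq_one_right e').trans (inv_eq_of_mul_eq_one_left h.z_sq)]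

end Fm

theorem two_of_sq (o : t * t = 1) (ek : k * k = t) : IsPGroup 2 (zpowers k) :=
  H98.isPGroup_zpowers (k := 2) (by
    rw [show 2 ^ 2 = 2 * 2 from rfl, pow_mul, pow_two k, ek, pow_two, o])

theorem sq_of_ord (o : orderOf t = 2) : t * t = 1 := by rw [← pow_two, ← o, pow_orderOf_eq_one]

theorem ne_of_ord (o : orderOf t = 2) : t ≠ 1 := fun e => by simp [e] at o

/-- in `K`, with unique involution `t` and non-commuting elements of order four, every element of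
order four is inverted by another one -/
theorem exists_inv (k3 : Kit3.{u}) {K : Subgroup G} (ht : t ∈ K) (o : orderOf t = 2)
    (hu : ∀ v ∈ K, v * v = 1 → v = 1 ∨ v = t) {k₁ k₂ : G} (h₁ : k₁ ∈ K) (h₂ : k₂ ∈ K)
    (e₁ : k₁ * k₁ = t) (e₂ : k₂ * k₂ = t) (e : k₂ * k₁ * k₂⁻¹ = k₁⁻¹) (hk : k ∈ K)
    (ek : k * k = t) : ∃ k' ∈ K, k' * k' = t ∧ k' * k * k'⁻¹ = k⁻¹ := by
  have : Fact (Nat.Prime 2) := ⟨Nat.prime_two⟩
  have t2 := sq_of_ord o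
  have tc : ∀ g ∈ K, g * t * g⁻¹ = t := fun g hg =>
    (hu _ (mul_mem (mul_mem hg ht) (inv_mem hg)) (by rw [conj_mul, t2]; simp)).resolve_left
      (by simpa using ne_of_ord o)
  obtain ⟨R, hR, hle⟩ := H98.exists_isSyl_le (H := K) ((two_of_sq t2 e₁).to_sup_of_normal_left'
    (two_of_sq t2 e₂) (zpowers_le.2 (mem_normalizer_fintype (by
      rintro _ ⟨n, rfl⟩
      change k₂ * k₁ ^ n * k₂⁻¹ ∈ zpowers k₁
      rw [← conj_zpow, e]
      exact zpow_mem (inv_mem (mem_zpowers _)) _)))) (sup_le (zpowers_le.2 h₁) (zpowers_le.2 h₂))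
  have m₁ : k₁ ∈ R := hle (mem_sup_left (mem_zpowers _))
  have m₂ : k₂ ∈ R := hle (mem_sup_right (mem_zpowers _))
  obtain ⟨g, hg, hg'⟩ := hR.exists_cj_le (two_of_sq t2 ek) (zpowers_le.2 hk)
  have m : g * k * g⁻¹ ∈ R := hg' (H98.conj_mem_cj (mem_zpowers _))
  suffices H : ∃ k' ∈ R, k' * k' = t ∧ k' * (g * k * g⁻¹) * k'⁻¹ = (g * k * g⁻¹)⁻¹ by
    obtain ⟨k', p1, p2, p3⟩ := H
    refine ⟨g⁻¹ * k' * g⁻¹⁻¹, mul_mem (mul_mem (inv_mem hg) (hR.le p1)) (inv_mem (inv_mem hg)),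
      by rw [conj_mul, p2, tc _ (inv_mem hg)], ?_⟩
    calc _ = g⁻¹ * (k' * (g * k * g⁻¹) * k'⁻¹) * g := by group
      _ = _ := by rw [p3]; group
  have ek' : g * k * g⁻¹ * (g * k * g⁻¹) = t := by rw [conj_mul, ek, tc g hg]
  generalize g * k * g⁻¹ = k at m ek'
  rcases k3.quat R t hR.isPGroup (e₁ ▸ mul_mem m₁ m₁) o (fun v hv => hu v (hR.le hv)) with
    cy | ⟨ρ, κ, r, r2, -, p2, p3, p4, -, p6⟩
  · have c : k₂ * k₁ = k₁ * k₂ := congrArg Subtype.val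
      (cy.isMulCommutative.is_comm.comm (⟨k₂, m₂⟩ : R) ⟨k₁, m₁⟩)
    rw [c, mul_inv_cancel_right] at e
    exact absurd (e₁.symm.trans (mul_eq_one_iff_eq_inv.2 e)) (ne_of_ord o)
  obtain ⟨i, rfl | rfl⟩ := (p6 k).1 m
  · exact ⟨κ, (p6 κ).2 ⟨0, .inr (by simp)⟩, p3, by rw [← conj_pow, p4, inv_pow]⟩
  · have q : ρ ^ 2 ^ (r - 2) * ρ ^ 2 ^ (r - 2) = t := by
      rw [← pow_two, ← pow_mul, ← pow_succ, ← p2]; congr 2; omega
    refine ⟨ρ ^ 2 ^ (r - 2), (p6 _).2 ⟨_, .inl rfl⟩, q, ?_⟩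
    have q1 : κ * ρ ^ 2 ^ (r - 2) * κ⁻¹ = (ρ ^ 2 ^ (r - 2))⁻¹ := by rw [← conj_pow, p4, inv_pow]
    have q2 : ρ ^ i * ρ ^ 2 ^ (r - 2) = ρ ^ 2 ^ (r - 2) * ρ ^ i := by rw [← pow_add, add_comm, pow_add]
    generalize ρ ^ 2 ^ (r - 2) = σ at q q1 q2
    generalize ρ ^ i = τ at ek' q2
    refine eq_inv_of_mul_eq_one_left ?_
    calc σ * (κ * τ) * σ⁻¹ * (κ * τ) = σ * (κ * (τ * σ⁻¹) * κ⁻¹) * κ * (κ * τ) := by group
      _ = σ * ((κ * σ * κ⁻¹)⁻¹ * (κ * τ * κ⁻¹)) * κ * (κ * τ) := by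
        rw [show τ * σ⁻¹ = σ⁻¹ * τ by rw [mul_inv_eq_iff_eq_mul, mul_assoc, q2]; group]; group
      _ = (σ * σ) * (κ * τ * (κ * τ)) := by rw [q1]; group
      _ = 1 := by rw [q, ek', t2]

theorem jobPS1 (k3 : Kit3.{u}) : JobPS1.{u} := by
  intro G Ω _ _ _ U a b t w rg hab ht tl q3 sl hu cj hw he k hk ek
  obtain ⟨F, _, _, x, y, ld⟩ := id tl
  have h : Fm U a b t x y := ⟨rg, hab, ht.1, ld⟩
  have t2 := sq_of_ord ht.2
  have z1 : sl2h x y (-1) = 1 := (hu _ h.z_Kh h.z_sq).resolve_right fun e => sl (e ▸ h.h_mem _)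
  obtain ⟨g, rfl⟩ := isConj_iff.1 cj
  have c1 : g⁻¹ * t * g * t = t * (g⁻¹ * t * g) := by
    calc _ = g⁻¹ * (t * (g * t * g⁻¹)) * g := by group
      _ = _ := by rw [← hw]; group
  have s1 : g⁻¹ * t * g * (g⁻¹ * t * g) = 1 := by
    calc _ = g⁻¹ * (t * t) * g := by group
      _ = _ := by rw [t2]; group
  have e1 : Fx Ω {g⁻¹ * t * g, t} = ∅ := Set.eq_empty_of_forall_notMem fun c hc => by
    obtain ⟨p1, p2⟩ := mem_Fx2.1 hc
    have : g • c ∈ Fx Ω {g * t * g⁻¹, t} := mem_Fx2.2 ⟨by simp [mul_smul, p2], by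
      simpa [mul_smul, inv_smul_eq_iff] using p1⟩
    simp [he] at this
  obtain ⟨l, hl, k0, hk0, e⟩ := inn_dec (h.inn_of_empty k3 (h.card ▸ q3) c1
    (fun c _ => by rw [s1, one_smul]) e1) c1
  have p : l * l = 1 ∧ k0 * k0 = 1 := by simpa [z1] using h.dec_sq hl hk0 (e ▸ s1)
  have l1 : l ≠ 1 := by
    rintro rfl
    have : a ∈ Fx Ω {g⁻¹ * t * g, t} :=
      mem_Fx2.2 ⟨by rw [e, one_mul, (mem_Kh.1 hk0).1 a h.fa], ht.1.1⟩
    simp [e1] at this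
  obtain ⟨c, d, s, -, -, -, hc, hd, p1, p2, p3, p4, -⟩ :=
    H3.HK2.kit2.syl rg.sr hab inf_le_left inf_le_left ld (h.card ▸ q3)
  have n2 : sl2n x y 1 * sl2n x y 1 = 1 := (h.n_sq one_ne_zero).trans z1
  have n1 : sl2n x y 1 ≠ 1 := fun e => h.n_ne one_ne_zero fun c _ => by rw [e, one_smul]
  obtain ⟨m, hm, p5⟩ := ((H3.HK2.kit2.grp rg.sr hab inf_le_left inf_le_left ld).2.1 z1).2 _
    (h.lx ▸ h.n_mem 1) l (h.lx ▸ hl) (orderOf_eq_prime (by rw [pow_two, n2]) n1)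
    (orderOf_eq_prime (by rw [pow_two, p.1]) l1)
  have d1 : d * sl2n x y 1 * d⁻¹ = sl2n x y 1 := by
    rw [← p1, ← conj_pow, p2, inv_pow, p1, inv_eq_of_mul_eq_one_left n2]
  have hv : m * d * m⁻¹ ∈ LX U {t} := h.lx ▸ mul_mem (mul_mem hm hd) (inv_mem hm)
  have v2 : m * d * m⁻¹ * (m * d * m⁻¹) = 1 := by rw [conj_mul, p3, z1]; simp
  have v1 : m * d * m⁻¹ ≠ 1 := fun e => p4 (by
    rw [show d = 1 by simpa using e]; exact one_mem _)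
  have vl : m * d * m⁻¹ ≠ l := fun e => p4 (by
    rw [show d = sl2n x y 1 by simpa [← p5] using e, ← p1]; exact pow_mem (mem_zpowers _) _)
  have vc : m * d * m⁻¹ * l = l * (m * d * m⁻¹) := by
    rw [← p5, conj_mul, conj_mul, mul_inv_eq_iff_eq_mul.1 d1]
  generalize m * d * m⁻¹ = v at hv v2 v1 vl vc
  have tr : ∀ u, u * (l * k0) = l * k0 * u → g * u * g⁻¹ * t = t * (g * u * g⁻¹) := fun u hu => by
    calc _ = g * (u * (g⁻¹ * t * g)) * g⁻¹ := by group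
      _ = _ := by rw [e, hu, ← e]; group
  have kk : k * k0 = k0 * k := by
    rcases hu k0 hk0 p.2 with rfl | rfl
    · simp
    · exact (mem_Kh.1 hk).2
  have r1 := tr k (by rw [← mul_assoc, h.LK hl hk, mul_assoc, kk, mul_assoc])
  have r2 := tr v (by rw [← mul_assoc, vc, mul_assoc, ← h.LK hv hk0, mul_assoc])
  have r3 : (g * k * g⁻¹) ^ 2 = g * t * g⁻¹ := by rw [pow_two, conj_mul, ek]
  have r4 : g * v * g⁻¹ * (g * v * g⁻¹) = 1 := by rw [conj_mul, v2]; simp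
  have fin : ∀ u ∈ LX U {t}, u * t ∉ LX U {t} := fun u hu hu' => sl ((mul_mem_cancel_left hu).1 hu')
  have key : ∀ u, u * u = 1 → u * (l * k0) = l * k0 * u → Triv Ω {t} (g * u * g⁻¹) →
      u = 1 ∨ u = l ∨ u = l * t := fun u u2 uc T => by
    rcases hu _ (mem_Kh.2 ⟨T, tr u uc⟩) (by rw [conj_mul, u2]; simp) with q | q
    · exact .inl (by simpa using q)
    · have : u = l * k0 := by rw [← e, ← q]; group
      rcases hu k0 hk0 p.2 with rfl | rfl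
      · exact .inr (.inl (by simpa using this))
      · exact .inr (.inr this)
  rcases (k3.o4 rg hab h.sub tl q3 _ (mem_norm.2 r1) (fun c _ => by
      rw [show 4 = 2 * 2 from rfl, pow_mul, r3, pow_two, conj_mul, t2]; simp) (fun T => by
      have : a ∈ Fx Ω {g * t * g⁻¹, t} := mem_Fx2.2 ⟨r3 ▸ T a h.fa, ht.1.1⟩
      simp [he] at this)).1 _ (mem_norm.2 r2) (fun c _ => by rw [r4, one_smul]) (fun c _ => by
      rw [conj_mul, ← h.LK hv hk, ← conj_mul, mul_inv_cancel_right, mul_inv_cancel, one_smul])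
    with T | T
  · rcases key v v2 (by rw [← mul_assoc, vc, mul_assoc, ← h.LK hv hk0, mul_assoc]) T with q | q | q
    · exact v1 q
    · exact vl q
    · exact fin l hl (q ▸ hv)
  · rw [r3, conj_mul] at T
    rcases key (v * t) (by rw [mul_assoc, ← mul_assoc t, ← L_comm hv, mul_assoc, t2, mul_one, v2])
      (by rw [mul_assoc, ← e, ← c1, ← mul_assoc, e, ← mul_assoc, vc, mul_assoc l v,
        ← h.LK hv hk0]; group) T with q | q | q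
    · exact fin v hv (q ▸ one_mem _)
    · exact fin v hv (q ▸ hl)
    · exact vl (mul_right_cancel q)

section R1

variable (h : Fm U a b t x y) (k3 : Kit3.{u}) (r : R1 G Ω) (o : orderOf t = 2)
include r o

/-- an involution `≠ t` of `C(t)` fixes at most one fixed point of `t` -/
theorem not_two {c d : Ω} (hcd : c ≠ d) (w2 : w * w = 1) (w1 : w ≠ 1) (wt : w ≠ t)
    (hw : w * t = t * w) (hc : c ∈ Fx Ω {w, t}) (hd : d ∈ Fx Ω {w, t}) : False :=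
  r c d t w hcd ⟨⟨⟨(mem_Fx2.1 hc).2, (mem_Fx2.1 hd).2⟩, o⟩, ⟨⟨(mem_Fx2.1 hc).1, (mem_Fx2.1 hd).1⟩,
    orderOf_eq_prime (by rw [pow_two, w2]) w1⟩, wt.symm, hw.symm⟩

include h

theorem uniq (hw : w ∈ Kh Ω {t}) (w2 : w * w = 1) : w = 1 ∨ w = t := by
  by_contra! e
  exact not_two r o h.ne w2 e.1 e.2 (mem_Kh.1 hw).2 (mem_Fx2.2 ⟨(mem_Kh.1 hw).1 a h.fa, h.st.1⟩)
    (mem_Fx2.2 ⟨(mem_Kh.1 hw).1 b h.fb, h.st.2⟩)

include k3

/-- the maps `d`, `φ` on involutions -/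
theorem out_inv : ∃ (d : normalizer ({t} : Set G) →* ℤˣ) (φ : normalizer ({t} : Set G) →* (F ≃+* F)),
    (∀ g : normalizer ({t} : Set G), (d g = 1 ∧ φ g = 1) ↔ Inn U {t} g) ∧
    ∀ w : normalizer ({t} : Set G), (w : G) * w = 1 → (w : G) ≠ 1 → (w : G) ≠ t →
      φ w = 1 ∧ Fx Ω {(w : G), t} = ∅ ∧ (d w = 1 ↔ Fintype.card F % 4 = 3) := by
  obtain ⟨d, φ, h1, -, h3⟩ := k3.out h.rg h.ne h.sub h.ld
  refine ⟨d, φ, h1, fun w w2 w1 wt => ?_⟩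
  have hw := mem_norm.1 w.2
  have fin : Finite Ω := Nat.finite_of_card_ne_zero (by rw [H72.HKS.card_eq h.rg a]; omega)
  have key : ¬ 2 ≤ (Fx Ω {(w : G), t}).ncard := fun e => by
    obtain ⟨c, d, hc, hd, hcd⟩ := (Set.one_lt_ncard_iff (Set.toFinite _)).1 (show 1 < _ from e)
    exact not_two r o hcd w2 w1 wt hw hc hd
  rcases h3 w (fun c _ => by rw [w2, one_smul]) (fun T =>
    (uniq h r o (mem_Kh.2 ⟨T, hw⟩) w2).elim w1 wt) with ⟨-, e, -⟩ | ⟨-, e, -⟩ | e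
  · exact (key (by omega)).elim
  · exact (key e.ge).elim
  · exact e

theorem fx_empty (w2 : w * w = 1) (w1 : w ≠ 1) (wt : w ≠ t) (hw : w * t = t * w) :
    Fx Ω {w, t} = ∅ := by
  obtain ⟨d, φ, -, h3⟩ := out_inv h k3 r o
  exact (h3 ⟨w, mem_norm.2 hw⟩ w2 w1 wt).2.1

theorem inn_inv (q3 : Fintype.card F % 4 = 3) (w2 : w * w = 1) (hw : w * t = t * w) :
    Inn U {t} w := by
  by_cases w1 : w = 1
  · exact w1 ▸ inn_L (one_mem _)
  by_cases wt : w = t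
  · exact wt ▸ inn_triv (mem_Kh.1 self_Kh).1
  exact h.inn_of_empty k3 q3 hw (fun c _ => by rw [w2, one_smul]) (fx_empty h k3 r o w2 w1 wt hw)

/-- an involution of type SL is `2`-central -/
theorem two_central (sl : SLt U t) : ∃ S, H98.IsSyl 2 S ⊤ ∧ S ≤ centralizer {t} := by
  have : Fact (Nat.Prime 2) := ⟨Nat.prime_two⟩
  obtain ⟨S, hS, tS⟩ := H98.exists_isSyl_le (H := centralizer {t}) (H98.isPGroup_zpowers (p := 2)
    (k := 1) (x := t) (by rw [pow_one, pow_two, sq_of_ord o])) (zpowers_le.2 (mem_cent.2 rfl))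
  obtain ⟨T, hT, ST⟩ := H98.exists_isSyl_le (H := ⊤) hS.isPGroup le_top
  have tT : t ∈ T := ST (tS (mem_zpowers _))
  have : Nontrivial T := ⟨⟨t, tT⟩, 1, fun e => ne_of_ord o (congrArg Subtype.val e)⟩
  obtain ⟨z, z2⟩ := exists_prime_orderOf_dvd_card' (G := center T) 2 (by
    have := hT.isPGroup.center_nontrivial
    exact ((hT.isPGroup.to_subgroup (center T)).card_eq_or_dvd).resolve_left
      Finite.one_lt_card.ne')
  have zc : ∀ s ∈ T, (z.1.1 : G) * s = s * z.1.1 := fun s hs =>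
    congrArg Subtype.val (mem_center_iff.1 z.2 ⟨s, hs⟩).symm
  have zo : orderOf (z.1.1 : G) = 2 := by rw [orderOf_coe, orderOf_coe, z2]
  have T1 := (k3.slc h.rg h.ne h.sub h.ld (by rw [h.z_eq (ne_of_ord o) sl]; exact ne_of_ord o)).1
    (S ⊓ LX U {t}) inf_le_right (Nat.odd_iff.2 (Nat.two_dvd_ne_zero.1
      (hS.inf_of_le_normalizer H72.HKS.lx_le (hS.le.trans ((centralizer_le_normalizer _).trans
        (H72.HKS.lx_norm h.rg)))).not_dvd_relIndex)) z.1.1 (mem_norm.2 (zc t tT))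
    (fun c _ => by rw [sq_of_ord zo, one_smul]) fun g hg => zc g (ST hg.1)
  have := (uniq h r o (mem_Kh.2 ⟨T1, zc t tT⟩) (sq_of_ord zo)).resolve_left (ne_of_ord zo)
  exact ⟨T, hT, fun s hs => mem_cent.2 (this ▸ (zc s hs).symm)⟩

/-- decomposition of an involution, type SL -/
theorem dec_sl (sl : SLt U t) (q3 : Fintype.card F % 4 = 3) (w2 : w * w = 1) (w1 : w ≠ 1)
    (wt : w ≠ t) (hw : w * t = t * w) :
    ∃ l ∈ LX U {t}, ∃ k ∈ Kh Ω {t}, w = l * k ∧ l * l = t ∧ k * k = t := by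
  have z := h.z_eq (ne_of_ord o) sl
  obtain ⟨l, hl, k, hk, rfl⟩ := inn_dec (inn_inv h k3 r o q3 w2 hw) hw
  refine ⟨l, hl, k, hk, rfl, z ▸ (h.dec_sq hl hk w2).resolve_left fun e => ?_⟩
  have : l ∈ Kh Ω {t} := by
    rcases ((H3.HK2.kit2.grp h.rg.sr h.ne inf_le_left inf_le_left h.ld).1
      (z ▸ ne_of_ord o)).2 l (h.lx ▸ hl) e.1 with e | e
    · exact e ▸ one_mem _
    · exact e ▸ h.z_Kh
  exact (uniq h r o (mul_mem this hk) w2).elim w1 wt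

end R1

theorem jobSLr (k3 : Kit3.{u}) : JobSLr.{u} := by
  intro G Ω _ _ _ U a b t c3 r hab ht tl sl A hA hA2
  have : Fact (Nat.Prime 2) := ⟨Nat.prime_two⟩
  obtain ⟨F, _, _, x, y, ld⟩ := id tl
  have h : Fm U a b t x y := ⟨c3.toRg, hab, ht.1, ld⟩
  have o := ht.2
  have t2 := sq_of_ord o
  have z := h.z_eq (ne_of_ord o) sl
  by_contra! hc
  obtain ⟨w₁, w₂, c₁, c₂, s₁, s₂, c₁₂, n₁, n₂, n₃⟩ : ∃ w₁ w₂ : G, w₁ * t = t * w₁ ∧ w₂ * t = t * w₂ ∧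
      w₁ * w₁ = 1 ∧ w₂ * w₂ = 1 ∧ w₁ * w₂ = w₂ * w₁ ∧ (w₁ ≠ 1 ∧ w₁ ≠ t) ∧ (w₂ ≠ 1 ∧ w₂ ≠ t) ∧
      w₁ * w₂ ≠ 1 ∧ w₁ * w₂ ≠ t := by
    classical
    obtain ⟨S, hS, St⟩ := two_central h k3 r o sl
    obtain ⟨g, -, hg⟩ := hS.exists_cj_le (Q := A)
      (H98.isPGroup_iff_forall.2 fun v hv => ⟨1, hA2 v hv⟩) le_top
    have ex : ∀ s : Finset G, s.card ≤ 4 → ∃ v ∈ A, g * v * g⁻¹ ∉ s := fun s hs => by
      by_contra! e
      have := Nat.card_le_card_of_injective (fun v : A => (⟨_, e v v.2⟩ : s))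
        fun v w e => Subtype.ext (by simpa using e)
      simp only [Nat.card_eq_fintype_card, Fintype.card_coe] at this hc
      omega
    obtain ⟨v₁, m₁, p₁⟩ := ex {1, t} (Finset.card_le_two.trans (by omega))
    obtain ⟨v₂, m₂, p₂⟩ := ex {1, t, g * v₁ * g⁻¹, g * v₁ * g⁻¹ * t} Finset.card_le_four
    have sq : ∀ v ∈ A, g * v * g⁻¹ * (g * v * g⁻¹) = 1 := fun v hv => by
      rw [conj_mul, ← pow_two, hA2 v hv]; simp
    simp only [Finset.mem_insert, Finset.mem_singleton, not_or] at p₁ p₂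
    refine ⟨_, _, mem_cent.1 (St (hg (H98.conj_mem_cj m₁))), mem_cent.1 (St (hg (H98.conj_mem_cj m₂))),
      sq _ m₁, sq _ m₂, by
        rw [conj_mul, conj_mul, show v₁ * v₂ = v₂ * v₁ from
          congrArg Subtype.val (hA.is_comm.comm (⟨v₁, m₁⟩ : A) ⟨v₂, m₂⟩)], p₁, ⟨p₂.1, p₂.2.1⟩,
      fun e => p₂.2.2.1 ?_, fun e => p₂.2.2.2 ?_⟩
    · rw [← mul_one (g * v₁ * g⁻¹), ← e, ← mul_assoc _ (g * v₁ * g⁻¹), sq _ m₁, one_mul]
    · rw [← e, ← mul_assoc _ (g * v₁ * g⁻¹), sq _ m₁, one_mul]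
  have c₃ : w₁ * w₂ * t = t * (w₁ * w₂) := by rw [mul_assoc, c₂, ← mul_assoc, c₁, mul_assoc]
  have s₃ : w₁ * w₂ * (w₁ * w₂) = 1 := by
    rw [mul_assoc, ← mul_assoc w₂, ← c₁₂, mul_assoc, s₂, mul_one, s₁]
  have q3 : Fintype.card F % 4 = 3 := by
    by_contra q
    obtain ⟨d, φ, -, h3⟩ := out_inv h k3 r o
    have e₁ := mt (h3 ⟨w₁, mem_norm.2 c₁⟩ s₁ n₁.1 n₁.2).2.2.1 q
    have e₂ := mt (h3 ⟨w₂, mem_norm.2 c₂⟩ s₂ n₂.1 n₂.2).2.2.1 q
    refine mt (h3 (⟨w₁, mem_norm.2 c₁⟩ * ⟨w₂, mem_norm.2 c₂⟩) s₃ n₃.1 n₃.2).2.2.1 q ?_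
    rw [map_mul, (Int.units_eq_one_or _).resolve_left e₁, (Int.units_eq_one_or _).resolve_left e₂]
    simp
  obtain ⟨l₁, hl₁, k₁, hk₁, rfl, p₁, q₁⟩ := dec_sl h k3 r o sl q3 s₁ n₁.1 n₁.2 c₁
  obtain ⟨l₂, hl₂, k₂, hk₂, rfl, p₂, q₂⟩ := dec_sl h k3 r o sl q3 s₂ n₂.1 n₂.2 c₂
  have e12 : l₁ * k₁ * (l₂ * k₂) = l₁ * l₂ * (k₁ * k₂) := by
    rw [mul_assoc, ← mul_assoc k₁, h.LK hl₂ hk₁]; group
  have e21 : l₂ * k₂ * (l₁ * k₁) = l₂ * l₁ * (k₂ * k₁) := by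
    rw [mul_assoc, ← mul_assoc k₂, h.LK hl₁ hk₂]; group
  have hq : k₂ * k₁ * k₂⁻¹ = k₁⁻¹ := by
    have e : (l₂ * l₁)⁻¹ * (l₁ * l₂) = k₂ * k₁ * (k₁ * k₂)⁻¹ := by
      rw [inv_mul_eq_iff_eq_mul, ← mul_assoc, ← e21, ← c₁₂, e12, mul_inv_cancel_right]
    rcases h.inf (mul_mem (inv_mem (mul_mem hl₂ hl₁)) (mul_mem hl₁ hl₂))
      (e ▸ mul_mem (mul_mem hk₂ hk₁) (inv_mem (mul_mem hk₁ hk₂))) with e' | e'
    · have m : l₁ * l₂ ∈ Kh Ω {t} := by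
        rcases ((H3.HK2.kit2.grp h.rg.sr h.ne inf_le_left inf_le_left h.ld).1
          (z ▸ ne_of_ord o)).2 _ (h.lx ▸ mul_mem hl₁ hl₂) (by
            rw [mul_assoc, ← mul_assoc l₂, inv_mul_eq_one.1 e', mul_assoc, p₂, ← mul_assoc, p₁, t2])
          with e | e
        · exact e ▸ one_mem _
        · exact e ▸ h.z_Kh
      exact ((uniq h r o (e12 ▸ mul_mem m (mul_mem hk₁ hk₂)) s₃).elim n₃.1 n₃.2).elim
    · rw [e, z] at e'
      refine eq_inv_of_mul_eq_one_left ?_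
      calc _ = k₂ * k₁ * (k₁ * k₂)⁻¹ * (k₁ * k₁) := by
            rw [mul_inv_rev]; group
        _ = 1 := by rw [e', q₁, t2]
  obtain ⟨w, cj, wt, hw⟩ := H72.HKS.kit1.zst c3.pre t o
  obtain ⟨g, rfl⟩ := isConj_iff.1 cj
  have c1 : g⁻¹ * t * g * t = t * (g⁻¹ * t * g) := by
    calc _ = g⁻¹ * (t * (g * t * g⁻¹)) * g := by group
      _ = _ := by rw [← hw]; group
  have s1 : g⁻¹ * t * g * (g⁻¹ * t * g) = 1 := by
    calc _ = g⁻¹ * (t * t) * g := by group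
      _ = _ := by rw [t2]; group
  obtain ⟨l, hl, k, hk, e, p, q⟩ := dec_sl h k3 r o sl q3 s1
    (by simpa [mul_assoc, inv_mul_eq_one] using ne_of_ord o) (fun e => wt (by nth_rw 1 [← e]; group)) c1
  obtain ⟨k', hk', q', qk⟩ := exists_inv k3 self_Kh o (fun v hv => uniq h r o hv) hk₁ hk₂ q₁ q₂ hq hk q
  obtain ⟨m, hm, p5⟩ := (k3.slc h.rg h.ne h.sub h.ld (z ▸ ne_of_ord o)).2 l hl (p.trans z.symm)
  obtain ⟨c, d, s, s2, -, nd, hc, hd, p1, p2, p3, -⟩ :=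
    H3.HK2.kit2.syl h.rg.sr hab inf_le_left inf_le_left ld q3
  have hc' : m⁻¹ * c * m⁻¹⁻¹ ∈ LX U {t} := mul_mem (mul_mem (inv_mem hm) (h.lx ▸ hc)) (by simpa using hm)
  have hd' : m⁻¹ * d * m⁻¹⁻¹ ∈ LX U {t} := mul_mem (mul_mem (inv_mem hm) (h.lx ▸ hd)) (by simpa using hm)
  have p1' : (m⁻¹ * c * m⁻¹⁻¹) ^ 2 ^ (s - 2) = l := by rw [conj_pow, p1, ← p5]; group
  have p2' : m⁻¹ * d * m⁻¹⁻¹ * (m⁻¹ * c * m⁻¹⁻¹) * (m⁻¹ * d * m⁻¹⁻¹)⁻¹ = (m⁻¹ * c * m⁻¹⁻¹)⁻¹ := by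
    calc _ = m⁻¹ * (d * c * d⁻¹) * m := by group
      _ = _ := by rw [p2]; group
  have p3' : m⁻¹ * d * m⁻¹⁻¹ * (m⁻¹ * d * m⁻¹⁻¹) = t := by
    rw [conj_mul, p3, z, L_comm (inv_mem hm)]; group
  generalize m⁻¹ * c * m⁻¹⁻¹ = c at hc' p1' p2'
  generalize m⁻¹ * d * m⁻¹⁻¹ = d at hd' p2' p3'
  have tr : ∀ u, u * (l * k) = l * k * u → g * u * g⁻¹ * t = t * (g * u * g⁻¹) := fun u hu => by
    calc _ = g * (u * (g⁻¹ * t * g)) * g⁻¹ := by group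
      _ = _ := by rw [e, hu, ← e]; group
  have cl : c * l = l * c := by rw [← p1', ← pow_succ, pow_succ']
  have r1 := tr c (by rw [← mul_assoc, cl, mul_assoc, ← h.LK hc' hk, mul_assoc])
  have y1 : d * k' * c * (d * k')⁻¹ = c⁻¹ := by
    rw [mul_assoc d, h.LK hc' hk', ← p2']; group
  have y2 : d * k' * (d * k') = 1 := by
    rw [mul_assoc, ← mul_assoc k', h.LK hd' hk', mul_assoc, q', ← mul_assoc, p3', t2]
  have y3 : d * k' * (l * k) = l * k * (d * k') := by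
    have a1 : d * l * d⁻¹ = l⁻¹ := by rw [← p1', ← conj_pow, p2', inv_pow]
    have a2 : l * k = l⁻¹ * k⁻¹ := by
      rw [← mul_inv_rev, h.LK hl hk, inv_eq_of_mul_eq_one_left (e ▸ s1 : l * k * (l * k) = 1)]
    rw [← mul_inv_eq_iff_eq_mul]
    calc _ = d * (k' * l) * (k * k'⁻¹) * d⁻¹ := by group
      _ = d * l * (k' * k * k'⁻¹ * d⁻¹) := by rw [h.LK hl hk']; group
      _ = d * l * d⁻¹ * (k' * k * k'⁻¹) := by
        rw [h.LK (inv_mem hd') (mul_mem (mul_mem hk' hk) (inv_mem hk'))]; group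
      _ = _ := by rw [a1, qk, ← a2]
  have r2 := tr _ y3
  generalize d * k' = v at y1 y2 r2
  have i1 := inn_inv h k3 r o q3 (by rw [conj_mul, y2]; simp) r2
  have i2 := inn_inv h k3 r o q3 (w := g * v * g⁻¹ * (g * c * g⁻¹)) (by
    rw [inv_eq_of_mul_eq_one_left y2] at y1
    rw [conj_mul, conj_mul, ← mul_assoc (v * c), y1]; simp) (by rw [mul_assoc, r1, ← mul_assoc, r2, mul_assoc])
  have i3 := inn_mul i1 i2
  rw [← mul_assoc (g * v * g⁻¹), conj_mul, y2, mul_one, mul_inv_cancel, one_mul] at i3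
  have p6 : (g * c * g⁻¹) ^ 2 ^ (s - 1) = g * t * g⁻¹ := by
    rw [conj_pow, show s - 1 = s - 2 + 1 by omega, pow_succ, pow_mul, p1', pow_two, p]
  have T := k3.ex h.rg (s - 1) hab h.sub tl (h.card ▸ q3)
    (by rw [h.card, show s - 1 + 2 = s + 1 by omega]; exact nd) _
    ⟨s - 1 + 1, by rw [pow_succ, pow_mul, p6, pow_two, conj_mul, t2]; simp⟩ i3
  rw [p6] at T
  exact (uniq h r o (mem_Kh.2 ⟨T, hw⟩) (by rw [conj_mul, t2]; simp)).elim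
    (by simpa using ne_of_ord o) wt

end H17.HK
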