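import Cfsg.Agent.H17.HK0
import Cfsg.Agent.H23.HkC4
import Cfsg.Agent.H26.HKF0

/-! HKS part 3: the centraliser of an involution of type `PSL₂(q)`, `q ≡ 3 (mod 4)`. -/

set_option autoImplicit false
set_option linter.unusedSectionVars false

namespace H17.HK

open MulAction Cfsg Subgroup H89.K H65 H7.HKS
open H23.HK (mem_sup_zp nor_zp two_of_mem isConj_of cj_sq ord_of)
open scoped commutatorElement

universe u

variable {G Ω : Type u} [Group G] [Finite G] [MulAction G Ω] {U : Ω → Subgroup G}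
  {F : Type} [Field F] [Fintype F] {x y : F → G} {a b c : Ω} {t g k l w v : G}

theorem inn_inv' (h : Inn U {t} g) : Inn U {t} g⁻¹ := by
  obtain ⟨l, hl, e⟩ := h
  refine ⟨l⁻¹, inv_mem hl, fun c hc => ?_⟩
  rw [inv_smul_eq_iff, e _ (smul_Fx (L_comm (inv_mem hl)) hc), smul_inv_smul]

theorem comm_of_odd (h : Odd (orderOf g)) (e : g * g * t = t * (g * g)) : g * t = t * g := by
  obtain ⟨m, hm⟩ := h
  have : g = (g * g) ^ (m + 1) := by
    rw [← pow_two, ← pow_mul, show 2 * (m + 1) = orderOf g + 1 by omega, pow_succ,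
      pow_orderOf_eq_one, one_mul]
  rw [this]
  exact ((show Commute (g * g) t from e).pow_left _).eq

namespace Fm

variable (h : Fm U a b t x y)
include h

theorem nL (hg : g * t = t * g) : g ∈ normalizer (LX U {t} : Set G) :=
  H72.HKS.lx_norm h.rg (mem_norm.2 hg)

theorem cjL (hg : g * t = t * g) (hl : l ∈ LX U {t}) : g * l * g⁻¹ ∈ LX U {t} :=
  H98.conj_mem_of_mem_normalizer (h.nL hg) hl

theorem K_st (hk : k ∈ Kh Ω {t}) : k ∈ St G a b := ⟨(mem_Kh.1 hk).1 a h.fa, (mem_Kh.1 hk).1 b h.fb⟩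

/-- the product of two outer `2`-elements is inner -/
theorem mul_inn (k3 : Kit3.{u}) (q3 : Fintype.card F % 4 = 3) (hg : g * t = t * g)
    (hw : w * t = t * w) (g2 : Two g) (w2 : Two w) (n : ¬ Inn U {t} g) (n' : ¬ Inn U {t} w) :
    Inn U {t} (g * w) := by
  obtain ⟨d, φ, h1, -, -⟩ := k3.out h.rg h.ne h.sub h.ld
  have key : ∀ z : normalizer ({t} : Set G), Two (z : G) → ¬ Inn U {t} z → φ z = 1 ∧ d z = -1 := by
    rintro z ⟨j, hj⟩ n
    have e : φ z = 1 := H23.HK.ringEquiv_eq_one q3 (j := j) (by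
      rw [← map_pow, ← map_one φ]; exact congrArg φ (Subtype.ext hj))
    exact ⟨e, (Int.units_eq_one_or _).resolve_left fun e' => n ((h1 z).1 ⟨e', e⟩)⟩
  obtain ⟨a1, a2⟩ := key ⟨g, mem_norm.2 hg⟩ g2 n
  obtain ⟨b1, b2⟩ := key ⟨w, mem_norm.2 hw⟩ w2 n'
  exact (h1 (⟨g, mem_norm.2 hg⟩ * ⟨w, mem_norm.2 hw⟩)).1
    ⟨by rw [map_mul, a2, b2]; simp, by rw [map_mul, a1, b1, mul_one]⟩

theorem triv_of_act (hg : g ∈ St G a b) (e : ∀ c, g * x c * g⁻¹ = x c) : Triv Ω {t} g :=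
  (H72.HKS.kit1.fx h.rg h.ne h.sub).2.2.2.2.2.2.1 g hg fun u hu => by
    obtain ⟨c, rfl⟩ := (h.ld.rx u).1 hu
    exact mul_inv_eq_iff_eq_mul.1 (e c)

/-- an element acting as `-1` -/
theorem act_neg (hg : g ∈ St G a b) (gt : g * t = t * g) (e : ∀ c, g * x c * g⁻¹ = x (-c)) :
    (∀ c, g * y c * g⁻¹ = y (-c)) ∧ (∀ c, c ≠ 0 → g * sl2n x y c * g⁻¹ = sl2n x y (-c)) ∧
      ∀ c, c ≠ 0 → g * sl2h x y c * g⁻¹ = sl2h x y c := by
  obtain ⟨l, σ, -, h1, h2, h3, h4⟩ := H3.HK2.kit2.semi h.rg.sr h.ne inf_le_left inf_le_left h.ld g hg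
    (H3.HK2.norm_CU h.rg.sr (mem_norm.2 gt) hg.1) (H3.HK2.norm_CU h.rg.sr (mem_norm.2 gt) hg.2)
  have e1 : ∀ c, l * σ c = -c := fun c => h.ld.inj (by rw [← h1, e])
  have e2 : l = -1 := by simpa using e1 1
  have e3 : ∀ c, σ c = c := fun c => by simpa [e2] using e1 c
  exact ⟨fun c => by rw [h2, e2, e3]; simp, fun c hc => by rw [h3 c hc, e1],
    fun c hc => by rw [h4 c hc, e3]⟩

/-- an outer `2`-element fixing `a`, `b` acts as `-1` -/
theorem neg_of_out (q3 : Fintype.card F % 4 = 3) (hg : g ∈ St G a b) (gt : g * t = t * g)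
    (g2 : Two g) (n : ¬ Triv Ω {t} g) (c : F) : g * x c * g⁻¹ = x (-c) := by
  obtain ⟨j, hj⟩ := g2
  obtain ⟨ε, e2, hε⟩ := H26.HK.act_pm h.rg h.ne h.ld q3 j g hg (mem_norm.2 gt) hj
  rcases mul_self_eq_one_iff.1 e2 with rfl | rfl
  · exact (n (h.triv_of_act hg fun c => by simpa using hε c)).elim
  · simpa using hε c

theorem h_conj {e : F} (he : e ≠ 0) :
    sl2h x y e * sl2n x y 1 * (sl2h x y e)⁻¹ = sl2n x y (e * e) := by
  have b7 := (H3.HK2.kit2.bas h.rg.sr h.ne inf_le_left inf_le_left h.ld).2.2.2.2.2.2.1 e⁻¹ 1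
    (inv_ne_zero he) one_ne_zero
  have i : (sl2h x y e)⁻¹ = sl2h x y e⁻¹ := inv_eq_of_mul_eq_one_right (by
    rw [h.ld.rel.h_mul' he (inv_ne_zero he), mul_inv_cancel₀ he, h.ld.rel.h_one])
  rw [i, mul_assoc, mul_inv_eq_iff_eq_mul.1 b7, inv_inv, ← mul_assoc, h.ld.rel.h_mul' he he,
    h.ld.rel.h_mul_n (mul_ne_zero he he) one_ne_zero, mul_one]

end Fm

/-- the frame of an involution of type `PSL₂(q)`, `q ≡ 3 (mod 4)` -/
structure Pf (U : Ω → Subgroup G) (a b : Ω) (t : G) (x y : F → G) : Prop extends Fm U a b t x y where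
  ord : orderOf t = 2
  q3 : Fintype.card F % 4 = 3
  nsl : ¬ SLt U t
  hu : ∀ v ∈ Kh Ω {t}, v * v = 1 → v = 1 ∨ v = t

namespace Pf

variable (h : Pf U a b t x y)
include h

theorem t2 : t * t = 1 := sq_of_ord h.ord

theorem z1 : sl2h x y (-1) = 1 :=
  (h.hu _ h.z_Kh h.z_sq).resolve_right fun e => h.nsl (e ▸ h.h_mem _)

theorem inf1 (hl : l ∈ LX U {t}) (hk : l ∈ Kh Ω {t}) : l = 1 := by simpa [h.z1] using h.inf hl hk

theorem n2 {e : F} (he : e ≠ 0) : sl2n x y e * sl2n x y e = 1 := (h.n_sq he).trans h.z1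

theorem n1 {e : F} (he : e ≠ 0) : sl2n x y e ≠ 1 := fun e' => h.n_ne he fun c _ => by rw [e', one_smul]

theorem n_neg {e : F} (he : e ≠ 0) : sl2n x y (-e) = sl2n x y e := by
  rw [h.ld.rel.n_neg, inv_eq_of_mul_eq_one_left (h.n2 he)]

theorem fin (hl : l ∈ LX U {t}) : l * t ∉ LX U {t} := fun e => h.nsl ((mul_mem_cancel_left hl).1 e)

theorem inv_dec (i : Inn U {t} w) (hw : w * t = t * w) (w2 : w * w = 1) :
    ∃ l ∈ LX U {t}, l * l = 1 ∧ (w = l ∨ w = l * t) := by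
  obtain ⟨l, hl, k, hk, rfl⟩ := inn_dec i hw
  have p : l * l = 1 ∧ k * k = 1 := by simpa [h.z1] using h.dec_sq hl hk w2
  exact ⟨l, hl, p.1, (h.hu k hk p.2).imp (fun e => by rw [e, mul_one]) fun e => by rw [e]⟩

theorem conj_n (hl : l ∈ LX U {t}) (l2 : l * l = 1) (l1 : l ≠ 1) :
    ∃ m ∈ LX U {t}, m * l * m⁻¹ = sl2n x y 1 := by
  obtain ⟨m, hm, e⟩ := ((H3.HK2.kit2.grp h.rg.sr h.ne inf_le_left inf_le_left h.ld).2.1 h.z1).2 l
    (h.lx ▸ hl) _ (h.lx ▸ h.n_mem 1) (ord_of l2 l1) (ord_of (h.n2 one_ne_zero) (h.n1 one_ne_zero))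
  exact ⟨m, h.lx ▸ hm, e⟩

/-- inner involutions are conjugate to `n` or `n t` -/
theorem inv_conj (i : Inn U {t} w) (hw : w * t = t * w) (w2 : w * w = 1) (w1 : w ≠ 1) (wt : w ≠ t) :
    ∃ m ∈ LX U {t}, m * w * m⁻¹ = sl2n x y 1 ∨ m * w * m⁻¹ = sl2n x y 1 * t := by
  obtain ⟨l, hl, l2, e⟩ := h.inv_dec i hw w2
  obtain ⟨m, hm, e'⟩ := h.conj_n hl l2 (by rintro rfl; simp [w1, wt] at e)
  refine ⟨m, hm, e.imp (fun e => by rw [e, e']) fun e => ?_⟩
  rw [e, ← e', mul_assoc, mul_assoc, ← L_comm (inv_mem hm)]; group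

theorem sw_conj (i : Inn U {t} w) (hw : w * t = t * w) (w2 : w * w = 1) (sw : Sw w a b) :
    ∃ m ∈ St G a b, m * w * m⁻¹ = sl2n x y 1 ∨ m * w * m⁻¹ = sl2n x y 1 * t := by
  obtain ⟨l, hl, l2, e⟩ := h.inv_dec i hw w2
  obtain ⟨e', he, rfl⟩ := (H3.HK2.kit2.bas h.rg.sr h.ne inf_le_left inf_le_left
    h.ld).2.2.2.2.2.2.2.2.2.1 l (h.lx ▸ hl) (by
      rcases e with rfl | rfl
      · exact sw
      · exact ⟨by rw [← sw.1, mul_smul, show t • a = a from h.st.1],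
          by rw [← sw.2, mul_smul, show t • b = b from h.st.2]⟩)
  obtain ⟨f, f0, hf⟩ : ∃ f : F, f ≠ 0 ∧ sl2n x y e' = sl2n x y (f * f) := by
    by_cases s : IsSquare e'
    · obtain ⟨f, rfl⟩ := s
      exact ⟨f, fun e => he (by simp [e]), rfl⟩
    · obtain ⟨f, hf⟩ : IsSquare (-e') := by
        classical
        rw [← quadraticChar_neg_one_iff_not_isSquare] at s
        rw [← quadraticChar_one_iff_isSquare (neg_ne_zero.2 he), ← neg_one_mul, map_mul, s,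
          quadraticChar_neg_one_iff_not_isSquare.2 fun e => FiniteField.isSquare_neg_one_iff.1 e h.q3]
        simp
      exact ⟨f, fun e => he (by simpa [e] using hf), by rw [← hf, h.n_neg he]⟩
  refine ⟨(sl2h x y f)⁻¹, inv_mem (h.h_st f0), e.imp (fun e => ?_) fun e => ?_⟩
  · rw [e, hf, ← h.h_conj f0]; group
  · rw [e, hf, ← h.h_conj f0, inv_inv, mul_assoc, mul_assoc, ← L_comm (h.h_mem f)]; group

theorem odd_T (k3 : Kit3.{u}) : Odd (Nat.card ↥(LX U {t} ⊓ St G a b)) := by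
  have := (k3.sy1 h.rg h.ne h.sub h.ld).2.2.1 h.z1
  have := h.q3
  exact Nat.odd_iff.2 (by omega)

theorem two_T (k3 : Kit3.{u}) (hl : l ∈ LX U {t}) (st : l ∈ St G a b) (l2 : Two l) : l = 1 := by
  obtain ⟨j, hj⟩ := l2
  exact orderOf_eq_one_iff.1 (Nat.Coprime.eq_one_of_dvd (Nat.Coprime.pow_right j
    (Nat.coprime_two_right.2 ((h.odd_T k3).of_dvd_nat (orderOf_dvd_natCard _ ⟨hl, st⟩))))
    (orderOf_dvd_of_pow_eq_one hj))

theorem out_of_neg (k3 : Kit3.{u}) (st : v ∈ St G a b) (vt : v * t = t * v)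
    (e : ∀ c, v * x c * v⁻¹ = x (-c)) : ¬ Inn U {t} v := fun i => by
  obtain ⟨d, φ, h1, h2, -⟩ := k3.out h.rg h.ne h.sub h.ld
  exact FiniteField.isSquare_neg_one_iff.1 ((h2 ⟨v, mem_norm.2 vt⟩ (-1) (RingEquiv.refl F) st
    fun c => by simpa using e c).2.1 ((h1 ⟨v, mem_norm.2 vt⟩).2 i).1) h.q3

/-- an inner involution other than `t` has no fixed point -/
theorem empty_of_inn (k3 : Kit3.{u}) (i : Inn U {t} w) (hw : w * t = t * w) (w2 : w * w = 1)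
    (w1 : w ≠ 1) (wt : w ≠ t) : Fx Ω {w, t} = ∅ := by
  obtain ⟨d, φ, h1, -, h3⟩ := k3.out h.rg h.ne h.sub h.ld
  have e0 := (h1 ⟨w, mem_norm.2 hw⟩).2 i
  rcases h3 ⟨w, mem_norm.2 hw⟩ (fun c _ => by rw [w2, one_smul]) (fun T =>
    (h.hu w (mem_Kh.2 ⟨T, hw⟩) w2).elim w1 wt) with e | e | e
  · exact (e.1 e0.2).elim
  · have := e.2.2.1 e0.1
    have := h.q3
    omega
  · exact e.2.1

variable (nk : ∀ k ∈ Kh Ω {t}, k * k ≠ t)
include nk

theorem two_K (hk : k ∈ Kh Ω {t}) (k2 : Two k) : k = 1 ∨ k = t := by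
  obtain ⟨j, hj⟩ := k2
  induction j generalizing k with
  | zero => exact .inl (by simpa using hj)
  | succ j ih =>
    exact h.hu k hk ((ih (mul_mem hk hk) (by rw [← pow_two, ← pow_mul, ← pow_succ', hj])).resolve_right
      (nk k hk))

theorem two_dec (i : Inn U {t} g) (hg : g * t = t * g) (g2 : Two g) :
    ∃ l ∈ LX U {t}, g = l ∨ g = l * t := by
  obtain ⟨l, hl, k, hk, rfl⟩ := inn_dec i hg
  obtain ⟨j, hj⟩ := g2
  rw [(show Commute l k from (h.LK hl hk).symm).mul_pow] at hj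
  refine ⟨l, hl, (h.two_K nk hk ⟨j, h.inf1 ?_ (pow_mem hk _)⟩).imp (fun e => by rw [e, mul_one])
    fun e => by rw [e]⟩
  rw [eq_inv_of_mul_eq_one_right hj]
  exact inv_mem (pow_mem hl _)

theorem two_st (k3 : Kit3.{u}) (i : Inn U {t} g) (hg : g * t = t * g) (g2 : Two g)
    (st : g ∈ St G a b) : g = 1 ∨ g = t := by
  obtain ⟨l, hl, rfl | rfl⟩ := h.two_dec nk i hg g2
  · exact .inl (h.two_T k3 hl st g2)
  · obtain ⟨j, hj⟩ := g2
    rw [h.two_T k3 hl ((mul_mem_cancel_right h.st).1 st) ⟨j + 1, by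
      rw [(show Commute l t from L_comm hl).mul_pow] at hj
      rw [pow_succ, pow_mul, eq_inv_of_mul_eq_one_left hj, inv_pow, ← pow_mul, mul_comm, pow_mul,
        pow_two, h.t2]; simp⟩]
    exact .inr (one_mul _)

end Pf

/-- the Sylow `2`-subgroup of `C(t)` -/
structure Sy (U : Ω → Subgroup G) (t v n : G) (S : Subgroup G) (c d : G) (s : ℕ) : Prop where
  two : IsPGroup 2 S
  odd : Odd S.index
  le : ∀ g ∈ S, g * t = t * g
  cS : c ∈ S
  dS : d ∈ S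
  vS : v ∈ S
  tS : t ∈ S
  cL : c ∈ LX U {t}
  dL : d ∈ LX U {t}
  s2 : 2 ≤ s
  hn : c ^ 2 ^ (s - 2) = n
  dc : d * c * d⁻¹ = c⁻¹
  dd : d * d = 1
  dn : d ∉ zpowers c
  dec : ∀ g ∈ S, ∃ l ∈ closure {c, d}, g = l ∨ g = l * t ∨ g = l * v ∨ g = l * t * v
  der : ⁅S, S⁆ ≤ LX U {t}
  cen : ∀ g ∈ S, g * n = n * g

theorem Pf.sy (h : Pf U a b t x y) (nk : ∀ k ∈ Kh Ω {t}, k * k ≠ t)
    (oc : Odd (centralizer ({t} : Set G)).index) (st : v ∈ St G a b) (vt : v * t = t * v) (v2 : Two v)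
    (hv : v = 1 ∨ ∀ c, v * x c * v⁻¹ = x (-c))
    (hall : ∀ g, g * t = t * g → Two g → Inn U {t} g ∨ Inn U {t} (g * v⁻¹)) :
    ∃ S c d s, Sy U t v (sl2n x y 1) S c d s ∧ 2 ^ s ∣ Fintype.card F + 1 ∧
      ¬ 2 ^ (s + 1) ∣ Fintype.card F + 1 ∧
      ((∀ c, v * x c * v⁻¹ = x (-c)) → v * d * v⁻¹ = d * c) := by
  have : Fact (Nat.Prime 2) := ⟨Nat.prime_two⟩
  obtain ⟨c, d, s, s2, d1, nd, hc, hd, hn, dc, dd, dn, hodd, hv'⟩ :=
    H3.HK2.kit2.syl h.rg.sr h.ne inf_le_left inf_le_left h.ld h.q3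
  rw [← h.lx] at hc hd hodd
  rw [h.z1] at dd
  have hQL : closure {c, d} ≤ LX U {t} := (closure_le _).2 (by rintro _ (rfl | rfl); exacts [hc, hd])
  have cQ : c ∈ closure {c, d} := subset_closure (Or.inl rfl)
  have dQ : d ∈ closure {c, d} := subset_closure (Or.inr rfl)
  have hQ2 : IsPGroup 2 (closure {c, d}) := by
    have : closure {c, d} = zpowers c ⊔ zpowers d := by
      rw [zpowers_eq_closure, zpowers_eq_closure, ← Subgroup.closure_union]; rfl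
    rw [this]
    refine IsPGroup.to_sup_of_normal_left' (H98.isPGroup_zpowers (k := s - 2 + 1) ?_)
      (H98.isPGroup_zpowers (k := 1) (by rw [pow_one, pow_two, dd]))
      (zpowers_le.2 (nor_zp (dc ▸ inv_mem (mem_zpowers c))))
    rw [pow_succ, pow_mul, hn, pow_two, h.n2 one_ne_zero]
  have vcd : v * c * v⁻¹ ∈ closure {c, d} ∧ v * d * v⁻¹ ∈ closure {c, d} ∧
      v * sl2n x y 1 = sl2n x y 1 * v := by
    rcases hv with rfl | hv
    · simp [cQ, dQ]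
    · obtain ⟨p1, p2, -⟩ := h.act_neg st vt hv
      obtain ⟨vc, vd⟩ := hv' v st hv p1
      exact ⟨vc ▸ inv_mem cQ, vd ▸ mul_mem dQ cQ, mul_inv_eq_iff_eq_mul.1
        ((p2 1 one_ne_zero).trans (h.n_neg one_ne_zero))⟩
  have hvQ : v ∈ normalizer (closure {c, d} : Set G) := mem_normalizer_fintype fun g hg => by
    have : closure {c, d} ≤ (closure {c, d}).comap (MulAut.conj v).toMonoidHom := (closure_le _).2 (by
      rintro _ (rfl | rfl)
      · exact vcd.1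
      · exact vcd.2.1)
    exact this hg
  obtain ⟨j, hj⟩ := id v2
  obtain ⟨S, hS, hPS⟩ := H98.exists_isSyl_le (H := centralizer {t})
    (hQ2.to_sup_of_normal_left' (H98.isPGroup_zpowers hj) (zpowers_le.2 hvQ))
    (sup_le (hQL.trans H72.HKS.lx_le) (zpowers_le.2 (mem_cent.2 vt)))
  have hQS : closure {c, d} ≤ S := le_sup_left.trans hPS
  have vS : v ∈ S := hPS (mem_sup_right (mem_zpowers v))
  have le : ∀ g ∈ S, g * t = t * g := fun g hg => mem_cent.1 (hS.le hg)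
  have tS : t ∈ S := hS.le_of_le_normalizer (H26.HK.two_zp h.t2) (zpowers_le.2 (mem_cent.2 rfl))
    (fun g hg => nor_zp (by rw [le g hg, mul_inv_cancel_right]; exact mem_zpowers _)) (mem_zpowers _)
  have eQ : S ⊓ LX U {t} = closure {c, d} :=
    (H98.isSyl_of_not_dvd_relIndex hQL hQ2 hodd.not_two_dvd_nat).eq_of_le
      hS.isPGroup.to_inf_left (le_inf hQS hQL) inf_le_right
  have dec0 : ∀ g ∈ S, Inn U {t} g → ∃ l ∈ closure {c, d}, g = l ∨ g = l * t := fun g hg i => by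
    obtain ⟨l, hl, e⟩ := h.two_dec nk i (le g hg) (two_of_mem hS.isPGroup hg)
    refine ⟨l, eQ ▸ ⟨?_, hl⟩, e⟩
    rcases e with rfl | rfl
    · exact hg
    · exact (mul_mem_cancel_right tS).1 hg
  have dec : ∀ g ∈ S, ∃ l ∈ closure {c, d}, g = l ∨ g = l * t ∨ g = l * v ∨ g = l * t * v := by
    intro g hg
    rcases hall g (le g hg) (two_of_mem hS.isPGroup hg) with i | i
    · obtain ⟨l, hl, e⟩ := dec0 g hg i
      exact ⟨l, hl, e.imp_right .inl⟩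
    · obtain ⟨l, hl, e⟩ := dec0 _ (mul_mem hg (inv_mem vS)) i
      exact ⟨l, hl, .inr (.inr (e.imp mul_inv_eq_iff_eq_mul.1 mul_inv_eq_iff_eq_mul.1))⟩
  have dec' : ∀ g ∈ S, ∃ l ∈ closure {c, d}, ∃ i j : ℕ, g = l * (t ^ i * v ^ j) := fun g hg => by
    obtain ⟨l, hl, e | e | e | e⟩ := dec g hg
    exacts [⟨l, hl, 0, 0, by simp [e]⟩, ⟨l, hl, 1, 0, by simp [e]⟩, ⟨l, hl, 0, 1, by simp [e]⟩,
      ⟨l, hl, 1, 1, by simp [e, mul_assoc]⟩]
  have ctv : Commute t v := vt.symm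
  refine ⟨S, c, d, s, ⟨hS.isPGroup, ?_, le, hQS cQ, hQS dQ, vS, tS, hc, hd, s2, hn, dc, dd, dn, dec,
    commutator_le.2 fun g hg g' hg' => ?_, fun g hg => ?_⟩, d1, nd,
    fun e => (hv' v st e (h.act_neg st vt e).1).2⟩
  · rw [← relIndex_mul_index hS.le]
    exact (Nat.odd_iff.2 (Nat.two_dvd_ne_zero.1 hS.not_dvd_relIndex)).mul oc
  · obtain ⟨l, hl, i, j, rfl⟩ := dec' g hg
    obtain ⟨l', hl', i', j', rfl⟩ := dec' g' hg'
    have cm : Commute (t ^ i * v ^ j) (t ^ i' * v ^ j') :=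
      (((Commute.refl t).pow_pow _ _).mul_right (ctv.pow_pow _ _)).mul_left
        ((ctv.symm.pow_pow _ _).mul_right ((Commute.refl v).pow_pow _ _))
    have ct : ∀ i j : ℕ, t ^ i * v ^ j * t = t * (t ^ i * v ^ j) := fun i j =>
      (((Commute.refl t).pow_left _).mul_left (ctv.symm.pow_left _)).eq
    have c1 := ct i j
    have c2 := ct i' j'
    generalize t ^ i * v ^ j = e at cm c1
    generalize t ^ i' * v ^ j' = e' at cm c2
    have : ⁅l * e, l' * e'⁆ = l * (e * l' * e⁻¹) * (e' * l⁻¹ * e'⁻¹) * l'⁻¹ := by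
      calc _ = l * (e * l' * e⁻¹) * (e * e' * e⁻¹) * l⁻¹ * e'⁻¹ * l'⁻¹ := by
            rw [commutatorElement_def]; group
        _ = _ := by rw [cm.eq]; group
    rw [this]
    exact mul_mem (mul_mem (mul_mem (hQL hl) (h.cjL c1 (hQL hl'))) (h.cjL c2 (inv_mem (hQL hl))))
      (inv_mem (hQL hl'))
  · obtain ⟨l, hl, i, j, rfl⟩ := dec' g hg
    have : closure {c, d} ≤ centralizer {sl2n x y 1} := (closure_le _).2 (by
      rintro _ (rfl | rfl)
      · exact mem_cent.2 (by rw [← hn, ← pow_succ, pow_succ'])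
      · refine mem_cent.2 (mul_inv_eq_iff_eq_mul.1 ?_)
        rw [← hn, ← conj_pow, dc, inv_pow, hn, inv_eq_of_mul_eq_one_left (h.n2 one_ne_zero)])
    exact mem_cent.1 (mul_mem (this hl) (mul_mem (pow_mem (mem_cent.2 (L_comm (h.n_mem 1)).symm) _)
      (pow_mem (mem_cent.2 vcd.2.2) _)))

namespace Sy

variable {n : G} {S : Subgroup G} {c d : G} {s : ℕ} (h : Sy U t v n S c d s)
include h

theorem nS : n ∈ S := h.hn ▸ pow_mem h.cS _

theorem n_der₁ (s3 : 3 ≤ s) : n ∈ ⁅S, S⁆ := by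
  have : ⁅d, c⁆⁻¹ = c ^ 2 := by rw [commutatorElement_def, h.dc]; group
  rw [← h.hn, show s - 2 = s - 3 + 1 by omega, pow_succ', pow_mul, ← this]
  exact pow_mem (inv_mem (commutator_mem_commutator h.dS h.cS)) _

theorem n_der₂ (e : v * d * v⁻¹ = d * c) : n ∈ ⁅S, S⁆ := by
  have : ⁅v, d⁆⁻¹ = c := by rw [commutatorElement_def, e, h.dc]; group
  rw [← h.hn, ← this]
  exact pow_mem (inv_mem (commutator_mem_commutator h.vS h.dS)) _

theorem der_conj (hg : g ∈ normalizer (S : Set G)) (hw : w ∈ ⁅S, S⁆) : g * w * g⁻¹ ∈ ⁅S, S⁆ :=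
  H98.conj_mem_of_mem_normalizer (H98.le_normalizer_commutator le_rfl le_rfl hg) hw

theorem not_conj₁ (k3 : Kit3.{u}) (nsl : ¬ SLt U t) (e : n ∈ ⁅S, S⁆) : ¬ IsConj t n := fun cj => by
  obtain ⟨g, hg, -, e'⟩ := k3.bur S n t h.two h.odd h.nS h.tS h.cen h.le cj.symm
  exact nsl (h.der (e' ▸ h.der_conj hg e))

end Sy

theorem Pf.not_conj₂ (h : Pf U a b t x y) (k3 : Kit3.{u}) {S : Subgroup G} {c d : G} {s : ℕ}
    (y' : Sy U t v (sl2n x y 1) S c d s) (v2 : v * v = 1) (e : v * d * v⁻¹ = d * c) :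
    ¬ IsConj t (sl2n x y 1 * t) := fun cj => by
  have nt := L_comm (h.n_mem 1)
  have n2 := h.n2 one_ne_zero
  obtain ⟨g, hg, og, e'⟩ := k3.bur S t _ y'.two y'.odd y'.tS (mul_mem y'.nS y'.tS) y'.le
    (fun g hg => by rw [← mul_assoc, y'.cen g hg, mul_assoc, y'.le g hg, mul_assoc]) cj
  have m := y'.der (y'.der_conj hg (y'.n_der₂ e))
  have rS : (d * v) ^ 2 ^ (s - 2) ∈ S := pow_mem (mul_mem y'.dS y'.vS) _
  have r2 : ((d * v) ^ 2 ^ (s - 2)) ^ 2 = sl2n x y 1 := by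
    rw [← pow_mul, mul_comm, pow_mul, ← y'.hn]
    congr 1
    rw [inv_eq_of_mul_eq_one_left v2] at e
    rw [pow_two, mul_assoc, ← mul_assoc v, e, ← mul_assoc, y'.dd, one_mul]
  have cw : ∀ r ∈ S, g * sl2n x y 1 * g⁻¹ * r = r * (g * sl2n x y 1 * g⁻¹) := fun r hr => by
    have := y'.cen _ (H98.conj_mem_of_mem_normalizer' hg hr)
    calc _ = g * (sl2n x y 1 * (g⁻¹ * r * g)) * g⁻¹ := by group
      _ = _ := by rw [← this]; group
  have fix : g * sl2n x y 1 * g⁻¹ = sl2n x y 1 := by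
    rcases (k3.o4 h.rg h.ne h.sub h.tl (h.card ▸ h.q3) _ (mem_norm.2 (y'.le _ rS)) (fun c _ => by
      rw [show 4 = 2 * 2 from rfl, pow_mul, r2, pow_two, n2, one_smul]) (r2 ▸ h.n_ne one_ne_zero)).1
      _ (mem_norm.2 (L_comm m)) (fun c _ => by rw [cj_sq n2]; simp) (fun c _ => by
        rw [cw _ rS, mul_inv_cancel_right, mul_inv_cancel, one_smul]) with T | T
    · exact absurd (h.inf1 m (mem_Kh.2 ⟨T, L_comm m⟩)) (by simpa using h.n1 one_ne_zero)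
    · rw [r2] at T
      have m' := mul_mem m (h.n_mem 1)
      rw [eq_inv_of_mul_eq_one_left (h.inf1 m' (mem_Kh.2 ⟨T, L_comm m'⟩)),
        inv_eq_of_mul_eq_one_left n2]
  have c1 : g * t = t * g := comm_of_odd og (mul_inv_eq_iff_eq_mul.1 (by
    calc g * g * t * (g * g)⁻¹ = g * (g * t * g⁻¹) * g⁻¹ := by group
      _ = (g * sl2n x y 1 * g⁻¹) * (g * t * g⁻¹) := by rw [conj_mul]; rw [e']
      _ = t := by rw [fix, e', ← mul_assoc, n2, one_mul]))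
  rw [c1, mul_inv_cancel_right] at e'
  exact h.n1 one_ne_zero (by simpa using e')

end H17.HK
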