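import Cfsg.Agent.H17.HK1
import Cfsg.Agent.H84.HKSa
import Cfsg.Agent.S0219

/-! HKS part 3: job PSa. -/

set_option autoImplicit false
set_option linter.unusedSectionVars false

namespace H17.HK

open MulAction Cfsg Subgroup H89.K H65 H7.HKS
open H23.HK (mem_sup_zp nor_zp two_of_mem isConj_of cj_sq ord_of)
open scoped commutatorElement

universe u

/-- a group with a non-trivial cyclic Sylow `2`-subgroup has a unique character of order two -/
theorem exists_chi {H : Type u} [Group H] [Finite H] (R : Sylow 2 H) (hc : IsCyclic (R : Subgroup H))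
    (he : Even (Nat.card H)) : ∃ χ : H →* ℤˣ, χ ≠ 1 ∧ ∀ ψ : H →* ℤˣ, ψ ≠ 1 → ψ = χ := by
  classical
  have : Fact (Nat.Prime 2) := ⟨Nat.prime_two⟩
  obtain ⟨N, hN⟩ := Cfsg.Agent.S0219.result he R hc
  obtain ⟨ρ, hρ⟩ := hc.exists_generator
  have key : ∀ f : H →* ℤˣ, f ρ = 1 → f = 1 := fun f hf => MonoidHom.ext fun g => by
    have le : (R : Subgroup H) ≤ f.ker := fun r hr => by
      obtain ⟨n, hn⟩ := hρ ⟨r, hr⟩
      rw [MonoidHom.mem_ker, show r = (ρ : H) ^ n from (congrArg Subtype.val hn).symm, map_zpow, hf,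
        one_zpow]
    have o : Odd f.ker.index :=
      (Nat.odd_iff.2 (Nat.two_dvd_ne_zero.1 R.not_dvd_index)).of_dvd_nat (index_dvd_of_le le)
    have := MonoidHom.mem_ker.1 (f.ker.pow_index_mem g)
    rw [map_pow] at this
    refine (Int.units_eq_one_or (f g)).resolve_right fun e => ?_
    rw [e, o.neg_one_pow] at this
    exact absurd this (by decide)
  let χ : H →* ℤˣ := MonoidHom.mk' (fun g => if g ∈ N then 1 else -1) fun g k => by
    simp only [mul_mem_iff_of_index_two hN]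
    by_cases h1 : g ∈ N <;> by_cases h2 : k ∈ N <;> simp [h1, h2]
  have h1 : χ ≠ 1 := fun e => by
    have : N = ⊤ := (eq_top_iff' N).2 fun g => by
      by_contra hg
      have : χ g = 1 := by rw [e]; rfl
      simp [χ, hg] at this
    simp [this] at hN
  refine ⟨χ, h1, fun ψ h2 => MonoidHom.ext fun g => ?_⟩
  have := DFunLike.congr_fun (key (ψ * χ) (by
    rw [MonoidHom.mul_apply, (Int.units_eq_one_or _).resolve_left (mt (key ψ) h2),
      (Int.units_eq_one_or _).resolve_left (mt (key χ) h1)]; simp)) g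
  rw [MonoidHom.mul_apply, MonoidHom.one_apply] at this
  rw [eq_inv_of_mul_eq_one_left this, Int.units_inv_eq_self]

variable {G Ω : Type u} [Group G] [Finite G] [MulAction G Ω] {U : Ω → Subgroup G}
  {F : Type} [Field F] [Fintype F] {x y : F → G} {a b c : Ω} {t g k l w v : G}

theorem mem_zp2 (u2 : w * w = 1) (h : g ∈ zpowers w) : g = 1 ∨ g = w := by
  obtain ⟨n, rfl⟩ := h
  have e : ∀ j : ℤ, w ^ (2 * j) = 1 := fun j => by rw [zpow_mul, zpow_two, u2, one_zpow]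
  rcases Int.even_or_odd' n with ⟨j, rfl | rfl⟩
  · exact .inl (e j)
  · exact .inr (by change w ^ (2 * j + 1) = w; rw [zpow_add, e, one_mul, zpow_one])

section

variable (h : Pf U a b t x y) (k3 : Kit3.{u}) (r : R1 G Ω) (nk : ∀ k ∈ Kh Ω {t}, k * k ≠ t)
include h k3 r nk

/-- the Sylow `2`-subgroup of the two-point stabiliser -/
theorem syl_H : ∃ R, H98.IsSyl 2 R (St G a b) ∧ t ∈ R ∧ (∀ g ∈ R, g * t = t * g) ∧ IsCyclic R ∧
    ∀ g ∈ R, g * g = 1 → g = 1 ∨ g = t := by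
  have : Fact (Nat.Prime 2) := ⟨Nat.prime_two⟩
  obtain ⟨R, hR, tR⟩ := H98.exists_isSyl_le (H := St G a b) (H26.HK.two_zp h.t2) (zpowers_le.2 h.st)
  have tR := tR (mem_zpowers t)
  have u : ∀ g ∈ St G a b, g * t = t * g → g * g = 1 → g = 1 ∨ g = t := fun g hg gt g2 => by
    by_contra! e
    exact not_two r h.ord h.ne g2 e.1 e.2 gt (mem_Fx2.2 ⟨hg.1, h.st.1⟩) (mem_Fx2.2 ⟨hg.2, h.st.2⟩)
  obtain ⟨z, zR, zo, zc⟩ := H26.HK.exists_central hR.isPGroup tR (ne_of_ord h.ord)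
  obtain rfl := (u z (hR.le zR) (zc t tR).symm (sq_of_ord zo)).resolve_left (ne_of_ord zo)
  have u' : ∀ g ∈ R, g * g = 1 → g = 1 ∨ g = z := fun g hg => u g (hR.le hg) (zc g hg)
  refine ⟨R, hR, tR, zc, (k3.quat R z hR.isPGroup tR zo u').resolve_right ?_, u'⟩
  rintro ⟨ρ, κ, s, s2, -, e1, e2, e3, -, e4⟩
  have m1 : ρ ^ 2 ^ (s - 2) ∈ R := (e4 _).2 ⟨_, .inl rfl⟩
  have m2 : κ ∈ R := (e4 _).2 ⟨0, .inr (by simp)⟩
  have q : ρ ^ 2 ^ (s - 2) * ρ ^ 2 ^ (s - 2) = z := by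
    rw [← pow_two, ← pow_mul, ← pow_succ, ← e1]; congr 2; omega
  have q1 : κ * ρ ^ 2 ^ (s - 2) * κ⁻¹ = (ρ ^ 2 ^ (s - 2))⁻¹ := by rw [← conj_pow, e3, inv_pow]
  generalize ρ ^ 2 ^ (s - 2) = σ at m1 q q1
  have key : ∀ g ∈ R, Inn U {z} g → g = 1 ∨ g = z := fun g hg i =>
    h.two_st nk k3 i (zc g hg) (two_of_mem hR.isPGroup hg) (hR.le hg)
  have out : ∀ g ∈ R, g * g = z → ¬ Inn U {z} g := fun g hg e i => by
    rcases key g hg i with rfl | rfl
    · exact ne_of_ord zo (by simpa using e.symm)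
    · exact ne_of_ord zo (e.symm.trans h.t2)
  have c : κ * σ = σ * κ := by
    rcases key _ (mul_mem m2 m1) (h.mul_inn k3 h.q3 (zc _ m2) (zc _ m1) (two_of_mem hR.isPGroup m2)
      (two_of_mem hR.isPGroup m1) (out _ m2 e2) (out _ m1 q)) with e | e
    · rw [eq_inv_of_mul_eq_one_left e]; simp
    · rw [mul_left_cancel (e.trans e2.symm)]
  rw [c, mul_inv_cancel_right] at q1
  exact ne_of_ord zo (q.symm.trans (mul_eq_one_iff_eq_inv.2 q1))

theorem eta_false (c3 : C3 U) {s s' : G} (s2 : s * s = 1) (sw : Sw s a b) (ns : ¬ IsConj t s)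
    (cs : IsConj t s') (hs : ∀ w, w * t = t * w → w * w = 1 → Sw w a b →
      ∃ m ∈ St G a b, m * w * m⁻¹ = s ∨ m * w * m⁻¹ = s') : False := by
  have : Fact (Nat.Prime 2) := ⟨Nat.prime_two⟩
  have fin : Finite Ω := Nat.finite_of_card_ne_zero (by rw [H72.HKS.card_eq h.rg a]; omega)
  obtain ⟨R, hR, tR, Rt, cy, u⟩ := syl_H h k3 r nk
  have s1 : s ≠ 1 := fun e => h.ne (by rw [← sw.1, e, one_smul])
  have fpf : ∀ c : Ω, s • c ≠ c := fun c hc => by
    have p := (H72.HKS.kit1.par c3.pre).2.2 s s2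
    rw [H72.HKS.card_eq h.rg a] at p
    obtain ⟨d, e, hd, he, de⟩ := (Set.one_lt_ncard_iff (Set.toFinite (Fx Ω {s}))).1 (by
      have := (Set.ncard_pos (Set.toFinite (Fx Ω {s}))).2 ⟨c, mem_Fx.2 hc⟩
      obtain ⟨m, hm⟩ := h.rg.odd a
      unfold Nat.ModEq at p
      omega)
    obtain ⟨g, rfl, rfl⟩ := h.rg.t2.two h.ne de
    have st : g⁻¹ * s * g⁻¹⁻¹ ∈ St G a b := by
      simpa using conj_mem_St g⁻¹ (show s ∈ St G (g • a) (g • b) from ⟨mem_Fx.1 hd, mem_Fx.1 he⟩)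
    have sq : g⁻¹ * s * g⁻¹⁻¹ * (g⁻¹ * s * g⁻¹⁻¹) = 1 := by rw [cj_sq s2]; simp
    obtain ⟨m, -, hm⟩ := hR.exists_cj_le (H26.HK.two_zp sq) (zpowers_le.2 st)
    rcases u _ (hm (H98.conj_mem_cj (mem_zpowers _))) (by rw [cj_sq sq]; simp) with e | e
    · exact s1 (by simpa only [conj_eq_one_iff] using e)
    · exact ns ((isConj_of _ e).symm.trans (isConj_of g⁻¹ rfl).symm)
  obtain ⟨P, hP⟩ := hR.exists_sylow
  obtain ⟨χ, χ1, χu⟩ := exists_chi P (hP ▸ isCyclic_subgroupOf R _) (even_iff_two_dvd.2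
    (h.ord ▸ orderOf_dvd_natCard _ h.st))
  let α : St G a b →* St G a b := MonoidHom.mk'
    (fun g => ⟨s * g * s⁻¹, swap_conj_mem sw.1 sw.2 g.2⟩) fun g k => Subtype.ext (by simp [mul_assoc])
  have si : s⁻¹ = s := inv_eq_of_mul_eq_one_left s2
  have αα : ∀ g, α (α g) = g := fun g => Subtype.ext (by
    change s * (s * g * s⁻¹) * s⁻¹ = g
    rw [si, ← mul_assoc, ← mul_assoc, s2, mul_assoc, mul_assoc, s2]; simp)
  have inv : ∀ g, χ (α g) = χ g := DFunLike.congr_fun (χu (χ.comp α) fun e => χ1 (MonoidHom.ext fun g => by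
    rw [← αα g]; exact DFunLike.congr_fun e (α g)))
  let ι : ℤˣ →* ℂˣ := Units.map (Int.castRingHom ℂ)
  refine χ1 (MonoidHom.ext fun g => (Int.units_eq_one_or _).resolve_right fun e => ?_)
  have := H72.HKS.kit1.eta c3.pre s (ι.comp χ) h.ne s2 sw.1 fpf (fun g hg => by
    rw [show g = 1 from Subtype.ext (h.rg.reg h.ne.symm _ hg g.2.2), map_one]) (fun g k e => by
    rw [show k = α g from Subtype.ext (by rw [e]; change _ = s * g * s⁻¹; rw [si]),
      MonoidHom.comp_apply, inv, MonoidHom.comp_apply]) (fun k cj => ?_) g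
  · rw [MonoidHom.comp_apply, e] at this
    have := congrArg Units.val this
    norm_num [ι] at this
  obtain ⟨c1, c2, -⟩ := H72.HKS.kit1.cnt h.rg h.ne h.st h.ord (c3.fx3 h.ne ⟨h.st, h.ord⟩) rfl
  have sk2 : s * k * (s * k) = 1 := by
    obtain ⟨g, e⟩ := isConj_iff.1 cj
    rw [← e, cj_sq s2]; simp
  have swk : Sw (s * k) a b := ⟨by rw [mul_smul, show (k : G) • a = a from k.2.1, sw.1],
    by rw [mul_smul, show (k : G) • b = b from k.2.2, sw.2]⟩
  obtain ⟨t', ht', e⟩ := H84.HKS.exists_fix Nat.prime_two (H26.HK.two_zp sk2) (S := Jst t a b) (by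
    intro q hq z hz
    refine ⟨hz.1.trans (isConj_of _ rfl), ?_⟩
    rcases mem_zp2 sk2 hq with rfl | rfl
    · rw [one_mul, inv_one, mul_one]; exact hz.2
    · exact swap_conj_mem swk.1 swk.2 hz.2) (fun e => by
    have le : R ≤ St G a b ⊓ centralizer {t} := le_inf hR.le fun g hg => mem_cent.2 (Rt g hg)
    refine hR.not_dvd_relIndex (e.trans ?_)
    rw [← relIndex_mul_relIndex _ _ _ le inf_le_left]
    refine Dvd.dvd.mul_left (Dvd.intro 1 ?_) _
    refine Nat.eq_of_mul_eq_mul_right (Nat.card_pos (α := ↥(St G a b ⊓ centralizer {t}))) ?_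
    rw [mul_one, c2, H7.relIndex_mul_card inf_le_left])
  obtain ⟨m, hm, rfl⟩ := c1 t' ht'
  have e := e _ (mem_zpowers _)
  obtain ⟨m', hm', e'⟩ := hs (m⁻¹ * (s * k) * m⁻¹⁻¹) (by
    calc _ = m⁻¹ * (s * k * (m * t * m⁻¹)) * m := by group
      _ = _ := by rw [e]; group) (by rw [cj_sq sk2]; simp) ⟨by
    rw [inv_inv, mul_smul, mul_smul, show m • a = a from hm.1, swk.1, inv_smul_eq_iff, hm.2], by
    rw [inv_inv, mul_smul, mul_smul, show m • b = b from hm.2, swk.2, inv_smul_eq_iff, hm.1]⟩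
  rcases e' with e' | e'
  · have : k = α ⟨m * m'⁻¹, mul_mem hm (inv_mem hm')⟩ * (⟨m * m'⁻¹, mul_mem hm (inv_mem hm')⟩)⁻¹ := by
      refine Subtype.ext ?_
      change (k : G) = s * (m * m'⁻¹) * s⁻¹ * (m * m'⁻¹)⁻¹
      rw [si]
      nth_rw 2 [← e']
      calc (k : G) = s * (s * k) := by rw [← mul_assoc, s2, one_mul]
        _ = _ := by group
    rw [this, map_mul, map_inv, MonoidHom.comp_apply, inv, MonoidHom.comp_apply, mul_inv_cancel]
  · exact (ns (cs.trans ((isConj_of _ e').symm.trans ((isConj_of m⁻¹ rfl).symm.trans cj.symm)))).elim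

end

theorem jobPSa (k3 : Kit3.{u}) : JobPSa.{u} := by
  intro G Ω _ _ _ U a b t c3 r hab ht tl q4 sl
  have : Fact (Nat.Prime 2) := ⟨Nat.prime_two⟩
  obtain ⟨F, _, _, x, y, ld⟩ := id tl
  have h0 : Fm U a b t x y := ⟨c3.toRg, hab, ht.1, ld⟩
  have o := ht.2
  have t2 := sq_of_ord o
  have hu : ∀ v ∈ Kh Ω {t}, v * v = 1 → v = 1 ∨ v = t := fun v hv => uniq h0 r o hv
  have z1 : sl2h x y (-1) = 1 := (hu _ h0.z_Kh h0.z_sq).resolve_right fun e => sl (e ▸ h0.h_mem _)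
  have q3 : Fintype.card F % 4 = 3 := by
    by_contra q
    obtain ⟨i, hi⟩ := FiniteField.isSquare_neg_one_iff.2 q
    have i0 : i ≠ 0 := by rintro rfl; simp at hi
    have e := fx_empty h0 k3 r o (w := sl2h x y i) (by rw [ld.rel.h_mul' i0 i0, ← hi, z1]) (fun e => by
      have h2 : (2 : F) ≠ 0 := Ring.two_ne_zero fun c => by
        have := FiniteField.even_card_of_char_two c
        have := Nat.odd_iff.1 h0.odd
        omega
      rcases (H3.HK2.kit2.bas h0.rg.sr hab inf_le_left inf_le_left ld).2.2.2.2.2.2.2.2.2.2.1 i i0 e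
        with rfl | rfl
      · exact h2 (by linear_combination -hi)
      · exact h2 (by linear_combination -hi)) (fun e => sl (e ▸ h0.h_mem i)) (L_comm (h0.h_mem i))
    have : a ∈ Fx Ω {sl2h x y i, t} := mem_Fx2.2 ⟨(h0.h_st i0).1, ht.1.1⟩
    simp [e] at this
  have h : Pf U a b t x y := ⟨h0, o, q3, sl, hu⟩
  obtain ⟨w, cj, wt, hw⟩ := H72.HKS.kit1.zst c3.pre t o
  have wo : orderOf w = 2 := by
    obtain ⟨g, rfl⟩ := isConj_iff.1 cj
    rw [H26.HK.ord_conj, o]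
  have nk := jobPS1 k3 G Ω U a b t w h.rg hab ht tl (h0.card ▸ q3) sl hu cj hw
    (fx_empty h0 k3 r o (sq_of_ord wo) (ne_of_ord wo) wt hw)
  have n2 := h.n2 one_ne_zero
  have nt := L_comm (h.n_mem 1)
  have hs : ∀ w, w * t = t * w → w * w = 1 → Sw w a b →
      ∃ m ∈ St G a b, m * w * m⁻¹ = sl2n x y 1 ∨ m * w * m⁻¹ = sl2n x y 1 * t := fun w hw w2 sw =>
    h.sw_conj (inn_inv h0 k3 r o q3 w2 hw) hw w2 sw
  have hc : ∀ w, w * t = t * w → w * w = 1 → w ≠ 1 → w ≠ t →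
      IsConj w (sl2n x y 1) ∨ IsConj w (sl2n x y 1 * t) := fun w hw w2 w1 wt => by
    obtain ⟨m, -, e⟩ := h.inv_conj (inn_inv h0 k3 r o q3 w2 hw) hw w2 w1 wt
    exact e.imp (isConj_of m) (isConj_of m)
  have both : IsConj t (sl2n x y 1) ∧ IsConj t (sl2n x y 1 * t) := by
    rcases hc w hw (sq_of_ord wo) (ne_of_ord wo) wt with e | e
    · refine ⟨cj.trans e, by_contra fun n => eta_false h k3 r nk c3 ?_ ?_ n (cj.trans e)
        fun w hw w2 sw => (hs w hw w2 sw).imp fun m hm => ⟨hm.1, hm.2.symm⟩⟩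
      · rw [mul_assoc, ← mul_assoc t, ← nt, mul_assoc, t2, mul_one, n2]
      · exact ⟨by rw [mul_smul, show t • a = a from ht.1.1, (ld.sw 1 one_ne_zero).1],
          by rw [mul_smul, show t • b = b from ht.1.2, (ld.sw 1 one_ne_zero).2]⟩
    · exact ⟨by_contra fun n => eta_false h k3 r nk c3 n2 (ld.sw 1 one_ne_zero) n (cj.trans e) hs,
        cj.trans e⟩
  have all : ∀ w, w * t = t * w → orderOf w = 2 → IsConj t w := fun w hw wo => by
    by_cases wt : w = t
    · exact wt ▸ IsConj.refl _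
    · exact (hc w hw (sq_of_ord wo) (ne_of_ord wo) wt).elim (fun e => both.1.trans e.symm)
        fun e => both.2.trans e.symm
  obtain ⟨T, hT, Tt⟩ : ∃ T, H98.IsSyl 2 T ⊤ ∧ T ≤ centralizer {t} := by
    obtain ⟨T, hT, tT⟩ := H98.exists_isSyl_le (H := ⊤) (H26.HK.two_zp t2) le_top
    obtain ⟨z, zT, zo, zc⟩ := H26.HK.exists_central hT.isPGroup (tT (mem_zpowers t)) (ne_of_ord o)
    obtain ⟨g, rfl⟩ := isConj_iff.1 (all z (zc t (tT (mem_zpowers t))).symm zo)
    refine ⟨_, hT.cj_of_mem (g := g⁻¹) trivial, fun s hs => mem_cent.2 ?_⟩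
    have := zc _ (H98.mem_cj.1 hs)
    calc s * t = g⁻¹ * (g⁻¹⁻¹ * s * g⁻¹ * (g * t * g⁻¹)) * g := by group
      _ = _ := by rw [this]; group
  have oc : Odd (centralizer ({t} : Set G)).index := by
    refine Odd.of_dvd_nat ?_ (index_dvd_of_le Tt)
    rw [← relIndex_top_right]
    exact Nat.odd_iff.2 (Nat.two_dvd_ne_zero.1 hT.not_dvd_relIndex)
  have one : ∀ u, orderOf u = 2 → IsConj t u := fun u uo => by
    obtain ⟨g, -, hg⟩ := hT.exists_cj_le (H26.HK.two_zp (sq_of_ord uo)) le_top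
    exact (all _ (mem_cent.1 (Tt (hg (H98.conj_mem_cj (mem_zpowers u)))))
      ((H26.HK.ord_conj g u).trans uo)).trans (isConj_of g rfl).symm
  have inn : ∀ g, g * t = t * g → Two g → Inn U {t} g := by
    by_contra! e
    obtain ⟨g, gt, g2, ng⟩ := e
    obtain ⟨l, hl, la, lb⟩ := (H72.HKS.kit1.fx h.rg hab h.sub).2.2.2.2.2.2.2 (c3.fx3 hab ht)
      _ (smul_Fx gt h.fa) _ (smul_Fx gt h.fb) (by simpa using hab)
    have st : l⁻¹ * g ∈ St G a b := ⟨by change _ • a = a; rw [mul_smul, ← la, inv_smul_smul],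
      by change _ • b = b; rw [mul_smul, ← lb, inv_smul_smul]⟩
    have ct : l⁻¹ * g ∈ centralizer {t} := mul_mem (inv_mem (H72.HKS.lx_le hl)) (mem_cent.2 gt)
    obtain ⟨j, m, hm, e⟩ := Nat.exists_eq_two_pow_mul_odd (orderOf_pos (l⁻¹ * g)).ne'
    have v2 : Two ((l⁻¹ * g) ^ m) := ⟨j, by rw [← pow_mul, mul_comm, ← e, pow_orderOf_eq_one]⟩
    have vt := mem_cent.1 (pow_mem ct m)
    have nv : ¬ Inn U {t} ((l⁻¹ * g) ^ m) := fun i => by
      obtain ⟨d, φ, h1, -⟩ := k3.out h.rg hab h.sub ld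
      obtain ⟨j, hj⟩ := g2
      have e1 : φ ⟨g, mem_norm.2 gt⟩ = 1 := H23.HK.ringEquiv_eq_one q3 (j := j) (by
        rw [← map_pow, ← map_one φ]; exact congrArg φ (Subtype.ext hj))
      have e2 := (Int.units_eq_one_or _).resolve_left fun e' => ng ((h1 ⟨g, mem_norm.2 gt⟩).1 ⟨e', e1⟩)
      have e3 := ((h1 ⟨l, mem_norm.2 (L_comm hl)⟩).2 (inn_L hl)).1
      have e4 := ((h1 ((⟨l, mem_norm.2 (L_comm hl)⟩⁻¹ * ⟨g, mem_norm.2 gt⟩) ^ m)).2 i).1
      rw [map_pow, map_mul, map_inv, e2, e3, inv_one, one_mul, hm.neg_one_pow] at e4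
      exact absurd e4 (by decide)
    have st := pow_mem st m
    generalize (l⁻¹ * g) ^ m = v at v2 vt nv st
    have hv := h.neg_of_out q3 st vt v2 fun T => nv (inn_triv T)
    obtain ⟨S, c, d, s, y', -, -, e⟩ := h.sy nk oc st vt v2 (.inr hv) fun g gt g2 => by
      refine or_iff_not_imp_left.2 fun ng => h.mul_inn k3 q3 gt
        (mem_cent.1 (inv_mem (mem_cent.2 vt))) g2 (v2.imp fun j hj => by rw [inv_pow, hj, inv_one]) ng
        fun i => nv (by simpa using inn_inv' i)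
    exact y'.not_conj₁ k3 sl (y'.n_der₂ (e hv)) both.1
  obtain ⟨S, c, d, s, y', d1, d2, -⟩ := h.sy nk oc (one_mem _) (by simp) ⟨0, by simp⟩ (.inl rfl)
    fun g gt g2 => .inl (inn g gt g2)
  obtain rfl : s = 2 := by
    have := y'.s2
    by_contra e
    exact y'.not_conj₁ k3 sl (y'.n_der₁ (by omega)) both.1
  have cn : c = sl2n x y 1 := by simpa using y'.hn
  refine ⟨fun u v uo vo => (one u uo).symm.trans (one v vo), by rw [h0.card]; omega, fun e => ?_,
    S, ?_, ?_, y'.odd⟩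
  · obtain ⟨R, hR, tR, Rt, -, -⟩ := syl_H h k3 r nk
    have : R = zpowers t := le_antisymm (fun g hg => by
      rcases h.two_st nk k3 (inn g (Rt g hg) (two_of_mem hR.isPGroup hg)) (Rt g hg)
        (two_of_mem hR.isPGroup hg) (hR.le hg) with rfl | rfl
      exacts [one_mem _, mem_zpowers _]) (zpowers_le.2 tR)
    rw [← H7.relIndex_mul_card hR.le, this, Nat.card_zpowers, o] at e
    exact hR.not_dvd_relIndex (by rw [this]; omega)
  all_goals
    have c2 : c * c = 1 := cn ▸ n2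
    have cd : Commute d c := mul_inv_eq_iff_eq_mul.1 (y'.dc.trans (inv_eq_of_mul_eq_one_left c2))
    have eD : closure {c, d} = zpowers c ⊔ zpowers d := by
      rw [zpowers_eq_closure, zpowers_eq_closure, ← Subgroup.closure_union]; rfl
    have nd : zpowers d ≤ normalizer (zpowers c : Set G) :=
      zpowers_le.2 (nor_zp (y'.dc ▸ inv_mem (mem_zpowers c)))
    have DL : zpowers c ⊔ zpowers d ≤ LX U {t} := sup_le (zpowers_le.2 y'.cL) (zpowers_le.2 y'.dL)
  · have eS : S = (zpowers c ⊔ zpowers d) ⊔ zpowers t := le_antisymm (fun g hg => by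
      obtain ⟨l, hl, e⟩ := y'.dec g hg
      rw [eD] at hl
      rcases e with e | e | e | e <;> simp only [e, mul_one]
      exacts [mem_sup_left hl, mul_mem (mem_sup_left hl) (mem_sup_right (mem_zpowers t)),
        mem_sup_left hl, mul_mem (mem_sup_left hl) (mem_sup_right (mem_zpowers t))])
      (sup_le (sup_le (zpowers_le.2 y'.cS) (zpowers_le.2 y'.dS)) (zpowers_le.2 y'.tS))
    have dj : ∀ (K : Subgroup G) (u : G), u * u = 1 → u ∉ K → K ⊓ zpowers u = ⊥ := fun K u u2 hu =>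
      (eq_bot_iff_forall _).2 fun g hg => (mem_zp2 u2 hg.2).resolve_right fun e => hu (e ▸ hg.1)
    rw [eS, H46.card_sup_of_disjoint (zpowers_le.2 (mem_normalizer_fintype fun g hg => by
        rwa [← L_comm (DL hg), mul_inv_cancel_right])) (dj _ t t2 fun e => sl (DL e)),
      H46.card_sup_of_disjoint nd (dj _ d y'.dd y'.dn), Nat.card_zpowers, Nat.card_zpowers,
      Nat.card_zpowers, o, ord_of c2 (cn ▸ h.n1 one_ne_zero),
      ord_of y'.dd fun e => y'.dn (e ▸ one_mem _)]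
  · intro g hg
    obtain ⟨l, hl, e⟩ := y'.dec g hg
    rw [eD] at hl
    have l2 : l * l = 1 := by
      obtain ⟨p, hp, q, hq, rfl⟩ := (H7.mem_sup_iff_of_le_normalizer nd).1 hl
      rcases mem_zp2 c2 hp with rfl | rfl <;> rcases mem_zp2 y'.dd hq with rfl | rfl
      · simp
      · simpa using y'.dd
      · simpa using c2
      · rw [mul_assoc, ← mul_assoc q, cd.eq, mul_assoc, y'.dd, mul_one, c2]
    have lt : l * t * (l * t) = 1 := by
      rw [mul_assoc, ← mul_assoc t, ← L_comm (DL hl), mul_assoc, t2, mul_one, l2]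
    rcases e with e | e | e | e <;> simp only [e, mul_one] <;> assumption

end H17.HK
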