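import Cfsg.Agent.H17.HK2

/-! HKS part 3: job P3. -/

set_option autoImplicit false
set_option linter.unusedSectionVars false

namespace H17.HK

open MulAction Cfsg Subgroup H89.K H65 H7.HKS
open H23.HK (mem_sup_zp nor_zp two_of_mem isConj_of cj_sq ord_of I4)
open H26.HK (fr_symm fr_mul fr_mul_iv two_zp)

universe u

variable {G Ω : Type u} [Group G] [Finite G] [MulAction G Ω] {U : Ω → Subgroup G}
  {F : Type} [Field F] [Fintype F] {x y : F → G} {F' : Type} [Field F'] [Fintype F'] {x' y' : F' → G}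
  {a b c : Ω} {t g k l w v : G}

theorem neg_of_fr (c4 : C4 U) (h : Fm U a b t x y) (f : Fr t v a b) (e : F) :
    v * x e * v⁻¹ = x (-e) := by
  rw [inv_eq_of_mul_eq_one_left (sq_of_ord f.2.1.2), c4.neg h.ne f _ ((h.ld.rx _).2 ⟨e, rfl⟩)]
  exact inv_eq_of_mul_eq_one_right (by rw [h.ld.rel.x_add, add_neg_cancel, h.ld.rel.x_zero])

theorem n_comm (c4 : C4 U) (h : Pf U a b t x y) (f : Fr t v a b) {e : F} (he : e ≠ 0) :
    sl2n x y e * v = v * sl2n x y e :=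
  (mul_inv_eq_iff_eq_mul.1 (((h.act_neg f.2.1.1 f.2.2.2.symm (neg_of_fr c4 h.toFm f)).2.1 e he).trans
    (h.n_neg he))).symm

theorem sw_ne (hab : a ≠ b) (sw : Sw w a b) (st : v ∈ St G a b) : w ≠ v := fun e =>
  hab ((e ▸ st.1 : w • a = a).symm.trans sw.1)

theorem n_inv (c4 : C4 U) (h : Pf U a b t x y) (h' : Pf U a b v x' y') (f : Fr t v a b) {e : F}
    (he : e ≠ 0) {e' : F'} (he' : e' ≠ 0) :
    sl2n x y e * sl2h x' y' e' * (sl2n x y e)⁻¹ = sl2h x' y' e'⁻¹ := by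
  have c := n_comm c4 h f he
  obtain ⟨μ, -, -, p, -⟩ := H3.HK2.kit2.swp h.rg h.ne h'.sub h'.ld _ (mem_norm.2 c) (h.ld.sw e he)
    (fun c _ => by rw [← mul_smul, h.n2 he, one_smul])
    (I4.le2 ⟨c4, h.ne, f.2.1⟩ (h.n2 he) (mem_cent.2 c) (h.n1 he) (sw_ne h.ne (h.ld.sw e he) h'.st))
  exact p e' he'

theorem card_dvd (k3 : Kit3.{u}) (c4 : C4 U) (h : Pf U a b t x y) (h' : Pf U a b v x' y')
    (f : Fr t v a b) : Nat.card ↥(LX U {t} ⊓ St G a b) ∣ Fintype.card F' - 1 := by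
  have := (k3.sy1 h.rg h.ne h.sub h.ld).2.2.2.1
  obtain ⟨⟨τ, hτ⟩, e⟩ := IsCyclic.exists_ofOrder_eq_natCard (α := ↥(LX U {t} ⊓ St G a b))
  rw [← e, ← orderOf_coe]
  have b9 := (H3.HK2.kit2.bas h.rg.sr h.ne inf_le_left inf_le_left h.ld).2.2.2.2.2.2.2.2.1
  have b9' := (H3.HK2.kit2.bas h.rg.sr h.ne inf_le_left inf_le_left h'.ld).2.2.2.2.2.2.2.2.1
  obtain ⟨d, d0, rfl⟩ := b9 τ (h.lx ▸ hτ.1) hτ.2
  have n1 : (-1 : F) ≠ 0 := by simp
  have cv : sl2h x y d * v = v * sl2h x y d := by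
    rw [sl2h, mul_assoc, n_comm c4 h f n1, ← mul_assoc, n_comm c4 h f d0, mul_assoc]
  obtain ⟨μ, μ0, hμ⟩ := (k3.sy1 h.rg h.ne h'.sub h'.ld).2.2.2.2.2 _ hτ.2 (mem_norm.2 cv) fun l hl => by
    obtain ⟨e', he', rfl⟩ := b9' l (h'.lx ▸ hl.1) hl.2
    rw [← mul_inv_eq_iff_eq_mul]
    calc _ = sl2n x y d * (sl2n x y (-1) * sl2h x' y' e' * (sl2n x y (-1))⁻¹) * (sl2n x y d)⁻¹ := by
          rw [sl2h]; group
      _ = _ := by rw [n_inv c4 h h' f n1 he', n_inv c4 h h' f d0 (inv_ne_zero he'), inv_inv]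
  have act : ∀ (m : ℕ) (c : F'), sl2h x y d ^ m * x' c * (sl2h x y d ^ m)⁻¹ = x' (μ ^ m * c) := by
    intro m
    induction m with
    | zero => simp
    | succ m ih =>
      intro c
      rw [pow_succ' μ, mul_assoc μ, ← hμ, ← ih, pow_succ']; group
  have st := pow_mem hτ.2 (Fintype.card F' - 1)
  have hL := pow_mem hτ.1 (Fintype.card F' - 1)
  have hK : sl2h x y d ^ (Fintype.card F' - 1) ∈ Kh Ω {v} := mem_Kh.2 ⟨h'.triv_of_act st fun c => by
    rw [act, FiniteField.pow_card_sub_one_eq_one μ μ0, one_mul],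
    mem_cent.1 (pow_mem (mem_cent.2 cv) _)⟩
  refine orderOf_dvd_of_pow_eq_one (h.two_T k3 hL st ⟨1, ?_⟩)
  change (sl2h x y d ^ (Fintype.card F' - 1)) ^ 2 ^ 1 = 1
  generalize sl2h x y d ^ (Fintype.card F' - 1) = σ at st hL hK
  obtain ⟨e, e0, rfl⟩ := b9 σ (h.lx ▸ hL) st
  have := n_inv c4 h' h (fr_symm f) one_ne_zero e0
  rw [← h'.LK (h'.n_mem 1) hK, mul_inv_cancel_right] at this
  rw [pow_one, pow_two]
  nth_rw 2 [this]
  rw [h.ld.rel.h_mul' e0 (inv_ne_zero e0), mul_inv_cancel₀ e0, h.ld.rel.h_one]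

theorem card_le (k3 : Kit3.{u}) (c4 : C4 U) (h : Pf U a b t x y) (h' : Pf U a b v x' y')
    (f : Fr t v a b) : Fintype.card F ≤ Fintype.card F' := by
  have e := (k3.sy1 h.rg h.ne h.sub h.ld).2.2.1 h.z1
  have e' := (k3.sy1 h.rg h.ne h'.sub h'.ld).2.2.1 h'.z1
  have d := card_dvd k3 c4 h h' f
  rw [← e'] at d
  have := Nat.le_of_dvd Nat.card_pos
    ((Nat.coprime_two_right.2 (h.odd_T k3)).dvd_of_dvd_mul_left d)
  have := h.q3
  have := h'.q3
  omega

section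

variable (k3 : Kit3.{u}) (c4 : C4 U) (hab : a ≠ b) (m3 : Nat.card (U a) % 4 = 3)
  (ns : ∀ t, Iv t a b → ¬ SLt U t)
include c4 hab m3 ns

theorem ex_pf (ht : Iv t a b) : ∃ (F : Type) (_ : Field F) (_ : Fintype F) (x y : F → G),
    Pf U a b t x y := by
  obtain ⟨⟨F, _, _, x, y, ld⟩, e⟩ := c4.tl hab ht
  have h : Fm U a b t x y := ⟨c4.toRg, hab, ht.1, ld⟩
  exact ⟨F, inferInstance, inferInstance, x, y, h, ht.2, h.card ▸ e.trans m3, ns t ht,
    fun v hv => I4.Kinv ⟨c4, hab, ht⟩ hv⟩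

include k3

theorem card_fr (f : Fr t v a b) : Nat.card (CU U {v} a) = Nat.card (CU U {t} a) := by
  obtain ⟨F, _, _, x, y, h⟩ := ex_pf c4 hab m3 ns f.1
  obtain ⟨F', _, _, x', y', h'⟩ := ex_pf c4 hab m3 ns f.2.1
  rw [h.card, h'.card]
  exact le_antisymm (card_le k3 c4 h' h (fr_symm f)) (card_le k3 c4 h h' f)

theorem ex_central (ht : Iv t a b) : ∃ z, Iv z a b ∧ Odd (centralizer ({z} : Set G)).index := by
  have : Fact (Nat.Prime 2) := ⟨Nat.prime_two⟩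
  obtain ⟨R, hR, tR⟩ := H98.exists_isSyl_le (H := St G a b) (two_zp (sq_of_ord ht.2)) (zpowers_le.2 ht.1)
  obtain ⟨z, zR, zo, zc⟩ := H26.HK.exists_central hR.isPGroup (tR (mem_zpowers t)) (ne_of_ord ht.2)
  have hz : Iv z a b := ⟨hR.le zR, zo⟩
  obtain ⟨v, f⟩ := c4.ex hab hz
  have p := c4.prod hab f
  rw [card_fr k3 c4 hab m3 ns f, card_fr k3 c4 hab m3 ns (fr_mul f)] at p
  obtain ⟨-, c2, -, c4', -⟩ := H72.HKS.kit1.cnt c4.toRg hab hz.1 zo (c4.fx3 hab hz) rfl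
  have oj : Odd (Jst z a b).ncard := by
    have le : R ≤ St G a b ⊓ centralizer {z} := le_inf hR.le fun g hg => mem_cent.2 (zc g hg)
    refine (Nat.odd_iff.2 (Nat.two_dvd_ne_zero.1 hR.not_dvd_relIndex)).of_dvd_nat ?_
    rw [← relIndex_mul_relIndex _ _ _ le inf_le_left]
    refine Dvd.dvd.mul_left (Dvd.intro 1 ?_) _
    refine Nat.eq_of_mul_eq_mul_right (Nat.card_pos (α := ↥(St G a b ⊓ centralizer {z}))) ?_
    rw [mul_one, c2, H7.relIndex_mul_card inf_le_left]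
  have ei : {x : G | IsConj z x}.ncard = (centralizer ({z} : Set G)).index := by
    have := H72.HKS.ncard_conj_mul ⊤ z
    rw [top_inf_eq, card_top, ← (centralizer ({z} : Set G)).index_mul_card] at this
    rw [← Nat.eq_of_mul_eq_mul_right Nat.card_pos this]
    simp [isConj_iff]
  have oq := H26.HK.odd_CU c4.toRg {z} a
  refine ⟨z, hz, ?_⟩
  rw [ei, H72.HKS.card_eq c4.toRg a, p] at c4'
  generalize Nat.card (CU U {z} a) = q at c4' oq
  obtain ⟨m, rfl⟩ := oq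
  have : (centralizer ({z} : Set G)).index = (4 * m ^ 2 + 2 * m + 1) * (2 * m + 1) ^ 2 *
      (Jst z a b).ncard := Nat.eq_of_mul_eq_mul_right (m := (2 * m + 1) * (2 * m + 1 + 1))
    (by positivity) (by rw [c4']; ring)
  rw [this]
  exact (Odd.mul ⟨2 * m ^ 2 + m, by ring⟩ (Odd.pow ⟨m, rfl⟩)).mul oj

omit m3 ns in
theorem hall (h : Pf U a b t x y) (f : Fr t v a b) (g : G) (gt : g * t = t * g) (g2 : Two g) :
    Inn U {t} g ∨ Inn U {t} (g * v⁻¹) := by
  have v2 := sq_of_ord f.2.1.2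
  rw [inv_eq_of_mul_eq_one_left v2]
  exact or_iff_not_imp_left.2 fun ng => h.mul_inn k3 h.q3 gt f.2.2.2.symm g2
    ⟨1, by rw [pow_one, pow_two, v2]⟩ ng (h.out_of_neg k3 f.2.1.1 f.2.2.2.symm (neg_of_fr c4 h.toFm f))

/-- inner involutions are not conjugate to a `2`-central involution -/
theorem not_inn (f : Fr t v a b) (oc : Odd (centralizer ({t} : Set G)).index) (hw : w * t = t * w)
    (wt : w ≠ t) (i : Inn U {t} w) : ¬ IsConj t w := fun cj => by
  obtain ⟨F, _, _, x, y, h⟩ := ex_pf c4 hab m3 ns f.1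
  have wo : orderOf w = 2 := by
    obtain ⟨g, rfl⟩ := isConj_iff.1 cj
    rw [H26.HK.ord_conj, h.ord]
  have nk := jobPS1 k3 G Ω U a b t w h.rg hab f.1 h.tl (h.card ▸ h.q3) h.nsl h.hu cj hw
    (h.empty_of_inn k3 i hw (sq_of_ord wo) (ne_of_ord wo) wt)
  have v2 := sq_of_ord f.2.1.2
  have hv := neg_of_fr c4 h.toFm f
  obtain ⟨S, c, d, s, y', -, -, e⟩ := h.sy nk oc f.2.1.1 f.2.2.2.symm ⟨1, by rw [pow_one, pow_two, v2]⟩
    (.inr hv) (hall k3 c4 hab h f)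
  obtain ⟨m, -, e' | e'⟩ := h.inv_conj i hw (sq_of_ord wo) (ne_of_ord wo) wt
  · exact y'.not_conj₁ k3 h.nsl (y'.n_der₂ (e hv)) (cj.trans (isConj_of m e'))
  · exact h.not_conj₂ k3 y' v2 (e hv) (cj.trans (isConj_of m e'))

end

theorem jobP3 (k3 : Kit3.{u}) : JobP3.{u} := by
  intro G Ω _ _ _ U a b z₀ c4 hab hz₀ m3 ns
  have : Fact (Nat.Prime 2) := ⟨Nat.prime_two⟩
  obtain ⟨z, hz, oc⟩ := ex_central k3 c4 hab m3 ns hz₀
  have I : I4 U a b z := ⟨c4, hab, hz⟩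
  obtain ⟨F, _, _, x, y, h⟩ := ex_pf c4 hab m3 ns hz
  have z2 := h.t2
  have ni : ∀ w, w * z = z * w → w ≠ z → Inn U {z} w → ¬ IsConj z w := fun w => by
    obtain ⟨v, f⟩ := c4.ex hab hz
    exact not_inn k3 c4 hab m3 ns f oc
  obtain ⟨v, f, cv⟩ : ∃ v, Fr z v a b ∧ IsConj z v := by
    obtain ⟨w, cj, wt, hw⟩ := H72.HKS.kit1.zst c4.pre z hz.2
    have wo : orderOf w = 2 := by
      obtain ⟨g, rfl⟩ := isConj_iff.1 cj
      rw [H26.HK.ord_conj, hz.2]
    obtain ⟨l, hl, e⟩ := I.move ((I.dich k3 (sq_of_ord wo) (mem_cent.2 hw) (ne_of_ord wo)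
      wt).resolve_right fun e => ni w hw wt ((I.inn_iff (mem_cent.2 hw)).2 (e.2.2 m3)) cj).1
    have lz := L_comm hl
    refine ⟨_, ⟨hz, ⟨e, (H26.HK.ord_conj l w).trans wo⟩, fun e' => wt ?_,
      (mem_cent.1 (mul_mem (mul_mem (mem_cent.2 lz) (mem_cent.2 hw)) (inv_mem (mem_cent.2 lz)))).symm⟩,
      cj.trans (isConj_of l rfl)⟩
    rw [eq_mul_inv_iff_mul_eq, ← lz] at e'
    exact (mul_left_cancel e').symm
  have v2 := sq_of_ord f.2.1.2
  have vz : v * z = z * v := f.2.2.2.symm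
  have hv := neg_of_fr c4 h.toFm f
  have vo := h.out_of_neg k3 f.2.1.1 vz hv
  have vo' : v ∉ H23.HK.IK U z := fun e => vo ((I.inn_iff (mem_cent.2 vz)).2 e)
  have zvo : z * v ∉ H23.HK.IK U z := fun e =>
    vo' ((mul_mem_cancel_left (mem_sup_right self_Kh)).1 e)
  have zv2 := sq_of_ord (fr_mul_iv f).2
  have zvc : z * v ∈ centralizer {z} := mul_mem (mem_cent.2 rfl) (mem_cent.2 vz)
  have n2 := h.n2 one_ne_zero
  have nz := L_comm (h.n_mem 1)
  have nv := n_comm c4 h f one_ne_zero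
  have sw := h.ld.sw 1 one_ne_zero
  have nzv : ¬ IsConj z (z * v) := fun cj => by
    obtain ⟨F', _, _, x', y', h'⟩ := ex_pf c4 hab m3 ns f.2.1
    have ov : Odd (centralizer ({v} : Set G)).index := by
      obtain ⟨g, rfl⟩ := isConj_iff.1 cv
      have : centralizer ({g * z * g⁻¹} : Set G) = H98.cj g (centralizer {z}) := by
        ext s
        rw [H98.mem_cj, mem_cent, mem_cent]
        exact ⟨fun e => by
          calc _ = g⁻¹ * (s * (g * z * g⁻¹)) * g := by group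
            _ = _ := by rw [e]; group, fun e => by
          calc _ = g * (g⁻¹ * s * g * z) * g⁻¹ := by group
            _ = _ := by rw [e]; group⟩
      rwa [this, H98.cj, index_map_of_bijective (f := (MulAut.conj g).toMonoidHom)
        (MulAut.conj g).bijective]
    have key : ∀ w, w * w = 1 → Sw w a b → w * v = v * w → Inn U {v} w → ¬ IsConj z (w * v) :=
      fun w w2 sw wv i cj => not_inn k3 c4 hab m3 ns (fr_symm f) ov (w := w * v)
        (by rw [← mul_assoc, ← wv]) (fun e => sw_ne hab sw (one_mem _) (by simpa using e))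
        (inn_mul i (inn_triv (mem_Kh.1 self_Kh).1)) (cv.symm.trans cj)
    have sq : ∀ u, u * u = 1 → sl2n x y 1 * u = u * sl2n x y 1 →
        sl2n x y 1 * u * (sl2n x y 1 * u) = 1 := fun u u2 c => by
      rw [mul_assoc, ← mul_assoc u, ← c, mul_assoc, u2, mul_one, n2]
    rcases hall k3 c4 hab h' (fr_symm f) _ nv ⟨1, by rw [pow_one, pow_two, n2]⟩ with i | i
    · exact key _ n2 sw nv i (cv.trans (I.lc_out (mem_cent.2 vz) (h.n_mem 1) v2 (sq v v2 nv) vo'))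
    · rw [inv_eq_of_mul_eq_one_left z2] at i
      refine key _ (sq z z2 nz) ⟨by rw [mul_smul, show z • a = a from hz.1.1, sw.1],
        by rw [mul_smul, show z • b = b from hz.1.2, sw.2]⟩
        (by rw [mul_assoc, ← vz, ← mul_assoc, nv, mul_assoc]) i (cj.trans ?_)
      rw [mul_assoc]
      exact I.lc_out zvc (h.n_mem 1) zv2
        (sq _ zv2 (by rw [← mul_assoc, nz, mul_assoc, nv, mul_assoc])) zvo
  have nv' : v ∈ normalizer (zpowers z : Set G) :=
    nor_zp (by rw [vz, mul_inv_cancel_right]; exact mem_zpowers _)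
  have memP : ∀ g ∈ zpowers z ⊔ zpowers v, g = 1 ∨ g = z ∨ g = v ∨ g = z * v := fun g hg => by
    obtain ⟨p, hp, q, hq, rfl⟩ := (H7.mem_sup_iff_of_le_normalizer (zpowers_le.2 nv')).1 hg
    rcases mem_zp2 z2 hp with rfl | rfl <;> rcases mem_zp2 v2 hq with rfl | rfl <;> simp
  have zP : z ∈ zpowers z ⊔ zpowers v := mem_sup_left (mem_zpowers _)
  have vP : v ∈ zpowers z ⊔ zpowers v := mem_sup_right (mem_zpowers _)
  have nk : ∀ k ∈ Kh Ω {z}, k * k ≠ z := fun k hk e => by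
    obtain ⟨T, hT, PT⟩ := H98.exists_isSyl_le (H := St G a b ⊓ centralizer {z})
      ((two_zp z2).to_sup_of_normal_left' (two_zp v2) (zpowers_le.2 nv'))
      (sup_le (zpowers_le.2 ⟨hz.1, mem_cent.2 rfl⟩) (zpowers_le.2 ⟨f.2.1.1, mem_cent.2 vz⟩))
    rcases PT.eq_or_lt with rfl | lt
    · obtain ⟨g, hg, hg'⟩ := hT.exists_cj_le (two_of_sq z2 e) (zpowers_le.2 ⟨h.K_st hk, hk.2⟩)
      have e1 : g * k * g⁻¹ * (g * k * g⁻¹) = z := by
        rw [cj_sq e, mem_cent.1 hg.2, mul_inv_cancel_right]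
      refine ne_of_ord hz.2 (e1.symm.trans ?_)
      rcases memP _ (hg' (H98.conj_mem_cj (mem_zpowers k))) with e | e | e | e <;> rw [e]
      exacts [one_mul 1, z2, v2, zv2]
    obtain ⟨g, ⟨gT, gN⟩, gP⟩ := SetLike.exists_of_lt (H98.lt_inf_normalizer hT.isPGroup lt)
    have gz := mem_cent.1 (hT.le gT).2
    rcases memP _ (H98.conj_mem_of_mem_normalizer gN vP) with e | e | e | e
    · exact ne_of_ord f.2.1.2 (by simpa using e)
    · rw [mul_inv_eq_iff_eq_mul, ← gz] at e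
      exact f.2.2.1 (mul_left_cancel e).symm
    · rcases c4.m1 hab f m3 g (hT.le gT).1 (two_of_mem hT.isPGroup gT) gz
        (mul_inv_eq_iff_eq_mul.1 e) with rfl | rfl | rfl | rfl
      exacts [gP (one_mem _), gP zP, gP vP, gP (mul_mem zP vP)]
    · exact nzv (cv.trans (isConj_of g e))
  obtain ⟨S, c, d, s, y', -⟩ := h.sy nk oc f.2.1.1 vz ⟨1, by rw [pow_one, pow_two, v2]⟩
    (.inr hv) (hall k3 c4 hab h f)
  have hQL : closure {c, d} ≤ LX U {z} :=
    (closure_le _).2 (by rintro _ (rfl | rfl); exacts [y'.cL, y'.dL])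
  have nL := h.nL (mem_cent.1 zvc)
  have memM : ∀ g ∈ LX U {z} ⊔ zpowers (z * v), g ∈ LX U {z} ∨ ∃ l ∈ LX U {z}, g = l * (z * v) :=
    fun g hg => (mem_sup_zp nL (zv2 ▸ one_mem _) hg).imp_right fun e => ⟨_, e, by group⟩
  have zvM : z * v ∈ LX U {z} ⊔ zpowers (z * v) := mem_sup_right (mem_zpowers _)
  have nM : ∀ e : G, e * z = z * e → e * v = v * e →
      e ∈ normalizer ((LX U {z} ⊔ zpowers (z * v) : Subgroup G) : Set G) := fun e ez ev =>
    H98.le_normalizer_sup (H := zpowers e) (zpowers_le.2 (h.nL ez)) (zpowers_le.2 (nor_zp (by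
      rw [← mul_assoc, ez, mul_assoc z, ev, ← mul_assoc, mul_inv_cancel_right]
      exact mem_zpowers _))) (mem_zpowers e)
  obtain ⟨g, ⟨-, hg⟩, -⟩ := H72.HKS.kit1.tho S (S ⊓ (LX U {z} ⊔ zpowers (z * v))) z
    (H72.HKS.kit1.par c4.pre).1 y'.two y'.odd inf_le_left
    (H98.le_normalizer_inf le_normalizer fun g hg => by
      obtain ⟨l, hl, e⟩ := y'.dec g hg
      have m := le_normalizer (mem_sup_left (T := zpowers (z * v)) (hQL hl))
      rcases e with rfl | rfl | rfl | rfl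
      exacts [m, mul_mem m (nM z rfl vz.symm), mul_mem m (nM v vz rfl),
        mul_mem (mul_mem m (nM z rfl vz.symm)) (nM v vz rfl)])
    ⟨z, y'.tS, le_antisymm (sup_le inf_le_left (zpowers_le.2 y'.tS)) fun g hg => by
      obtain ⟨l, hl, e⟩ := y'.dec g hg
      have m := mem_sup_left (T := zpowers (z * v)) (hQL hl)
      have key : g * z ∈ LX U {z} ⊔ zpowers (z * v) →
          g ∈ S ⊓ (LX U {z} ⊔ zpowers (z * v)) ⊔ zpowers z := fun e =>
        (mul_mem_cancel_right (mem_sup_right (mem_zpowers z))).1 (mem_sup_left ⟨mul_mem hg y'.tS, e⟩)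
      rcases e with rfl | rfl | rfl | rfl
      · exact mem_sup_left ⟨hg, m⟩
      · exact key (by rwa [mul_assoc, z2, mul_one])
      · exact key (by rw [mul_assoc, vz]; exact mul_mem m zvM)
      · exact mem_sup_left ⟨hg, by rw [mul_assoc]; exact mul_mem m zvM⟩⟩ z2 y'.tS (fun e => by
      rcases memM z e.2 with e | ⟨l, hl, e⟩
      · exact h.nsl e
      · exact zvo ((mul_mem_cancel_left (mem_sup_left hl)).1 (e ▸ mem_sup_right self_Kh)))
  rcases memM _ hg with e | ⟨l, hl, e⟩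
  · exact ni _ (L_comm e) (fun e' => h.nsl (by rwa [e'] at e)) (inn_L e) (isConj_of g rfl)
  · exact nzv ((isConj_of g e).trans (I.lc_out zvc hl zv2 (by rw [← e, cj_sq z2]; simp) zvo).symm)

end H17.HK
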