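import Cfsg.Agent.H16.HN3Spec

/-! HN3: `JobM`. -/

set_option autoImplicit false
set_option linter.unusedSectionVars false

namespace H17.HN3M
open Cfsg Subgroup H98 H42.L3 H16.HN3
open scoped commutatorElement

universe u

attribute [local instance high] List.decidableBAll List.decidableBEx

abbrev T := ZMod 4 × ZMod 4 × ZMod 4

def ap (c : T × T × T) (v : T) : T := v.1.val • c.1 + v.2.1.val • c.2.1 + v.2.2.val • c.2.2

def Fv (v : T) : A := s ^ v.1.val * x1 ^ v.2.1.val * x2 ^ v.2.2.val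

def Θ : T × T × T := ((0, 1, 0), (0, 0, 1), (1, 3, 2))

def bs : List T := [(1, 0, 0), (0, 1, 0), (0, 0, 1)]

theorem F_ex : ∀ f ∈ lF, ∃ v ∈ ([(0, 0, 0), (1, 0, 0), (0, 1, 0), (1, 1, 0), (0, 0, 1), (1, 0, 1),
    (0, 1, 1), (1, 1, 1)] : List T), f = Fv v := by decide +kernel

theorem F_ker : ∀ v : T, Fv v = 1 ∨ Fv v = t → v + v = 0 := by decide +kernel

theorem half : ∀ v : T, v + v = 0 → ∃ u, v = u + u := by decide +kernel

theorem F_nor : ∀ a ∈ [th, r', c'], a * t = t * a ∧ a * c = c * a ∧ ∀ f ∈ lF, a * f * a⁻¹ ∈ lF := by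
  decide +kernel

theorem th7 : ∀ c : T, c + c = (2, 2, 0) → (let M := ap ((0, 1, 0), (0, 0, 1), c)
    M (M (M (M (M (M (M (1, 0, 0))))))) = (1, 0, 0)) → c = (1, 3, 2) := by decide +kernel

/-- the conditions on the exponent vectors -/
def Good (M : T → T) (P Q R : T) : Prop :=
  let C : T → T := fun v => M (ap Θ (M (ap Θ (M (ap Θ (ap Θ v))))))
  P + P = (2, 0, 0) ∧ Q + Q = (0, 0, 2) ∧ R + R = (0, 2, 2) ∧ C P = P ∧ C Q + Q = 0 ∧
    C R = 3 • P + 2 • Q + 3 • R ∧ M P + P = 0 ∧ M Q = R ∧ M R = Q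

instance (M : T → T) (P Q R : T) : Decidable (Good M P Q R) := by unfold Good; infer_instance

theorem sols : ∀ c0 : T, c0 + c0 = (2, 0, 0) → ∀ c1 : T, c1 + c1 = (0, 2, 0) →
    ∀ c2 : T, c2 + c2 = (0, 2, 2) → (∀ v ∈ bs, ap (c0, c1, c2) (ap (c0, c1, c2) v) = v) →
    (∀ v ∈ bs, let N : T → T := fun v => ap (c0, c1, c2) (ap Θ (ap Θ v)); N (N (N v)) = v) →
    ∃ x ∈ ([((1, 0, 2), (0, 2, 3), (0, 3, 1)), ((1, 2, 2), (0, 0, 3), (0, 1, 3)),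
      ((1, 0, 0), (0, 0, 1), (2, 3, 3)), ((1, 2, 0), (0, 2, 1), (2, 1, 1))] : List (T × T × T)),
      Good (ap (c0, c1, c2)) x.1 x.2.1 x.2.2 ∧ ∀ v, ∃ u, v = ap x u := by decide +kernel

theorem per : ∀ v : T, ∃ u, ap Θ u = v + u := by decide +kernel

theorem rel : th * th * th * th * th * th * th = 1 ∧ r' * r' = 1 ∧
    r' * (th * th) * (r' * (th * th)) * (r' * (th * th)) = 1 ∧
    c' = r' * (th * (r' * (th * (r' * (th * th))))) := by decide +kernel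

theorem tt : t * t = 1 ∧ c * c = 1 ∧ c * t = t * c ∧ s ≠ 1 ∧ 1 ∈ lF ∧ s ∈ lF ∧ t ∈ lV ∧ c ∈ lV ∧
    (∀ f ∈ lF, f * f = 1) ∧ th * s * th⁻¹ = x1 ∧ th * x1 * th⁻¹ = x2 ∧
    (∀ w ∈ lV, w = 1 ∨ w = t ∨ w = c ∨ w = t * c) ∧
    ∀ a ∈ [th, r', c'], a ∈ [e1, p, r', th, t', c', x1, x2] := by
  refine ⟨?_, ?_, ?_, ?_, ?_, ?_, ?_, ?_, ?_, ?_, ?_, ?_, ?_⟩ <;> decide +kernel

variable {G : Type*} [Group G] {ψ : A →* G} {n g h g' h' a : G}

/-- congruence modulo `t` -/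
def E (ψ : A →* G) (g h : G) : Prop := g * h⁻¹ ∈ zpowers (ψ t)

theorem E.refl (g : G) : E ψ g g := by simp [E]

theorem E.symm (e : E ψ g h) : E ψ h g := by simpa [E] using inv_mem e

theorem E.trans (e : E ψ g h) (e' : E ψ h g') : E ψ g g' := by simpa [E, mul_assoc] using mul_mem e e'

theorem conj_Z (ha : Commute a (ψ t)) (e : g ∈ zpowers (ψ t)) : a * g * a⁻¹ = g := by
  obtain ⟨k, rfl⟩ := e
  exact mul_inv_eq_of_eq_mul (ha.zpow_right k).eq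

theorem E.conj (e : E ψ g h) (ha : Commute a (ψ t)) : E ψ (a * g * a⁻¹) (a * h * a⁻¹) := by
  rw [E, show a * g * a⁻¹ * (a * h * a⁻¹)⁻¹ = a * (g * h⁻¹) * a⁻¹ by group, conj_Z ha e]; exact e

theorem E.mul (e : E ψ g h) (e' : E ψ g' h') (hg : Commute g (ψ t)) : E ψ (g * g') (h * h') := by
  rw [E, show g * g' * (h * h')⁻¹ = g * (g' * h'⁻¹) * g⁻¹ * (g * h⁻¹) by group, conj_Z hg e']
  exact mul_mem e' e

theorem E.pow (e : E ψ g h) (hg : Commute g (ψ t)) (k : ℕ) : E ψ (g ^ k) (h ^ k) := by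
  induction k with
  | zero => simp [E]
  | succ k ih => rw [pow_succ, pow_succ]; exact ih.mul e (hg.pow_left k)

theorem ψtt : ψ t * ψ t = 1 := by rw [← map_mul, tt.1, map_one]

theorem E.sq (e : E ψ g h) (hh : Commute h (ψ t)) : g * g = h * h := by
  rcases (mem_zp ψtt).1 e with r | r <;> rw [eq_mul_of_mul_inv_eq r]
  · rw [one_mul]
  · rw [mul_assoc, ← mul_assoc h, hh.eq, mul_assoc, ← mul_assoc, ψtt, one_mul]

theorem CF.comm (hg : CF ψ g) : ∀ f ∈ lF, Commute g (ψ f) := fun f hf => by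
  obtain ⟨v, -, rfl⟩ := F_ex f hf
  simp only [Fv, map_mul, map_pow]
  exact ((hg.1.pow_right _).mul_right (hg.2.1.pow_right _)).mul_right (hg.2.2.pow_right _)

variable (inj : Function.Injective ψ) (hC : Cf ψ n) (hA : Ab ψ)
include inj hC hA

theorem ex_d : ∃ d, InA ψ d ∧ d * d = ψ s := by
  obtain ⟨g, a, b, e⟩ := hC.real 1 tt.2.2.2.2.1 s tt.2.2.2.2.2.1
  rcases hA.alt g a (commutatorElement_eq_one_iff_commute.1 (b.trans (map_one ψ))) with r | r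
  · exact ⟨g, r, r.2.2.1.trans e⟩
  · exact ⟨_, r, r.2.2.1.trans (e ▸ by simp [commutatorElement_def, mul_assoc])⟩

theorem sq1 (hg : C1 ψ g) (h1 : Commute g (ψ t)) (h2 : Commute g (ψ c))
    (h3 : ∀ d, InA ψ d → Commute d g) : ∃ f ∈ lF, g = ψ f ∨ g = ψ (t * f) := by
  obtain ⟨w, hw, f, hf, rfl⟩ := hC.ker g hg.1 h1 h2
  obtain ⟨d, hd, e⟩ := ex_d inj hC hA
  have k : ¬ Commute d (ψ c) := fun r => tt.2.2.2.1 (inj (by
    rw [← e, hd.2.2.1, map_one]; exact commutatorElement_eq_one_iff_commute.2 r))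
  have k1 : Commute d (ψ w) := by
    simpa using (h3 d hd).mul_right (CF.comm hd.1.1 f hf).inv_right
  rcases tt.2.2.2.2.2.2.2.2.2.2.2.1 w hw with rfl | rfl | rfl | rfl
  · exact ⟨f, hf, .inl (by rw [one_mul])⟩
  · exact ⟨f, hf, .inr rfl⟩
  · exact (k k1).elim
  · exact (k (by simpa using hd.2.1.inv_right.mul_right k1)).elim

/-- the group `A` -/
def AA : Subgroup G where
  carrier := {g | InA ψ g}
  one_mem' := by
    obtain ⟨d, hd, -⟩ := ex_d inj hC hA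
    exact ⟨by simpa using hC.mul _ _ hd.1 (hC.inv _ hd.1), Commute.one_left _, by simp,
      fun _ => ⟨1, tt.2.2.2.2.1, .inl (map_one ψ).symm⟩⟩
  mul_mem' := fun {g h} hg hh => by
    have e : g * h * (g * h) = ⁅g * h, ψ c⁆ := by
      rw [hC.hom g h hg.1 hh.1 c tt.2.2.2.2.2.2.2.1, ← hg.2.2.1, ← hh.2.2.1,
        (hA.ab h g hh hg).mul_mul_mul_comm]
    exact ⟨hC.mul g h hg.1 hh.1, hg.2.1.mul_left hh.2.1, e, fun r =>
      sq1 inj hC hA (hC.mul g h hg.1 hh.1) (hg.2.1.mul_left hh.2.1)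
        (commutatorElement_eq_one_iff_commute.1 (e.symm.trans r))
        fun d hd => (hA.ab d g hd hg).mul_right (hA.ab d h hd hh)⟩
  inv_mem' := fun {g} hg => by
    have e : g⁻¹ * g⁻¹ = ⁅g⁻¹, ψ c⁆ := by
      have := hC.hom g g⁻¹ hg.1 (hC.inv g hg.1) c tt.2.2.2.2.2.2.2.1
      rw [mul_inv_cancel, commutatorElement_one_left, ← hg.2.2.1] at this
      rw [← mul_inv_rev, inv_eq_of_mul_eq_one_right this.symm]
    exact ⟨hC.inv g hg.1, hg.2.1.inv_left, e, fun r =>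
      sq1 inj hC hA (hC.inv g hg.1) hg.2.1.inv_left
        (commutatorElement_eq_one_iff_commute.1 (e.symm.trans r))
        fun d hd => (hA.ab d g hd hg).inv_right⟩

omit inj hA in
theorem nor {a : A} (ha : a ∈ [th, r', c']) (hg : InA ψ g) : InA ψ (ψ a * g * (ψ a)⁻¹) := by
  obtain ⟨h1, h2, h3⟩ := F_nor a ha
  have c1 : Commute (ψ a) (ψ t) := Commute.map h1 ψ
  have c2 : ψ a * ψ c * (ψ a)⁻¹ = ψ c := mul_inv_eq_of_eq_mul (Commute.map h2 ψ).eq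
  refine ⟨hC.nor a (tt.2.2.2.2.2.2.2.2.2.2.2.2 a ha) g hg.1,
    (c1.mul_left hg.2.1).mul_left c1.inv_left, ?_, fun r => ?_⟩
  · rw [conj_mul, hg.2.2.1, conjugate_commutatorElement, c2]
  · rw [conj_mul, mul_inv_eq_one, mul_eq_left] at r
    obtain ⟨f, hf, rfl | rfl⟩ := hg.2.2.2 r
    · exact ⟨_, h3 f hf, .inl (by simp)⟩
    · exact ⟨_, h3 f hf, .inr (by simp [← mul_assoc, c1.eq])⟩

omit inj hC hA in
theorem pow4 (hg : InA ψ g) (i j : ZMod 4) : g ^ (i + j).val = g ^ i.val * g ^ j.val := by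
  obtain ⟨f, hf, e⟩ := hg.1.2.2
  have : g ^ 4 = 1 := by
    rw [show 4 = 2 * 2 from rfl, pow_mul, pow_two g, hg.2.2.1, e, pow_two, ← map_mul,
      tt.2.2.2.2.2.2.2.2.1 f hf, map_one]
  rw [← pow_add, ZMod.val_add, ← pow_eq_pow_mod _ this]

omit inj hC hA

/-- generators of `A` modulo `t` -/
structure Gen (ψ : A →* G) (d₀ d₁ d₂ : G) : Prop where
  a0 : InA ψ d₀
  a1 : InA ψ d₁
  a2 : InA ψ d₂
  s0 : d₀ * d₀ = ψ s
  s1 : d₁ * d₁ = ψ x1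
  s2 : d₂ * d₂ = ψ x2

/-- coordinates -/
def w (d₀ d₁ d₂ : G) (v : T) : G := d₀ ^ v.1.val * d₁ ^ v.2.1.val * d₂ ^ v.2.2.val

variable {d₀ d₁ d₂ : G} (D : Gen ψ d₀ d₁ d₂) {u v : T} {M N : T → T} {b b' : A}

local notation "W" => w d₀ d₁ d₂

theorem w_zero : W 0 = 1 := by simp [w]

include inj hC hA D

theorem w_mem (v : T) : InA ψ (W v) := by
  show _ ∈ AA inj hC hA
  exact mul_mem (mul_mem (pow_mem D.a0 _) (pow_mem D.a1 _)) (pow_mem D.a2 _)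

omit inj hC in
theorem w_add (u v : T) : W (u + v) = W u * W v := by
  have c1 := hA.ab _ _ D.a0 D.a1
  have c2 := hA.ab _ _ D.a0 D.a2
  have c3 := hA.ab _ _ D.a1 D.a2
  simp only [w, Prod.fst_add, Prod.snd_add, pow4 D.a0, pow4 D.a1, pow4 D.a2]
  rw [(c1.pow_pow _ _).mul_mul_mul_comm,
    (((c2.pow_pow _ _).mul_left (c3.pow_pow _ _))).mul_mul_mul_comm]

omit inj hC in
theorem w_nsmul (k : ℕ) (v : T) : W (k • v) = W v ^ k := by
  induction k with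
  | zero => rw [zero_smul, w_zero, pow_zero]
  | succ k ih => rw [succ_nsmul, w_add hA D, ih, pow_succ]

omit inj hC in
theorem w_sq (v : T) : W (v + v) = ψ (Fv v) := by
  simp only [w, Prod.fst_add, Prod.snd_add, pow4 D.a0, pow4 D.a1, pow4 D.a2, Fv, map_mul, map_pow,
    ← D.s0, ← D.s1, ← D.s2, (Commute.refl _).mul_pow]

omit hC in
theorem w_ker (e : W v ∈ zpowers (ψ t)) : v = 0 := by
  have h1 : W (v + v) = 1 := by
    rw [w_add hA D]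
    rcases (mem_zp ψtt).1 e with r | r <;> rw [r]
    exacts [one_mul 1, ψtt]
  rw [w_sq hA D, ← map_one ψ] at h1
  obtain ⟨u, rfl⟩ := half v (F_ker v (.inl (inj h1)))
  rw [w_sq hA D] at e
  exact F_ker u (((mem_zp ψtt).1 e).imp (fun r => inj (r.trans (map_one ψ).symm)) fun r => inj r)

omit hC in
theorem w_inj (e : E ψ (W u) (W v)) : u = v := sub_eq_zero.1 (w_ker inj hA D (by
  rwa [E, ← sub_add_cancel u v, w_add hA D, mul_inv_cancel_right] at e))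

theorem w_surj (hg : InA ψ g) : ∃ v, E ψ g (W v) := by
  obtain ⟨f, hf, e⟩ := hg.1.2.2
  obtain ⟨v, -, rfl⟩ := F_ex f hf
  have m := w_mem inj hC hA D v
  have m' : InA ψ (g * (W v)⁻¹) := (AA inj hC hA).mul_mem hg ((AA inj hC hA).inv_mem m)
  obtain ⟨f', hf', r⟩ := m'.2.2.2 (by
    rw [(hA.ab _ _ m hg).inv_left.mul_mul_mul_comm, hg.2.2.1, e, ← mul_inv_rev, ← w_add hA D,
      w_sq hA D, mul_inv_cancel])
  obtain ⟨u, -, rfl⟩ := F_ex f' hf'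
  refine ⟨u + u + v, ?_⟩
  rw [E, w_add hA D, mul_inv_rev, ← mul_assoc, w_sq hA D]
  rcases r with r | r <;> rw [r] <;> simp

omit inj hC hA D

/-- `b` acts by `M` modulo `t` -/
def Act (ψ : A →* G) (d₀ d₁ d₂ : G) (b : A) (M : T → T) : Prop :=
  Commute (ψ b) (ψ t) ∧ ∀ v, E ψ (ψ b * w d₀ d₁ d₂ v * (ψ b)⁻¹) (w d₀ d₁ d₂ (M v))

theorem Act.mul (h : Act ψ d₀ d₁ d₂ b M) (h' : Act ψ d₀ d₁ d₂ b' N) :
    Act ψ d₀ d₁ d₂ (b * b') fun v => M (N v) :=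
  ⟨map_mul ψ b b' ▸ h.1.mul_left h'.1, fun v => by
    have := ((h'.2 v).conj h.1).trans (h.2 _)
    simpa [mul_assoc] using this⟩

include inj hA D in
theorem Act.eq (h : Act ψ d₀ d₁ d₂ b M) (e : b = 1) (v : T) : M v = v :=
  (w_inj inj hA D (by simpa [e] using h.2 v)).symm

include hC hA D in
theorem act_of (hb : b ∈ [th, r', c']) {x : T × T × T} (h0 : E ψ (ψ b * d₀ * (ψ b)⁻¹) (W x.1))
    (h1 : E ψ (ψ b * d₁ * (ψ b)⁻¹) (W x.2.1)) (h2 : E ψ (ψ b * d₂ * (ψ b)⁻¹) (W x.2.2)) :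
    Act ψ d₀ d₁ d₂ b (ap x) := by
  refine ⟨Commute.map (F_nor b hb).1 ψ, fun v => ?_⟩
  have t0 := (nor hC hb D.a0).2.1
  have t1 := (nor hC hb D.a1).2.1
  have t2 := (nor hC hb D.a2).2.1
  have := ((h0.pow t0 v.1.val).mul (h1.pow t1 v.2.1.val) (t0.pow_left _)).mul (h2.pow t2 v.2.2.val)
    ((t0.pow_left _).mul_left (t1.pow_left _))
  rw [ap, w_add hA D, w_add hA D, w_nsmul hA D, w_nsmul hA D, w_nsmul hA D]
  simp only [conj_pow, conj_mul] at this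
  exact this

include inj hC hA D in
theorem col (hb : b ∈ [th, r', c']) (hg : InA ψ g) {f : A} (e : g * g = ψ f) (u : T)
    (hu : b * f * b⁻¹ = Fv u) : ∃ v, v + v = u + u ∧ E ψ (ψ b * g * (ψ b)⁻¹) (W v) := by
  obtain ⟨v, hv⟩ := w_surj inj hC hA D (nor hC hb hg)
  refine ⟨v, w_inj inj hA D ?_, hv⟩
  rw [w_sq hA D u, w_add hA D, ← hv.sq (w_mem inj hC hA D v).2.1, conj_mul, e, ← hu]
  simp [E]

theorem jobM : JobM.{u} := by
  intro G _ _ ψ n inj hC hA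
  obtain ⟨d, hd, e⟩ := ex_d inj hC hA
  have mθ : th ∈ [th, r', c'] := by simp
  have mr : r' ∈ [th, r', c'] := by simp
  obtain ⟨d₁, e1⟩ : ∃ x, x = ψ th * d * (ψ th)⁻¹ := ⟨_, rfl⟩
  obtain ⟨d₂, e2⟩ : ∃ x, x = ψ th * d₁ * (ψ th)⁻¹ := ⟨_, rfl⟩
  have s1 : d₁ * d₁ = ψ x1 := by rw [e1, conj_mul, e, ← tt.2.2.2.2.2.2.2.2.2.1]; simp
  have D : Gen ψ d d₁ d₂ := ⟨hd, e1 ▸ nor hC mθ hd, e2 ▸ nor hC mθ (e1 ▸ nor hC mθ hd), e, s1,
    by rw [e2, conj_mul, s1, ← tt.2.2.2.2.2.2.2.2.2.2.1]; simp⟩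
  obtain ⟨c2, k1, k2⟩ := col inj hC hA D mθ D.a2 D.s2 (1, 1, 0) (by decide +kernel)
  have v1 : (1 : ZMod 4).val = 1 := rfl
  have aθ := act_of hC hA D mθ (x := ((0, 1, 0), (0, 0, 1), c2))
    (by rw [← e1]; simp [w, E, v1]) (by rw [← e2]; simp [w, E, v1]) k2
  have h7 := Act.eq inj hA D ((((((aθ.mul aθ).mul aθ).mul aθ).mul aθ).mul aθ).mul aθ) rel.1 (1, 0, 0)
  have h8 := th7 c2 k1 h7
  subst h8
  obtain ⟨m0, a0, b0⟩ := col inj hC hA D mr D.a0 D.s0 (1, 0, 0) (by decide +kernel)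
  obtain ⟨m1, a1, b1⟩ := col inj hC hA D mr D.a1 D.s1 (0, 1, 0) (by decide +kernel)
  obtain ⟨m2, a2, b2⟩ := col inj hC hA D mr D.a2 D.s2 (0, 1, 1) (by decide +kernel)
  have ar := act_of hC hA D mr (x := (m0, m1, m2)) b0 b1 b2
  have an := ar.mul (aθ.mul aθ)
  have ac := rel.2.2.2 ▸ ar.mul (aθ.mul (ar.mul (aθ.mul an)))
  obtain ⟨⟨P, Q, R⟩, -, ⟨g1, g2, g3, g4, g5, g6, g7, g8, g9⟩, sp⟩ := sols m0 a0 m1 a1 m2 a2
    (fun v _ => Act.eq inj hA D (ar.mul ar) rel.2.1 v)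
    fun v _ => Act.eq inj hA D ((an.mul an).mul an) rel.2.2.1 v
  have m := w_mem inj hC hA D
  have sq : ∀ v u : T, v + v = u + u → w d d₁ d₂ v * w d d₁ d₂ v = ψ (Fv u) := fun v u r => by
    rw [← w_add hA D, r, w_sq hA D]
  have ng : ∀ {g} {v u : T}, E ψ g (w d d₁ d₂ u) → u + v = 0 → g * w d d₁ d₂ v ∈ zpowers (ψ t) :=
    fun {g v u} a b => by
      rwa [E, inv_eq_of_mul_eq_one_right ((w_add hA D u v).symm.trans (b ▸ w_zero))] at a
  have cg : ∀ {g} {v u : T}, E ψ g (w d d₁ d₂ u) → u = v → E ψ g (w d d₁ d₂ v) :=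
    fun a b => b ▸ a
  refine ⟨w d d₁ d₂ P, w d d₁ d₂ Q, w d d₁ d₂ R, m P, m Q, m R, hA.ab _ _ (m _) (m _),
    hA.ab _ _ (m _) (m _), hA.ab _ _ (m _) (m _),
    (sq P (1, 0, 0) g1).trans (congrArg ψ (by decide +kernel)),
    (sq Q (0, 0, 1) g2).trans (congrArg ψ (by decide +kernel)),
    (sq R (0, 1, 1) g3).trans (congrArg ψ (by decide +kernel)),
    ?_, ng (ac.2 Q) g5, ?_, ng (ar.2 P) g7, ?_, ?_, fun g hg ht => ?_, fun g hg => ?_⟩
  · exact cg (ac.2 P) g4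
  · rw [← w_nsmul hA D, ← w_nsmul hA D, ← w_nsmul hA D, ← w_add hA D, ← w_add hA D]
    exact cg (ac.2 R) g6
  · exact cg (ar.2 Q) g8
  · exact cg (ar.2 R) g9
  · have key : ∀ g, InA ψ g → ∃ i j k : ℕ, ∃ y, (y = 1 ∨ y = t) ∧
        g = w d d₁ d₂ P ^ i * w d d₁ d₂ Q ^ j * w d d₁ d₂ R ^ k * ψ y := fun g hg => by
      obtain ⟨v, hv⟩ := w_surj inj hC hA D hg
      obtain ⟨u, rfl⟩ := sp v
      refine ⟨u.1.val, u.2.1.val, u.2.2.val, ?_⟩
      rw [← w_nsmul hA D, ← w_nsmul hA D, ← w_nsmul hA D, ← w_add hA D, ← w_add hA D]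
      rcases (mem_zp ψtt).1 hv with r | r
      · exact ⟨1, .inl rfl, by rw [map_one, mul_one]; exact mul_inv_eq_one.1 r⟩
      · exact ⟨t, .inr rfl, (eq_mul_of_mul_inv_eq r).trans (m _).2.1.eq.symm⟩
    rcases hA.alt g hg ht with r | r <;> obtain ⟨i, j, k, y, hy, e⟩ := key _ r
    · exact ⟨i, j, k, y, by rcases hy with rfl | rfl <;> simp [lV], e⟩
    · refine ⟨i, j, k, y * c, by rcases hy with rfl | rfl <;> simp [lV], ?_⟩
      rw [map_mul, ← mul_assoc, ← e, mul_assoc, ← map_mul, tt.2.1, map_one, mul_one]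
  · obtain ⟨v, rfl⟩ : ∃ v, g = w d d₁ d₂ v := by
      simp only [List.mem_cons, List.not_mem_nil, or_false] at hg
      rcases hg with rfl | rfl | rfl <;> exact ⟨_, rfl⟩
    obtain ⟨u, hu⟩ := per v
    refine ⟨_, m u, ?_⟩
    have := (cg (aθ.2 u) hu).conj (m v).2.1.inv_left
    rw [w_add hA D, E] at this
    convert this using 1
    simp only [commutatorElement_def]
    group

end H17.HN3M
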