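import Cfsg.Agent.H41.ItSpec
import Cfsg.Agent.H85.U3Syl

/-! Tower IT (S3193): the slot ZU. -/

set_option autoImplicit false

namespace H17.ItZU
open Subgroup H41.IT

/-- If the involutions of the Sylow `2`-subgroups are central in them, all involutions are
`2`-central. -/
theorem allZ_of {G : Type*} [Group G] [Finite G]
    (h : ∀ (P : Sylow 2 G) (t : P), t * t = 1 → t ∈ center P) : AllZ G := by
  intro t ht
  have h1 : IsPGroup 2 (zpowers t) := IsPGroup.of_card (n := 1) (by rw [Nat.card_zpowers, ht, pow_one])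
  obtain ⟨P, hP⟩ := h1.exists_le_sylow
  have h2 : (P : Subgroup G) ≤ C t := fun g hg => mem_centralizer_singleton_iff.2
    (congrArg Subtype.val (mem_center_iff.1 (h P ⟨t, hP (mem_zpowers t)⟩ (Subtype.ext (by
      change t * t = 1
      rw [← pow_two, ← ht, pow_orderOf_eq_one]))) ⟨g, hg⟩))
  rw [← Nat.not_even_iff_odd, even_iff_two_dvd]
  exact fun k => P.not_dvd_index (k.trans (index_dvd_of_le h2))

theorem jobZU : JobZU := by
  intro F _ _ n hn hF
  have := H85.charP_two_of_card (F := F) (by
    rw [hF, ← pow_mul]; exact (Nat.even_pow.2 ⟨even_two, by omega⟩))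
  refine allZ_of fun P t ht => ?_
  obtain ⟨e⟩ := H85.nonempty_equiv_sylow_PSU hF 2 P
  have k : e t ∈ center (H85.UQ hF) := (H85.UQ.mem_center_iff _).2
    ((H85.UQ.mul_self_eq_one_iff _).1 (by rw [← map_mul, ht, map_one]))
  exact mem_center_iff.2 fun g => e.injective (by
    rw [map_mul, map_mul]; exact mem_center_iff.1 k (e g))

end H17.ItZU
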