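import Cfsg.Agent.H8.JSKit

/-! Tower JS, job CL: classes of involutions in the normalizer of `2^{1+6}_-`. -/

set_option autoImplicit false
set_option linter.unusedSectionVars false

namespace H17.JS

open Cfsg Subgroup H98 H1.Gold H8.JS
open H4.M2 (X g y p q r s t z a h)

universe u

abbrev fy : Fin 128 → Fin 128 := lin 1 2 8 76 16 32
abbrev fa : Fin 128 → Fin 128 := lin 1 11 69 72 16 32
abbrev fh : Fin 128 → Fin 128 := lin 2 1 68 12 16 32
abbrev fe : Fin 128 → Fin 128 := lin 1 2 4 8 48 96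
abbrev fv : Fin 128 → Fin 128 := lin 1 35 4 8 81 32
abbrev fx : Fin 128 → Fin 128 := lin 1 18 4 8 16 97
abbrev fd : Fin 128 → Fin 128 := lin 1 123 53 72 41 25

theorem fd_eq : ∀ c, fh (fv (fx (fh (fa (fh (fv (fx (fh c)))))))) = fd c := by decide +kernel

variable {G : Type u} [Group G] [Finite G] {j : X →* G} {e : G} {O : Subgroup G} {v x : G}

theorem q0 : qq j v x 0 = 1 := by simp [qq, bt]
theorem q1 : qq j v x 1 = j p := by simp [qq, bt]
theorem q16 : qq j v x 16 = x := by simp [qq, bt]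
theorem q32 : qq j v x 32 = v := by simp [qq, bt]
theorem q64 : qq j v x 64 = j z := by simp [qq, bt]
theorem q80 : qq j v x 80 = x * j z := by simp [qq, bt]

theorem Act.mul {n m : G} {f f' : Fin 128 → Fin 128} (h1 : Act j v x n f) (h2 : Act j v x m f') :
    Act j v x (n * m) (f ∘ f') := fun c => by
  rw [Function.comp, ← h1, ← h2]
  group

/-- `b₀ u` is conjugate to `w` in the normalizer. -/
def Rc (j : X →* G) (v x b w : G) (c : Fin 128) : Prop :=
  ∃ n ∈ nor (QQ j v x), n * (b * qq j v x c) * n⁻¹ = w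

theorem Rc.zero {b : G} : Rc j v x b b 0 := ⟨1, one_mem _, by simp [q0]⟩

section

variable (D : QD j e v x)
include D

theorem qN (c : Fin 128) : qq j v x c ∈ nor (QQ j v x) := le_normalizer ((D.mem _).2 ⟨c, rfl⟩)

theorem trQ (c : Fin 128) : Tr (QQ j v x) (j z) (qq j v x c) := fun u hu => by
  obtain ⟨d, rfl⟩ := (D.mem u).1 hu
  rw [mul_inv_eq_iff_eq_mul, mul_inv_eq_iff_eq_mul, ← q64 (j := j) (v := v) (x := x), D.mul, D.mul,
    D.mul, D.mul]
  exact ((by decide +kernel : ∀ c d, qm c d = qm d c ∨ qm c d = qm (qm d 64) c) c d).imp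
    (congrArg _) (congrArg _)

theorem sq_code {b : G} {f : Fin 128 → Fin 128} (hb : b * b = 1) (hf : Act j v x b f) (c : Fin 128) :
    b * qq j v x c * (b * qq j v x c) = qq j v x (qm (f c) c) := by
  rw [← D.mul, ← hf, inv_eq_of_mul_eq_one_right hb]
  group

theorem stepQ {b w : G} {f : Fin 128 → Fin 128} (hb : b * b = 1) (hf : Act j v x b f)
    {c c' d : Fin 128} (h1 : Rc j v x b w c') (h2 : qm (f d) c = qm c' d) : Rc j v x b w c := by
  obtain ⟨n, hn, rfl⟩ := h1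
  refine ⟨n * qq j v x d, mul_mem hn (qN D d), ?_⟩
  have e1 : qq j v x d * b = b * qq j v x (f d) := by
    rw [← hf, inv_eq_of_mul_eq_one_right hb, ← mul_assoc, ← mul_assoc, hb, one_mul]
  calc n * qq j v x d * (b * qq j v x c) * (n * qq j v x d)⁻¹
      = n * (qq j v x d * b * qq j v x c) * (qq j v x d)⁻¹ * n⁻¹ := by group
    _ = _ := by rw [e1, mul_assoc b, D.mul, h2, ← D.mul]; group

theorem step {b w m : G} {f : Fin 128 → Fin 128} (hm : m ∈ nor (QQ j v x)) (hf : Act j v x m f)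
    {c c' k : Fin 128} (hb : m * b * m⁻¹ = b * qq j v x k) (h1 : Rc j v x b w c')
    (h2 : qm k (f c) = c') : Rc j v x b w c := by
  obtain ⟨n, hn, rfl⟩ := h1
  refine ⟨n * m, mul_mem hn hm, ?_⟩
  rw [← h2, ← D.mul, ← hf, ← mul_assoc b, ← hb]
  group

theorem genN {w : G} (hw : w ∈ [j y, j a, j h, up j v, up j x]) : w ∈ nor (QQ j v x) :=
  D.n1 (mem_sup_left (subset_closure hw))

theorem nz2 {n b : G} (hn : n ∈ nor (QQ j v x)) (hb : b * b = 1 ∨ b * b = j z) :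
    n * b * n⁻¹ * (n * b * n⁻¹) = b * b := by
  rw [conj_mul]
  rcases hb with e | e <;> rw [e]
  · group
  · rw [(D.all n hn).1, mul_inv_cancel_right]

end

theorem ja2 : j a * j a = 1 := by
  rw [← map_mul, show a * a = 1 by decide +kernel, map_one]

theorem upz : up j (j z) = j p := by
  rw [up, ← map_inv, ← map_mul, ← map_mul, show g * z * g⁻¹ = p by decide +kernel]

section

variable (S : St j e O) (V : SD j e O v x) (D : QD j e v x)
include S V D

theorem ea2 : e * j a * (e * j a) = 1 := by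
  rw [mul_assoc, ← mul_assoc (j a), ← S.ec, mul_assoc e, ja2, mul_one, S.e2]

theorem xp2 : up j x * up j x = 1 := by
  rw [up, conj_mul, V.x2]
  group

theorem cje (w : X) : j w * e * (j w)⁻¹ = e * qq j v x 0 := by
  rw [q0, ← S.ec, mul_one, mul_inv_cancel_right]

/-- reduction to the five cosets -/
theorem red (C : CD j e v x) (L : LD j e v x) {b : G} (hb : b ∈ nor (QQ j v x))
    (b2 : b * b = 1 ∨ b * b = j z) : ∃ n ∈ nor (QQ j v x), ∃ b₀ ∈ [1, e, j a, e * j a, up j x],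
      ∃ c, n * b * n⁻¹ = b₀ * qq j v x c ∧ b₀ * qq j v x c * (b₀ * qq j v x c) = b * b := by
  have m : ∃ c, qq j v x c = b * b := by
    rcases b2 with e | e <;> rw [e]
    exacts [⟨0, q0⟩, ⟨64, q64⟩]
  obtain ⟨c0, e0⟩ := m
  obtain ⟨n, hn, b₀, h0, h1⟩ := L.cls b hb (e0 ▸ trQ D c0)
  have h2 : b₀ ∈ nor (QQ j v x) ∧ b₀ * b₀ = 1 := by
    simp only [List.mem_cons, List.not_mem_nil, or_false] at h0
    rcases h0 with rfl | rfl | rfl | rfl | rfl
    exacts [⟨one_mem _, one_mul 1⟩, ⟨D.en, S.e2⟩, ⟨genN D (by simp), ja2⟩,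
      ⟨mul_mem D.en (genN D (by simp)), ea2 S V D⟩, ⟨genN D (by simp), xp2 S V D⟩]
  obtain ⟨m, -, hm, w, hw, h3⟩ := C.cos b₀ h2.1 _ (mul_mem (mul_mem hn hb) (inv_mem hn))
    (h2.2 ▸ one_mem _) (by rw [nz2 D hn b2]; exact (D.mem _).2 ⟨c0, e0⟩) h1
  obtain ⟨c, rfl⟩ := (D.mem w).1 hw
  have h4 : m * n * b * (m * n)⁻¹ = b₀ * qq j v x c := by rw [← h3]; group
  exact ⟨m * n, mul_mem hm hn, b₀, h0, c, h4, by rw [← h4, nz2 D (mul_mem hm hn) b2]⟩

theorem code0 {b : G} {f : Fin 128 → Fin 128} (hb : b * b = 1) (hf : Act j v x b f) {c : Fin 128}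
    (h1 : b * qq j v x c * (b * qq j v x c) = 1) : qm (f c) c = 0 :=
  D.inj (by rw [← sq_code D hb hf, h1, q0])

theorem code64 {b : G} {f : Fin 128 → Fin 128} (hb : b * b = 1) (hf : Act j v x b f) {c : Fin 128}
    (h1 : b * qq j v x c * (b * qq j v x c) = j z) : qm (f c) c = 64 :=
  D.inj (by rw [← sq_code D hb hf, h1, q64])

/-- involutions of `e Q` -/
theorem rcE {c : Fin 128} (hc : qm (fe c) c = 0) : Rc j v x e e c := by
  have r1 : Rc j v x e e 1 := step D (genN D (by simp)) D.av (k := 1) (by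
    have := congrArg (up j) V.ve
    rw [q1, ← upz]
    simp only [up] at this ⊢
    calc j g * v * (j g)⁻¹ * e * (j g * v * (j g)⁻¹)⁻¹
        = j g * v * (j g)⁻¹ * (e * j g) * v⁻¹ * (j g)⁻¹ := by group
      _ = j g * (v * e * v⁻¹) * (j g)⁻¹ := by rw [S.ec]; group
      _ = _ := by rw [this, ← mul_assoc, ← S.ec]; group) Rc.zero (by decide +kernel)
  have r2 : Rc j v x e e 2 := step D (genN D (by simp)) D.ah (cje S V D h) r1 (by decide +kernel)
  have r3 : Rc j v x e e 11 := step D (genN D (by simp)) D.aa (cje S V D a) r2 (by decide +kernel)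
  have r4 : Rc j v x e e 7 := step D (genN D (by simp)) D.ay (cje S V D y) r3 (by decide +kernel)
  have r5 : Rc j v x e e 79 := step D (genN D (by simp)) D.ay (cje S V D y) r4 (by decide +kernel)
  obtain ⟨d, -, c', h1, h2⟩ := (by decide +kernel : ∀ c, qm (fe c) c = 0 → ∃ d ∈ [0, 16, 32, 48],
    ∃ c' ∈ [0, 1, 2, 11, 7, 79], qm (fe d) c = qm c' d) c hc
  refine stepQ D S.e2 D.ae ?_ h2
  simp only [List.mem_cons, List.not_mem_nil, or_false] at h1
  rcases h1 with rfl | rfl | rfl | rfl | rfl | rfl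
  exacts [Rc.zero, r1, r2, r3, r4, r5]

/-- involutions of `a Q` -/
theorem rcA (C : CD j e v x) {c : Fin 128} (hc : qm (fa c) c = 0) : Rc j v x (j a) (j a) c := by
  have nh : j h ∈ nor (QQ j v x) := genN D (by simp)
  have na : j a ∈ nor (QQ j v x) := genN D (by simp)
  have nv : up j v ∈ nor (QQ j v x) := genN D (by simp)
  have nx : up j x ∈ nor (QQ j v x) := genN D (by simp)
  obtain ⟨d, nd, ad⟩ : ∃ d ∈ nor (QQ j v x), Act j v x d fd :=
    ⟨j h * (up j v * (up j x * (j h * (j a * (j h * (up j v * (up j x * j h))))))),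
      mul_mem nh (mul_mem nv (mul_mem nx (mul_mem nh (mul_mem na (mul_mem nh (mul_mem nv
        (mul_mem nx nh))))))), by
      have := Act.mul D.ah (Act.mul D.av (Act.mul D.ax (Act.mul D.ah (Act.mul D.aa (Act.mul D.ah
        (Act.mul D.av (Act.mul D.ax D.ah)))))))
      intro c
      rw [← fd_eq c, this c]
      simp only [Function.comp_apply]⟩
  have ai : (j a)⁻¹ = j a := inv_eq_of_mul_eq_one_right ja2
  obtain ⟨n, tn, hn, w, hw, h1⟩ := C.cos (j a) na _ (mul_mem (mul_mem nd na) (inv_mem nd))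
    (ja2 (j := j) ▸ one_mem _) (by rw [nz2 D nd (Or.inl ja2), ja2]; exact one_mem _) fun u hu => by
      obtain ⟨c, rfl⟩ := (D.mem u).1 hu
      obtain ⟨h2, h3⟩ := (by decide +kernel : ∀ c, fd (fd c) = c ∧
        (fa (fd (fa (fd c))) = c ∨ fa (fd (fa (fd c))) = qm c 64)) c
      have e1 : (j a)⁻¹ * (d * j a * d⁻¹) * qq j v x c * ((j a)⁻¹ * (d * j a * d⁻¹))⁻¹ =
          qq j v x (fa (fd (fa (fd c)))) := by
        calc (j a)⁻¹ * (d * j a * d⁻¹) * qq j v x c * ((j a)⁻¹ * (d * j a * d⁻¹))⁻¹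
            = (j a)⁻¹ * (d * j a * d⁻¹) * (d * qq j v x (fd c) * d⁻¹) *
              ((j a)⁻¹ * (d * j a * d⁻¹))⁻¹ := by rw [ad, h2]
          _ = (j a)⁻¹ * (d * (j a * qq j v x (fd c) * (j a)⁻¹) * d⁻¹) * (j a)⁻¹⁻¹ := by group
          _ = _ := by rw [D.aa, ad, inv_inv, ← D.aa, ai]
      rw [e1, ← q64 (j := j) (v := v) (x := x), D.mul]
      exact h3.imp (congrArg _) (congrArg _)
  obtain ⟨c0, rfl⟩ := (D.mem w).1 hw
  have h2 : n * d * j a * (n * d)⁻¹ = j a * qq j v x c0 := by rw [← h1]; group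
  have r0 : Rc j v x (j a) (j a) c0 := ⟨(n * d)⁻¹, inv_mem (mul_mem hn nd), by rw [← h2]; group⟩
  have h3 := code0 S V D ja2 D.aa (c := c0) (by rw [← h2, nz2 D (mul_mem hn nd) (Or.inl ja2), ja2])
  have av : j a * qq j v x 32 * (j a * qq j v x 32) = j z := by
    rw [sq_code D ja2 D.aa, show qm (fa 32) 32 = 64 by decide +kernel, q64]
  have h4 : ∀ k, n * qq j v x 25 * n⁻¹ = qq j v x k → qm (fa (qm c0 k)) (qm c0 k) = 64 := by
    intro k hk
    refine code64 S V D ja2 D.aa ?_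
    have : j a * qq j v x (qm c0 k) = n * d * (j a * qq j v x 32) * (n * d)⁻¹ := by
      rw [← D.mul, ← mul_assoc, ← h2, ← hk, show (25 : Fin 128) = fd 32 by decide +kernel, ← ad]
      group
    rw [this, nz2 D (mul_mem hn nd) (Or.inr av), av]
  have h5 : qm (fa (qm c0 25)) (qm c0 25) = 64 ∨ qm (fa (qm c0 89)) (qm c0 89) = 64 := by
    refine (tn _ ((D.mem _).2 ⟨25, rfl⟩)).imp (h4 25) fun e => h4 89 ?_
    rw [e, ← q64 (j := j) (v := v) (x := x), D.mul]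
    rfl
  obtain ⟨d', h6⟩ := (by decide +kernel : ∀ c, qm (fa c) c = 0 → (qm (fa (qm c 25)) (qm c 25) = 64 ∨
    qm (fa (qm c 89)) (qm c 89) = 64) → ∃ d, qm (fa d) 48 = qm c d) c0 h3 h5
  have r1 : Rc j v x (j a) (j a) 48 := stepQ D ja2 D.aa r0 h6
  have r2 : Rc j v x (j a) (j a) 16 := step D D.en D.ae (k := 0)
    (by rw [q0, S.ec, mul_one, mul_inv_cancel_right]) r1 (by decide +kernel)
  obtain ⟨d, c', h7, h8⟩ := (by decide +kernel : ∀ c, qm (fa c) c = 0 → ∃ d,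
    ∃ c' ∈ [0, 16, 48], qm (fa d) c = qm c' d) c hc
  refine stepQ D ja2 D.aa ?_ h8
  simp only [List.mem_cons, List.not_mem_nil, or_false] at h7
  rcases h7 with rfl | rfl | rfl
  exacts [Rc.zero, r2, r1]

theorem toZ (T : TD j v x) {c : Fin 128} (h1 : qm c c = 0) (h2 : c ≠ 0) :
    ∃ n ∈ nor (QQ j v x) ⊔ zpowers (j g), n * qq j v x c * n⁻¹ = j z := by
  by_cases h3 : c = 64
  · exact ⟨1, one_mem _, by simp [h3, q64]⟩
  obtain ⟨n, hn, e1⟩ := T.tr1 _ ((D.mem _).2 ⟨c, rfl⟩) (by rw [D.mul, h1, q0])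
    (fun e => h2 (D.inj (e.trans q0.symm))) fun e => h3 (D.inj (e.trans q64.symm))
  refine ⟨(j g)⁻¹ * n, mul_mem (mem_sup_right (inv_mem (mem_zpowers _))) (mem_sup_left (D.n1 hn)), ?_⟩
  calc (j g)⁻¹ * n * qq j v x c * ((j g)⁻¹ * n)⁻¹ = (j g)⁻¹ * (n * qq j v x c * n⁻¹) * j g := by group
    _ = _ := by rw [e1, ← upz, up]; group

theorem cl (T : TD j v x) (C : CD j e v x) (L : LD j e v x) (b : G) (hb : b ∈ nor (QQ j v x))
    (b2 : b * b = 1) (b1 : b ≠ 1) :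
    (∃ n ∈ nor (QQ j v x) ⊔ zpowers (j g), n * b * n⁻¹ = j z) ∨
      ∃ n ∈ nor (QQ j v x), n * b * n⁻¹ ∈ [e, j a, e * j a] := by
  obtain ⟨n, hn, b₀, h0, c, h1, h2⟩ := red S V D C L hb (Or.inl b2)
  rw [b2] at h2
  have k1 : ∀ w, Rc j v x b₀ w c → ∃ n ∈ nor (QQ j v x), n * b * n⁻¹ = w := by
    rintro w ⟨m, hm, rfl⟩
    exact ⟨m * n, mul_mem hm hn, by rw [← h1]; group⟩
  have k2 : ∀ w, w ∈ [e, j a, e * j a] → Rc j v x b₀ w c →
      ∃ n ∈ nor (QQ j v x), n * b * n⁻¹ ∈ [e, j a, e * j a] := fun w hw hr => by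
    obtain ⟨m, hm, e1⟩ := k1 w hr
    exact ⟨m, hm, by rw [e1]; exact hw⟩
  have k3 : ∀ k, qm k k = 0 → k ≠ 0 → Rc j v x b₀ (up j (qq j v x k)) c →
      ∃ n ∈ nor (QQ j v x) ⊔ zpowers (j g), n * b * n⁻¹ = j z := fun k a1 a2 hr => by
    obtain ⟨m, hm, e1⟩ := k1 _ hr
    obtain ⟨l, hl, e2⟩ := toZ S V D T a1 a2
    refine ⟨l * (j g)⁻¹ * m, mul_mem (mul_mem hl (mem_sup_right (inv_mem (mem_zpowers _))))
      (mem_sup_left hm), ?_⟩
    calc l * (j g)⁻¹ * m * b * (l * (j g)⁻¹ * m)⁻¹ = l * (j g)⁻¹ * (m * b * m⁻¹) * j g * l⁻¹ := by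
          group
      _ = _ := by rw [e1, ← e2, up]; group
  simp only [List.mem_cons, List.not_mem_nil, or_false] at h0
  rcases h0 with e0 | e0 | e0 | e0 | e0 <;> rw [e0] at h1 h2 k2 k3
  · rw [one_mul] at h1 h2
    obtain ⟨l, hl, e2⟩ := toZ S V D T (c := c) (D.inj (by rw [← D.mul, h2, q0])) fun e =>
      b1 (by rwa [e, q0, conj_eq_one_iff] at h1)
    exact Or.inl ⟨l * n, mul_mem hl (mem_sup_left hn), by rw [← e2, ← h1]; group⟩
  · exact Or.inr (k2 e (by simp) (rcE S V D (code0 S V D S.e2 D.ae h2)))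
  · exact Or.inr (k2 (j a) (by simp) (rcA S V D C (code0 S V D ja2 D.aa h2)))
  · obtain ⟨d, h3⟩ := (by decide +kernel : ∀ c, qm ((fe ∘ fa) c) c = 0 → ∃ d,
      qm ((fe ∘ fa) d) c = qm 0 d) c (code0 S V D (ea2 S V D) (Act.mul D.ae D.aa) h2)
    exact Or.inr (k2 (e * j a) (by simp) (stepQ D (ea2 S V D) (Act.mul D.ae D.aa) Rc.zero h3))
  · obtain ⟨d, h3 | h3⟩ := (by decide +kernel : ∀ c, qm (fx c) c = 0 → ∃ d,
      qm (fx d) c = qm 0 d ∨ qm (fx d) c = qm 1 d) c (code0 S V D (xp2 S V D) D.ax h2)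
    · exact Or.inl (k3 16 (by decide +kernel) (by decide)
        (stepQ D (xp2 S V D) D.ax (by rw [q16]; exact Rc.zero) h3))
    · exact Or.inl (k3 80 (by decide +kernel) (by decide) (stepQ D (xp2 S V D) D.ax
        ⟨1, one_mem _, by rw [q1, q80, ← upz]; simp only [up]; group⟩ h3))

theorem cl2 (C : CD j e v x) (L : LD j e v x) (b : G) (hb : b ∈ nor (QQ j v x))
    (b2 : b * b = 1 ∨ b * b = j z) : b ∈ QQ j v x ∨ Sg j v x b ∨
    ∃ n ∈ nor (QQ j v x), e * (n * b * n⁻¹) * e = n * b * n⁻¹ ∨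
      e * (n * b * n⁻¹) * e = n * b * n⁻¹ * j z := by
  obtain ⟨n, hn, b₀, h0, c, h1, h2⟩ := red S V D C L hb b2
  have k1 : e * b₀ = b₀ * e → (fe c = c ∨ fe c = qm c 64) → ∃ n ∈ nor (QQ j v x),
      e * (n * b * n⁻¹) * e = n * b * n⁻¹ ∨ e * (n * b * n⁻¹) * e = n * b * n⁻¹ * j z := by
    intro a1 a2
    have : e * (b₀ * qq j v x c) * e = b₀ * qq j v x (fe c) := by
      rw [← D.ae, S.einv, ← mul_assoc, a1]
      group
    refine ⟨n, hn, ?_⟩
    rw [h1, this, mul_assoc, ← q64 (j := j) (v := v) (x := x), D.mul]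
    exact a2.imp (fun e => by rw [e]) fun e => by rw [e]
  have k2 : ∀ f, b₀ * b₀ = 1 → Act j v x b₀ f → qm (f c) c = 0 ∨ qm (f c) c = 64 := fun f a1 a2 =>
    b2.imp (fun e => code0 S V D a1 a2 (h2.trans e)) fun e => code64 S V D a1 a2 (h2.trans e)
  simp only [List.mem_cons, List.not_mem_nil, or_false] at h0
  rcases h0 with e0 | e0 | e0 | e0 | e0 <;> rw [e0] at h1 k1 k2
  · exact Or.inl ((mem_normalizer_iff.1 hn b).2 (by rw [h1, one_mul]; exact (D.mem _).2 ⟨c, rfl⟩))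
  · exact Or.inr (Or.inr (k1 rfl ((by decide +kernel : ∀ c, (qm (fe c) c = 0 ∨ qm (fe c) c = 64) →
      fe c = c ∨ fe c = qm c 64) c (k2 _ S.e2 D.ae))))
  · refine Or.inr (Or.inr ?_)
    rcases k2 _ ja2 D.aa with h3 | h3
    · obtain ⟨m, hm, e1⟩ := rcA S V D C h3
      have : m * n * b * (m * n)⁻¹ = j a := by rw [← e1, ← h1]; group
      exact ⟨m * n, mul_mem hm hn, Or.inl (by rw [this, S.ec, mul_assoc, S.e2, mul_one])⟩
    · exact k1 (S.ec a) ((by decide +kernel : ∀ c, qm (fa c) c = 64 →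
        fe c = c ∨ fe c = qm c 64) c h3)
  · exact Or.inr (Or.inr (k1 (by rw [mul_assoc, S.ec]) ((by decide +kernel : ∀ c,
      (qm ((fe ∘ fa) c) c = 0 ∨ qm ((fe ∘ fa) c) c = 64) → fe c = c ∨ fe c = qm c 64) c
        (k2 _ (ea2 S V D) (Act.mul D.ae D.aa)))))
  · exact Or.inr (Or.inl ⟨n, hn, by rw [h1, inv_mul_cancel_left]; exact trQ D c⟩)

end

theorem jobCL : JobCL.{u} := by
  intro G _ _ j e O v x S V D T C L n1 n2
  refine ⟨cl S V D T C L, fun b bz hb => ?_, cl2 S V D C L⟩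
  rcases cl S V D T C L _ hb (by rw [conj_mul, S.e2]; group) (by simpa using S.e1) with
    ⟨n, -, h1⟩ | ⟨n, hn, h1⟩
  · exact absurd (isConj_iff.2 ⟨n * b, by rw [← h1]; group⟩) S.nz
  have e1 : n * (b * e * b⁻¹) * n⁻¹ = n * b * e * (n * b)⁻¹ := by group
  rw [e1] at h1
  simp only [List.mem_cons, List.not_mem_nil, or_false] at h1
  rcases h1 with h1 | h1 | h1
  · refine (mul_mem_cancel_left hn).1 (C.ez _ (mul_inv_eq_iff_eq_mul.1 h1) ?_)
    rw [mul_assoc, bz, ← mul_assoc, (D.all n hn).1, mul_assoc]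
  · exact absurd (isConj_iff.2 ⟨_, h1⟩) n1
  · exact absurd (isConj_iff.2 ⟨_, h1⟩) n2

end H17.JS
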