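/- Tower KU (S2196): images of the torus in the multiplicative group. -/
import Cfsg.Agent.H53.KUSpec

set_option autoImplicit false

namespace H17.KUIm

open H53.KU

theorem dv_eq {a b c : ℤ} (h : a ∣ b) (e : b = c) : a ∣ c := e ▸ h

theorem big {a b h : ℕ} (ha : 1 < a) (hb : 1 < b) (hab : a ≠ b) (hd : a * b ∣ h) : Big h := by
  rcases lt_or_gt_of_ne hab with c | c
  · exact ⟨a, b, a * b, ha, c, by nlinarith, (dvd_mul_right a b).trans hd,
      (dvd_mul_left b a).trans hd, hd⟩
  · exact ⟨b, a, a * b, hb, c, by nlinarith, (dvd_mul_left b a).trans hd,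
      (dvd_mul_right a b).trans hd, hd⟩

theorem big_top {q h : ℕ} (hq : 3 ≤ q) (hd : (q : ℤ) ^ 2 - 1 ∣ (h : ℤ)) : Big h := by
  obtain ⟨p, rfl⟩ : ∃ p, q = p + 1 := ⟨q - 1, by omega⟩
  refine big (a := p) (b := p + 2) (by omega) (by omega) (by omega) (Int.natCast_dvd_natCast.1 ?_)
  convert hd using 1
  push_cast
  ring

theorem big_d {q h d : ℕ} (hq : 3 ≤ q) (hd : d = 2 ∨ d = 3) 
    (h1 : (q : ℤ) ^ 2 - 1 ∣ ((q : ℤ) + 1) * h)
    (h2 : (q : ℤ) ^ 2 - 1 ∣ (d : ℤ) * h) : Big h ∨ (q = 3 ∧ d = 2 ∧ 4 ∣ h) := by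
  by_cases c : d ∣ q + 1
  · obtain ⟨t, ht⟩ := c
    obtain ⟨p, rfl⟩ : ∃ p, q = p + 1 := ⟨q - 1, by omega⟩
    have k : p * t ∣ h := by
      refine Nat.dvd_of_mul_dvd_mul_left (k := d) (by omega) (Int.natCast_dvd_natCast.1 ?_)
      have e : ((p : ℤ) + 1 + 1) = d * t := by exact_mod_cast ht
      push_cast at h2 ⊢
      rwa [show (d : ℤ) * (p * t) = ((p : ℤ) + 1) ^ 2 - 1 by linear_combination -(p : ℤ) * e]
    by_cases c2 : p = t
    · right
      subst c2
      have : p = 2 := by rcases hd with rfl | rfl <;> omega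
      subst this
      exact ⟨rfl, by omega, k⟩
    · exact Or.inl (big (by omega) (by rcases hd with rfl | rfl <;> omega) c2 k)
  · have k : IsCoprime (d : ℤ) ((q + 1 : ℕ) : ℤ) := Nat.isCoprime_iff_coprime.2
      ((Nat.Prime.coprime_iff_not_dvd (by rcases hd with rfl | rfl <;> norm_num)).2 c)
    obtain ⟨a, b, e⟩ := k
    refine Or.inl (big_top hq ?_)
    refine dv_eq (dvd_add (h2.mul_left a) (h1.mul_left b)) ?_
    push_cast at e
    linear_combination (h : ℤ) * e

/-- The exponent of an eigenvalue. -/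
def ex (q : ℕ) (s : Bool) : ℤ := if s then -(q : ℤ) else 1

theorem eig_eq {F : Type} [Field F] {m : ℕ} (q : ℕ) (a : Fin m → Fˣ) (i : Fin m) (s : Bool) :
    eig q a i s = a i ^ ex q s := by
  cases s <;> simp [eig, ex]

theorem ex_mod (q : ℕ) (s : Bool) : ∃ k : ℤ, ex q s = 1 + k * (q + 1) := by
  cases s
  exacts [⟨0, by simp [ex]⟩, ⟨-1, by simp [ex]⟩]

theorem ex_cop {q : ℕ} {s : Bool} {x : ℤ} (h : (q : ℤ) ^ 2 - 1 ∣ ex q s * x) : (q : ℤ) ^ 2 - 1 ∣ x := by
  cases s
  · simpa [ex] using h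
  · refine dv_eq (dvd_sub (h.mul_left (-q)) (dvd_mul_right _ x)) ?_
    simp only [ex, if_true]
    ring

theorem jobIm : JobIm := by
  intro F _ _ r q o hF hq H i s hi
  obtain ⟨g, hg⟩ := IsCyclic.exists_ofOrder_eq_natCard (α := Fˣ)
  have hN : Nat.card Fˣ = q ^ 2 - 1 := by rw [Nat.card_units, Nat.card_eq_fintype_card, hF]
  have hg' : (orderOf g : ℤ) = (q : ℤ) ^ 2 - 1 := by
    rw [hg, hN, Nat.cast_sub (Nat.one_le_pow _ _ (by omega))]; simp
  have dv : ∀ k : ℤ, g ^ k ∈ H → (q : ℤ) ^ 2 - 1 ∣ k * Nat.card H := fun k hk => by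
    rw [← hg', orderOf_dvd_iff_zpow_eq_one, zpow_mul, zpow_natCast]
    exact congrArg Subtype.val (pow_card_eq_one' (x := (⟨_, hk⟩ : H)))
  have o1 : (0 : Fin (r + 3)) ≠ 1 := Fin.zero_ne_one
  have p3 : ∀ j : Fin (r + 3), ∏ k, (Pi.mulSingle 0 g * Pi.mulSingle 1 g *
      Pi.mulSingle j (g ^ (-2 : ℤ)) : Fin (r + 3) → Fˣ) k = 1 := fun j => by
    simp only [Pi.mul_apply, Finset.prod_mul_distrib, Fintype.prod_pi_mulSingle']
    group
  refine ⟨fun j s' hj hij h => ?_, fun h => ?_⟩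
  · have c1 : (g ^ ((q : ℤ) + 1)) ^ (q - 1) = 1 := by
      rw [← zpow_natCast, ← zpow_mul, ← orderOf_dvd_iff_zpow_eq_one, hg', Nat.cast_sub (by omega)]
      exact ⟨1, by push_cast; ring⟩
    have h1 : (q : ℤ) ^ 2 - 1 ∣ ((q : ℤ) + 1) * Nat.card H := by
      by_cases i1 : i = 1
      · have j1 : j ≠ 1 := fun e => hij (i1.trans e.symm)
        have := h (Pi.mulSingle j (g ^ ((q : ℤ) + 1))) (Or.inr (by
          rw [Fintype.prod_pi_mulSingle', c1])) (by simp [hj.symm, j1.symm])
        rw [eig_eq, eig_eq, Pi.mulSingle_eq_of_ne hij, Pi.mulSingle_eq_same, one_zpow, one_div,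
          inv_mem_iff, ← zpow_mul] at this
        refine ex_cop (s := s') ?_
        refine dv_eq (dv _ this) ?_
        ring
      · have := h (Pi.mulSingle i (g ^ ((q : ℤ) + 1))) (Or.inr (by
          rw [Fintype.prod_pi_mulSingle', c1])) (by simp [hi.symm, Ne.symm i1])
        rw [eig_eq, eig_eq, Pi.mulSingle_eq_of_ne hij.symm, Pi.mulSingle_eq_same, one_zpow, div_one,
          ← zpow_mul] at this
        refine ex_cop (s := s) ?_
        refine dv_eq (dv _ this) ?_
        ring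
    obtain ⟨k, ek⟩ := ex_mod q s
    obtain ⟨k', ek'⟩ := ex_mod q s'
    by_cases i1 : i = 1
    · have j1 : j ≠ 1 := fun e => hij (i1.trans e.symm)
      have := h (Pi.mulSingle 0 g * Pi.mulSingle 1 g * Pi.mulSingle j (g ^ (-2 : ℤ))) (Or.inr (by
        rw [p3, one_pow])) (by simp [hj.symm, j1.symm])
      rw [eig_eq, eig_eq, i1] at this
      simp only [Pi.mul_apply, Pi.mulSingle_apply, o1.symm, hj, j1, j1.symm, if_true, if_false,
        one_mul, mul_one, ← zpow_mul, div_eq_mul_inv, ← zpow_sub] at this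
      refine (big_d (d := 3) hq (Or.inr rfl) h1 ?_).elim Or.inl fun c => absurd c.2.1 (by omega)
      refine dv_eq (dvd_sub (dv _ this) (h1.mul_left (k + 2 * k'))) ?_
      rw [ek, ek']
      push_cast
      ring
    by_cases j1 : j = 1
    · have := h (Pi.mulSingle 0 g * Pi.mulSingle 1 g * Pi.mulSingle i (g ^ (-2 : ℤ))) (Or.inr (by
        rw [p3, one_pow])) (by simp [hi.symm, Ne.symm i1])
      rw [eig_eq, eig_eq, j1] at this
      simp only [Pi.mul_apply, Pi.mulSingle_apply, o1.symm, hi, i1, Ne.symm i1, if_true, if_false,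
        one_mul, mul_one, ← zpow_mul, div_eq_mul_inv, ← zpow_sub] at this
      refine (big_d (d := 3) hq (Or.inr rfl) h1 ?_).elim Or.inl fun c => absurd c.2.1 (by omega)
      refine dv_eq (dvd_sub (h1.mul_left (-(k' + 2 * k))) (dv _ this)) ?_
      rw [ek, ek']
      push_cast
      ring
    have := h (Pi.mulSingle i g * Pi.mulSingle j (g ^ (-1 : ℤ))) (Or.inr (by
      simp only [Pi.mul_apply, Finset.prod_mul_distrib, Fintype.prod_pi_mulSingle']; group))
      (by simp [hi.symm, Ne.symm i1, hj.symm, Ne.symm j1])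
    rw [eig_eq, eig_eq] at this
    simp only [Pi.mul_apply, Pi.mulSingle_apply, hij, hij.symm, if_true, if_false,
      one_mul, mul_one, ← zpow_mul, div_eq_mul_inv, ← zpow_sub] at this
    rcases big_d (d := 2) hq (Or.inl rfl) h1 (by
      refine dv_eq (dvd_sub (dv _ this) (h1.mul_left (k + k'))) ?_
      rw [ek, ek']
      push_cast
      ring) with c | ⟨rfl, -, c⟩
    · exact Or.inl c
    have c8 : Nat.card H ∣ 8 := by
      have := Subgroup.card_subgroup_dvd_card H
      rwa [hN] at this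
    by_cases c4 : Nat.card H = 4
    · refine Or.inr ⟨rfl, ?_, c4⟩
      have a1 := Fin.val_ne_of_ne hi
      have a2 := Fin.val_ne_of_ne hj
      have a3 := Fin.val_ne_of_ne i1
      have a4 := Fin.val_ne_of_ne j1
      have a5 := Fin.val_ne_of_ne hij
      have := i.2
      have := j.2
      simp only [Fin.val_zero, Fin.val_one] at *
      omega
    · refine Or.inl (big (a := 2) (b := 4) (by omega) (by omega) (by omega) ?_)
      have := Nat.le_of_dvd (by omega) c8
      have := Nat.card_pos (α := H)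
      omega
  · refine big_top hq ?_
    by_cases i1 : i = 1
    · have t0 : (2 : Fin (r + 3)) ≠ 0 := by simp [Fin.ext_iff, Nat.mod_eq_of_lt]
      have t1 : (2 : Fin (r + 3)) ≠ 1 := by simp [Fin.ext_iff, Nat.mod_eq_of_lt]
      have := h (Pi.mulSingle 0 g * Pi.mulSingle 1 g * Pi.mulSingle 2 (g ^ (-2 : ℤ)))
        (by simp [t0.symm, t1.symm])
      rw [p3, eig_eq, i1] at this
      simp only [Pi.mul_apply, Pi.mulSingle_apply, o1.symm, t1.symm, if_true, if_false,
        one_mul, mul_one, one_pow, div_one] at this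
      exact ex_cop (dv _ this)
    have a1 := h (Pi.mulSingle 0 g * Pi.mulSingle 1 g * Pi.mulSingle i (g ^ (-2 : ℤ)))
      (by simp [hi.symm, Ne.symm i1])
    rw [p3, eig_eq] at a1
    simp only [Pi.mul_apply, Pi.mulSingle_apply, hi, i1, if_true, if_false,
      one_mul, one_pow, div_one, ← zpow_mul] at a1
    have a2 := h (Pi.mulSingle i g) (by simp [hi.symm, Ne.symm i1])
    rw [Fintype.prod_pi_mulSingle', eig_eq, Pi.mulSingle_eq_same, ← zpow_natCast, div_eq_mul_inv,
      ← zpow_sub,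
      Nat.cast_sub (by omega)] at a2
    have b1 : (q : ℤ) ^ 2 - 1 ∣ (2 : ℤ) * Nat.card H := ex_cop (s := s) (by
      refine dv_eq (dv _ a1).neg_right ?_
      ring)
    have b2 := dv _ a2
    obtain ⟨t, e | e⟩ := Int.even_or_odd' (q : ℤ)
    · refine dv_eq (dvd_sub (b1.mul_left (2 * t ^ 2)) (dvd_mul_right _ (Nat.card H : ℤ))) ?_
      rw [e]
      ring
    · cases s
      · refine dv_eq (dvd_add b2 (b1.mul_left t)) ?_
        simp only [ex, e]
        push_cast
        ring
      · refine dv_eq (dvd_add b2 (b1.mul_left q)) ?_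
        simp only [ex]
        push_cast
        ring

end H17.KUIm
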