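/- Tower KGV: eigenvalue lists exist and are unique. -/
import Cfsg.Agent.H63.KgvSpec
import Cfsg.Agent.H28.CharBasic

set_option autoImplicit false

namespace H17.KgvEg

open Cfsg H63.Kgv H28 Finset

universe u

theorem uniq {ι : Type} [Fintype ι] {f : ι → ℂ} (hf : Function.Injective f) {m m' : ι → ℕ}
    (h : ∀ j : ℕ, ∑ x, (m x : ℂ) * f x ^ j = ∑ x, (m' x : ℂ) * f x ^ j) : m = m' := by
  let e := (Fintype.equivFin ι).symm
  have h1 := Matrix.eq_zero_of_forall_pow_sum_mul_pow_eq_zero (f := fun i => f (e i))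
    (v := fun i => (m (e i) : ℂ) - m' (e i)) (hf.comp e.injective) fun i => by
      rw [e.sum_comp fun x => ((m x : ℂ) - m' x) * f x ^ (i : ℕ)]
      simp only [sub_mul, sum_sub_distrib, h, sub_self]
  funext x
  have h2 := congrFun h1 (e.symm x)
  simp only [Equiv.apply_symm_apply, Pi.zero_apply, sub_eq_zero] at h2
  exact_mod_cast h2

theorem ex {ι : Type} [Fintype ι] (f : ι → ℂ) (s : Multiset ℂ) (hs : ∀ ω ∈ s, ∃ x, f x = ω) :
    ∃ m : ι → ℕ, ∀ j : ℕ, (s.map (· ^ j)).sum = ∑ x, (m x : ℂ) * f x ^ j := by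
  classical
  induction s using Multiset.induction_on with
  | empty => exact ⟨0, fun j => by simp⟩
  | cons a s ih =>
    obtain ⟨m, hm⟩ := ih fun ω hω => hs ω (Multiset.mem_cons_of_mem hω)
    obtain ⟨x, rfl⟩ := hs a (Multiset.mem_cons_self a s)
    refine ⟨fun z => (if z = x then 1 else 0) + m z, fun j => ?_⟩
    rw [Multiset.map_cons, Multiset.sum_cons, hm]
    simp [add_mul, sum_add_distrib]

theorem onto {K : Type} [Field K] [Fintype K] {θ : Kˣ →* ℂˣ} (hθ : Function.Injective θ) {ω : ℂ}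
    (h : ω ^ (Fintype.card K - 1) = 1) : ∃ x, (θ x : ℂ) = ω := by
  obtain ⟨g, hg⟩ := IsCyclic.exists_ofOrder_eq_natCard (α := Kˣ)
  rw [Nat.card_units, Nat.card_eq_fintype_card] at hg
  have h1 : IsPrimitiveRoot (θ g : ℂ) (Fintype.card K - 1) := by
    rw [← hg, ← orderOf_injective θ hθ, ← orderOf_units]
    exact IsPrimitiveRoot.orderOf _
  have : NeZero (Fintype.card K - 1) := ⟨by have := Fintype.one_lt_card (α := K); omega⟩
  obtain ⟨i, -, rfl⟩ := h1.eq_pow_of_pow_eq_one h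
  exact ⟨g ^ i, by simp⟩

theorem job : EgSt.{u} := by
  intro K _ _ θ E _ _ hθ
  have hf : Function.Injective fun x : Kˣ => (θ x : ℂ) := fun a b h => hθ (Units.ext h)
  have key : ∀ (χ : E → ℂ) (y : E), (∃ m, Eg θ χ y m) → Eg θ χ y (em θ χ y) := fun χ y h => by
    rw [H63.Kgv.em, dif_pos h]; exact h.choose_spec
  refine ⟨fun χ y m h => ?_, fun χ y hχ hy => key χ y ?_⟩
  · classical
    exact uniq hf fun j => (key χ y ⟨m, h⟩ j).symm.trans (h j)
  · classical
    obtain ⟨s, hs, -, hm⟩ := hχ.exists_roots y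
    obtain ⟨m, h⟩ := ex (fun x : Kˣ => (θ x : ℂ)) s fun ω hω => onto hθ (by
      obtain ⟨k, hk⟩ := orderOf_dvd_of_pow_eq_one hy
      rw [hk, pow_mul, hs ω hω, one_pow])
    refine ⟨m, fun j => ?_⟩
    rw [← zpow_natCast, hm, ← h]
    simp only [zpow_natCast]

end H17.KgvEg
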