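/- Tower ND (S4780): the subgroup `Z ⟨h⟩`. -/
import Cfsg.Agent.H23.NDSpec

set_option autoImplicit false

namespace H17.NDAc1

open H23.ND Subgroup

universe u

theorem cy {Γ : Type u} [Group Γ] [Finite Γ] {B : Subgroup Γ} [B.Normal] {h : Γ}
    (e : B ⊔ zpowers h = ⊤) (I : Subgroup Γ) : ∃ g ∈ I, I = (I ⊓ B) ⊔ zpowers g := by
  have : IsCyclic (Γ ⧸ B) := ⟨⟨(h : Γ ⧸ B), fun x => by
    obtain ⟨g, rfl⟩ := QuotientGroup.mk_surjective x
    obtain ⟨b, hb, _, ⟨k, rfl⟩, rfl⟩ := dec_gen e g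
    exact ⟨k, by simp [(QuotientGroup.eq_one_iff b).2 hb]⟩⟩⟩
  obtain ⟨⟨_, g, hg, rfl⟩, k⟩ := IsCyclic.exists_generator (α := I.map (QuotientGroup.mk' B))
  refine ⟨g, hg, le_antisymm (fun x hx => ?_) (sup_le inf_le_left (zpowers_le.2 hg))⟩
  obtain ⟨n, hn⟩ := k ⟨_, mem_map_of_mem _ hx⟩
  have e : ((g ^ n : Γ) : Γ ⧸ B) = x := by simpa using congrArg Subtype.val hn
  rw [show x = g ^ n * ((g ^ n)⁻¹ * x) by group]
  exact mul_mem (mem_sup_right ⟨n, rfl⟩) (mem_sup_left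
    ⟨I.mul_mem (I.inv_mem (I.zpow_mem hg n)) hx, QuotientGroup.eq.1 e⟩)

theorem jobAc1 : JobAc1.{u} := by
  intro Γ Λ _ _ _ _ B hB h a
  have zb : center Γ ≤ B := fun z hz => by
    by_contra c
    exact a.ne fun b hb => a.fq z c b hb (by
      rw [← mem_center_iff.1 hz b]; simp)
  have sh : ∀ x ∈ center Γ ⊔ zpowers h, ∀ y ∈ center Γ ⊔ zpowers h, x * y = y * x := by
    have k : ∀ y, y ∈ centralizer {h} → center Γ ⊔ zpowers h ≤ centralizer {y} := fun y hy =>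
      sup_le (center_le_centralizer _) (zpowers_le.2 (mem_centralizer_singleton_iff.2
        (mem_centralizer_singleton_iff.1 hy).symm))
    exact fun x hx y hy => mem_centralizer_singleton_iff.1
      (k y (k h (mem_centralizer_singleton_iff.2 rfl) hy) hx)
  have sb : (center Γ ⊔ zpowers h) ⊓ B = center Γ :=
    le_antisymm (fun x hx => mem_center_iff.2 fun g => mem_centralizer_singleton_iff.1
      ((sup_le (fun b hb => mem_centralizer_singleton_iff.2 (a.ab b hb x hx.2))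
        (zpowers_le.2 (mem_centralizer_singleton_iff.2 (sh _ (mem_sup_right (mem_zpowers h)) x hx.1))) :
          B ⊔ zpowers h ≤ centralizer {x}) (a.gen ▸ mem_top g))) (le_inf le_sup_left zb)
  refine ⟨zb, sb, sh, fun I hI => ?_, fun b hb hz g hg k => ?_, cy a.gen⟩
  · obtain ⟨g, hg, e⟩ := cy a.gen I
    by_cases gB : g ∈ B
    · refine ⟨1, one_mem _, fun x hx => mem_sup_left (hI ⟨by simpa using hx, ?_⟩)⟩
      rw [e] at hx
      simpa using sup_le inf_le_right (zpowers_le.2 gB) hx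
    obtain ⟨b0, h0, d, hd, rfl⟩ := dec_gen a.gen g
    have dB : d ∉ B := fun c => gB (mul_mem h0 c)
    have m : ∀ b ∈ B, b * d * b⁻¹ * d⁻¹ ∈ B := fun b hb => by
      simpa [mul_assoc] using mul_mem hb (hB.conj_mem _ (inv_mem hb) d)
    let f : B →* B := MonoidHom.mk' (fun b => ⟨_, m b b.2⟩) fun x y => Subtype.ext (by
      have := a.ab _ (m y y.2) _ (hB.conj_mem _ (inv_mem x.2) d)
      change x * y * d * (x * y : Γ)⁻¹ * d⁻¹ = x * d * (x : Γ)⁻¹ * d⁻¹ * (y * d * (y : Γ)⁻¹ * d⁻¹)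
      calc _ = x * (y * d * (y : Γ)⁻¹ * d⁻¹ * (d * (x : Γ)⁻¹ * d⁻¹)) := by group
        _ = _ := by rw [this]; group)
    have : ((center Γ).subgroupOf B).Normal := inferInstance
    obtain ⟨q, k⟩ := Finite.injective_iff_surjective.1 ((injective_iff_map_eq_one
      (QuotientGroup.map ((center Γ).subgroupOf B) ((center Γ).subgroupOf B) f fun z hz => by
        change (z : Γ) * d * (z : Γ)⁻¹ * d⁻¹ ∈ center Γ
        rw [← show d * z = z * d from mem_center_iff.1 hz d]; simp)).2 fun q hq => by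
      obtain ⟨b, rfl⟩ := QuotientGroup.mk_surjective q
      have : (b : Γ) * d * (b : Γ)⁻¹ * d⁻¹ ∈ center Γ := (QuotientGroup.eq_one_iff (f b)).1 hq
      exact (QuotientGroup.eq_one_iff b).2 (a.fq d dB b b.2 (by
        simpa [mul_assoc] using inv_mem this))) (⟨b0⁻¹, inv_mem h0⟩ : B)
    obtain ⟨b, rfl⟩ := QuotientGroup.mk_surjective q
    have k' : b0⁻¹⁻¹ * ((b : Γ) * d * (b : Γ)⁻¹ * d⁻¹) ∈ center Γ :=
      (QuotientGroup.eq (s := (center Γ).subgroupOf B) (b := f b)).1 k.symm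
    refine ⟨b, b.2, fun x hx => ?_⟩
    rw [e] at hx
    refine (sup_le (fun y hy => ?_) (zpowers_le.2 ?_) :
      _ ≤ (center Γ ⊔ zpowers h).comap (MulAut.conj (b : Γ)).toMonoidHom) hx
    · change b * y * (b : Γ)⁻¹ ∈ center Γ ⊔ zpowers h
      rw [mem_center_iff.1 (hI hy) b, mul_inv_cancel_right]
      exact mem_sup_left (hI hy)
    · change b * (b0 * d) * (b : Γ)⁻¹ ∈ center Γ ⊔ zpowers h
      rw [← mul_assoc, a.ab b b.2 b0 h0]
      simpa [mul_assoc] using mul_mem (mem_sup_left k') (mem_sup_right hd)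
  · have k1 : b * g * b⁻¹ * g⁻¹ ∈ center Γ := sb ▸ mem_inf.2 ⟨mul_mem k (inv_mem hg), by
      simpa [mul_assoc] using mul_mem hb (hB.conj_mem _ (inv_mem hb) g)⟩
    by_cases gB : g ∈ B
    · exact sb ▸ ⟨hg, gB⟩
    · exact absurd (a.fq g gB b hb (by simpa [mul_assoc] using inv_mem k1)) hz

end H17.NDAc1
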