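/- S1308, tower NF: an element of `R` that normalises `T R₀`. -/
import Cfsg.Agent.H54.NFSpec

set_option autoImplicit false

namespace H17.NFX1

open Cfsg Subgroup MulAction H14 H98 H1.Gold H31.S2 H14.GC H14.FE H54.NF

universe u

theorem jobX : JobX1.{u} := by
  intro G _ _ Q T R h y hy hyT hyN hφ
  have : Fact (Nat.Prime 2) := ⟨Nat.prime_two⟩
  let φ : T → ↥(R ⊓ cen T) := fun t => ⟨(t : G)⁻¹ * (y * t * y⁻¹), hφ t t.2⟩
  have hinj : Function.Injective φ := fun a b e => by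
    have e' : (a : G)⁻¹ * (y * a * y⁻¹) = (b : G)⁻¹ * (y * b * y⁻¹) := congrArg Subtype.val e
    by_contra hne
    refine hyT (h.fix (a * (b : G)⁻¹) (mul_mem a.2 (inv_mem b.2))
      (fun e1 => hne (Subtype.ext (mul_inv_eq_one.1 e1))) ⟨hy, ?_⟩)
    refine mem_centralizer_singleton_iff.2 ?_
    calc y * (a * (b : G)⁻¹)
        = a * ((a : G)⁻¹ * (y * a * y⁻¹)) * ((b : G)⁻¹ * (y * b * y⁻¹))⁻¹ * (b : G)⁻¹ * y := by
          group
      _ = a * (b : G)⁻¹ * y := by rw [e']; group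
  obtain ⟨e⟩ := h.iso
  have hsur : Function.Surjective φ :=
    (Finite.injective_iff_surjective_of_equiv e.symm.toEquiv).1 hinj
  have hs : ∀ r ∈ R ⊓ cen T, ∃ t ∈ T, t⁻¹ * (y * t * y⁻¹) = r := fun r hr => by
    obtain ⟨t, ht⟩ := hsur ⟨r, hr⟩
    exact ⟨t, t.2, congrArg Subtype.val ht⟩
  have key : ∀ t r : G, t⁻¹ * (y * t * y⁻¹) = r →
      y * y * t * (y * y)⁻¹ = t * r * (y * r * y⁻¹) := by
    rintro t _ rfl
    group
  have hR : IsPGroup 2 R := h.sylR.isPGroup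
  have hne : R ⊓ cen T ≠ ⊥ := fun e1 => h.ne (by
    rw [← card_eq_one, ← Nat.card_congr e.toEquiv, card_eq_one]; exact e1)
  obtain ⟨s, hs1, hs2, hs3⟩ := exists_inv_cen_two (hR.to_le (zpowers_le.2 hy))
    (hR.to_le inf_le_left) (zpowers_le.2 hyN) hne
  have hyy : y * y ∈ cen T := by
    obtain ⟨t, ht, e1⟩ := hs s hs1
    have h1 := key t s e1
    rw [show y * s * y⁻¹ = s by rw [hs3 y (mem_zpowers y), mul_inv_cancel_right], mul_assoc t,
      hs2.2, mul_one] at h1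
    refine h.fix t ht (fun e2 => hs2.1 (by rw [← e1, e2]; group)) ⟨mul_mem hy hy, ?_⟩
    exact mem_centralizer_singleton_iff.2 (mul_inv_eq_iff_eq_mul.1 h1)
  refine ⟨fun r hr => ?_, hyy, hs⟩
  obtain ⟨t, ht, e1⟩ := hs r hr
  have h1 := key t r e1
  rw [← hyy t ht, mul_inv_cancel_right, mul_assoc t, left_eq_mul] at h1
  exact (eq_inv_of_mul_eq_one_right h1)

end H17.NFX1
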