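import Cfsg.Agent.H31.O7K
import Cfsg.Agent.S2426

/-! O7, chapter B: lifting `SL₂` to the spin module (`JobLF`), the obstruction `W7` (`JobMW`). -/

set_option autoImplicit false

namespace H17.O7

open H56 QuadraticMap Module Cfsg H31.O7 Matrix
open H56.SL2M (xx yy hh)
open scoped MatrixGroups

universe u

theorem jobLF : JobLF.{u} := fun sk K _ _ V _ _ _ Q S _ _ _ β γ sp p F _ _ cK cF φ => by
  have k := sk K V Q S β γ sp
  have pp : p.Prime := CharP.char_is_prime F p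
  have po : Odd p := pp.odd_of_ne_two (by
    rintro rfl
    exact sp.two (by simpa using CharP.cast_eq_zero K 2))
  obtain ⟨e, -, -⟩ := Cfsg.Agent.S2426.result (K := F)
  let x : Bool × F → SL(2, F) := fun s => e (PresentedGroup.of s)
  have r1 : ∀ b t u, x (b, t) * x (b, u) = x (b, t + u) := fun b t u => by
    rw [← mul_inv_eq_one]
    simp only [x, ← map_mul, ← map_inv, EmbeddingLike.map_eq_one_iff]
    exact PresentedGroup.one_of_mem (Or.inl ⟨b, t, u, rfl⟩)
  have r2 : ∀ b t u, t ≠ 0 → x (b, t) * x (!b, -t⁻¹) * x (b, t) * x (b, u) *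
      (x (b, t) * x (!b, -t⁻¹) * x (b, t))⁻¹ = x (!b, -(t⁻¹ ^ 2 * u)) := fun b t u ht => by
    rw [← mul_inv_eq_one]
    simp only [x, ← map_mul, ← map_inv, EmbeddingLike.map_eq_one_iff]
    exact PresentedGroup.one_of_mem (Or.inr ⟨b, t, u, ht, rfl⟩)
  have x0 : ∀ b, x (b, 0) = 1 := fun b => by simpa using r1 b 0 0
  have xn : ∀ b t (n : ℕ), x (b, t) ^ n = x (b, n * t) := fun b t n => by
    induction n with
    | zero => simp [x0]
    | succ n ih => rw [pow_succ, ih, r1]; push_cast; ring_nf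
  have xp : ∀ s, φ (x s) ^ p = 1 := fun s => by
    rw [← map_pow, xn, CharP.cast_eq_zero, zero_mul, x0, map_one]
  choose L hL Lp using fun s => k.odd (φ (x s)) p po (xp s)
  have cj : ∀ (h : SL(2, F)) (H : O β) s s', Lf γ (φ h) H.1 → h * x s * h⁻¹ = x s' →
      H * L s * H⁻¹ = L s' := fun h H s s' a c =>
    k.odd' _ _ _ p p po po (Lp s') (by rw [conj_pow, Lp]; simp) (hL s') (by
      have := (a.mul (hL s)).mul a.inv
      rwa [← map_mul, ← map_inv, ← map_mul, c] at this)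
  have a1 : ∀ b t u, L (b, t) * L (b, u) = L (b, t + u) := fun b t u => by
    have c : Commute (L (b, t)) (L (b, u)) := mul_inv_eq_iff_eq_mul.1
      (cj _ _ _ _ (hL (b, t)) (by rw [r1, add_comm, ← r1]; simp))
    refine k.odd' _ _ _ p p po po (Lp _) (by rw [c.mul_pow, Lp, Lp, one_mul]) (hL _) ?_
    have := (hL (b, t)).mul (hL (b, u))
    rwa [← map_mul, r1] at this
  let ψ := PresentedGroup.toGroup (f := L) (rels := _) (fun r hr => show FreeGroup.lift L r = 1 by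
    rcases hr with ⟨b, t, u, rfl⟩ | ⟨b, t, u, ht, rfl⟩
    · simp [a1]
    · simp only [map_mul, map_inv, FreeGroup.lift_apply_of, mul_inv_eq_one]
      refine cj _ _ _ _ ?_ (r2 b t u ht)
      rw [map_mul, map_mul]
      exact ((hL _).mul (hL _)).mul (hL _) :
    ∀ r ∈ ({g : FreeGroup (Bool × F) | ∃ (b : Bool) (t u : F), g = FreeGroup.of (b, t) *
      FreeGroup.of (b, u) * (FreeGroup.of (b, t + u))⁻¹} ∪ {g | ∃ (b : Bool) (t u : F), t ≠ 0 ∧
      g = (FreeGroup.of (b, t) * FreeGroup.of (!b, -t⁻¹) * FreeGroup.of (b, t)) *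
        FreeGroup.of (b, u) * (FreeGroup.of (b, t) * FreeGroup.of (!b, -t⁻¹) *
        FreeGroup.of (b, t))⁻¹ * (FreeGroup.of (!b, -(t⁻¹ ^ 2 * u)))⁻¹}), FreeGroup.lift L r = 1)
  refine ⟨ψ.comp e.symm.toMonoidHom, fun g => ?_⟩
  obtain ⟨y, rfl⟩ := e.surjective g
  let T : Subgroup _ :=
    { carrier := {y | Lf γ (φ (e y)) (ψ y).1}
      one_mem' := by simpa using Lf.one γ
      mul_mem' := fun {a b} ha hb => by simpa using Lf.mul ha hb
      inv_mem' := fun {a} ha => by simpa using Lf.inv ha }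
  have := PresentedGroup.generated_by _ T (fun s => by
    change Lf γ (φ (x s)) (ψ (PresentedGroup.of s)).1
    rw [PresentedGroup.toGroup.of]
    exact hL s) y
  rw [MonoidHom.comp_apply, MulEquiv.coe_toMonoidHom, e.symm_apply_apply]
  exact this

theorem sl2_gen {F : Type*} [Field F] [Finite F] (T : Subgroup SL(2, F)) (hx : ∀ t, xx t ∈ T)
    (hy : ∀ t, yy t ∈ T) (g : SL(2, F)) : g ∈ T := by
  obtain ⟨e, a, b⟩ := Cfsg.Agent.S2426.result (K := F)
  obtain ⟨y, rfl⟩ := e.surjective g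
  refine PresentedGroup.generated_by _ (T.comap e.toMonoidHom) ?_ y
  rintro ⟨_ | _, t⟩
  · exact show e _ ∈ T from (Subtype.ext (b t) : e _ = yy t) ▸ hy t
  · exact show e _ ∈ T from (Subtype.ext (a t) : e _ = xx t) ▸ hx t

theorem w7_of {M Γ : Type*} [AddCommGroup M] [Group Γ] {r : ℕ} (U : M → Γ)
    (add : ∀ a b, U (a + b) = U a * U b) (ne : ∃ a, U a ≠ 1) (hr : ∀ a : M, r • a = 0)
    (n : Fin 4 → Γ) (f : Fin 4 → M → M) (hn : ∀ i a, n i * U a * (n i)⁻¹ = U (f i a))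
    (h1 : ∀ i j, i ≠ j → ∀ a, ∃ b, a = f i b - f j b) (h2 : ∀ i j a, ∃ b, a = f i b + f j b) :
    W7 Γ r := by
  let U' : Multiplicative M →* Γ := MonoidHom.mk' (fun a => U a.toAdd) fun a b => add _ _
  have sub : ∀ a b, U (a - b) = U a * (U b)⁻¹ := fun a b => by
    rw [eq_mul_inv_iff_mul_eq, ← add, sub_add_cancel]
  refine ⟨U'.range, fun e => ?_, ?_, ?_, n, ?_, ?_, ?_⟩
  · obtain ⟨a, ha⟩ := ne
    exact ha (Subgroup.mem_bot.1 (e ▸ ⟨Multiplicative.ofAdd a, rfl⟩))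
  · rintro _ ⟨a, rfl⟩
    rw [← map_pow, show a ^ r = 1 from hr a.toAdd, map_one]
  · rintro _ ⟨a, rfl⟩ _ ⟨b, rfl⟩
    rw [← map_mul, mul_comm, map_mul]
  · rintro i _ ⟨a, rfl⟩
    exact ⟨Multiplicative.ofAdd (f i a.toAdd), (hn i _).symm⟩
  · rintro i j ij _ ⟨a, rfl⟩
    obtain ⟨b, hb⟩ := h1 i j ij a.toAdd
    exact ⟨U b, ⟨Multiplicative.ofAdd b, rfl⟩, by rw [hn, hn, ← sub, ← hb]; rfl⟩
  · rintro i j _ ⟨a, rfl⟩
    obtain ⟨b, hb⟩ := h2 i j a.toAdd
    exact ⟨U b, ⟨Multiplicative.ofAdd b, rfl⟩, by rw [hn, hn, ← add, ← hb]; rfl⟩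

theorem exists_four (F : Type*) [Field F] [Fintype F]
    (h : Fintype.card F % 4 = 3 ∧ 11 ≤ Fintype.card F ∨ 17 ≤ Fintype.card F) :
    ∃ s : Fin 4 → Fˣ, ∀ i j, i ≠ j → s i ^ 4 ≠ s j ^ 4 := by
  classical
  obtain ⟨g, hg⟩ := IsCyclic.exists_ofOrder_eq_natCard (α := Fˣ)
  rw [Nat.card_eq_fintype_card, Fintype.card_units] at hg
  refine ⟨fun i => g ^ i.1, fun i j ij e => ij ?_⟩
  simp only [← pow_mul] at e
  by_cases c : 12 < orderOf g
  · have := pow_injOn_Iio_orderOf (x := g) (show i.1 * 4 < _ by omega)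
      (show j.1 * 4 < _ by omega) e
    omega
  · rw [pow_eq_pow_iff_modEq, show orderOf g = 10 by omega, Nat.ModEq] at e
    omega

theorem jobMW : JobMW := fun F _ _ r _ Γ _ φ r2 => by
  have h2 : (2 : F) ≠ 0 := fun e => r2 ((Nat.prime_dvd_prime_iff_eq (CharP.char_is_prime F r)
    Nat.prime_two).1 ((CharP.cast_eq_zero_iff F r 2).1 (by simpa using e)))
  refine ⟨fun ne c => ?_, fun u add ⟨a, b, ne⟩ hx hy => ?_⟩
  · obtain ⟨s, hs⟩ := exists_four F c
    have k : ∀ i j, i ≠ j → ((s i : F) * s i - s j * s j) * (s i * s i + s j * s j) ≠ 0 :=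
      fun i j ij e => hs i j ij (Units.ext (by push_cast; linear_combination e))
    refine w7_of (fun t => φ (xx t)) (fun a b => by rw [H56.SL2M.xx_add, map_mul]) ⟨1, ne⟩
      (fun a => by simp) (fun i => φ (hh (s i))) (fun i t => s i * s i * t) (fun i t => by
        rw [← map_mul, H56.SL2M.hh_xx, map_mul, mul_inv_cancel_right]) (fun i j ij a => ?_)
      fun i j a => ?_
    · have := left_ne_zero_of_mul (k i j ij)
      exact ⟨a / ((s i : F) * s i - s j * s j), by rw [← sub_mul, mul_div_cancel₀ _ this]⟩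
    · have : (s i : F) * s i + s j * s j ≠ 0 := by
        by_cases ij : i = j
        · rw [ij, ← two_mul]; simp [h2]
        · exact right_ne_zero_of_mul (k i j ij)
      exact ⟨a / ((s i : F) * s i + s j * s j), by rw [← add_mul, mul_div_cancel₀ _ this]⟩
  · let U : (Fin 2 → F) → Γ := fun v => u (v 0) (v 1)
    have cm : ∀ g h : SL(2, F), (g * h).1 = g.1 * h.1 := fun _ _ => rfl
    have c1 : (1 : SL(2, F)).1 = 1 := rfl
    have cn : ∀ g : SL(2, F), (-g).1 = -g.1 := fun _ => rfl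
    let T : Subgroup SL(2, F) :=
      { carrier := {g | ∀ v, φ g * U v * (φ g)⁻¹ = U (g.1 *ᵥ v)}
        one_mem' := fun v => by simp
        mul_mem' := fun {g h} hg hh v => by
          rw [map_mul, cm, ← mulVec_mulVec, ← hg, ← hh]; group
        inv_mem' := fun {g} hg v => by
          have := hg ((g⁻¹).1 *ᵥ v)
          rw [mulVec_mulVec, ← cm, mul_inv_cancel,
            c1, one_mulVec] at this
          rw [← this, map_inv]; group }
    have hT : ∀ g v, φ g * U v * (φ g)⁻¹ = U (g.1 *ᵥ v) := sl2_gen T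
      (fun t v => by simp [U, hx, H56.SL2M.xx_coe, dotProduct])
      fun t v => by simp [U, hy, H56.SL2M.yy_coe, dotProduct, add_comm]
    obtain ⟨i, j, ii, jj, ij⟩ := exists_q8 F
    have i1 : i⁻¹ = -i := inv_eq_of_mul_eq_one_right (by rw [mul_neg, ii, neg_neg])
    have j1 : j⁻¹ = -j := inv_eq_of_mul_eq_one_right (by rw [mul_neg, jj, neg_neg])
    have ji : j * i = -(i * j) := by
      rw [mul_inv_eq_iff_eq_mul, j1] at ij; rw [ij, neg_mul, neg_neg]
    have i2 : ∀ x, i * (i * x) = -x := fun x => by rw [← mul_assoc, ii, neg_one_mul]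
    have j3 : ∀ x, j * (i * x) = -(i * (j * x)) := fun x => by
      rw [← mul_assoc, ji, neg_mul, mul_assoc]
    let q : Fin 4 → SL(2, F) := ![1, i, j, i * j]
    have hq : ∀ a b, a ≠ b → q b * (q a)⁻¹ = -(q a * (q b)⁻¹) := fun a b => by
      fin_cases a <;> fin_cases b <;> simp [q, i1, j1, ji, ii, jj, i2, j3, mul_assoc]
    have one : ∀ a, (q a).1 * ((q a)⁻¹).1 = 1 := fun a => by
      rw [← cm, mul_inv_cancel, c1]
    have hq' : ∀ a b, a ≠ b → (q b).1 * ((q a)⁻¹).1 = -((q a).1 * ((q b)⁻¹).1) := fun a b c => by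
      rw [← cm, hq a b c, cn,
        cm]
    have t : ∀ v : Fin 2 → F, (2 : F)⁻¹ • (v + v) = v := fun v => by
      rw [← two_smul F v, smul_smul, inv_mul_cancel₀ h2, one_smul]
    refine w7_of U (fun v w => add _ _ _ _) ⟨![a, b], ne⟩ (fun v => by ext; simp)
      (fun a => φ (q a)) (fun a v => (q a).1 *ᵥ v) (fun a v => hT _ v) (fun a b c v => ?_)
      fun a b v => ?_
    · refine ⟨(2 : F)⁻¹ • (((q a)⁻¹).1 *ᵥ v - ((q b)⁻¹).1 *ᵥ v), ?_⟩
      simp only [mulVec_smul, mulVec_sub, mulVec_mulVec, one, hq' a b c, one_mulVec, neg_mulVec,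
        ← smul_sub]
      rw [← t v]; congr 1; rw [t v]; abel
    · by_cases c : a = b
      · refine ⟨(2 : F)⁻¹ • (((q a)⁻¹).1 *ᵥ v), ?_⟩
        simp only [← c, mulVec_smul, mulVec_mulVec, one, one_mulVec, ← smul_add, t]
      · refine ⟨(2 : F)⁻¹ • (((q a)⁻¹).1 *ᵥ v + ((q b)⁻¹).1 *ᵥ v), ?_⟩
        simp only [mulVec_smul, mulVec_add, mulVec_mulVec, one, hq' a b c, one_mulVec, neg_mulVec,
          ← smul_add]
        rw [← t v]; congr 1; rw [t v]; abel

end H17.O7
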