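import Cfsg.Agent.H31.O7K

/-! O7, chapter B: Scott's lemma (`JobSct`, `JobSC`). -/

set_option autoImplicit false

namespace H17.O7

open H56 QuadraticMap Module Cfsg H31.O7

universe u

variable {K : Type u} [Field K] {V : Type u} [AddCommGroup V] [Module K V] {Q : QuadraticForm K V}

theorem jobSct : JobSct.{u} := fun K _ V _ _ _ Q hQ x y hlt => by
  by_contra c
  have c0 : ∀ s, x s = s → y s = s → s = 0 := fun s a b => by_contra fun e => c ⟨s, e, a, b⟩
  have h1 : perp Q (x.mov ⊔ y.mov) = ⊥ := eq_bot_iff.2 fun s hs =>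
    c0 s (O.mem_fix.1 (x.perp_mov hQ ▸ perp_anti le_sup_left hs))
      (O.mem_fix.1 (y.perp_mov hQ ▸ perp_anti le_sup_right hs))
  have h2 := finrank_perp hQ (x.mov ⊔ y.mov)
  rw [h1, finrank_bot] at h2
  have h3 := Submodule.finrank_sup_add_finrank_inf_eq x.mov y.mov
  have h4 := (x * y).rk_add_finrank_fix
  let f : (x * y).fix →ₗ[K] ↥(x.mov ⊓ y.mov) :=
    ((y.lin - LinearMap.id).domRestrict (x * y).fix).codRestrict _ fun v => by
      refine ⟨?_, y.sub_mem_mov v⟩
      have e : y v = x⁻¹ v := (x.inv_apply_eq.2 (O.mem_fix.1 v.2).symm).symm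
      change y v - v ∈ x.mov
      rw [e, ← x.mov_inv]
      exact x⁻¹.sub_mem_mov v
  have hf : Function.Injective f := (injective_iff_map_eq_zero f).2 fun v hv => by
    have e : y v = v := sub_eq_zero.1 (congrArg Subtype.val hv)
    have e' : x (y v) = v := O.mem_fix.1 v.2
    exact Subtype.ext (c0 v (by rwa [e] at e') e)
  have h5 := LinearMap.finrank_le_finrank_of_injective hf
  simp only [O.rk] at hlt h4
  omega

open Classical in
/-- The rank of a diagonal isometry. -/
theorem rk_diag {ι : Type*} [Fintype ι] (b : Basis ι K V) (g : O Q) (c : ι → K)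
    (h : ∀ i, g (b i) = c i • b i) : g.rk = ∑ i, if c i = 1 then 0 else 1 := by
  have e : g.mov = Submodule.span K (Set.range fun i : {i // c i ≠ 1} => b i) := by
    apply le_antisymm
    · rw [O.mov, LinearMap.range_eq_map, ← b.span_eq, Submodule.map_span_le]
      rintro _ ⟨i, rfl⟩
      have : (g.lin - LinearMap.id : V →ₗ[K] V) (b i) = (c i - 1) • b i := by simp [h, sub_smul]
      rw [this]
      by_cases hi : c i = 1
      · simp [hi]
      · exact Submodule.smul_mem _ _ (Submodule.subset_span ⟨⟨i, hi⟩, rfl⟩)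
    · rw [Submodule.span_le]
      rintro _ ⟨i, rfl⟩
      have := g.mov.smul_mem (c i - 1)⁻¹ (g.sub_mem_mov (b i))
      rwa [h, show c i • b i - b i = (c i - 1) • b i by simp [sub_smul], smul_smul,
        inv_mul_cancel₀ (sub_ne_zero.2 i.2), one_smul] at this
  have li : LinearIndependent K fun i : {i // c i ≠ 1} => b i :=
    b.linearIndependent.comp _ Subtype.val_injective
  rw [O.rk, e, finrank_span_eq_card li, Fintype.card_subtype, Finset.card_filter]
  exact Finset.sum_congr rfl fun i _ => by by_cases hi : c i = 1 <;> simp [hi]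

theorem rk_diag_le {ι : Type*} [Fintype ι] (b : Basis ι K V) (g : O Q) (c : ι → K)
    (h : ∀ i, g (b i) = c i • b i) (T : Finset ι) (hT : ∀ i, i ∉ T → c i = 1) : g.rk ≤ T.card := by
  classical
  rw [rk_diag b g c h, Finset.card_eq_sum_ones, ← Finset.sum_subset (Finset.subset_univ T)
    fun i _ hi => by simp [hT i hi]]
  exact Finset.sum_le_sum fun i _ => by split_ifs <;> simp

variable {e : V} {v w : Fin 3 → V}

theorem hb_indep (h2 : (2 : K) ≠ 0) (h : Hb Q e v w) :
    LinearIndependent K (fun i : Option (Fin 3 ⊕ Fin 3) => i.elim e (Sum.elim v w)) := by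
  rw [Fintype.linearIndependent_iff]
  intro a ha
  simp only [Fintype.sum_option, Fintype.sum_sum_type, Option.elim, Sum.elim_inl,
    Sum.elim_inr] at ha
  have k : ∀ t, a none * polar Q t e + (∑ i, a (some (.inl i)) * polar Q t (v i) +
      ∑ i, a (some (.inr i)) * polar Q t (w i)) = 0 := fun t => by
    have := congrArg (Q.polarBilin t) ha
    simpa only [map_add, map_sum, map_smul, map_zero, polarBilin_apply_apply, smul_eq_mul] using this
  rintro (_ | i | i)
  · have := k e
    simpa [h.ev, h.ew, polar_self', h.ee, h2] using this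
  · have := k (w i)
    simpa [polar_comm Q (w i), h.ew, h.vw, h.ww] using this
  · have := k (v i)
    simpa [polar_comm Q (v i) e, h.ev, h.vw, h.vv] using this

open Classical in
theorem rk_dg [FiniteDimensional K V] (h2 : (2 : K) ≠ 0) (h7 : finrank K V = 7) (h : Hb Q e v w)
    {g : O Q} {l : Fin 3 → K} (d : Dg g e v w l) :
    g.rk = 2 * ∑ i, if l i = 1 then 0 else 1 := by
  let b := basisOfLinearIndependentOfCardEqFinrank (hb_indep h2 h) (by simp [h7])
  have := rk_diag b g (fun i => i.elim 1 (Sum.elim l fun i => (l i)⁻¹)) (by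
    rintro (_ | i | i) <;> simp [b, d.1, (d.2 _).2])
  rw [this]
  simp only [Fintype.sum_option, Fintype.sum_sum_type, Option.elim, Sum.elim_inl,
    Sum.elim_inr, inv_eq_one, if_true, zero_add, two_mul]
  congr 1

theorem dg_pow (h : Hb Q e v w) {g : O Q} {l : Fin 3 → K} (d : Dg g e v w l) {n : ℕ}
    (hn : g ^ n = 1) (i : Fin 3) : l i ^ n = 1 := by
  have a : ∀ m : ℕ, (g ^ m) (v i) = l i ^ m • v i := fun m => by
    induction m with
    | zero => simp
    | succ m ih => rw [pow_succ', O.mul_apply, ih, map_smul, (d.2 i).2.1, smul_smul, pow_succ]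
  have := congrArg (fun t => polar Q t (w i)) (a n)
  simpa [hn, h.vw] using this.symm

theorem two_of_rk [FiniteDimensional K V] (h2 : (2 : K) ≠ 0) (h7 : finrank K V = 7)
    (h : Hb Q e v w) {g : O Q} {l : Fin 3 → K} (d : Dg g e v w l) (r : g.rk = 4) :
    ∃ i, l i = 1 ∧ l (i + 1) ≠ 1 ∧ l (i + 2) ≠ 1 := by
  rw [rk_dg h2 h7 h d, Fin.sum_univ_three] at r
  by_cases a : l 0 = 1 <;> by_cases b : l 1 = 1 <;> by_cases c : l 2 = 1 <;>
    simp only [a, b, c, if_true, if_false] at r <;> try omega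
  exacts [⟨0, a, b, c⟩, ⟨1, b, c, a⟩, ⟨2, c, a, b⟩]

theorem prod3 (f : Fin 3 → K) (i : Fin 3) : ∏ j, f j = f i * f (i + 1) * f (i + 2) := by
  rw [Fin.prod_univ_three]
  fin_cases i
  · rfl
  · change _ = f 1 * f 2 * f 0; ring
  · change _ = f 2 * f 0 * f 1; ring

variable {S : Type u} [AddCommGroup S] [Module K S] {β : QuadraticForm K S}

theorem rk_spin (b : Basis (Finset (Fin 3)) K S) (G : O β) {l : Fin 3 → K} {μ : K}
    (h : ∀ I, G (b I) = (μ * ∏ i ∈ I, (l i)⁻¹) • b I) {i : Fin 3} (h0 : l i = 1) (m0 : μ ≠ 0)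
    (c : (l (i + 1) = μ ∧ l (i + 2) = μ) ∨ (μ = 1 ∧ l (i + 1) * l (i + 2) = 1)) : G.rk ≤ 4 := by
  have p : ∀ I : Finset (Fin 3), ∏ j ∈ I, (l j)⁻¹ =
      (if i + 1 ∈ I then (l (i + 1))⁻¹ else 1) * if i + 2 ∈ I then (l (i + 2))⁻¹ else 1 := fun I => by
    rw [← Fintype.prod_ite_mem, prod3 _ i, h0]; simp
  have c1 : ∀ i : Fin 3, (Finset.univ.filter fun I : Finset (Fin 3) =>
    (i + 1 ∈ I ↔ i + 2 ∈ I)).card ≤ 4 := by decide
  have c2 : ∀ i : Fin 3, (Finset.univ.filter fun I : Finset (Fin 3) =>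
    ¬ (i + 1 ∈ I ↔ i + 2 ∈ I)).card ≤ 4 := by decide
  rcases c with ⟨a, c⟩ | ⟨a, c⟩
  · refine (rk_diag_le b G _ h (Finset.univ.filter fun I => (i + 1 ∈ I ↔ i + 2 ∈ I))
      fun I hI => ?_).trans (c1 i)
    rw [p, a, c]
    by_cases x : i + 1 ∈ I <;> by_cases y : i + 2 ∈ I <;> simp [x, y, m0] at hI ⊢
  · refine (rk_diag_le b G _ h (Finset.univ.filter fun I => ¬ (i + 1 ∈ I ↔ i + 2 ∈ I))
      fun I hI => ?_).trans (c2 i)
    rw [p, a]
    by_cases x : i + 1 ∈ I <;> by_cases y : i + 2 ∈ I <;> simp [x, y] at hI ⊢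
    rw [← mul_inv, c, inv_one]

theorem rk_unip [FiniteDimensional K S] (h3 : (3 : K) = 0) (h8 : finrank K S = 8) (Y : O β)
    (e : Y ^ 3 = 1) : Y.rk ≤ 5 := by
  let N := Y.lin - LinearMap.id
  have n3 : ∀ s, N (N (N s)) = 0 := fun s => by
    have a : Y (Y (Y s)) = s := by
      have := congrArg (fun g : O β => g s) e
      simpa [pow_succ] using this
    have : N (N (N s)) = Y (Y (Y s)) - s + (3 : K) • (Y s - Y (Y s)) := by
      simp only [N, LinearMap.sub_apply, O.lin_apply, LinearMap.id_apply, map_sub]; module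
    rw [this, a, h3, zero_smul, sub_self, add_zero]
  have k : ∀ U : Submodule K S, finrank K U ≤ finrank K (U.map N) + finrank K Y.fix := fun U => by
    have := LinearMap.finrank_range_add_finrank_ker (N.domRestrict U)
    rw [LinearMap.range_domRestrict] at this
    have h := Submodule.finrank_mono (Submodule.map_subtype_le U (LinearMap.ker (N.domRestrict U)))
    have h' : finrank K ((LinearMap.ker (N.domRestrict U)).map U.subtype) ≤ finrank K Y.fix :=
      Submodule.finrank_mono (by rintro _ ⟨s, hs, rfl⟩; exact hs)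
    rw [Submodule.finrank_map_subtype_eq] at h'
    omega
  have a := k ⊤
  have b := k ((⊤ : Submodule K S).map N)
  have c : finrank K (((⊤ : Submodule K S).map N).map N) ≤ finrank K Y.fix :=
    Submodule.finrank_mono (by rintro _ ⟨_, ⟨s, -, rfl⟩, rfl⟩; exact n3 s)
  have d := Y.rk_add_finrank_fix
  rw [finrank_top] at a
  omega

theorem jobSC : JobSC.{u} := fun sk dg sct K _ _ V _ _ _ Q S _ _ _ β γ sp x y xx xr y3 yr s1 => by
  have k := sk K V Q S β γ sp
  obtain ⟨G, hG, s0, s00, Gs⟩ := s1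
  obtain ⟨Y, hY, Y3⟩ := k.odd y 3 (by decide) y3
  have hX : Lf γ x (G * Y⁻¹ : O β).1 := by simpa using hG.mul hY.inv
  have dx : LinearMap.det x.lin = 1 := det_of_even sp.ndV (xr ▸ by decide)
  have dy : LinearMap.det y.lin = 1 := det_of_odd sp.ndV (by decide) y3
  have rX : (G * Y⁻¹ : O β).rk ≤ 4 := by
    obtain ⟨e, v, w, l, hb, d⟩ := dg K V Q inferInstance sp.two sp.ndV sp.dimV x 2
      (by simpa using sp.two) (by rw [pow_two, xx]) dx
    obtain ⟨b, sb⟩ := k.bas e v w hb
    obtain ⟨μ, m2, h⟩ := sb.diag x l d _ hX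
    obtain ⟨i, a0, a1, a2⟩ := two_of_rk sp.two sp.dimV hb d xr
    have q : ∀ j, l j ≠ 1 → l j = -1 := fun j hj =>
      (sq_eq_one_iff.1 (dg_pow hb d (by rw [pow_two, xx]) j)).resolve_left hj
    rw [← Fin.prod_univ_three, prod3 l i, a0, q _ a1, q _ a2] at m2
    have m : μ = 1 ∨ μ = -1 := sq_eq_one_iff.1 (by rw [m2]; ring)
    refine rk_spin b _ h a0 (by rintro rfl; simp at m2) ?_
    rw [q _ a1, q _ a2]
    exact m.elim (fun e => .inr ⟨e, by ring⟩) fun e => .inl ⟨e.symm, e.symm⟩
  have rY : Y.rk ≤ 4 := by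
    by_cases h3 : (3 : K) = 0
    · have := rk_unip h3 sp.dim Y Y3
      obtain ⟨m, hm⟩ := rk_even sp.nd sp.two (det_of_odd sp.nd (by decide) Y3)
      omega
    obtain ⟨e, v, w, l, hb, d⟩ := dg K V Q inferInstance sp.two sp.ndV sp.dimV y 3
      (by simpa using h3) y3 dy
    obtain ⟨b, sb⟩ := k.bas e v w hb
    obtain ⟨μ, m2, h⟩ := sb.diag y l d _ hY
    obtain ⟨i, a0, a1, a2⟩ := two_of_rk sp.two sp.dimV hb d (yr.resolve_left h3)
    have m3 : μ ^ 3 = 1 := by
      have e0 : Y (b ∅) = μ • b ∅ := by simpa using h ∅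
      have := congrArg (fun g : O β => g (b ∅)) Y3
      simp only [pow_succ, pow_zero, one_mul, O.mul_apply, e0, map_smul, smul_smul,
        O.one_apply] at this
      have := congrArg (fun s => b.repr s ∅) this
      simpa [pow_succ, mul_assoc] using this
    have q : ∀ j, l j ≠ 1 → l j ^ 2 + l j + 1 = 0 := fun j hj => by
      apply mul_left_cancel₀ (sub_ne_zero.2 hj)
      linear_combination dg_pow hb d y3 j
    rw [← Fin.prod_univ_three, prod3 l i, a0] at m2
    refine rk_spin b _ h a0 (by rintro rfl; simp at m3) ?_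
    by_cases c : l (i + 1) = l (i + 2)
    · have : l (i + 2) = μ := by
        rw [c] at m2
        linear_combination (-μ ^ 2 - l (i + 2) ^ 2) * m2 + μ * m3 - l (i + 2) * dg_pow hb d y3 (i + 2)
      exact .inl ⟨c.trans this, this⟩
    · have s : l (i + 1) + l (i + 2) + 1 = 0 := by
        apply mul_left_cancel₀ (sub_ne_zero.2 c)
        linear_combination q _ a1 - q _ a2
      have p : l (i + 1) * l (i + 2) = 1 := by linear_combination l (i + 1) * s - q _ a1
      exact .inr ⟨by linear_combination m3 - μ * m2 - μ * p, p⟩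
  have rG : G.rk ≤ 7 := by
    have := G.rk_add_finrank_fix
    have : finrank K G.fix ≠ 0 := fun e => s00 (by
      have := Submodule.finrank_eq_zero.1 e ▸ O.mem_fix.2 Gs
      simpa using this)
    have := sp.dim
    omega
  obtain ⟨s, s0, a, b⟩ := sct K S β sp.nd (G * Y⁻¹) Y (by
    rw [inv_mul_cancel_right, sp.dim]; omega)
  exact ⟨s, s0, ⟨_, hX, a⟩, ⟨_, hY, b⟩⟩

end H17.O7
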