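import Cfsg.Agent.H89.ON2Spec

/-! The slot `S2` of the ON2 tower: the Sylow data. -/

set_option autoImplicit false
set_option linter.unusedSectionVars false

namespace H17.ON2S

open MulAction Cfsg Subgroup H89.K H98 H89.ON2

universe u

/-- A non-trivial finite `2`-group has a central involution. -/
theorem exists_cinv {G : Type*} [Group G] [Finite G] {R : Subgroup G} (hR : IsPGroup 2 R)
    (h : R ≠ ⊥) : ∃ l ∈ R, l ≠ 1 ∧ l * l = 1 ∧ ∀ x ∈ R, x * l = l * x := by
  have : Fact (Nat.Prime 2) := ⟨Nat.prime_two⟩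
  have : Nontrivial R := (nontrivial_iff_ne_bot R).2 h
  obtain ⟨n, hn, e⟩ := (hR.to_subgroup (center R)).nontrivial_iff_card.1 hR.center_nontrivial
  obtain ⟨z, hz⟩ := exists_prime_orderOf_dvd_card' (G := center R) 2 (e ▸ dvd_pow_self 2 hn.ne')
  refine ⟨z.1.1, z.1.2, fun h1 => ?_, ?_, fun x hx => ?_⟩
  · have : z = 1 := Subtype.ext (Subtype.ext h1)
    rw [this, orderOf_one] at hz
    exact absurd hz (by decide)
  · have := pow_orderOf_eq_one z
    rw [hz, sq] at this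
    exact congrArg (fun y : center R => y.1.1) this
  · exact congrArg Subtype.val (mem_center_iff.1 z.2 ⟨x, hx⟩)

theorem jobS2 : JobS2.{u} := by
  intro phi G Ω _ _ _ N a b ev hab
  have : Fact (Nat.Prime 2) := ⟨Nat.prime_two⟩
  have ti := ev.toTI
  obtain ⟨s0, sa, sb⟩ := ti.t2.two hab hab.symm
  obtain ⟨R, hR⟩ := exists_isSyl 2 (X N a b)
  have hR' : IsSyl 2 (cj s0 R) (X N b a) := by
    have := hR.cj s0
    rwa [ti.cj_X, sa, sb] at this
  have hR'' : IsSyl 2 (cj s0 (cj s0 R)) (X N a b) := by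
    have := hR'.cj s0
    rwa [ti.cj_X, sa, sb] at this
  obtain ⟨k, hk, ek⟩ := hR''.exists_cj_eq hR
  have e1 : cj (k * s0) R = cj s0 R := by
    rw [← cj_cj]
    refine cj_eq_self (mem_normalizer_of_cj_le ?_)
    rintro _ ⟨l, hl, rfl⟩
    have : k * l * k⁻¹ = l := by rw [ti.comm hab hk (hR'.le hl), mul_inv_cancel_right]
    simpa [this] using hl
  have e2 : cj (k * s0) (cj s0 R) = R := by rw [← cj_cj, ek]
  generalize cj s0 R = R' at hR' e1 e2
  have cRL : ∀ r ∈ R, ∀ l ∈ R', r * l = l * r := fun r hr l hl =>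
    ti.comm hab (hR.le hr) (hR'.le hl)
  have nR : R' ≤ normalizer (R : Set G) := fun l hl => mem_normalizer_of_cj_le (by
    rintro _ ⟨r, hr, rfl⟩
    have : l * r * l⁻¹ = r := by rw [← cRL r hr l hl, mul_inv_cancel_right]
    simpa [this] using hr)
  have nH : R' ≤ normalizer (N a : Set G) := fun l hl => ti.stab_le a (hR'.le hl).2
  have RH : R ≤ N a := fun r hr => (hR.le hr).1
  obtain ⟨T, hT, BT⟩ := exists_isSyl_le (p := 2) (Q := R ⊔ R') (H := N a ⊔ R')
    (hR.isPGroup.to_sup_of_normal_left' hR'.isPGroup nR) (sup_le_sup_right RH _)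
  have decG : ∀ x ∈ N a ⊔ R', ∃ w ∈ N a, ∃ l ∈ R', x = w * l := fun x => (mem_sup_right_norm nH).1
  have eT : (T ⊓ N a) ⊔ R' = T := by
    refine le_antisymm (sup_le inf_le_left (le_sup_right.trans BT)) fun t ht => ?_
    obtain ⟨w, hw, l, hl, rfl⟩ := decG t (hT.le ht)
    exact mul_mem_sup ⟨(mul_mem_cancel_right (BT (mem_sup_right hl))).1 ht, hw⟩ hl
  have hP : IsSyl 2 (T ⊓ N a) (N a) :=
    hT.inf_of_le_normalizer le_sup_left (hT.le.trans (sup_le le_normalizer nH))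
  have nP : R' ≤ normalizer ((T ⊓ N a : Subgroup G) : Set G) :=
    le_normalizer_inf (le_normalizer_of_le (le_sup_right.trans BT)) nH
  have RP : R ≤ T ⊓ N a := le_inf (le_sup_left.trans BT) RH
  rw [← eT] at hT
  generalize T ⊓ N a = P at hT hP nP RP
  have rne : R ≠ ⊥ := fun h => hR.eq_bot_iff.1 h (even_iff_two_dvd.1 (ev.ev hab))
  have pk : ∀ w ∈ P, w • b = b → w ∈ R := fun w hw wb =>
    (hR.eq_of_le (hP.isPGroup.to_inf_left (K := X N a b)) (le_inf RP hR.le) inf_le_right).le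
      ⟨hw, hP.le hw, wb⟩
  have decB : ∀ x ∈ R ⊔ R', ∃ r ∈ R, ∃ l ∈ R', x = r * l := fun x => (mem_sup_right_norm nR).1
  have decT : ∀ x ∈ P ⊔ R', ∃ w ∈ P, ∃ l ∈ R', x = w * l := fun x => (mem_sup_right_norm nP).1
  have l1 : ∀ l ∈ R', l ∈ N a → l = 1 := fun l hl h => ti.ti hab l h (hR'.le hl).1
  have bn : ∀ x ∈ R ⊔ R', x ∈ N a → x ∈ R := fun x hx h => by
    obtain ⟨r, hr, l, hl, rfl⟩ := decB x hx
    rw [l1 l hl ((mul_mem_cancel_left (RH hr)).1 h), mul_one]
    exact hr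
  have tn : ∀ x ∈ P ⊔ R', x ∈ N a → x ∈ P := fun x hx h => by
    obtain ⟨r, hr, l, hl, rfl⟩ := decT x hx
    rw [l1 l hl ((mul_mem_cancel_left (hP.le hr)).1 h), mul_one]
    exact hr
  obtain ⟨ph1, ph2⟩ := phi G Ω N a b 2 R R' ti hab Nat.prime_two hR hR'
  have ex : ∃ h ∈ N a, h ∈ normalizer ((R ⊔ R' : Subgroup G) : Set G) ∧ h • b ≠ b := by
    by_cases e : R = P
    · subst e
      obtain ⟨l, hl, h1, h2, h3⟩ := exists_cinv hR'.isPGroup
        (fun h => rne (by rwa [← e1, cj_eq_bot_iff] at h))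
      by_contra hn
      obtain ⟨g, hg, gb⟩ := ti.exists_move hab
      refine gb ((ti.cent hab (hR'.le hl) h1 hg).1 (ev.zc a _ _ l le_sup_left
        (sup_le (ti.le_stab a) fun l hl => (hR'.le hl).2) hT (mem_sup_right hl) h2
        (fun g hg h => ?_) g hg).symm)
      obtain ⟨w, hw, l', hl', rfl⟩ := decG g hg
      have e : w * l' * l * (w * l')⁻¹ = w * l * w⁻¹ := by
        rw [mul_assoc w, h3 l' hl']
        group
      rw [e] at h ⊢
      by_cases wb : w • b = b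
      · rw [ti.comm hab ⟨hw, wb⟩ (hR'.le hl), mul_inv_cancel_right]
      · refine absurd (ph2 l (hR'.le hl) h1 ⟨1, by rw [pow_one, sq, h2]⟩ w hw wb ?_) hn
        exact (sup_le (fun r hr => (hR.le hr).2) (fun l hl => ti.le_stab b (hR'.le hl).1) :
          R ⊔ R' ≤ stabilizer G b) h
    · have lt : R ⊔ R' < P ⊔ R' := lt_of_le_of_ne (sup_le_sup_right RP _) fun h =>
        e (le_antisymm RP fun w hw => bn w (h.ge (mem_sup_left hw)) (hP.le hw))
      obtain ⟨x, hx, xB⟩ := SetLike.exists_of_lt (lt_inf_normalizer hT.isPGroup lt)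
      obtain ⟨w, hw, l, hl, rfl⟩ := decT x hx.1
      exact ⟨w, hP.le hw, (mul_mem_cancel_right (le_normalizer (mem_sup_right hl))).1 hx.2,
        fun wb => xB (mul_mem_sup (pk w hw wb) hl)⟩
  obtain ⟨h, hh, hB, hb⟩ := id ex
  have ph := ph1 h hh hB hb
  refine ⟨R, R', P, k * s0, ev, hab, hR, hR', hP, hT, RP, nP, ?_, ?_, e1, e2, rne, pk, decB, decT,
    decG, bn, tn, fun x hx y hy => ?_, ph.ce, fun n hn nB => ⟨?_, fun l hl => ?_⟩, ex,
    fun n hn nB nb => (ph1 n hn nB nb).surj⟩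
  · rw [mul_smul, sa]
    exact hk.2
  · rw [mul_smul, sb]
    exact ti.fix a k hk.1
  · obtain ⟨r, hr, l, hl, rfl⟩ := decB x hx
    obtain ⟨r', hr', l', hl', rfl⟩ := decB y hy
    calc r * l * (r' * l') = r * (l * r') * l' := by group
      _ = r * r' * (l * l') := by rw [← cRL r' hr' l hl]; group
      _ = r' * (r * l') * l := by rw [ph.ab r hr r' hr', ph.ab' l hl l' hl']; group
      _ = _ := by rw [cRL r hr l' hl']; group
  · refine mem_normalizer_of_cj_le ?_
    rintro _ ⟨r, hr, rfl⟩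
    exact bn _ (conj_mem_of_mem_normalizer nB (mem_sup_left hr))
      (mul_mem (mul_mem hn (RH hr)) (inv_mem hn))
  · refine ⟨n * l * n⁻¹ * l⁻¹, bn _ (mul_mem (conj_mem_of_mem_normalizer nB (mem_sup_right hl))
      (mem_sup_right (inv_mem hl))) ?_, by group⟩
    have := mul_mem hn (ti.conj_of_fix (hR'.le hl).2 (inv_mem hn))
    simpa [mul_assoc] using this

end H17.ON2S
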