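import Cfsg.Agent.H89.ON2Kit

/-! The slot `WE1` of the ON2 tower: `W = P`, `R` elementary abelian; fusion of `B ∖ R`. -/

set_option autoImplicit false
set_option linter.unusedSectionVars false

namespace H17.ON2E

open MulAction Cfsg Subgroup H89.K H98 H89.ON2

universe u

variable {G Ω : Type*} [Group G] [Finite G] [MulAction G Ω] {N : Ω → Subgroup G} {a b : Ω}
  {R R' P : Subgroup G} {s : G}

/-- An element normalising a Sylow `2`-subgroup has an odd power in it. -/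
theorem odd_pow_mem {T H : Subgroup G} (hT : IsSyl 2 T H) {n : G} (hn : n ∈ H)
    (h : n ∈ normalizer (T : Set G)) : ∃ j : ℕ, n ^ (2 * j + 1) ∈ T := by
  obtain ⟨k, m, ⟨j, rfl⟩, e⟩ := Nat.exists_eq_two_pow_mul_odd (orderOf_pos n).ne'
  refine ⟨j, hT.le_of_le_normalizer' (isPGroup_zpowers (k := k) ?_)
    (zpowers_le.2 (pow_mem hn _)) (zpowers_le.2 (pow_mem h _)) (mem_zpowers _)⟩
  rw [← pow_mul, mul_comm, ← e, pow_orderOf_eq_one]

/-- The hypotheses of the slots `WE1`, `WE2`, `WE3`. -/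
structure He (N : Ω → Subgroup G) (a b : Ω) (R R' P : Subgroup G) (s : G) : Prop
    extends A2 N a b R R' P s where
  hW : Wn R R' P = P
  el : ∀ r ∈ R, r * r = 1

namespace He

variable (d : He N a b R R' P s)
include d

theorem s2 : S2 N a b R R' P s := d.toA2.toS2

theorem pN {w : G} (hw : w ∈ P) : w ∈ normalizer ((R ⊔ R' : Subgroup G) : Set G) :=
  (d.hW.ge hw).2

theorem tN : P ⊔ R' ≤ normalizer ((R ⊔ R' : Subgroup G) : Set G) :=
  sup_le (fun _ => d.pN) (le_sup_right.trans le_normalizer)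

theorem rT {r : G} (hr : r ∈ R) : r ∈ P ⊔ R' := d.s2.BT (d.s2.rB hr)

/-- `R ≤ Z(P)`. -/
theorem cPR {w r : G} (hw : w ∈ P) (hr : r ∈ R) : w * r = r * w := by
  by_cases h : w ∈ R
  · exact d.s2.cRR h hr
  · rw [← mul_inv_eq_iff_eq_mul, d.winv w (d.hW.ge hw) h r hr]
    exact (eq_inv_of_mul_eq_one_left (d.el r hr)).symm

/-- `R ≤ Z(T)`. -/
theorem cTR {t r : G} (ht : t ∈ P ⊔ R') (hr : r ∈ R) : t * r = r * t := by
  obtain ⟨w, hw, l, hl, rfl⟩ := d.decT t ht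
  rw [mul_assoc, ← d.s2.cRL hr hl, ← mul_assoc, d.cPR hw hr, mul_assoc]

/-- `T/R` has exponent two. -/
theorem sqT {t : G} (ht : t ∈ P ⊔ R') : t * t ∈ R := by
  obtain ⟨w, hw, l, hl, rfl⟩ := d.decT t ht
  obtain ⟨r, hr, e⟩ := (d.nR _ (d.s2.mP (inv_mem hw)) (d.pN (inv_mem hw))).2 l hl
  have : w * l * (w * l) = w * w * r := by
    calc w * l * (w * l) = w * w * (w⁻¹ * l * w⁻¹⁻¹) * l := by group
      _ = w * w * r * (l * l) := by rw [e]; group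
      _ = _ := by rw [d.s2.elR' d.el hl, mul_one]
  exact this ▸ mul_mem (d.wsq w (d.hW.ge hw)) hr

/-- `[T, T] ≤ R`. -/
theorem commT {t v : G} (ht : t ∈ P ⊔ R') (hv : v ∈ P ⊔ R') : t * v * t⁻¹ * v⁻¹ ∈ R := by
  have : t * v * t⁻¹ * v⁻¹ = t * v * (t * v) * (t * t)⁻¹ * (v * v)⁻¹ := by
    calc t * v * t⁻¹ * v⁻¹ = t * v * (t * v) * (v⁻¹ * (t * t)⁻¹) * v * (v * v)⁻¹ := by group
      _ = _ := by rw [d.cTR (inv_mem hv) (inv_mem (d.sqT ht))]; group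
  exact this ▸ mul_mem (mul_mem (d.sqT (mul_mem ht hv)) (inv_mem (d.sqT ht))) (inv_mem (d.sqT hv))

theorem normT {E : Subgroup G} (h1 : R ≤ E) (h2 : E ≤ P ⊔ R') :
    P ⊔ R' ≤ normalizer (E : Set G) := fun t ht => mem_normalizer_of_cj_le (by
  rintro _ ⟨e, he, rfl⟩
  have := mul_mem (h1 (d.commT ht (h2 he))) he
  simpa using this)

/-- `C_T(x) = B` for `x ∈ B ∖ R`. -/
theorem cTx {x t : G} (hx : x ∈ R ⊔ R') (h : x ∉ R) (ht : t ∈ P ⊔ R') (e : t * x = x * t) :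
    t ∈ R ⊔ R' := by
  obtain ⟨r, hr, l, hl, rfl⟩ := d.decB x hx
  refine d.s2.cT hl (fun l1 => h (by rwa [l1, mul_one])) ht ?_
  rwa [← mul_assoc, d.cTR ht hr, mul_assoc, mul_assoc, mul_right_inj] at e

/-- A conjugate of `B` in `T` meets `H` in `R`. -/
theorem cjR {g : G} (ga : g • a = a) (hg : cj g (R ⊔ R') ≤ P ⊔ R') : cj g R = R := by
  obtain ⟨l, hl, l1⟩ := d.s2.exists_l
  have h1 : R ≤ X N a (g • b) := fun r hr => ⟨(d.s2.mR hr).1,
    d.s2.tI.fixc (d.conj g b l (d.s2.mR' hl).1) (by simpa using l1)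
      (d.cTR (hg (conj_mem_cj (d.s2.lB hl))) hr).symm⟩
  have h2 : IsSyl 2 (cj g R) (X N a (g • b)) := by
    have := d.sylR.cj g
    rwa [d.s2.tI.cj_X, ga] at this
  have h3 := h2.eq_of_le (d.sylP.isPGroup.to_inf_left (K := X N a (g • b)))
    (le_inf (fun x hx => d.tn x (hg (cj_mono g le_sup_left hx)) (h2.le hx).1) h2.le) inf_le_right
  exact (eq_of_le_of_card_ge ((le_inf d.le h1).trans h3.le) (card_cj g R).le).symm

/-- `B` is the only `G₁`-conjugate of `B` in `T`. -/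
theorem uniq {g : G} (gG : g ∈ N a ⊔ R') (hg : cj g (R ⊔ R') ≤ P ⊔ R') :
    g ∈ normalizer ((R ⊔ R' : Subgroup G) : Set G) := by
  have : Fact (Nat.Prime 2) := ⟨Nat.prime_two⟩
  have eR := d.cjR (d.s2.G_stab gG) hg
  have lT : ∀ l ∈ R', g * l * g⁻¹ ∈ P ⊔ R' := fun l hl => hg (conj_mem_cj (d.s2.lB hl))
  by_cases h0 : ∃ l ∈ R', l ≠ 1 ∧ g * l * g⁻¹ ∈ R ⊔ R'
  · obtain ⟨l, hl, l1, lB⟩ := h0
    refine mem_normalizer_of_cj_le fun y hy => d.cTx lB (fun h => l1 ?_) (hg hy) ?_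
    · rw [← eR, conj_mem_cj_iff] at h
      exact d.s2.l_one hl (d.s2.mR h).1
    · have := d.abB _ (mem_cj.1 hy) _ (d.s2.lB hl)
      calc y * (g * l * g⁻¹) = g * (g⁻¹ * y * g * l) * g⁻¹ := by group
        _ = _ := by rw [this]; group
  have h0 : ∀ l ∈ R', g * l * g⁻¹ ∈ R ⊔ R' → l = 1 := fun l hl h => by
    by_contra l1
    exact h0 ⟨l, hl, l1, h⟩
  obtain ⟨l0, hl0, l01⟩ := d.s2.exists_l
  have l0T : l0 ∈ P ⊔ R' := mem_sup_right hl0
  have cm : ∀ t ∈ P ⊔ R', ∀ v ∈ P ⊔ R', t * l0 * t⁻¹ * l0⁻¹ = v * l0 * v⁻¹ * l0⁻¹ →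
      t⁻¹ * v ∈ R ⊔ R' := fun t ht v hv e => by
    refine d.s2.cT hl0 l01 (mul_mem (inv_mem ht) hv) ?_
    rw [mul_left_inj] at e
    calc t⁻¹ * v * l0 = t⁻¹ * (v * l0 * v⁻¹) * v := by group
      _ = _ := by rw [← e]; group
  have bij : Function.Bijective (fun l : R' => (⟨_, d.commT (lT l l.2) l0T⟩ : R)) := by
    refine Function.Injective.bijective_of_nat_card_le (fun l l' e => ?_) d.s2.card_R'.ge
    have := cm _ (lT l l.2) _ (lT l' l'.2) (congrArg Subtype.val e)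
    have := h0 _ (mul_mem (inv_mem l.2) l'.2) (by simpa [mul_assoc] using this)
    exact Subtype.ext (inv_mul_eq_one.1 this)
  have RB' : R ≤ cj g (R ⊔ R') := eR.ge.trans (cj_mono g le_sup_left)
  have un : ∀ t ∈ P ⊔ R', t * t = 1 → t ∈ R ⊔ R' ∨ t ∈ cj g (R ⊔ R') := by
    intro t ht t2
    obtain ⟨⟨l1, hl1⟩, e⟩ := bij.2 ⟨_, d.commT ht l0T⟩
    obtain ⟨r, hr, l, hl, e1⟩ := d.decB _ (cm _ (lT l1 hl1) _ ht (congrArg Subtype.val e))
    rw [inv_mul_eq_iff_eq_mul] at e1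
    by_cases hl' : l = 1
    · right
      rw [e1, hl', mul_one]
      exact mul_mem (conj_mem_cj (d.s2.lB hl1)) (RB' hr)
    left
    set v := g * l1 * g⁻¹ with hv
    have v2 : v * v = 1 := by rw [hv, conj_mul, d.s2.elR' d.el hl1]; group
    have e2 : v * l * (v * l) = 1 := by
      have c1 : v * r = r * v := d.cTR (lT l1 hl1) hr
      have c2 := d.s2.cRL hr hl
      calc v * l * (v * l) = v * l * (r * r) * (v * l) := by rw [d.el r hr, mul_one]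
        _ = v * (l * r) * (r * v) * l := by group
        _ = t * t := by rw [← c2, ← c1, e1]; group
        _ = 1 := t2
    have e3 : v * l = l * v := by
      calc v * l = (v * l)⁻¹ := eq_inv_of_mul_eq_one_left e2
        _ = l * v := by
          rw [mul_inv_rev, ← eq_inv_of_mul_eq_one_left v2,
            ← eq_inv_of_mul_eq_one_left (d.s2.elR' d.el hl)]
    exact e1 ▸ mul_mem (d.s2.cT hl hl' (lT l1 hl1) e3) (mul_mem_sup hr hl)
  have hS : IsSyl 2 (P ⊔ R') ((N a ⊔ R') ⊓ normalizer ((cj g (R ⊔ R') : Subgroup G) : Set G)) :=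
    d.sylT.of_le (le_inf d.s2.TG (d.normT RB' hg)) inf_le_left
  have hS' : IsSyl 2 (cj g (P ⊔ R'))
      ((N a ⊔ R') ⊓ normalizer ((cj g (R ⊔ R') : Subgroup G) : Set G)) :=
    (d.sylT.cj_of_mem gG).of_le (le_inf (d.sylT.cj_of_mem gG).le
      ((cj_mono g d.tN).trans (cj_normalizer g _).le)) inf_le_left
  obtain ⟨c, hc, e⟩ := hS'.exists_cj_eq hS
  rw [cj_cj] at e
  have e1 : cj (c * g) (R ⊔ R') = cj g (R ⊔ R') := by rw [← cj_cj, cj_eq_self hc.2]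
  have h2 : cj (c * g) (cj g (R ⊔ R')) ≤ R ⊔ R' ∨ cj (c * g) (cj g (R ⊔ R')) ≤ cj g (R ⊔ R') := by
    refine SubgroupClass.subset_union.1 fun y hy => un y (((cj_mono _ hg).trans e.le) hy) ?_
    have := d.s2.elB d.el (mem_cj.1 (mem_cj.1 hy))
    calc y * y = c * g * g * (g⁻¹ * ((c * g)⁻¹ * y * (c * g)) * g *
        (g⁻¹ * ((c * g)⁻¹ * y * (c * g)) * g)) * (c * g * g)⁻¹ := by group
      _ = 1 := by rw [this]; group
  rcases h2 with h2 | h2
  · have n2 : c * g * (c * g) ∈ normalizer ((R ⊔ R' : Subgroup G) : Set G) :=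
      mem_normalizer_of_cj_le (by rwa [← cj_cj, e1])
    obtain ⟨j, hj⟩ := odd_pow_mem d.sylT (mul_mem hc.1 gG) (cj_eq_self_iff.1 e)
    have h3 := d.tN hj
    rw [pow_succ, pow_mul, sq] at h3
    have h4 := (mul_mem_cancel_left (pow_mem n2 j)).1 h3
    rw [← cj_eq_self_iff, ← e1, cj_eq_self h4]
  · rw [← e1, cj_le_cj_iff, e1] at h2
    exact mem_normalizer_of_cj_le h2

/-- `B` is a Sylow subgroup of `C_{G₁}(x)` for `x ∈ B ∖ R`. -/
theorem sylB {x : G} (hx : x ∈ R ⊔ R') (h : x ∉ R) :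
    IsSyl 2 (R ⊔ R') ((N a ⊔ R') ⊓ centralizer {x}) := by
  have : Fact (Nat.Prime 2) := ⟨Nat.prime_two⟩
  refine ⟨le_inf (d.s2.BT.trans d.s2.TG) fun y hy =>
    mem_centralizer_singleton_iff.2 (d.abB _ hy _ hx), d.s2.pB, fun Q hQ h1 h2 => ?_⟩
  obtain ⟨y, hy, h3⟩ := d.sylT.exists_cj_le hQ (h2.trans inf_le_left)
  have yN := d.uniq hy ((cj_mono y h1).trans h3)
  refine le_antisymm (fun t ht => ?_) h1
  refine (mem_normalizer_iff.1 yN t).2 (d.cTx (conj_mem_of_mem_normalizer yN hx) (fun e => h ?_)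
    (h3 (conj_mem_cj ht)) ?_)
  · simpa [mul_assoc] using d.s2.conj_R (inv_mem yN) (d.s2.G_stab (inv_mem hy)) e
  · rw [conj_mul, conj_mul, mem_centralizer_singleton_iff.1 (h2 ht).2]

theorem we1 {x : G} (hx : x ∈ R ⊔ R') (h : x ∉ R) {g : G} (gG : g ∈ N a ⊔ R')
    (hy : g * x * g⁻¹ ∈ P ⊔ R') : g * x * g⁻¹ ∈ R ⊔ R' := by
  have : Fact (Nat.Prime 2) := ⟨Nat.prime_two⟩
  set y := g * x * g⁻¹ with hyd
  obtain ⟨c, hc, h1⟩ := (d.sylB hx h).exists_cj_le (isPGroup_cj g⁻¹ d.sylR.isPGroup)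
    (le_inf (cj_le_of_le_of_mem (fun r hr => d.s2.TG (d.rT hr)) (inv_mem gG)) fun t ht => by
      rw [mem_centralizer_singleton_iff]
      have := d.cTR hy (mem_cj.1 ht)
      calc t * x = g⁻¹ * (g⁻¹⁻¹ * t * g⁻¹ * y) * g := by rw [hyd]; group
        _ = _ := by rw [← this, hyd]; group)
  rw [cj_cj, cj_le_iff] at h1
  set g1 := (c * g⁻¹)⁻¹ with hg1
  have g1G : g1 ∈ N a ⊔ R' := inv_mem (mul_mem hc.1 (inv_mem gG))
  have ey : g1 * x * g1⁻¹ = y := by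
    calc g1 * x * g1⁻¹ = g * c⁻¹ * (x * c) * g⁻¹ := by rw [hg1]; group
      _ = y := by rw [← mem_centralizer_singleton_iff.1 hc.2, hyd]; group
  have EB : R ⊔ zpowers y ≤ cj g1 (R ⊔ R') := sup_le h1 (zpowers_le.2 (ey ▸ conj_mem_cj hx))
  have hS : IsSyl 2 (P ⊔ R') ((N a ⊔ R') ⊓ normalizer ((R ⊔ zpowers y : Subgroup G) : Set G)) :=
    d.sylT.of_le (le_inf d.s2.TG (d.normT le_sup_left
      (sup_le (fun _ => d.rT) (zpowers_le.2 hy)))) inf_le_left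
  obtain ⟨c', hc', h2⟩ := hS.exists_cj_le (isPGroup_cj g1 d.s2.pB)
    (le_inf (cj_le_of_le_of_mem (d.s2.BT.trans d.s2.TG) g1G) fun t ht =>
      mem_normalizer_of_cj_le (by
        rintro _ ⟨e, he, rfl⟩
        have := d.abB _ (mem_cj.1 ht) _ (mem_cj.1 (EB he))
        have e1 : t * e * t⁻¹ = e := by
          calc t * e * t⁻¹ = g1 * (g1⁻¹ * t * g1 * (g1⁻¹ * e * g1)) * g1⁻¹ * t⁻¹ := by group
            _ = e := by rw [this]; group
        simpa [e1] using he))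
  rw [cj_cj] at h2
  have h3 := cj_mono c' EB
  rw [cj_cj, cj_eq_self (d.uniq (mul_mem hc'.1 g1G) h2), cj_eq_self hc'.2] at h3
  exact h3 (mem_sup_right (mem_zpowers y))

end He

theorem jobWE1 : JobWE1.{u} := by
  intro G Ω _ _ _ N a b R R' P s d0 hW el x hx h g hg hy
  exact (⟨d0, hW, el⟩ : He N a b R R' P s).we1 hx h (mem_sup_left hg) hy

end H17.ON2E
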