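import Cfsg.Agent.H17.ON2WE1

/-! The slot `WE2` of the ON2 tower: `W = P`, `R` elementary abelian; involutions of `P`. -/

set_option autoImplicit false
set_option linter.unusedSectionVars false

namespace H17.ON2E

open MulAction Cfsg Subgroup H89.K H98 H89.ON2

universe u

/-- Two involutions are conjugate or centralised by a common involution. -/
theorem dih {C : Type*} [Group C] [Finite C] {x y : C} (hx : x * x = 1) (hy : y * y = 1) :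
    IsConj x y ∨ ∃ z : C, z ≠ 1 ∧ z * z = 1 ∧ x * z = z * x ∧ y * z = z * y ∧
      (IsConj x (x * z) ∨ IsConj y (x * z)) := by
  have xi := inv_eq_of_mul_eq_one_right hx
  have yi := inv_eq_of_mul_eq_one_right hy
  have ey : y = x * (x * y) := by rw [← mul_assoc, hx, one_mul]
  have i1 : ∀ l : ℕ, ((x * y) ^ l)⁻¹ * x = x * (x * y) ^ l := fun l => by
    rw [eq_comm, ← mul_inv_eq_iff_eq_mul, ← conj_pow, ← inv_pow, mul_inv_rev, xi, yi, ← ey]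
  have c1 : ∀ l : ℕ, IsConj x (x * (x * y) ^ (2 * l)) := fun l =>
    isConj_iff.2 ⟨((x * y) ^ l)⁻¹, by rw [i1, inv_inv, mul_assoc, ← pow_add, two_mul]⟩
  have c2 : ∀ l : ℕ, IsConj y (x * (x * y) ^ (2 * l + 1)) := fun l =>
    isConj_iff.2 ⟨((x * y) ^ l)⁻¹, by
      nth_rw 2 [ey]
      rw [← mul_assoc, i1, inv_inv, mul_assoc, mul_assoc, ← pow_succ', ← pow_add]
      congr 2
      ring⟩
  have p := pow_orderOf_eq_one (x * y)
  rcases Nat.even_or_odd' (orderOf (x * y)) with ⟨k, e | e⟩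
  · have pos := orderOf_pos (x * y)
    rw [e, two_mul, pow_add] at p
    have h1 : x * (x * y) ^ k = (x * y) ^ k * x := by rw [← i1, inv_eq_of_mul_eq_one_right p]
    refine Or.inr ⟨(x * y) ^ k, pow_ne_one_of_lt_orderOf (by omega) (by omega), p, h1, ?_, ?_⟩
    · calc y * (x * y) ^ k = x * (x * y) * (x * y) ^ k := by rw [← ey]
        _ = x * (x * y) ^ k * (x * y) := by rw [mul_assoc, ← pow_succ', pow_succ, ← mul_assoc]
        _ = _ := by rw [h1, mul_assoc, ← ey]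
    · rcases Nat.even_or_odd' k with ⟨l, rfl | rfl⟩
      exacts [Or.inl (c1 l), Or.inr (c2 l)]
  · have := c2 k
    rw [← e, p, mul_one] at this
    exact Or.inl this.symm

variable {G Ω : Type*} [Group G] [Finite G] [MulAction G Ω] {N : Ω → Subgroup G} {a b : Ω}
  {R R' P : Subgroup G} {s : G}

theorem act_eq {B : Subgroup G} {g g' : normalizer (B : Set G)} :
    B.normalizerMonoidHom.rangeRestrict g = B.normalizerMonoidHom.rangeRestrict g' ↔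
      ∀ x ∈ B, (g : G) * x * (g : G)⁻¹ = g' * x * (g' : G)⁻¹ := by
  constructor
  · intro h x hx
    have := congrArg (fun f : B.normalizerMonoidHom.range => ((f : MulAut B) ⟨x, hx⟩ : G)) h
    exact this
  · intro h
    exact Subtype.ext (MulEquiv.ext fun x => Subtype.ext (h x x.2))

namespace He

variable (d : He N a b R R' P s)
include d

/-- An element of `P ∖ R` fixes exactly `R` in `B`. -/
theorem fixR {v x : G} (hv : v ∈ P) (v1 : v ∉ R) (hx : x ∈ R ⊔ R') (e : v * x * v⁻¹ = x) :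
    x ∈ R := by
  by_contra h
  exact v1 (d.bn v (d.cTx hx h (mem_sup_left hv) (mul_inv_eq_iff_eq_mul.1 e)) (d.s2.mP hv))

theorem fix_a {g r : G} (hr : r ∈ R) (r1 : r ≠ 1) (h : g * r * g⁻¹ ∈ R) : g • a = a := by
  by_contra hn
  exact r1 (by simpa using d.ti hn _ (d.conj g a r (d.s2.mR hr).1) (d.s2.mR h).1)

/-- The even case is impossible. -/
theorem even_case {w w1 v x g : G} (hw : w ∈ P) (w0 : w ∉ R) (hw1 : w1 ∈ P) (w2 : w1 ∉ R)
    (hv : v ∈ P) (v1 : v ∉ R) (xN : x ∈ normalizer ((R ⊔ R' : Subgroup G) : Set G))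
    (gN : g ∈ normalizer ((R ⊔ R' : Subgroup G) : Set G))
    (h2 : ∀ β ∈ R ⊔ R', x * x * β * (x * x)⁻¹ = β)
    (h3 : ∀ β ∈ R ⊔ R', w * x * β * (w * x)⁻¹ = x * w * β * (x * w)⁻¹)
    (h4 : ∀ β ∈ R ⊔ R', s * w1 * s⁻¹ * x * β * (s * w1 * s⁻¹ * x)⁻¹ =
      x * (s * w1 * s⁻¹) * β * (x * (s * w1 * s⁻¹))⁻¹)
    (h5 : ∀ β ∈ R ⊔ R', g * v * g⁻¹ * β * (g * v * g⁻¹)⁻¹ = w * x * β * (w * x)⁻¹) :
    ∀ β ∈ R ⊔ R', x * β * x⁻¹ = β := by
  have wr : ∀ {w r : G}, w ∈ P → r ∈ R → w * r * w⁻¹ = r := fun hw hr => by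
    rw [d.cPR hw hr, mul_inv_cancel_right]
  have xR : ∀ r ∈ R, x * r * x⁻¹ ∈ R := fun r hr => by
    refine d.fixR hw w0 (conj_mem_of_mem_normalizer xN (d.s2.rB hr)) ?_
    calc w * (x * r * x⁻¹) * w⁻¹ = w * x * r * (w * x)⁻¹ := by group
      _ = x * (w * r * w⁻¹) * x⁻¹ := by rw [h3 r (d.s2.rB hr)]; group
      _ = _ := by rw [wr hw hr]
  have xL : ∀ l ∈ R', x * l * x⁻¹ ∈ R' := fun l hl => by
    have h : s⁻¹ * (x * l * x⁻¹) * s ∈ R := by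
      refine d.fixR hw1 w2 (by simpa using (conj_mem_of_mem_normalizer (inv_mem d.s2.sB)
        (conj_mem_of_mem_normalizer xN (d.s2.lB hl)))) ?_
      calc w1 * (s⁻¹ * (x * l * x⁻¹) * s) * w1⁻¹
          = s⁻¹ * (s * w1 * s⁻¹ * x * l * (s * w1 * s⁻¹ * x)⁻¹) * s := by group
        _ = s⁻¹ * x * s * (w1 * (s⁻¹ * l * s) * w1⁻¹) * s⁻¹ * x⁻¹ * s := by
          rw [h4 l (d.s2.lB hl)]; group
        _ = _ := by rw [wr hw1 (d.s2.s_R'_inv hl)]; group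
    simpa [mul_assoc] using d.s2.s_R h
  have ex : ∃ r ∈ R, r ≠ 1 ∧ x * r * x⁻¹ = r := by
    obtain ⟨r, hr, r1⟩ := d.s2.exists_r
    by_cases e : x * r * x⁻¹ = r
    · exact ⟨r, hr, r1, e⟩
    refine ⟨r * (x * r * x⁻¹), mul_mem hr (xR r hr), fun h => e ?_, ?_⟩
    · rw [eq_inv_of_mul_eq_one_right h, ← eq_inv_of_mul_eq_one_right (d.el r hr)]
    · calc x * (r * (x * r * x⁻¹)) * x⁻¹ = x * r * x⁻¹ * (x * x * r * (x * x)⁻¹) := by group
        _ = _ := by rw [h2 r (d.s2.rB hr), d.s2.cRR (xR r hr) hr]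
  obtain ⟨r, hr, r1, er⟩ := ex
  have ga : g⁻¹ • a = a := by
    refine d.fix_a hr r1 (d.fixR hv v1 (conj_mem_of_mem_normalizer (inv_mem gN) (d.s2.rB hr)) ?_)
    calc v * (g⁻¹ * r * g⁻¹⁻¹) * v⁻¹ = g⁻¹ * (g * v * g⁻¹ * r * (g * v * g⁻¹)⁻¹) * g := by group
      _ = g⁻¹ * (w * (x * r * x⁻¹) * w⁻¹) * g := by rw [h5 r (d.s2.rB hr)]; group
      _ = _ := by rw [er, wr hw hr, inv_inv]
  have xr : ∀ r ∈ R, x * r * x⁻¹ = r := fun r hr => by
    calc x * r * x⁻¹ = w * (x * r * x⁻¹) * w⁻¹ := (wr hw (xR r hr)).symm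
      _ = w * x * r * (w * x)⁻¹ := by group
      _ = g * (v * (g⁻¹ * r * g⁻¹⁻¹) * v⁻¹) * g⁻¹ := by rw [← h5 r (d.s2.rB hr)]; group
      _ = r := by rw [wr hv (d.s2.conj_R (inv_mem gN) ga hr)]; group
  have xl : ∀ l ∈ R', x * l * x⁻¹ = l := fun l hl => by
    obtain ⟨r, hr, e⟩ := (d.nR w (d.s2.mP hw) (d.pN hw)).2 l hl
    have m := mul_mem (xL l hl) (inv_mem hl)
    refine mul_inv_eq_one.1 (d.s2.l_one m (d.s2.mR (d.fixR hw w0 (d.s2.lB m) ?_)).1)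
    calc w * (x * l * x⁻¹ * l⁻¹) * w⁻¹ = w * x * l * (w * x)⁻¹ * (w * l * w⁻¹)⁻¹ := by group
      _ = x * (w * l * w⁻¹) * x⁻¹ * (w * l * w⁻¹)⁻¹ := by rw [h3 l (d.s2.lB hl)]; group
      _ = x * r * x⁻¹ * (x * l * x⁻¹ * l⁻¹) * r⁻¹ := by rw [e]; group
      _ = _ := by rw [xr r hr, d.s2.cRL hr m, mul_inv_cancel_right]
  intro β hβ
  obtain ⟨r, hr, l, hl, rfl⟩ := d.decB β hβ
  rw [← conj_mul, xr r hr, xl l hl]

/-- The odd case. -/
theorem odd_case {w w1 g : G} (hw : w ∈ P) (ww : w * w = 1) (hw1 : w1 ∈ P) (w2 : w1 ∉ R)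
    (gN : g ∈ normalizer ((R ⊔ R' : Subgroup G) : Set G))
    (h : ∀ β ∈ R ⊔ R', g * w * g⁻¹ * β * (g * w * g⁻¹)⁻¹ = w1 * β * w1⁻¹) : w1 * w1 = 1 := by
  obtain ⟨r, hr, r1⟩ := d.s2.exists_r
  obtain ⟨l, hl, l1⟩ := d.s2.exists_l
  have m := conj_mem_of_mem_normalizer gN (d.s2.rB hr)
  have ga : g • a = a := by
    refine d.fix_a hr r1 (d.fixR hw1 w2 m ?_)
    calc w1 * (g * r * g⁻¹) * w1⁻¹ = g * (w * r * w⁻¹) * g⁻¹ := by rw [← h _ m]; group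
      _ = _ := by rw [d.cPR hw hr, mul_inv_cancel_right]
  have cH : w1⁻¹ * (g * w * g⁻¹) ∈ N a :=
    mul_mem (inv_mem (d.s2.mP hw1)) (d.s2.tI.conj_of_fix ga (d.s2.mP hw))
  have cB : ∀ β ∈ R ⊔ R', w1⁻¹ * (g * w * g⁻¹) * β = β * (w1⁻¹ * (g * w * g⁻¹)) := fun β hβ => by
    calc w1⁻¹ * (g * w * g⁻¹) * β
        = w1⁻¹ * (g * w * g⁻¹ * β * (g * w * g⁻¹)⁻¹) * (g * w * g⁻¹) := by group
      _ = _ := by rw [h β hβ]; group
  have e : w1 * (w1⁻¹ * (g * w * g⁻¹)) * (w1 * (w1⁻¹ * (g * w * g⁻¹))) = 1 := by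
    rw [mul_inv_cancel_left, conj_mul, ww]
    group
  rw [← d.sq d.el w1 (d.hW.ge hw1) _ ⟨cH, (d.s2.cH hl l1 cH).1 (cB l (d.s2.lB hl))⟩
    (fun r hr => cB r (d.s2.rB hr)) (e ▸ one_mem R), e]

theorem we2 {w w1 : G} (hw : w ∈ P) (ww : w * w = 1) (w0 : w ∉ R) (hw1 : w1 ∈ P) : w1 * w1 = 1 := by
  by_cases w2 : w1 ∈ R
  · exact d.el w1 w2
  set f := (R ⊔ R').normalizerMonoidHom.rangeRestrict with hf
  have sur : Function.Surjective f := MonoidHom.rangeRestrict_surjective _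
  have sN := d.s2.sB
  let x : normalizer ((R ⊔ R' : Subgroup G) : Set G) := ⟨w, d.pN hw⟩
  let y : normalizer ((R ⊔ R' : Subgroup G) : Set G) :=
    ⟨s * w1 * s⁻¹, mul_mem (mul_mem sN (d.pN hw1)) (inv_mem sN)⟩
  have hx : f x * f x = 1 := by
    rw [← map_mul, ← map_one f]
    exact congrArg f (Subtype.ext ww)
  have hy : f y * f y = 1 := by
    rw [← map_mul, ← map_one f, hf, act_eq]
    intro β hβ
    have := d.abB _ (d.s2.lB (d.s2.s_R (d.wsq w1 (d.hW.ge hw1)))) _ hβ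
    rw [← conj_mul] at this
    simpa [y] using mul_inv_eq_iff_eq_mul.2 this
  rcases dih hx hy with h | ⟨z, z1, z2, z3, z4, z5⟩
  · obtain ⟨c, hc⟩ := isConj_iff.1 h
    obtain ⟨g, rfl⟩ := sur c
    rw [← map_inv, ← map_mul, ← map_mul, hf, act_eq] at hc
    refine d.odd_case hw ww hw1 w2 (g := s⁻¹ * g) (mul_mem (inv_mem sN) g.2) fun β hβ => ?_
    have : (g : G) * w * (g : G)⁻¹ * (s * β * s⁻¹) * ((g : G) * w * (g : G)⁻¹)⁻¹ =
      s * w1 * s⁻¹ * (s * β * s⁻¹) * (s * w1 * s⁻¹)⁻¹ := hc _ (conj_mem_of_mem_normalizer sN hβ)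
    calc s⁻¹ * g * w * (s⁻¹ * g)⁻¹ * β * (s⁻¹ * g * w * (s⁻¹ * g)⁻¹)⁻¹
        = s⁻¹ * (g * w * (g : G)⁻¹ * (s * β * s⁻¹) * (g * w * (g : G)⁻¹)⁻¹) * s := by group
      _ = _ := by rw [this]; group
  exfalso
  obtain ⟨t, rfl⟩ := sur z
  rw [← map_mul, ← map_one f, hf, act_eq] at z2
  rw [← map_mul, ← map_mul, hf, act_eq] at z3 z4
  refine z1 ?_
  rw [← map_one f, hf, act_eq]
  have fin : ∀ β ∈ R ⊔ R', (t : G) * β * (t : G)⁻¹ = β := by
    rcases z5 with h | h <;> obtain ⟨c, hc⟩ := isConj_iff.1 h <;> obtain ⟨g, rfl⟩ := sur c <;>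
      rw [← map_inv, ← map_mul, ← map_mul, ← map_mul, hf, act_eq] at hc
    · exact d.even_case hw w0 hw1 w2 hw w0 t.2 g.2 (fun β hβ => by simpa using z2 β hβ) z3 z4 hc
    · refine d.even_case hw w0 hw1 w2 hw1 w2 t.2 (mul_mem g.2 sN)
        (fun β hβ => by simpa using z2 β hβ) z3 z4 fun β hβ => ?_
      have : (g : G) * (s * w1 * s⁻¹) * (g : G)⁻¹ * β * ((g : G) * (s * w1 * s⁻¹) * (g : G)⁻¹)⁻¹ =
        w * t * β * (w * t)⁻¹ := hc β hβ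
      rw [← this]
      group
  simpa using fin

end He

theorem jobWE2 : JobWE2.{u} := by
  intro G Ω _ _ _ N a b R R' P s d0 hW el
  by_cases h : ∀ w ∈ P, w * w = 1 → w ∈ R
  · exact Or.inr h
  push Not at h
  obtain ⟨w, hw, ww, w0⟩ := h
  exact Or.inl fun w1 hw1 => (⟨d0, hW, el⟩ : He N a b R R' P s).we2 hw ww w0 hw1

end H17.ON2E
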