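import Cfsg.Agent.H89.ON2Kit

/-! The slot `WNE` of the ON2 tower: `W = P` and `R` is not elementary abelian. -/

set_option autoImplicit false
set_option linter.unusedSectionVars false

namespace H17.ON2

open MulAction Cfsg Subgroup H89.K H98 H89.ON2

universe u

section Pure

variable {G : Type*} [Group G]

/-- Squaring is not onto a non-trivial finite `2`-group. -/
theorem sq_not_onto [Finite G] {R : Subgroup G} (hR : IsPGroup 2 R)
    (h : ∀ r ∈ R, ∃ t ∈ R, r = t * t) : R = ⊥ := by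
  obtain ⟨m, hm⟩ := IsPGroup.iff_card.1 hR
  have key : ∀ k, ∀ r ∈ R, ∃ t ∈ R, r = t ^ 2 ^ k := by
    intro k
    induction k with
    | zero => exact fun r hr => ⟨r, hr, by simp⟩
    | succ k ih =>
      intro r hr
      obtain ⟨t, ht, rfl⟩ := ih r hr
      obtain ⟨v, hv, rfl⟩ := h t ht
      exact ⟨v, hv, by rw [← sq, ← pow_mul, pow_succ']⟩
  refine (eq_bot_iff_forall _).2 fun r hr => ?_
  obtain ⟨t, ht, rfl⟩ := key m r hr
  have := pow_card_eq_one' (x := (⟨t, ht⟩ : R))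
  rw [hm] at this
  exact congrArg Subtype.val this

/-- A `2`-group which is not of exponent two has an element of order four. -/
theorem exists_four {R : Subgroup G} (hR : IsPGroup 2 R) (h : ∃ r ∈ R, r * r ≠ 1) :
    ∃ t ∈ R, t * t ≠ 1 ∧ t * t * (t * t) = 1 := by
  obtain ⟨r, hr, r2⟩ := h
  obtain ⟨k, hk⟩ := isPGroup_iff_forall.1 hR r hr
  induction k generalizing r with
  | zero =>
    rw [pow_zero, pow_one] at hk
    exact absurd (by rw [hk, one_mul]) r2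
  | succ k ih =>
    by_cases h4 : r * r * (r * r) = 1
    · exact ⟨r, hr, r2, h4⟩
    · exact ih _ (mul_mem hr hr) h4 (by rw [← sq, ← pow_mul, ← pow_succ', hk])

theorem mem_nz [Finite G] {y z : G} (h : y * z * y⁻¹ ∈ zpowers z) :
    y ∈ normalizer ((zpowers z : Subgroup G) : Set G) := by
  refine mem_normalizer_of_cj_le ?_
  rw [cj, MonoidHom.map_zpowers]
  exact zpowers_le.2 h

end Pure

variable {G Ω : Type*} [Group G] [Finite G] [MulAction G Ω] {N : Ω → Subgroup G} {a b : Ω}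
  {R R' P : Subgroup G} {s : G}

/-- An element of `N_H(B)` centralising `R` fixes `b`. -/
theorem fix_of_cen (d : S2 N a b R R' P s) (hr : ∃ r ∈ R, r * r ≠ 1) {n : G} (hn : n ∈ N a)
    (nB : n ∈ normalizer ((R ⊔ R' : Subgroup G) : Set G)) (hc : ∀ r ∈ R, n * r * n⁻¹ = r) :
    n • b = b := by
  by_contra nb
  have e : ∀ r ∈ R, ∀ l : G, n * l * n⁻¹ = r * l → n * n * l * (n * n)⁻¹ = r * r * l := by
    intro r hr l hl
    calc n * n * l * (n * n)⁻¹ = n * (n * l * n⁻¹) * n⁻¹ := by group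
      _ = n * (r * l) * n⁻¹ := by rw [hl]
      _ = (n * r * n⁻¹) * (n * l * n⁻¹) := by group
      _ = _ := by rw [hc r hr, hl, mul_assoc]
  by_cases h2 : (n * n) • b = b
  · obtain ⟨r, hr, r2⟩ := hr
    obtain ⟨l, hl, e1⟩ := d.surj n hn nB nb r hr
    have := e r hr l e1
    rw [d.tI.comm d.hab ⟨mul_mem hn hn, h2⟩ (d.mR' hl), mul_inv_cancel_right] at this
    exact r2 (mul_right_cancel (this.symm.trans (one_mul l).symm))
  · refine d.rne (sq_not_onto d.sylR.isPGroup fun r hr => ?_)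
    obtain ⟨l, hl, e1⟩ := d.surj _ (mul_mem hn hn) (mul_mem nB nB) h2 r hr
    obtain ⟨t, ht, e2⟩ := (d.nR n hn nB).2 l hl
    exact ⟨t, ht, mul_right_cancel (e1.symm.trans (e t ht l e2))⟩

/-- An element of `N_H(B)` centralising `R` centralises `B`. -/
theorem cenB (d : S2 N a b R R' P s) (hr : ∃ r ∈ R, r * r ≠ 1) {n : G} (hn : n ∈ N a)
    (nB : n ∈ normalizer ((R ⊔ R' : Subgroup G) : Set G)) (hc : ∀ r ∈ R, n * r * n⁻¹ = r) :
    ∀ x ∈ R ⊔ R', n * x * n⁻¹ = x := by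
  intro x hx
  obtain ⟨r, hr', l, hl, rfl⟩ := d.decB x hx
  have := d.tI.comm d.hab ⟨hn, fix_of_cen d hr hn nB hc⟩ (d.mR' hl)
  calc n * (r * l) * n⁻¹ = (n * r * n⁻¹) * (n * l * n⁻¹) := by group
    _ = _ := by rw [hc r hr', this, mul_inv_cancel_right]

/-- The hypotheses of the slot. -/
structure Hy (N : Ω → Subgroup G) (a b : Ω) (R R' P : Subgroup G) (s : G) : Prop
    extends A2 N a b R R' P s where
  hW : Wn R R' P = P
  hr : ∃ r ∈ R, r * r ≠ 1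

namespace Hy

variable (d : Hy N a b R R' P s)
include d

theorem s2 : S2 N a b R R' P s := d.toA2.toS2

theorem pN {w : G} (hw : w ∈ P) : w ∈ normalizer ((R ⊔ R' : Subgroup G) : Set G) :=
  (d.hW.ge hw).2

theorem tN : P ⊔ R' ≤ normalizer ((R ⊔ R' : Subgroup G) : Set G) :=
  sup_le (fun _ => d.pN) (le_sup_right.trans le_normalizer)

theorem inv {w r : G} (hw : w ∈ P) (h : w ∉ R) (hr : r ∈ R) : w * r * w⁻¹ = r⁻¹ :=
  d.winv w (d.hW.ge hw) h r hr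

theorem move {w : G} (hw : w ∈ P) (h : w ∉ R) : w • b ≠ b := fun e => h (d.pk w hw e)

theorem exists_h : ∃ h ∈ P, h ∉ R := let ⟨h, hh, h1⟩ := d.wne; ⟨h, hh.1, h1⟩

/-- `|P : R| = 2`. -/
theorem two {h w : G} (hh : h ∈ P) (h1 : h ∉ R) (hw : w ∈ P) (w1 : w ∉ R) : h * w ∈ R := by
  refine d.pk _ (mul_mem hh hw) (fix_of_cen d.s2 d.hr (d.s2.mP (mul_mem hh hw))
    (d.pN (mul_mem hh hw)) fun r hr => ?_)
  calc h * w * r * (h * w)⁻¹ = h * (w * r * w⁻¹) * h⁻¹ := by group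
    _ = r := by rw [d.inv hw w1 hr, d.inv hh h1 (inv_mem hr), inv_inv]

/-- `N_H(B)` acts on `B` as `P` does. -/
theorem act {h n : G} (hh : h ∈ P) (h1 : h ∉ R) (hn : n ∈ N a)
    (nB : n ∈ normalizer ((R ⊔ R' : Subgroup G) : Set G)) :
    (∀ x ∈ R ⊔ R', n * x * n⁻¹ = x) ∨ ∀ x ∈ R ⊔ R', h * n * x * (h * n)⁻¹ = x := by
  have hH := d.s2.mP hh
  have hB := d.pN hh
  have nR : ∀ r ∈ R, n * r * n⁻¹ ∈ R := fun r hr =>
    conj_mem_of_mem_normalizer (d.nR n hn nB).1 hr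
  have c1 := cenB d.s2 d.hr (n := (n * h)⁻¹ * (h * n))
    (mul_mem (inv_mem (mul_mem hn hH)) (mul_mem hH hn))
    (mul_mem (inv_mem (mul_mem nB hB)) (mul_mem hB nB)) fun r hr => by
      calc (n * h)⁻¹ * (h * n) * r * ((n * h)⁻¹ * (h * n))⁻¹
          = h⁻¹ * (n⁻¹ * (h * (n * r * n⁻¹) * h⁻¹) * n) * h := by group
        _ = h⁻¹ * r⁻¹ * h⁻¹⁻¹ := by rw [d.inv hh h1 (nR r hr)]; group
        _ = r := by rw [d.inv (inv_mem hh) (fun e => h1 (inv_mem_iff.1 e)) (inv_mem hr), inv_inv]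
  have key : ∀ ρ ∈ R, ∃ l ∈ R', ∃ t ∈ R, n * l * n⁻¹ = t * l ∧ n * ρ * n⁻¹ = t⁻¹ * ρ * t⁻¹ := by
    intro ρ hρ
    obtain ⟨l, hl, e1⟩ := d.surj h hH hB (d.move hh h1) ρ hρ
    obtain ⟨t, ht, e2⟩ := (d.nR n hn nB).2 l hl
    refine ⟨l, hl, t, ht, e2, ?_⟩
    have e3 : h * (n * l * n⁻¹) * h⁻¹ = n * (h * l * h⁻¹) * n⁻¹ := by
      calc h * (n * l * n⁻¹) * h⁻¹
          = n * h * ((n * h)⁻¹ * (h * n) * l * ((n * h)⁻¹ * (h * n))⁻¹) * (n * h)⁻¹ := by group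
        _ = _ := by rw [c1 l (d.s2.lB hl)]; group
    have e4 : h * (n * l * n⁻¹) * h⁻¹ = t⁻¹ * ρ * l := by
      calc h * (n * l * n⁻¹) * h⁻¹ = (h * t * h⁻¹) * (h * l * h⁻¹) := by rw [e2]; group
        _ = _ := by rw [d.inv hh h1 ht, e1, mul_assoc]
    have e5 : n * (h * l * h⁻¹) * n⁻¹ = n * ρ * n⁻¹ * t * l := by
      calc n * (h * l * h⁻¹) * n⁻¹ = (n * ρ * n⁻¹) * (n * l * n⁻¹) := by rw [e1]; group
        _ = _ := by rw [e2, ← mul_assoc]
    rw [eq_mul_inv_iff_mul_eq]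
    exact mul_right_cancel (e5.symm.trans (e3.symm.trans e4))
  by_cases nb : n • b = b
  · refine Or.inl (cenB d.s2 d.hr hn nB fun ρ hρ => ?_)
    obtain ⟨l, hl, t, -, e1, e2⟩ := key ρ hρ
    rw [d.s2.tI.comm d.hab ⟨hn, nb⟩ (d.s2.mR' hl), mul_inv_cancel_right] at e1
    have : t = 1 := mul_right_cancel (e1.symm.trans (one_mul l).symm)
    rw [e2, this, inv_one, one_mul, mul_one]
  have e : ∀ ρ l : G, n * l * n⁻¹ = ρ * l → n * n * l * (n * n)⁻¹ = n * ρ * n⁻¹ * ρ * l := by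
    intro ρ l hl
    calc n * n * l * (n * n)⁻¹ = n * (n * l * n⁻¹) * n⁻¹ := by group
      _ = n * (ρ * l) * n⁻¹ := by rw [hl]
      _ = (n * ρ * n⁻¹) * (n * l * n⁻¹) := by group
      _ = _ := by rw [hl, ← mul_assoc]
  have h2 : (n * n) • b = b := by
    by_contra h2
    refine d.rne (sq_not_onto d.sylR.isPGroup fun r hr => ?_)
    obtain ⟨l, hl, e1⟩ := d.surj _ (mul_mem hn hn) (mul_mem nB nB) h2 r hr
    obtain ⟨ρ, hρ, e2⟩ := (d.nR n hn nB).2 l hl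
    obtain ⟨-, -, t, ht, -, e3⟩ := key ρ hρ
    refine ⟨t⁻¹ * ρ, mul_mem (inv_mem ht) hρ, ?_⟩
    rw [mul_right_cancel (e1.symm.trans (e ρ l e2)), e3]
    group
  refine Or.inr (cenB d.s2 d.hr (mul_mem hH hn) (mul_mem hB nB) fun ρ hρ => ?_)
  obtain ⟨l, hl, e1⟩ := d.surj n hn nB nb ρ hρ
  have := e ρ l e1
  rw [d.s2.tI.comm d.hab ⟨mul_mem hn hn, h2⟩ (d.s2.mR' hl), mul_inv_cancel_right] at this
  have e2 : n * ρ * n⁻¹ = ρ⁻¹ :=
    eq_inv_of_mul_eq_one_left (mul_right_cancel (this.symm.trans (one_mul l).symm))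
  calc h * n * ρ * (h * n)⁻¹ = h * (n * ρ * n⁻¹) * h⁻¹ := by group
    _ = ρ := by rw [e2, d.inv hh h1 (inv_mem hρ), inv_inv]

/-- The element of order four centralised by `N_{G₁}(B)`. -/
theorem exists_zeta : ∃ z ∈ R ⊔ R', z * z ∈ R ∧ z * z ≠ 1 ∧ z * z * (z * z) = 1 ∧
    ∀ n ∈ N a ⊔ R', n ∈ normalizer ((R ⊔ R' : Subgroup G) : Set G) → n * z * n⁻¹ = z := by
  obtain ⟨h, hh, h1⟩ := d.exists_h
  obtain ⟨r, hr, r2, r4⟩ := exists_four d.sylR.isPGroup d.hr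
  obtain ⟨l, hl, e1⟩ := d.surj h (d.s2.mP hh) (d.pN hh) (d.move hh h1) _ (mul_mem hr hr)
  have c := d.s2.cRL (mul_mem hr hr) hl
  have l2 : l * l = 1 := by
    by_contra l2
    refine h1 (d.s2.cP (mul_mem hl hl) l2 hh ?_)
    rw [← mul_inv_eq_iff_eq_mul]
    calc h * (l * l) * h⁻¹ = (h * l * h⁻¹) * (h * l * h⁻¹) := by group
      _ = r * r * (l * (r * r)) * l := by rw [e1]; group
      _ = r * r * (r * r) * (l * l) := by rw [← c]; group
      _ = _ := by rw [r4, one_mul]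
  have zz : r * l * (r * l) = r * r := by
    calc r * l * (r * l) = r * (l * r) * l := by group
      _ = r * r * (l * l) := by rw [← d.s2.cRL hr hl]; group
      _ = _ := by rw [l2, mul_one]
  have zB : r * l ∈ R ⊔ R' := mul_mem_sup hr hl
  have hz : h * (r * l) * h⁻¹ = r * l := by
    calc h * (r * l) * h⁻¹ = (h * r * h⁻¹) * (h * l * h⁻¹) := by group
      _ = _ := by rw [d.inv hh h1 hr, e1]; group
  refine ⟨r * l, zB, zz ▸ mul_mem hr hr, zz ▸ r2, zz ▸ r4, fun n hn nB => ?_⟩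
  obtain ⟨w, hw, l1, hl1, rfl⟩ := d.decG n hn
  have wB := (mul_mem_cancel_right (le_normalizer (d.s2.lB hl1))).1 nB
  have e2 : w * l1 * (r * l) * (w * l1)⁻¹ = w * (r * l) * w⁻¹ := by
    rw [mul_assoc w, d.abB _ (d.s2.lB hl1) _ zB]
    group
  rw [e2]
  rcases d.act hh h1 hw wB with e | e
  · exact e _ zB
  · calc w * (r * l) * w⁻¹ = h⁻¹ * (h * w * (r * l) * (h * w)⁻¹) * h := by group
      _ = h⁻¹ * (h * (r * l) * h⁻¹) * h := by rw [e _ zB, hz]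
      _ = _ := by group

theorem card_P : Nat.card P ≤ 2 * Nat.card R := by
  obtain ⟨h, hh, h1⟩ := d.exists_h
  have : Nat.card P ≤ Nat.card (Bool × R) := by
    refine Nat.card_le_card_of_surjective (fun x : Bool × R =>
      (⟨if x.1 then x.2 else h⁻¹ * x.2, by
        split_ifs
        exacts [d.le x.2.2, mul_mem (inv_mem hh) (d.le x.2.2)]⟩ : P)) ?_
    rintro ⟨w, hw⟩
    by_cases w1 : w ∈ R
    · exact ⟨(true, ⟨w, w1⟩), rfl⟩
    · exact ⟨(false, ⟨h * w, d.two hh h1 hw w1⟩), Subtype.ext (by simp)⟩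
  simpa using this

theorem card_R : 2 < Nat.card R := by
  obtain ⟨r, hr, r2⟩ := d.hr
  by_contra hn
  refine r2 ?_
  have h1 := Nat.card_pos (α := R)
  have h2 := congrArg Subtype.val (pow_card_eq_one' (x := (⟨r, hr⟩ : R)))
  have h3 : Nat.card R = 1 ∨ Nat.card R = 2 := by omega
  rcases h3 with h3 | h3 <;> rw [h3] at h2
  · have : r = 1 := by simpa using h2
    rw [this, one_mul]
  · simpa [sq] using h2

/-- `B` is the only conjugate of `B` in `T`. -/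
theorem uniq {g : G} (hg : cj g (R ⊔ R') ≤ P ⊔ R') :
    g ∈ normalizer ((R ⊔ R' : Subgroup G) : Set G) := by
  refine mem_normalizer_of_cj_le ?_
  by_contra hn
  obtain ⟨x, hx, xB⟩ := SetLike.not_le_iff_exists.1 hn
  have ab : ∀ y ∈ cj g (R ⊔ R'), x * y = y * x := fun y hy => by
    have := d.abB _ (mem_cj.1 hx) _ (mem_cj.1 hy)
    calc x * y = g * (g⁻¹ * x * g * (g⁻¹ * y * g)) * g⁻¹ := by group
      _ = _ := by rw [this]; group
  choose w hw l hl e using fun y : ↥(cj g (R ⊔ R')) => d.decT y (hg y.2)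
  have h1 : Nat.card ↥(cj g (R ⊔ R')) ≤ Nat.card P := by
    refine Nat.card_le_card_of_injective (fun y => (⟨w y, hw y⟩ : P)) fun y y' e1 => ?_
    have e1 : w y = w y' := congrArg Subtype.val e1
    have e2 : (y : G)⁻¹ * y' = (l y)⁻¹ * l y' := by
      rw [e y, e y', e1]
      group
    by_contra hne
    refine xB (d.s2.cT (mul_mem (inv_mem (hl y)) (hl y')) (fun e3 => hne ?_) (hg hx) ?_)
    · rw [← e2, inv_mul_eq_one] at e3
      exact Subtype.ext e3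
    · rw [← e2]
      exact ab _ (mul_mem (inv_mem y.2) y'.2)
  rw [card_cj, d.s2.card_B] at h1
  have := d.card_P
  have := d.card_R
  nlinarith

variable {z : G} (zB : z ∈ R ⊔ R') (zR : z * z ∈ R) (z2 : z * z ≠ 1)
  (zn : ∀ n ∈ N a ⊔ R', n ∈ normalizer ((R ⊔ R' : Subgroup G) : Set G) → n * z * n⁻¹ = z)
include zB zR z2 zn

theorem zT {t : G} (ht : t ∈ P ⊔ R') : t * z = z * t :=
  mul_inv_eq_iff_eq_mul.1 (zn t (d.s2.TG ht) (d.tN ht))

/-- `ζ` is weakly closed in `T`. -/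
theorem wc {g : G} (hg : g ∈ N a ⊔ R') (hx : g * z * g⁻¹ ∈ P ⊔ R') : g * z * g⁻¹ = z := by
  have : Fact (Nat.Prime 2) := ⟨Nat.prime_two⟩
  set x := g * z * g⁻¹ with hxd
  by_cases xB : x ∈ R ⊔ R'
  · have hS : IsSyl 2 (cj g (P ⊔ R')) ((N a ⊔ R') ⊓ centralizer {x}) := by
      refine (d.sylT.cj_of_mem hg).of_le (le_inf (d.sylT.cj_of_mem hg).le fun t ht => ?_)
        inf_le_left
      rw [mem_centralizer_singleton_iff]
      have := d.zT zB zR z2 zn (mem_cj.1 ht)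
      calc t * x = g * (g⁻¹ * t * g * z) * g⁻¹ := by rw [hxd]; group
        _ = x * t := by rw [this, hxd]; group
    obtain ⟨c, hc, h1⟩ := hS.exists_cj_le d.s2.pB (le_inf (d.s2.BT.trans d.s2.TG) fun y hy =>
      mem_centralizer_singleton_iff.2 (d.abB _ hy _ xB))
    rw [le_cj_iff, cj_cj] at h1
    have h2 := zn _ (inv_mem (mul_mem (inv_mem hg) hc.1)) (inv_mem (d.uniq h1))
    have h3 := mem_centralizer_singleton_iff.1 hc.2
    calc x = c⁻¹ * (c * x) := by group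
      _ = (g⁻¹ * c)⁻¹ * z * (g⁻¹ * c)⁻¹⁻¹ := by rw [h3, hxd]; group
      _ = z := h2
  · exfalso
    obtain ⟨w, hw, l1, hl1, ex⟩ := d.decT x hx
    have w1 : w ∉ R := fun h => xB (ex ▸ mul_mem_sup h hl1)
    have x2 : x * x ∈ R := by
      refine d.bn _ ?_ ?_
      · have : x * x = w * w * (w⁻¹ * l1 * w⁻¹⁻¹) * l1 := by rw [ex]; group
        rw [this]
        exact mul_mem (mul_mem (d.s2.rB (d.wsq w (d.hW.ge hw)))
          (conj_mem_of_mem_normalizer (inv_mem (d.pN hw)) (d.s2.lB hl1))) (d.s2.lB hl1)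
      · rw [hxd, conj_mul]
        exact d.s2.tI.conj_of_fix (d.s2.G_stab hg) (d.s2.mR zR).1
    obtain ⟨l, hl, e1⟩ := d.surj w (d.s2.mP hw) (d.pN hw) (d.move hw w1) _ x2
    have e2 : x * l * x⁻¹ = x * x * l := by
      rw [← e1, ex, mul_assoc w, d.s2.cLL hl1 hl]
      group
    have e3 : l * x⁻¹ = x * l := by
      calc l * x⁻¹ = x⁻¹ * (x * l * x⁻¹) := by group
        _ = _ := by rw [e2]; group
    have e4 : g⁻¹ * l⁻¹ * g * z * (g⁻¹ * l⁻¹ * g)⁻¹ = z⁻¹ := by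
      calc g⁻¹ * l⁻¹ * g * z * (g⁻¹ * l⁻¹ * g)⁻¹ = g⁻¹ * l⁻¹ * (x * l) * g := by rw [hxd]; group
        _ = _ := by rw [← e3, hxd]; group
    have hS : IsSyl 2 (P ⊔ R') ((N a ⊔ R') ⊓ normalizer ((zpowers z : Subgroup G) : Set G)) := by
      refine d.sylT.of_le (le_inf d.s2.TG fun t ht => mem_nz ?_) inf_le_left
      rw [d.zT zB zR z2 zn ht, mul_inv_cancel_right]
      exact mem_zpowers z
    obtain ⟨k, hk⟩ := isPGroup_iff_forall.1 d.sylR'.isPGroup _ (inv_mem hl)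
    have hk' : (g⁻¹ * l⁻¹ * g) ^ 2 ^ k = 1 := by
      have := conj_pow (a := g⁻¹) (b := l⁻¹) (i := 2 ^ k)
      rw [inv_inv] at this
      rw [this, hk, mul_one, inv_mul_cancel]
    obtain ⟨c, hc, h1⟩ := hS.exists_cj_le (isPGroup_zpowers hk') (zpowers_le.2
      ⟨mul_mem (mul_mem ((N a ⊔ R').inv_mem hg) (mem_sup_right (inv_mem hl))) hg,
        mem_nz (by rw [e4]; exact inv_mem (mem_zpowers z))⟩)
    obtain ⟨m, hm⟩ := conj_mem_of_mem_normalizer hc.2 (mem_zpowers z)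
    have h2 : Commute (c * (g⁻¹ * l⁻¹ * g) * c⁻¹) (z ^ m) :=
      Commute.zpow_right (d.zT zB zR z2 zn (h1 (conj_mem_cj (mem_zpowers _)))) m
    have hm : z ^ m = c * z * c⁻¹ := hm
    rw [hm] at h2
    have h3 : g⁻¹ * l⁻¹ * g * z = z * (g⁻¹ * l⁻¹ * g) := by
      calc g⁻¹ * l⁻¹ * g * z = c⁻¹ * (c * (g⁻¹ * l⁻¹ * g) * c⁻¹ * (c * z * c⁻¹)) * c := by group
        _ = _ := by rw [h2.eq]; group
    rw [h3, mul_inv_cancel_right] at e4
    exact z2 (mul_eq_one_iff_eq_inv.2 e4)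

/-- `ζ²` is weakly closed in `T`. -/
theorem wc2 (z4 : z * z * (z * z) = 1) {g : G} (hg : g ∈ N a ⊔ R')
    (hx : g * (z * z) * g⁻¹ ∈ P ⊔ R') : g * (z * z) * g⁻¹ = z * z := by
  have : Fact (Nat.Prime 2) := ⟨Nat.prime_two⟩
  set x := g * (z * z) * g⁻¹ with hxd
  have hS : IsSyl 2 (cj g (P ⊔ R')) ((N a ⊔ R') ⊓ centralizer {x}) := by
    refine (d.sylT.cj_of_mem hg).of_le (le_inf (d.sylT.cj_of_mem hg).le fun t ht => ?_)
      inf_le_left
    rw [mem_centralizer_singleton_iff]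
    have := d.zT zB zR z2 zn (mem_cj.1 ht)
    calc t * x = g * (g⁻¹ * t * g * z * z) * g⁻¹ := by rw [hxd]; group
      _ = g * (z * (g⁻¹ * t * g) * z) * g⁻¹ := by rw [this]
      _ = g * (z * (g⁻¹ * t * g * z)) * g⁻¹ := by group
      _ = x * t := by rw [this, hxd]; group
  have hk : z ^ 2 ^ 2 = 1 := by
    rw [← z4]
    norm_num [pow_succ, mul_assoc]
  obtain ⟨c, hc, h1⟩ := hS.exists_cj_le (isPGroup_zpowers hk) (zpowers_le.2
    ⟨d.s2.TG (d.s2.BT zB), mem_centralizer_singleton_iff.2 (d.zT zB zR z2 zn hx).symm⟩)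
  have h2 := mem_cj.1 (h1 (conj_mem_cj (mem_zpowers _)))
  have h3 := d.wc zB zR z2 zn (g := g⁻¹ * c) (mul_mem (inv_mem hg) hc.1)
    (by simpa [mul_assoc] using h2)
  have h4 := mem_centralizer_singleton_iff.1 hc.2
  calc x = c⁻¹ * (c * x) := by group
    _ = c⁻¹ * g * (z * z) * (c⁻¹ * g)⁻¹ := by rw [h4, hxd]; group
    _ = c⁻¹ * g * ((g⁻¹ * c * z * (g⁻¹ * c)⁻¹) * (g⁻¹ * c * z * (g⁻¹ * c)⁻¹)) * (c⁻¹ * g)⁻¹ := by
      rw [h3]
    _ = z * z := by group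

end Hy

theorem jobWNE : JobWNE.{u} := by
  intro G Ω _ _ _ N a b R R' P s d0 hW hr
  have d : Hy N a b R R' P s := ⟨d0, hW, hr⟩
  obtain ⟨z, zB, zR, z2, z4, zn⟩ := d.exists_zeta
  have hc := d.zc a _ _ (z * z) le_sup_left d.s2.G_stab d.sylT (d.s2.BT (d.s2.rB zR)) z4
    fun g hg hx => d.wc2 zB zR z2 zn z4 hg hx
  obtain ⟨h, hh, e⟩ := d.o2 a _ (d.s2.mR zR).1 z4 z2
  exact e (hc _ (mul_mem (mul_mem hh (d.s2.mR zR).1) (inv_mem hh)))

end H17.ON2
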