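/- ORD-E, part E1: CIT-groups in which no prime divides three element orders. -/
import Cfsg.Agent.H5.PrimeGraph
import Cfsg.Agent.H61.Mar3
import Cfsg.Agent.H70.Maz
import Cfsg.Agent.H24.SzFacts
import Cfsg.Agent.H98.Sylow

set_option autoImplicit false

open Cfsg Subgroup

namespace H17.OE

variable {G : Type*} [Group G]

/-- No prime divides three different element orders. -/
def H3 (G : Type*) [Group G] : Prop :=
  ∀ p : ℕ, p.Prime → ∀ a b c : G, orderOf a ≠ orderOf b → orderOf b ≠ orderOf c →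
    orderOf a ≠ orderOf c → ¬ (p ∣ orderOf a ∧ p ∣ orderOf b ∧ p ∣ orderOf c)

theorem H3.of_surj [Finite G] (h : H3 G) {H : Type*} [Group H] (f : G →* H)
    (hf : Function.Surjective f) : H3 H := fun p hp a b c => by
  have key : ∀ x : H, ∃ g : G, orderOf g = orderOf x := fun x => by
    obtain ⟨g, rfl⟩ := hf x
    obtain ⟨y, -, hy⟩ := H5.exists_orderOf_of_dvd (orderOf_map_dvd f g)
    exact ⟨y, hy⟩
  obtain ⟨a', ha⟩ := key a
  obtain ⟨b', hb⟩ := key b
  obtain ⟨c', hc⟩ := key c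
  rw [← ha, ← hb, ← hc]
  exact h p hp a' b' c'

theorem H3.len [Finite G] (h : H3 G) (g : G) : (orderOf g).primeFactorsList.length ≤ 2 := by
  by_contra hl
  have h0 := Nat.prod_primeFactorsList (orderOf_pos g).ne'
  have hp : ∀ p ∈ (orderOf g).primeFactorsList, p.Prime := fun p => Nat.prime_of_mem_primeFactorsList
  generalize (orderOf g).primeFactorsList = l at hl h0 hp
  match l, hl, h0, hp with
  | [], hl, _, _ => simp at hl
  | [_], hl, _, _ => simp at hl
  | [_, _], hl, _, _ => simp at hl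
  | p :: q :: r :: l, _, h0, hp =>
    have p1 := (hp p (by simp)).one_lt
    have q1 := (hp q (by simp)).one_lt
    have r1 := (hp r (by simp)).one_lt
    simp only [List.prod_cons] at h0
    obtain ⟨a, -, ha⟩ := H5.exists_orderOf_of_dvd (g := g) (n := p) ⟨_, h0.symm⟩
    obtain ⟨b, -, hb⟩ := H5.exists_orderOf_of_dvd (g := g) (n := p * q)
      ⟨_, by rw [← h0, mul_assoc]⟩
    obtain ⟨c, -, hc⟩ := H5.exists_orderOf_of_dvd (g := g) (n := p * q * r)
      ⟨l.prod, by rw [← h0]; ring⟩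
    have e1 : p < p * q := lt_mul_of_one_lt_right (by omega) q1
    have e2 : p * q < p * q * r := lt_mul_of_one_lt_right (by omega) r1
    refine h p (hp p (by simp)) a b c (by omega) (by omega) (by omega) ?_
    rw [ha, hb, hc]
    exact ⟨dvd_rfl, dvd_mul_right _ _, (dvd_mul_right _ _).mul_right _⟩

theorem H3.len' [Finite G] (h : H3 G) {n : ℕ} (hn : ∃ g : G, orderOf g = n) :
    n.primeFactorsList.length ≤ 2 := by
  obtain ⟨g, rfl⟩ := hn
  exact h.len g

theorem H3.pow_le [Finite G] (h : H3 G) {p k : ℕ} (hp : p.Prime) {g : G} (hg : orderOf g = p ^ k) :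
    k ≤ 2 := by
  have := h.len g
  rwa [hg, hp.primeFactorsList_pow, List.length_replicate] at this

theorem H3.pow_four [Finite G] (h : H3 G) {g : G} (hg : g ^ 8 = 1) : g ^ 4 = 1 := by
  obtain ⟨k, -, hk⟩ := (Nat.dvd_prime_pow Nat.prime_two (m := 3)).1 (orderOf_dvd_of_pow_eq_one hg)
  exact orderOf_dvd_iff_pow_eq_one.1 (hk ▸ pow_dvd_pow 2 (h.pow_le Nat.prime_two hk))

section Sz

open H66

variable {F : Type*} [Field F] {T : Tits F} {S : Type*} [Group S] (M : Model T S) {m : ℕ}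

include M in
theorem sz_frob (hT : T.IsFin m) : ∃ A : Subgroup S, IsTorus m A ∧ A ≠ ⊥ ∧
    ∃ x ∈ normalizer (A : Set S), x ^ 2 ∉ A := by
  have := hT.finite
  have := M.finite
  obtain ⟨A, c1, c2, c3⟩ := M.exists_torus hT (Or.inl rfl)
  have hA : IsTorus m A := ⟨c1, Or.inr (Or.inl c2)⟩
  have h5 := hT.five_le (Or.inl rfl)
  refine ⟨A, hA, fun e => by rw [e, card_bot] at c2; omega, ?_⟩
  by_contra hn
  push Not at hn
  obtain ⟨t, ht, t2, t1⟩ := M.exists_involution_normalizer hT hA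
  have h1 : (normalizer (A : Set S) : Set S) ⊆ A ∪ (fun a => t * a) '' A := fun y hy => by
    by_cases hyA : y ∈ A
    · exact Or.inl hyA
    have y2 : y ^ 2 = 1 := by
      by_contra h2
      exact hyA (c3.mem_of_commute (hn y hy) h2 (by group))
    exact Or.inr ⟨t⁻¹ * y, (M.mem_coset_iff_involution hT hA ht t2 t1).2
      ⟨hy, y2, fun e => hyA (e ▸ one_mem _)⟩, mul_inv_cancel_left _ _⟩
  have h2 := (Set.ncard_le_ncard h1).trans (Set.ncard_union_le _ _)
  have h3 := Set.ncard_image_le (f := fun a => t * a) (s := (A : Set S))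
  have h4 := M.card_normalizer hT (Or.inl c2) c1 rfl
  have h6 : ∀ B : Subgroup S, (B : Set S).ncard = Nat.card B := fun B =>
    (Nat.card_coe_set_eq _).symm
  rw [h6] at h3
  rw [h6, h6] at h2
  omega

include M in
theorem sz_orders (hT : T.IsFin m) : (∃ g : S, orderOf g = 2 ^ (2 * m + 1) - 1) ∧
    (∃ g : S, orderOf g = aM m) ∧ ∃ g : S, orderOf g = aP m := by
  have := hT.finite
  have := M.finite
  have key : ∀ A : Subgroup S, IsCyclic A → ∃ g : S, orderOf g = Nat.card A := fun A hA => by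
    obtain ⟨g, hg⟩ := IsCyclic.exists_ofOrder_eq_natCard (α := A)
    exact ⟨g, (orderOf_coe g).trans hg⟩
  obtain ⟨A, c1, c2, -⟩ := M.exists_torus hT (Or.inl rfl)
  obtain ⟨B, d1, d2, -⟩ := M.exists_torus hT (Or.inr rfl)
  refine ⟨?_, d2 ▸ key B d1, c2 ▸ key A c1⟩
  have := key _ M.isCyclic_H
  rwa [M.card_H, hT.card] at this

end Sz

theorem sz_core [Finite G] (h : H3 G) (hc : H31.CIT G) (V : Subgroup G) [V.Normal]
    (hV : IsPGroup 2 V) (hS : Lie.IsoSuzuki (G ⧸ V)) : V = ⊥ := by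
  have sq := H61.Mar.cit_sq_of_suzuki hc V hV hS
  obtain ⟨F, _, T, m, hT, ⟨M⟩⟩ := H24.exists_szModel hS
  obtain ⟨A, hA, A1, x, hx, x2⟩ := sz_frob M hT
  have cc := M.isCC_of_isTorus hT hA
  set π := QuotientGroup.mk' V with hπ
  have hs : Function.Surjective π := QuotientGroup.mk'_surjective V
  have ker : ∀ g, π g = 1 ↔ g ∈ V := fun g => QuotientGroup.eq_one_iff g
  obtain ⟨p, hp, hpd⟩ := Nat.exists_prime_and_dvd (mt card_eq_one.1 A1)
  have := Fact.mk hp
  have p2 : p ≠ 2 := fun e => hA.odd.not_two_dvd_nat (e ▸ hpd)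
  obtain ⟨K, hK⟩ := H98.exists_isSyl p (A.comap π)
  have K1 : K ≠ ⊥ := fun e => hK.eq_bot_iff.1 e (hpd.trans (by
    conv_lhs => rw [← map_comap_eq_self_of_surjective hs A]
    exact card_map_dvd _ _))
  have both : ∀ y ∈ K, (∃ k, y ^ 2 ^ k = 1) → y = 1 := fun y hy ⟨k, hk⟩ => by
    obtain ⟨j, hj⟩ := H98.isPGroup_iff_forall.1 hK.isPGroup y hy
    exact orderOf_eq_one_iff.1 (Nat.eq_one_of_dvd_coprimes
      (Nat.Coprime.pow j k ((Nat.coprime_primes hp Nat.prime_two).2 p2))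
      (orderOf_dvd_of_pow_eq_one hj) (orderOf_dvd_of_pow_eq_one hk))
  obtain ⟨x, rfl⟩ := hs x
  obtain ⟨a, ha, n, hn, rfl⟩ := hK.frattini_mem (g := x) (by
    rw [← comap_normalizer_eq_of_surjective A hs]; exact hx)
  have hn' : π n ∈ A := hn
  have aN : π a ∈ normalizer (A : Set (G ⧸ V)) := by
    rw [map_mul] at hx
    exact (mul_mem_cancel_right (le_normalizer hn')).1 hx
  have a2 : π a ^ 2 ∉ A := fun e => x2 (by
    have h1 : π (a * n) ^ 2 = π a ^ 2 * ((π a)⁻¹ * π n * (π a)⁻¹⁻¹) * π n := by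
      rw [map_mul, pow_two, pow_two]; group
    rw [h1]
    exact mul_mem (mul_mem e (H98.conj_mem_of_mem_normalizer (inv_mem aN) hn')) hn')
  have a1 : π a ∉ A := fun e => a2 (pow_mem e 2)
  have a4 : π a ^ 4 = 1 := M.pow_four_of_even hT
    (Nat.not_odd_iff_even.1 fun e => a1 (M.mem_torus_of_odd hT hA aN e))
  have four : ∀ v ∈ V, (v * a) ^ 4 = 1 := fun v hv => h.pow_four (by
    rw [show 8 = 4 + 4 from rfl, pow_add]
    exact sq _ ((ker _).1 (by rw [map_pow, map_mul, (ker v).2 hv, one_mul, a4])))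
  have cent := H70.Maz.cent_of_pow (V := V) (K := K) (x := a) (n := 4) (fun u hu v hv => by
      have h1 := inv_eq_of_mul_eq_one_right (sq _ (mul_mem hu hv))
      rw [mul_inv_rev, inv_eq_of_mul_eq_one_right (sq u hu),
        inv_eq_of_mul_eq_one_right (sq v hv)] at h1
      exact h1.symm)
    (by rw [normalizer_eq_top]; exact le_top) (by rw [normalizer_eq_top]; trivial) ha (by norm_num)
    (fun i i0 i4 y hy e => by
      refine both y hy (H98.isPGroup_iff_forall.1 hV y ((ker y).1 ?_))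
      by_contra y1
      have h1 : π a ^ i ∈ A := cc.mem_of_commute (hK.le hy) y1 (by
        rw [← map_pow, ← map_mul, e, map_mul])
      interval_cases i
      · exact a1 (by simpa using h1)
      · exact a2 h1
      · refine a1 ((mul_mem_cancel_left h1).1 ?_)
        rw [← pow_succ, a4]
        exact one_mem _)
    (by
      obtain ⟨i, hi⟩ := IsPGroup.iff_card.1 hV
      obtain ⟨j, hj⟩ := IsPGroup.iff_card.1 hK.isPGroup
      rw [hi, hj]
      exact Nat.Coprime.pow i j ((Nat.coprime_primes Nat.prime_two hp).2 p2.symm))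
    (fun v hv => by rw [four v hv, ← four 1 (one_mem _), one_mul])
  by_contra V1
  obtain ⟨v, hv, v1⟩ := (V.bot_or_exists_ne_one).resolve_left V1
  obtain ⟨y, hy, y1⟩ := (K.bot_or_exists_ne_one).resolve_left K1
  exact y1 (both y hy (H98.isPGroup_iff_forall.1 (hc v (orderOf_eq_prime (by
    rw [pow_two, sq v hv]) v1)) y (mem_centralizer_singleton_iff.2 (cent y hy v hv))))

/-- The conclusion of S4371 for CIT-groups. -/
theorem e1 [Finite G] (hG : ¬ Group.IsSolvable G) (h3 : H3 G) (hc : H31.CIT G) :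
    (∃ (F : Type) (_ : Field F) (_ : Fintype F), CharP F 2 ∧ 4 ≤ Fintype.card F ∧
        (Fintype.card F + 1).primeFactorsList.length ≤ 2 ∧ (Fintype.card F - 1).primeFactorsList.length ≤ 2 ∧
        Nonempty (G ⧸ Cfsg.pCore 2 G ≃* Matrix.ProjectiveSpecialLinearGroup (Fin 2) F)) ∨
    (∃ (F : Type) (_ : Field F) (_ : Fintype F), 5 < Fintype.card F ∧ (Fintype.card F % 8 = 3 ∨ Fintype.card F % 8 = 5) ∧
        ((Fintype.card F + 1) / 2).primeFactorsList.length ≤ 2 ∧ ((Fintype.card F - 1) / 2).primeFactorsList.length ≤ 2 ∧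
        Nonempty (G ≃* Matrix.ProjectiveSpecialLinearGroup (Fin 2) F)) ∨
    (∃ (F : Type) (_ : Field F) (_ : Fintype F), (Fintype.card F = 7 ∨ Fintype.card F = 9) ∧
        Nonempty (G ≃* Matrix.ProjectiveSpecialLinearGroup (Fin 2) F)) ∨
    (∃ (F : Type) (_ : Field F) (_ : Fintype F), Fintype.card F = 4 ∧ Nonempty (G ≃* Matrix.ProjectiveSpecialLinearGroup (Fin 3) F)) ∨
    (∃ n : ℕ, 1 ≤ n ∧ IsSimpleGroup G ∧ Nat.card G = (2 ^ (2 * n + 1)) ^ 2 * ((2 ^ (2 * n + 1)) ^ 2 + 1) * (2 ^ (2 * n + 1) - 1) ∧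
        (2 ^ (2 * n + 1) - 1).primeFactorsList.length ≤ 2 ∧ (2 ^ (2 * n + 1) - 2 ^ (n + 1) + 1).primeFactorsList.length ≤ 2 ∧
        (2 ^ (2 * n + 1) + 2 ^ (n + 1) + 1).primeFactorsList.length ≤ 2) := by
  rcases H5.cit_quot hG hc with ⟨n, hn, hL⟩ | hS | ⟨q, hq, h7, ⟨k, hk⟩, hL, -⟩ | ⟨-, hL | hL | hL⟩
  · obtain ⟨-, h1, h2⟩ := hL.facts
    rw [H61.gcd_two_of_even ((Nat.even_pow' (by omega)).2 even_two) (by positivity),
      Nat.div_one] at h1 h2
    have hq := h3.of_surj _ (QuotientGroup.mk'_surjective (pCore 2 G))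
    obtain ⟨F, _, _, hF, he⟩ := hL
    refine Or.inl ⟨F, _, _, charP_of_card_eq_prime_pow (p := 2) hF, ?_, hF ▸ hq.len' h2,
      hF ▸ hq.len' h1, he⟩
    exact hF ▸ Nat.pow_le_pow_right (n := 2) two_pos hn
  · have h0 := sz_core h3 hc _ (H98.isPGroup_pCore 2 G) hS
    have e : G ⧸ pCore 2 G ≃* G :=
      (QuotientGroup.quotientMulEquivOfEq h0).trans QuotientGroup.quotientBot
    obtain ⟨F, _, T, m, hT, ⟨M⟩⟩ := H24.exists_szModel (H5.isoSuzuki_of_equiv e.symm hS)
    obtain ⟨h1, h2, h4⟩ := sz_orders M hT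
    have := hT.finite
    refine Or.inr (Or.inr (Or.inr (Or.inr ⟨m, hT.hm, M.isSimpleGroup hT, ?_, h3.len' h1, h3.len' h2,
      h3.len' h4⟩)))
    rw [M.card_G, hT.card]
    ring
  · obtain ⟨-, ⟨a, h1⟩, b, h2⟩ := hL.facts
    have hodd := hq.odd_of_ne_two (by omega)
    have hg : Nat.gcd 2 (q - 1) = 2 := Nat.gcd_eq_left (by
      obtain ⟨j, rfl⟩ := hodd
      simp)
    rw [hg] at h1 h2
    obtain ⟨k, rfl⟩ : ∃ j, k = j + 1 := ⟨k - 1, by
      rcases k with _ | k
      · omega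
      · rfl⟩
    rw [pow_succ] at hk
    have h8 : ∀ g : G, orderOf g = 2 ^ k → 2 ^ k ≤ 4 := fun g hg =>
      Nat.pow_le_pow_right (n := 2) two_pos (h3.pow_le Nat.prime_two hg)
    obtain rfl : q = 7 := by
      rcases hk with e | e
      · have := h8 a (by omega)
        have h9 : q ≠ 9 := by rintro rfl; norm_num at hq
        have h6 : 2 ^ k ≠ 3 := fun e3 => by
          have : 3 ∣ 2 ^ k := e3 ▸ dvd_rfl
          have := Nat.prime_three.dvd_of_dvd_pow this
          omega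
        omega
      · have := h8 b (by omega)
        omega
    obtain ⟨F, _, _, hF, he⟩ := hL
    exact Or.inr (Or.inr (Or.inl ⟨F, _, _, Or.inl hF, he⟩))
  · obtain ⟨F, _, _, hF, he⟩ := hL
    exact Or.inr (Or.inr (Or.inl ⟨F, _, _, Or.inr hF, he⟩))
  · exact Or.inr (Or.inr (Or.inr (Or.inl hL)))
  · obtain ⟨-, x, hx⟩ := hL
    have := h3.pow_le Nat.prime_two (k := 3) hx
    omega

end H17.OE
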