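import Cfsg.Agent.H28.PSKit

/-! Additive maps of the sum-zero vectors that preserve the type `Z` (blueprint `PSF4.md`, B3a). -/

set_option autoImplicit false
set_option maxRecDepth 100000

open Cfsg Subgroup H98 H42.L3 H56.L3 H28.PS
open H28.PS renaming Cst → Kst

namespace H17.PS

variable {u v w : W} {s : S6}

def b2 : W := ![1, 1, 0, 1, 0, 0]
def b3 : W := ![1, 1, 0, 0, 1, 0]
def b4 : W := ![1, 0, 1, 1, 0, 0]
def b2c : W := ![0, 0, 1, 0, 1, 1]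

/-- the additive map given by the images of `zv, b2, b3, b4` -/
def TT (w1 w2 w3 w4 v : W) : W :=
  (v 2 - v 5 - v 0 + v 1) • w1 + (v 3 - v 5 - v 0 + v 1) • w2 + (v 4 - v 5) • w3 + (v 0 - v 1) • w4

def qq (v : W) : ZMod 3 := ∑ i, v i * v i

/-- the indicators of triples -/
def L20 : List W := [![1,1,1,0,0,0], ![1,1,0,1,0,0], ![1,1,0,0,1,0], ![1,1,0,0,0,1],
  ![1,0,1,1,0,0], ![1,0,1,0,1,0], ![1,0,1,0,0,1], ![1,0,0,1,1,0], ![1,0,0,1,0,1], ![1,0,0,0,1,1],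
  ![0,1,1,1,0,0], ![0,1,1,0,1,0], ![0,1,1,0,0,1], ![0,1,0,1,1,0], ![0,1,0,1,0,1], ![0,1,0,0,1,1],
  ![0,0,1,1,1,0], ![0,0,1,1,0,1], ![0,0,1,0,1,1], ![0,0,0,1,1,1]]

theorem cst_iff : Kst v ↔ ∀ i j, v i = v j :=
  ⟨fun h i j => (h i).trans (h j).symm, fun h i => h i 0⟩

theorem cst_pm (h : Kst v) (s : S6) : Kst (pm s v) := cst_iff.2 fun _ _ => cst_iff.1 h _ _

theorem cst_pm_iff : Kst (pm s v) ↔ Kst v :=
  ⟨fun h => by simpa only [← pm_mul, inv_mul_cancel, pm_one] using cst_pm h s⁻¹, fun h => cst_pm h s⟩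

theorem cst_smul (h : Kst v) (c : ZMod 3) : Kst (c • v) := fun i => congrArg (c * ·) (h i)

theorem cst_add (h : Kst u) (h' : Kst v) : Kst (u + v) := fun i => congrArg₂ (· + ·) (h i) (h' i)

theorem cst_sum (h : Kst v) : ∑ i, v i = 0 :=
  forall_W (P := fun v => Kst v → ∑ i, v i = 0) (by decide +kernel) v h

theorem pm_smul (s : S6) (c : ZMod 3) (v : W) : pm s (c • v) = c • pm s v := rfl

theorem qq_pm (s : S6) (v : W) : qq (pm s v) = qq v := sum_pm s (v * v)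

theorem qq_neg (v : W) : qq (-v) = qq v := by simp [qq]

theorem qq_cst (hv : ∑ i, v i = 0) (h : Kst (u - v)) : qq u = qq v := by
  have e : u = v + fun _ => u 0 - v 0 := funext fun i => by
    have := h i
    simp only [Pi.sub_apply] at this
    simp only [Pi.add_apply]
    linear_combination this
  rw [e]
  generalize u 0 - v 0 = c
  revert hv c
  exact forall_W (P := fun v => ∑ i, v i = 0 → ∀ c, qq (v + fun _ => c) = qq v) (by decide +kernel) v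

theorem isZ_pm : IsZ (pm s v) ↔ IsZ v :=
  and_congr (by rw [sum_pm]) (and_congr (by rw [← qq, qq_pm, qq]) (not_congr cst_pm_iff))

theorem L20_iff : ∀ v ∈ L20, (∀ i, v i = 0 ∨ v i = 1) ∧ IsZ v := by decide +kernel

theorem pm_L20 (h : v ∈ L20) (s : S6) : pm s v ∈ L20 :=
  forall_W (P := fun v => (∀ i, v i = 0 ∨ v i = 1) → IsZ v → v ∈ L20) (by decide +kernel) _
    (fun _ => (L20_iff v h).1 _) (isZ_pm.2 (L20_iff v h).2)

theorem exists_L20 (h : IsZ v) : ∃ w ∈ L20, Kst (v - w) :=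
  forall_W (P := fun v => IsZ v → ∃ w ∈ L20, Kst (v - w)) (by decide +kernel) v h

theorem TT_b (h : ∑ i, v i = 0) : Kst (TT zv b2 b3 b4 v - v) :=
  forall_W (P := fun v => ∑ i, v i = 0 → Kst (TT zv b2 b3 b4 v - v)) (by decide +kernel) v h

theorem la1 : ∀ w ∈ L20, ∃ i j k : Fin 6,
    pm (Equiv.swap 0 i * Equiv.swap 1 j * Equiv.swap 2 k) w = zv := by decide +kernel

theorem la2 : ∀ w ∈ L20, ¬ IsZ (zv + w) → ¬ IsZ (zv - w) → ∃ i < 3, ∃ j < 3,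
    pm (c012 ^ i * c345 ^ j) zv = zv ∧
      (pm (c012 ^ i * c345 ^ j) w = b2 ∨ pm (c012 ^ i * c345 ^ j) w = b2c) := by decide +kernel

theorem la3 : ∀ w3 ∈ L20, IsZ (zv + b2 + w3) → ∀ w4 ∈ L20, IsZ (zv + b2 + w4) →
    (∀ v ∈ L20, IsZ (TT zv b2 w3 w4 v)) →
    ∃ s ∈ [1, Equiv.swap 0 1, Equiv.swap 4 5, Equiv.swap 0 1 * Equiv.swap 4 5],
      ∃ t ∈ [1, Equiv.swap 0 4 * Equiv.swap 1 5 * Equiv.swap 2 3], ∃ ε ∈ [(1 : ZMod 3), -1],
      Kst (zv - ε • pm (s * t) zv) ∧ Kst (b2 - ε • pm (s * t) b2) ∧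
      Kst (w3 - ε • pm (s * t) b3) ∧ Kst (w4 - ε • pm (s * t) b4) := by decide +kernel

theorem la4 : ∀ w3 ∈ L20, IsZ (zv + b2c + w3) → ∀ w4 ∈ L20, IsZ (zv + b2c + w4) →
    (∀ v ∈ L20, IsZ (TT zv b2c w3 w4 v)) →
    ∀ a b c d : ZMod 3, qq (a • zv + b • b2c + c • w3 + d • w4) =
      -qq (a • zv + b • b2 + c • b3 + d • b4) := by decide +kernel

/-- an additive map that preserves the type `Z` is `± pm s` or changes the sign of `qq` -/
theorem LA {w1 w2 w3 w4 : W} (h1 : w1 ∈ L20) (h2 : w2 ∈ L20) (h3 : w3 ∈ L20) (h4 : w4 ∈ L20)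
    (h : ∀ v, ∑ i, v i = 0 → (IsZ (TT w1 w2 w3 w4 v) ↔ IsZ v)) :
    (∃ s ε, ε * ε = (1 : ZMod 3) ∧ Kst (w1 - ε • pm s zv) ∧ Kst (w2 - ε • pm s b2) ∧
      Kst (w3 - ε • pm s b3) ∧ Kst (w4 - ε • pm s b4)) ∨
    ∀ v, ∑ i, v i = 0 → qq (TT w1 w2 w3 w4 v) = -qq v := by
  have t : ∀ (v : W) (a b c d : ZMod 3), v 2 - v 5 - v 0 + v 1 = a → v 3 - v 5 - v 0 + v 1 = b →
      v 4 - v 5 = c → v 0 - v 1 = d → ∀ x, a • w1 + b • w2 + c • w3 + d • w4 = x →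
      ∑ i, v i = 0 → (IsZ x ↔ IsZ v) := by
    rintro v _ _ _ _ rfl rfl rfl rfl _ rfl hv
    exact h v hv
  have t1 : ¬ IsZ (w1 + w2) := (t (zv + b2) 1 1 0 0 (by decide) (by decide) (by decide) (by decide)
    _ (by simp) (by decide)).not.2 (by decide)
  have t2 : ¬ IsZ (w1 - w2) := (t (zv - b2) 1 (-1) 0 0 (by decide) (by decide) (by decide)
    (by decide) _ (by simp [sub_eq_add_neg]) (by decide)).not.2 (by decide)
  have t3 : IsZ (w1 + w2 + w3) := (t (zv + b2 + b3) 1 1 1 0 (by decide) (by decide) (by decide)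
    (by decide) _ (by simp) (by decide)).2 (by decide)
  have t4 : IsZ (w1 + w2 + w4) := (t (zv + b2 + b4) 1 1 0 1 (by decide) (by decide) (by decide)
    (by decide) _ (by simp) (by decide)).2 (by decide)
  obtain ⟨i1, j1, k1, e1⟩ := la1 w1 h1
  generalize Equiv.swap 0 i1 * Equiv.swap 1 j1 * Equiv.swap (2 : Fin 6) k1 = s1 at e1
  obtain ⟨i, -, j, -, e2, e3⟩ := la2 _ (pm_L20 h2 s1) (by rwa [← e1, ← pm_add, isZ_pm])
    (by rwa [← e1, ← pm_sub, isZ_pm])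
  rw [← e1, ← pm_mul, e1] at e2
  rw [← pm_mul] at e3
  generalize c012 ^ i * c345 ^ j * s1 = s at e2 e3
  have k : ∀ v ∈ L20, IsZ (TT (pm s w1) (pm s w2) (pm s w3) (pm s w4) v) := fun v hv =>
    (isZ_pm (s := s)).2 ((h v (L20_iff v hv).2.1).2 (L20_iff v hv).2)
  have k3 : IsZ (pm s w1 + pm s w2 + pm s w3) := (isZ_pm (s := s)).2 t3
  have k4 : IsZ (pm s w1 + pm s w2 + pm s w4) := (isZ_pm (s := s)).2 t4
  rcases e3 with e3 | e3 <;> rw [e2, e3] at k k3 k4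
  · obtain ⟨s', -, t', -, ε, hε, k1, k2, k3, k4⟩ := la3 _ (pm_L20 h3 s) k3 _ (pm_L20 h4 s) k4 k
    have b : ∀ {w x : W}, Kst (pm s w - ε • pm (s' * t') x) →
        Kst (w - ε • pm (s⁻¹ * (s' * t')) x) := fun e => by
      simpa only [pm_sub, pm_smul, ← pm_mul, inv_mul_cancel, pm_one] using cst_pm e s⁻¹
    exact .inl ⟨_, ε, (by decide : ∀ ε ∈ [(1 : ZMod 3), -1], ε * ε = 1) ε hε, b (e2.symm ▸ k1),
      b (e3.symm ▸ k2), b k3, b k4⟩
  · refine .inr fun v hv => ?_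
    rw [← qq_cst hv (TT_b hv), ← qq_pm s]
    refine Eq.trans ?_ (la4 _ (pm_L20 h3 s) k3 _ (pm_L20 h4 s) k4 k _ _ _ _)
    rw [← e2, ← e3]
    rfl

end H17.PS
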