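/- Tower R5 (S3194): the centraliser of a central element of `P` lies in `M`. -/
import Cfsg.Agent.H34.R5Spec
import Cfsg.Agent.H99.Product

set_option autoImplicit false

namespace H17.R5S4

open Cfsg Subgroup H41.IT H34.R5

universe u

theorem le_of_cop {X : Type*} [Group X] [Finite X] {N L : Subgroup X} [N.Normal]
    (h : (Nat.card N).Coprime L.index) : N ≤ L := by
  have k1 := H99.card_sup_mul_card_inf_of_le_normalizer (H := L) (K := N) le_normalizer_of_normal
  have k2 : Nat.card L * L.relIndex (L ⊔ N) = Nat.card ↥(L ⊔ N) := by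
    rw [← Nat.card_congr (subgroupOfEquivOfLe (le_sup_left : L ≤ L ⊔ N)).toEquiv]
    exact card_mul_index _
  rw [← k2, mul_assoc] at k1
  exact le_sup_right.trans (relIndex_eq_one.1 (Nat.eq_one_of_dvd_coprimes h
    (Dvd.intro _ (Nat.eq_of_mul_eq_mul_left Nat.card_pos k1)) (relIndex_dvd_index_of_le le_sup_left)))

theorem jobS4 : JobS4.{u} := by
  intro G _ _ x y e s hs P M h t g m hn z _ z1 hz
  obtain ⟨j, j0, ej⟩ := t.pw
  have cz : c z = c y := h.full (ej ▸ mul_comm e s ▸ Nat.mul_dvd_mul_left e (dvd_pow_self s j0.ne'))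
    P z1 hz
  refine m.big _ hz (cz ▸ h.odd : Odd (c z)) (sSup_eq_bot.2 fun N ⟨nN, cN⟩ => ?_)
  by_contra N0
  have q1 : Nat.card N ≠ 1 := fun k => N0 (card_eq_one.1 k)
  have : Fact (Nat.card N).minFac.Prime := ⟨Nat.minFac_prime q1⟩
  obtain ⟨⟨v, hv⟩, ov⟩ := exists_prime_orderOf_dvd_card' (G := N) _ (Nat.minFac_dvd _)
  rw [← orderOf_coe, ← orderOf_coe] at ov
  have qs : (Nat.card N).minFac ≠ s := fun k =>
    hs.1.one_lt.ne' (Nat.eq_one_of_dvd_coprimes cN (k ▸ Nat.minFac_dvd _) dvd_rfl)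
  have gv : Gd y s (v : G) := ⟨ov ▸ this.1, ov ▸ qs, cz ▸ ord_dvd_c v.2⟩
  have le : C (v : G) ≤ C z := fun a ha =>
    mem_C.2 (g.ab _ gv a ha z (mem_C.2 (mem_C.1 v.2).symm))
  have ix : ((C (v : G)).subgroupOf (C z)).index = s ^ j := by
    have := card_mul_index ((C (v : G)).subgroupOf (C z))
    rw [Nat.card_congr (subgroupOfEquivOfLe le).toEquiv] at this
    refine Nat.eq_of_mul_eq_mul_left (Nat.card_pos (α := C (v : G))) (this.trans ?_)
    exact cz.trans (ej.trans (by rw [← g.ce _ gv]))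
  have NL : N ≤ (C (v : G)).subgroupOf (C z) := le_of_cop (ix ▸ cN.pow_right j)
  refine hn _ gv fun p hp => ?_
  have k := g.ti _ gv _ (NL (nN.conj_mem' v hv ⟨p, hz hp⟩)) fun ⟨k, ek⟩ => qs (by
    have : orderOf (p⁻¹ * v * p) = orderOf (v : G) :=
      (SemiconjBy.orderOf_eq p (by simp [SemiconjBy, mul_assoc]))
    exact (Nat.prime_dvd_prime_iff_eq (Nat.minFac_prime q1) hs.1).1
      ((Nat.minFac_prime q1).dvd_of_dvd_pow (n := k) (by rw [← ov, ← this]; exact ek ▸ dvd_rfl)))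
  refine mem_normalizer_iff.2 fun a => ?_
  nth_rewrite 1 [← k]
  rw [mem_C, mem_C]
  exact ⟨fun e => by simpa [mul_assoc] using e.conj p, fun e => by
    simpa [mul_assoc] using e.conj p⁻¹⟩

end H17.R5S4
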