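import Cfsg.Agent.H78.S2Kit

/-! STD-SP chapter II: the elements `y u x` of one totally isotropic subspace commute. -/

set_option autoImplicit false
set_option linter.unusedSectionVars false

namespace H17.SP2C1

open H78.S2
open H67.UA hiding Par
open H67.SP
open H86.SPI (ok hf_self hf_comm EE_mul' EE_sq qq_sq qq_dep hf_smul_right')

universe u

variable {n : ℕ} {F : Type} [Field F] [StarRing F] [TrivialStar F] [CharP F 2] [Finite F] [Par n F]
  {G : Type u} [Group G] {e : XU n F →* G} {t : G} {y : Vn n F → Vn n F → G} {δ : F}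
  {u x u' x' w : Vn n F}

theorem sl (a : F) (h : hf x u = 0) : hf (a • x) u = 0 := by rw [hf_smul_left, h, mul_zero]
theorem sr (a : F) (h : hf x u = 0) : hf x (a • u) = 0 := by rw [hf_smul_right', h, mul_zero]
theorem al (h : hf x u = 0) (h' : hf w u = 0) : hf (x + w) u = 0 := by
  rw [hf_add_left, h, h', add_zero]
theorem ar (h : hf u x = 0) (h' : hf u w = 0) : hf u (x + w) = 0 := by
  rw [hf_add_right, h, h', add_zero]

theorem c1 (f : Fam e δ y) (h : hf x u = 0) (h' : hf w u = 0) (a : F) :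
    Commute (y u x) (y (a • u) w) := by
  rw [f.sm a u w h']; exact f.comm h (sl a h')

theorem cq (f : Fam e δ y) (h : hf x u = 0) (h0 : hf x' u' = 0) (h1 : hf u' u = 0)
    (h2 : hf u' x = 0) (h3 : hf x' u = 0) (h4 : hf x' x = 0) :
    Commute (y u x) (e (qq x' u')) :=
  (f.fix h (ac_qq_fix h0 (hf_symm h1) (hf_symm h3)) (ac_qq_fix h0 (hf_symm h2) (hf_symm h4))).symm

theorem c2 (f : Fam e δ y) (h : hf x u = 0) (h1 : hf w u = 0) (h2 : hf w x = 0) (a : F) :
    Commute (y u x) (y (a • x) w) := by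
  rw [f.sw' h]
  exact (c1 f (hf_symm h) h2 a).mul_left (cq f (sr a h2) (hf_symm h) (sr a (hf_self x))
    (hf_symm h2) (sr a (hf_symm h)) (hf_symm h1)).symm

theorem c3 (f : Fam e δ y) (h : hf x u = 0) (h1 : hf w u = 0) (h2 : hf w x = 0) (a : F) :
    Commute (y u x) (y w (a • u)) := by
  rw [f.sw' (sl a (hf_symm h1))]
  exact (c1 f h h1 a).mul_right (cq f h (sr a h1) (sl a (hf_self u)) (sl a (hf_symm h)) h1 h2)

section

variable (v : BV e t) (f0 : Fam0 e t y) (f : Fam e δ y) (h : hf x u = 0) (h0 : hf x' u' = 0)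
  (h1 : hf u' u = 0) (h2 : hf u' x = 0) (h3 : hf x' u = 0) (h4 : hf x' x = 0)
include v f0 f h h0 h1 h2 h3 h4

/-- The commutator lies in `⟨t⟩ Q_u`. -/
theorem main (hu : u ≠ 0) : ∃ s c, hf s u = 0 ∧
    Te e t (y u x * y u' x' * (y u x * y u' x')) (EE u s c) := by
  refine v.vq _ u ?_ hu fun s c hs => ?_
  · have k1 := cq f h h0 h1 h2 h3 h4
    have k2 := cq f h0 h (hf_symm h1) (hf_symm h3) (hf_symm h2) (hf_symm h4)
    have k3 := cq f h h (hf_self u) (hf_symm h) h (hf_self x)
    have k4 := cq f h0 h0 (hf_self u') (hf_symm h0) h0 (hf_self x')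
    have k5 : qq x u * qq x' u' = qq x' u' * qq x u :=
      EE_fix h0 0 (ac_qq_fix h h1 h2) (ac_qq_fix h h3 h4)
    have k6 : y u x * y u' x' * t = t * e (qq x u * qq x' u') * (y u x * y u' x') := by
      rw [mul_assoc, mul_inv_eq_iff_eq_mul.1 (f0.rl u' x' h0).tr, ← mul_assoc, ← mul_assoc,
        mul_inv_eq_iff_eq_mul.1 (f0.rl u x h).tr, mul_assoc _ (y u x), k1.eq, map_mul]
      group
    have k7 : Commute (y u x * y u' x') (e (qq x u * qq x' u')) := by
      rw [map_mul]; exact (k3.mul_right k1).mul_left (k2.mul_right k4)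
    have k8 : qq x u * qq x' u' * (qq x u * qq x' u') = 1 := by
      conv_lhs => rw [k5, ← k5]
      rw [mul_assoc, k5, ← mul_assoc (qq x' u'), qq_sq h0, one_mul, qq_sq h]
    generalize y u x * y u' x' = p at k6 k7
    rw [mul_assoc, k6, ← mul_assoc, ← mul_assoc, k6, mul_assoc _ p, k7.eq, ← mul_assoc,
      mul_assoc t, ← map_mul, k8, map_one, mul_one, mul_assoc]
  · have e1 := f.eqv (EE u s c) u x h
    have e2 := f.eqv (EE u s c) u' x' h0
    rw [ac_EE_u hs, ac_EE' hs h, f.sh h] at e1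
    rw [ac_EE' hs h1, ac_EE' hs h3] at e2
    generalize hf u' s = β at e2
    generalize hf x' s = γ at e2
    generalize hf x s = α at e1
    have p1 : hf (x' + γ • u) u' = 0 := al h0 (sl γ (hf_symm h1))
    have p2 : hf (x' + γ • u) u = 0 := al h3 (sl γ (hf_self u))
    have p3 : hf (x' + γ • u) (u' + β • u) = 0 := ar p1 (sr β p2)
    have k1 : Commute (y (u' + β • u) (x' + γ • u)) (e (Tc α u)) :=
      (f.fix p3 (ac_Tc_fix α (al h1 (sl β (hf_self u)))) (ac_Tc_fix α p2)).symm
    have k2 : Commute (y u x) (y u' x' * y (u' + β • u) (x' + γ • u)) := by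
      rw [← f.add1' p1 (sr β p2) (sl β (hf_symm h1)),
        ← f.add0 h0 (sl γ (hf_symm h1)) (sl γ (hf_symm h3)), ← mul_assoc, ← mul_assoc, f.sq h0,
        one_mul]
      exact (c3 f h h1 h2 γ).mul_right (c1 f h p2 β)
    have k3 := f.sq p3
    have k4 : Commute (y u x) (e (Tc α u)) := f.tc h α
    have k5 : e (Tc α u) * e (Tc α u) = 1 := by rw [← map_mul, Tc_sq, map_one]
    have k6 := f.sq h0
    rw [eq_comm, ← mul_inv_eq_iff_eq_mul, ← conj_mul, ← conj_mul, e1, e2]
    generalize y (u' + β • u) (x' + γ • u) = Y at k1 k2 k3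
    calc _ = y u x * (e (Tc α u) * (Y * y u x)) * e (Tc α u) * Y := by group
      _ = y u x * (y u' x' * y u' x') * Y * y u x * Y := by
        rw [← (k1.mul_left k4).eq, k6, mul_assoc _ _ (e _), mul_assoc _ (e _), k5]; group
      _ = y u x * y u' x' * (y u' x' * Y * y u x) * Y := by group
      _ = _ := by rw [← k2.eq, mul_assoc, mul_assoc _ _ Y, mul_assoc _ Y, k3, mul_one]

theorem indep (hl : Li3 u x u') : Commute (y u x) (y u' x') := by
  have l1 : Li u x := fun a b k => ⟨(hl a b 0 (by simpa using k)).1, (hl a b 0 (by simpa using k)).2.1⟩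
  have l2 : Li x u' := fun a b k => (hl 0 a b (by simpa using k)).2
  obtain ⟨s, c, hs, k1⟩ := main v f0 f h h0 h1 h2 h3 h4 (li_ne l1)
  obtain ⟨s', c', hs', k2⟩ := main v f0 f (hf_symm h) h0 h2 h1 h4 h3 (li_ne l2)
  obtain ⟨s'', c'', hs'', k3⟩ := main v f0 f h0 h (hf_symm h1) (hf_symm h3) (hf_symm h2)
    (hf_symm h4) (li_ne (li_symm l2))
  have q1 := cq f h h (hf_self u) (hf_symm h) h (hf_self x)
  have q2 := cq f h0 h (hf_symm h1) (hf_symm h3) (hf_symm h2) (hf_symm h4)
  have a1 := f.sq h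
  have a2 := f.sq h0
  have e2 : y x u * y u' x' * (y x u * y u' x') = y u x * y u' x' * (y u x * y u' x') := by
    rw [f.sw u x h, mul_assoc (y u x), ← q2.eq, ← mul_assoc (y u x),
      (q1.mul_left q2).symm.mul_mul_mul_comm, ← map_mul, qq_sq h, map_one, mul_one]
  have e3 : y u' x' * y u x * (y u' x' * y u x) = (y u x * y u' x' * (y u x * y u' x'))⁻¹ := by
    rw [mul_inv_rev, mul_inv_rev, f.inv h, f.inv h0]
  have e4 : y u x * (y u x * y u' x' * (y u x * y u' x')) * (y u x)⁻¹ =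
      (y u x * y u' x' * (y u x * y u' x'))⁻¹ := by
    rw [← e3, f.inv h, ← mul_assoc, ← mul_assoc, ← mul_assoc, a1]; group
  rw [e2] at k2
  rw [e3] at k3
  suffices k : y u x * y u' x' * (y u x * y u' x') = 1 by
    rw [Commute, SemiconjBy, eq_inv_of_mul_eq_one_left k, mul_inv_rev, f.inv h, f.inv h0]
  generalize y u x * y u' x' * (y u x * y u' x') = k at k1 k2 k3 e4
  have ti : t⁻¹ = t := inv_eq_of_mul_eq_one_right v.tt
  have ei : (e (EE u s c))⁻¹ = e (EE u s c) :=
    inv_eq_of_mul_eq_one_right (by rw [← map_mul, EE_sq hs, map_one])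
  rcases k1 with rfl | rfl
  · have k : ∀ p, Te e t (e (EE u s c)) p → EE u s c = p := by
      rintro p (k | k)
      · exact v.inj k
      · exact absurd (by rw [map_mul, map_inv, k, mul_inv_cancel_right]) (v.ne (EE u s c * p⁻¹))
    obtain ⟨g, g1, g2, g3⟩ := exists_dual3 hl 1 0 0
    have m1 := ac_EE (ok hs c) g
    have m2 := congrArg (ac · g) (k _ k2)
    have m3 := congrArg (ac · g) (k _ (ei ▸ k3))
    simp only [ac_EE' hs' g2] at m2
    simp only [ac_EE' hs'' g3] at m3
    have m4 := (l2 (hf g s') (hf g s'') (by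
      rw [add_left_cancel (m2.symm.trans m3), v_add_self])).1
    rw [m2, m4, g1, zero_smul, one_smul, mul_one, add_assoc, add_assoc, add_right_inj] at m1
    have m5 : s = (hf g s + c) • u := by
      calc s = s + (hf g s • u + (s + c • u)) := by rw [← m1, add_zero]
        _ = s + s + (hf g s + c) • u := by rw [add_smul]; abel
        _ = _ := by rw [v_add_self, zero_add]
    have m6 := congrArg (hf g) m5
    rw [hf_smul_right', g1, mul_one, left_eq_add] at m6
    rw [m5, m6, show EE u ((hf g s + 0) • u) 0 = 1 from qq_dep _ u, map_one]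
  · rw [mul_inv_rev, ti, ei, ← v.cen, ← conj_mul, (f0.rl u x h).tr, (f0.rl u x h).act s c hs,
      mul_assoc, mul_right_inj, ← map_mul, EE_mul' h hs] at e4
    obtain ⟨⟨a, ha⟩, -⟩ := EE_inj' (li_ne l1) (al h hs) hs (v.inj e4)
    have := (l1 a 1 (by
      rw [add_right_comm, right_eq_add, add_comm] at ha
      rwa [one_smul])).2
    exact absurd this one_ne_zero

end

theorem jobC1 : JobC1.{u} := by
  intro n F _ _ _ _ _ _ G _ _ e t _ _ _ _ v δ y f0 f u x u' x' h h0 h1 h2 h3 h4
  by_cases hu : u = 0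
  · rw [hu, f.zero]; exact Commute.one_left _
  by_cases hl : Li u x
  swap
  · obtain ⟨c, rfl⟩ := dep_of_not_li hu hl
    rw [f.dep]
    exact f.fix h0 (ac_Tc_fix c h1) (ac_Tc_fix c h3)
  by_cases hl3 : Li3 u x u'
  · exact indep v f0 f h h0 h1 h2 h3 h4 hl3
  obtain ⟨a, b, rfl⟩ : ∃ a b : F, u' = a • u + b • x := by
    simp only [Li3, not_forall] at hl3
    obtain ⟨a, b, c, k1, k2⟩ := hl3
    have hc : c ≠ 0 := by
      rintro rfl
      obtain ⟨k3, k4⟩ := hl a b (by simpa using k1)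
      exact k2 ⟨k3, k4, rfl⟩
    refine ⟨c⁻¹ * a, c⁻¹ * b, ?_⟩
    have k3 : c • u' = a • u + b • x := by
      rw [← zero_add (a • u + b • x), ← k1, add_right_comm, v_add_self, zero_add]
    rw [mul_smul, mul_smul, ← smul_add, ← k3, inv_smul_smul₀ hc]
  rw [← f.add1' (sr a h3) (sr b h4) (sl b (sr a h))]
  exact (c1 f h h3 a).mul_right (c2 f h h3 h4 b)

end H17.SP2C1
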