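/- STD-SP chapter III: from `SU_(2k)` to `SU_(2k+1)`. -/
import Cfsg.Agent.H67.SPIII
import Cfsg.Agent.H59.UMFW

set_option autoImplicit false
set_option linter.all false

namespace H17.SP3CU

open Matrix Subgroup H67 H67.UA H67.SP
open H59.SO (Ind)

universe u

/-- A subgroup of a product that projects bijectively is a graph. -/
theorem graph {Y : Type} [Group Y] {G : Type u} [Group G] (Γ : Subgroup (Y × G))
    (hi : ∀ g, ((1 : Y), g) ∈ Γ → g = 1) (hs : ∀ y, ∃ g, (y, g) ∈ Γ) :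
    ∃ Φ : Y →* G, ∀ p ∈ Γ, Φ p.1 = p.2 := by
  choose f hf using hs
  have key : ∀ p ∈ Γ, f p.1 = p.2 := fun p hp => by
    have h := Γ.mul_mem (Γ.inv_mem hp) (hf p.1)
    have e : p⁻¹ * (p.1, f p.1) = (1, p.2⁻¹ * f p.1) := Prod.ext (inv_mul_cancel _) rfl
    rw [e] at h
    exact (inv_mul_eq_one.1 (hi _ h)).symm
  exact ⟨MonoidHom.mk' f fun a b => key _ (Γ.mul_mem (hf a) (hf b)), key⟩

section Vec

variable {n : ℕ} {K : Type} [Field K] [StarRing K] [CharP K 2]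

theorem iv_zero : iv (0 : Vn n K) = 0 := by
  ext i
  refine Fin.succAboveCases (mid n) ?_ (fun j => ?_) i
  · simp [iv]
  · simp [iv]

theorem iv_inj {v w : Vn n K} (h : iv v = iv w) : v = w := by
  ext j
  have := congrFun h ((mid n).succAbove j)
  simpa [iv] using this

/-- The action through the first factor. -/
@[reducible] def act (G : Type u) [Group G] : MulAction (XU n K × G) (Vn n K) where
  smul p z := ac p.1 z
  one_smul := ac_one
  mul_smul _ _ _ := ac_mul _ _ _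

variable {F : Type} [Field F] [StarRing F] [CharP F 2]

theorem vx_ev (φ : F →+* K) (i : Fin (n + 1)) : vx φ (ev i : Vn n F) = ev i := by
  ext j
  simp only [vx, ev_apply]
  split_ifs <;> simp

theorem vx_add (φ : F →+* K) (u v : Vn n F) : vx φ (u + v) = vx φ u + vx φ v := by
  ext j; simp [vx]

theorem ac_bc (φ : F →+* K) (h : ∀ a, star (φ a) = φ (star a)) (g : XU n F) (v : Vn n F) :
    ac (bc φ h g) (vx φ v) = vx φ (ac g v) := by
  ext i
  simp [ac, mt_bc, vx, mulVec, dotProduct, map_sum]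

end Vec

section Main

variable {n : ℕ} {K : Type} [Field K] [StarRing K] [CharP K 2] {G : Type u} [Group G]

/-- The conjugates of `σ` under the point stabiliser. -/
noncomputable def sv (h : XU n K →* XU (n + 1) K × G) (σ : XU (n + 1) K × G) (v : Vn n K) :
    XU (n + 1) K × G :=
  open Classical in if hv : ∃ g : XU n K, ac g (ev 0) = v then
    h hv.choose * σ * (h hv.choose)⁻¹ else 1

variable {h : XU n K →* XU (n + 1) K × G} {σ : XU (n + 1) K × G}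

theorem sv_zero : sv h σ 0 = 1 := by
  rw [sv, dif_neg]
  rintro ⟨g, hg⟩
  exact ev_ne 0 (ac_inj g (hg.trans (ac_zero g).symm))

theorem sv_ac (hc : ∀ y, ac y (ev 0) = ev 0 → h y * σ = σ * h y) (g : XU n K) :
    sv h σ (ac g (ev 0)) = h g * σ * (h g)⁻¹ := by
  have hv : ∃ g' : XU n K, ac g' (ev 0) = ac g (ev 0) := ⟨g, rfl⟩
  rw [sv, dif_pos hv]
  have h1 := hc (g⁻¹ * hv.choose) (by rw [ac_mul, hv.choose_spec, ac_inv_ac])
  generalize hv.choose = k at h1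
  rw [map_mul, map_inv] at h1
  calc h k * σ * (h k)⁻¹ = h g * ((h g)⁻¹ * h k * σ) * (h k)⁻¹ := by group
    _ = _ := by rw [h1]; group

variable [Finite K] [UA.Par n K]

theorem sv_cj (hc : ∀ y, ac y (ev 0) = ev 0 → h y * σ = σ * h y) (g : XU n K) {v : Vn n K}
    (hv : Iso v) : h g * sv h σ v = sv h σ (ac g v) * h g := by
  by_cases h0 : v = 0
  · rw [h0, ac_zero, sv_zero, one_mul, mul_one]
  · obtain ⟨k, rfl⟩ := H59.UM.w1 h0 hv
    rw [← ac_mul, sv_ac hc, sv_ac hc, map_mul]; group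

theorem sv_sq (hc : ∀ y, ac y (ev 0) = ev 0 → h y * σ = σ * h y) (h2 : ∃ y, σ * σ = h y)
    {v : Vn n K} (hv : Iso v) : ∃ y, sv h σ v * sv h σ v = h y := by
  by_cases h0 : v = 0
  · exact ⟨1, by rw [h0, sv_zero, map_one, one_mul]⟩
  · obtain ⟨k, rfl⟩ := H59.UM.w1 h0 hv
    obtain ⟨y, hy⟩ := h2
    exact ⟨k * y * k⁻¹, by rw [sv_ac hc, map_mul, map_mul, map_inv, ← hy]; group⟩

theorem tri_li (hc : ∀ y, ac y (ev 0) = ev 0 → h y * σ = σ * h y)
    (h3 : ∃ y, sv h σ (ev 0) * sv h σ (ev 1) = sv h σ (ev 0 + ev 1) * h y) {v w : Vn n K}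
    (hp : Pp v w) (hl : Li v w) : ∃ y, sv h σ v * sv h σ w = sv h σ (v + w) * h y := by
  obtain ⟨g, rfl, rfl⟩ := H59.UM.w2 hp hl
  obtain ⟨y, hy⟩ := h3
  have i0 : Iso (ev 0 : Vn n K) := by have := hp.l; rwa [Iso, hf_ac] at this
  have i1 : Iso (ev 1 : Vn n K) := by have := hp.r; rwa [Iso, hf_ac] at this
  have i2 : Iso (ev 0 + ev 1 : Vn n K) := by
    have := hp.iso_add; rwa [← ac_add, Iso, hf_ac] at this
  refine ⟨g * y * g⁻¹, ?_⟩
  rw [← ac_add, ← mul_inv_eq_iff_eq_mul.2 (sv_cj hc g i0), ← mul_inv_eq_iff_eq_mul.2 (sv_cj hc g i1),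
    ← mul_inv_eq_iff_eq_mul.2 (sv_cj hc g i2), map_mul, map_mul, map_inv]
  calc _ = h g * (sv h σ (ev 0) * sv h σ (ev 1)) * (h g)⁻¹ := by group
    _ = _ := by rw [hy]; group

theorem tri (hc : ∀ y, ac y (ev 0) = ev 0 → h y * σ = σ * h y) (h2 : ∃ y, σ * σ = h y)
    (h3 : ∃ y, sv h σ (ev 0) * sv h σ (ev 1) = sv h σ (ev 0 + ev 1) * h y)
    (hx : ∀ v z, Iso v → hf z v = 0 → ac (sv h σ v).1 (iv z) = iv z)
    (hj : ∀ y v, ac (h y).1 (iv v) = iv (ac y v)) {v w : Vn n K} (hp : Pp v w) :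
    ∃ y, sv h σ v * sv h σ w = sv h σ (v + w) * h y := by
  by_cases hl : Li v w
  · exact tri_li hc h3 hp hl
  by_cases hv : v = 0
  · exact ⟨1, by rw [hv, sv_zero, zero_add, map_one, one_mul, mul_one]⟩
  by_cases hw : w = 0
  · exact ⟨1, by rw [hw, sv_zero, add_zero, map_one]⟩
  by_cases hvw : v + w = 0
  · have : w = v := by rw [← zero_add w, ← v_add_self v, add_assoc, hvw, add_zero]
    obtain ⟨y, hy⟩ := sv_sq hc h2 hp.l
    exact ⟨y, by rw [hvw, sv_zero, one_mul, this, hy]⟩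
  obtain ⟨z, z1, z2, -, z3⟩ := H59.UM.ext3 hp (w := 0) ⟨hp.l, by simp [Iso], by simp⟩ fun h => by
    simpa using (h 0 0 1 (by simp)).2.2
  have li : ∀ a b : K, a • v + b • w ≠ 0 → Li (a • v + b • w + z) z := fun a b hab c d e => by
    have e1 : (c * a) • v + (c * b) • w + (0 : K) • 0 = (c + d) • z := by
      rw [← add_zero ((c + d) • z), ← e]
      ext i
      simp only [Pi.add_apply, Pi.smul_apply, smul_eq_mul, Pi.zero_apply]
      linear_combination -(c * z i + d * z i) * two0 K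
    have e2 := z3 _ _ _ _ e1
    have e3 : c • (a • v + b • w) = 0 := by
      rw [e2, zero_smul K z] at e1
      rw [← e1]; ext i; simp only [Pi.add_apply, Pi.smul_apply, smul_eq_mul, Pi.zero_apply]; ring
    have e4 := (smul_eq_zero.1 e3).resolve_right hab
    exact ⟨e4, by rwa [e4, zero_add] at e2⟩
  have zz : hf z z = 0 := z1.r
  have pa : ∀ u, Pp u z → Pp (u + z) z := fun u hu =>
    ⟨hu.iso_add, hu.r, by rw [hf_add_left, hu.p, zz, add_zero]⟩
  have z4 : Pp (v + w) z := ⟨hp.iso_add, z1.r, by rw [hf_add_left, z1.p, z2.p, add_zero]⟩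
  have p2 : Pp v (w + z) := ⟨hp.l, z2.iso_add, by rw [hf_add_right, hp.p, z1.p, add_zero]⟩
  obtain ⟨c1, e1⟩ := tri_li hc h3 (pa w z2) (by simpa using li 0 1 (by simpa using hw))
  obtain ⟨c3, e3⟩ := tri_li hc h3 (pa _ z4) (by simpa using li 1 1 (by simpa using hvw))
  obtain ⟨c2, e2⟩ := tri_li hc h3 p2 fun c d e => by
    have e1 : c • v + d • w + (0 : K) • 0 = d • z := by
      rw [← add_zero (d • z), ← e]
      ext i
      simp only [Pi.add_apply, Pi.smul_apply, smul_eq_mul, Pi.zero_apply]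
      linear_combination -(d * z i) * two0 K
    have e2 := z3 _ _ _ _ e1
    rw [e2, zero_smul, add_zero] at e
    exact ⟨(smul_eq_zero.1 e).resolve_right hv, e2⟩
  rw [add_assoc w, v_add_self, add_zero w] at e1
  rw [add_assoc (v + w), v_add_self, add_zero (v + w)] at e3
  rw [← add_assoc v] at e2
  have hz : ac c2 z = z := by
    have a := congrArg (fun p : XU (n + 1) K × G => ac p.1 (iv z)) e2
    simp only [Prod.fst_mul, ac_mul] at a
    rw [hx _ _ z2.iso_add (pa w z2).symm.p, hx _ _ hp.l z1.symm.p, hj] at a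
    exact iv_inj (ac_inj _ (a.symm.trans (hx _ _ z4.iso_add (pa _ z4).symm.p).symm))
  have e4 := sv_cj hc c2 z1.r
  rw [hz] at e4
  refine ⟨c3 * c2 * c1⁻¹, ?_⟩
  rw [map_mul, map_mul, map_inv]
  calc _ = sv h σ v * sv h σ (w + z) * sv h σ z * (h c1)⁻¹ := by
        rw [mul_assoc (sv h σ v), e1]; group
    _ = sv h σ (v + w + z) * sv h σ z * h c2 * (h c1)⁻¹ := by
        rw [e2, mul_assoc _ (h c2), e4, ← mul_assoc]
    _ = _ := by rw [e3]; group

/-- The subgroup generated by the point stabiliser and `σ` is a graph. -/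
theorem exists_hom (hTL : JobTL.{u}) (hP : Pth (RN (n := n + 1) (K := K)))
    (hc : ∀ y, ac y (ev 0) = ev 0 → h y * σ = σ * h y) (h2 : ∃ y, σ * σ = h y)
    (h3 : ∃ y, sv h σ (ev 0) * sv h σ (ev 1) = sv h σ (ev 0 + ev 1) * h y)
    (hx : ∀ v z, Iso v → hf z v = 0 → ac (sv h σ v).1 (iv z) = iv z)
    (hj : ∀ y v, ac (h y).1 (iv v) = iv (ac y v))
    (hm : ∀ y, ac (h y).1 (ev (mid n)) = ev (mid n)) (hi : ∀ y, (h y).1 = 1 → y = 1)
    (hr : ∀ g : XU (n + 1) K, ac g (ev (mid n)) = ev (mid n) → ∃ y, (h y).1 = g)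
    (mv : ∀ v, Iso v → ac (sv h σ v).1 (ev (mid n)) = ev (mid n) + iv v)
    (nb : ∀ z : Vn (n + 1) K, RN z (ev (mid n)) ↔ ∃ v, Iso v ∧ z = ev (mid n) + iv v)
    (hh : ∀ v w : Vn n K, hf (ev (mid n) + iv v) (ev (mid n) + iv w) = 1 + hf v w)
    (tr : ∀ z : Vn (n + 1) K, hf z z = 1 → Relation.ReflTransGen RN (ev (mid n)) z) :
    ∃ Φ : XU (n + 1) K →* G, (∀ y, Φ (h y).1 = (h y).2) ∧ Φ σ.1 = σ.2 ∧
      ∀ A : Subgroup (XU (n + 1) K), (∀ y, (h y).1 ∈ A) → σ.1 ∈ A → A = ⊤ := by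
  letI := act (n := n + 1) (K := K) G
  have sm : ∀ (p : XU (n + 1) K × G) (z : Vn (n + 1) K), p • z = ac p.1 z := fun _ _ => rfl
  let D : Set (XU (n + 1) K × G) := {d | ∃ v y, Iso v ∧ d = sv h σ v * h y}
  have hD : ∀ v y, Iso v → (sv h σ v * h y) • (ev (mid n) : Vn (n + 1) K) = ev (mid n) + iv v :=
    fun v y hv => by rw [sm, Prod.fst_mul, ac_mul, hm, mv v hv]
  have hl : ∀ y, ∀ d ∈ D, h y * d ∈ D := by
    rintro y _ ⟨v, y', hv, rfl⟩
    exact ⟨ac y v, y * y', hv.ac y, by rw [← mul_assoc, sv_cj hc y hv, map_mul, mul_assoc]⟩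
  have hinv : ∀ v, Iso v → ∃ y, (sv h σ v)⁻¹ = h y * sv h σ v := fun v hv => by
    obtain ⟨y, hy⟩ := sv_sq hc h2 hv
    exact ⟨y⁻¹, by rw [map_inv, ← hy]; group⟩
  obtain ⟨k1, k2⟩ := hTL (XU (n + 1) K × G) (Vn (n + 1) K) RN (ev (mid n)) h.range D
    (fun a b r => ⟨r.2.1, r.1, by rw [← star_hf, r.2.2, star_one]⟩)
    (fun g a b r => ⟨by rw [sm, hf_ac, r.1], by rw [sm, hf_ac, r.2.1],
      by rw [sm, sm, hf_ac, r.2.2]⟩)
    hP (by rintro _ ⟨y, rfl⟩; exact hm y)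
    (by rintro _ ⟨v, y, hv, rfl⟩ _ ⟨y', rfl⟩; exact ⟨v, y * y', hv, by rw [map_mul, mul_assoc]⟩)
    (by
      rintro _ ⟨v, y, hv, rfl⟩
      obtain ⟨y', hy⟩ := hinv v hv
      rw [_root_.mul_inv_rev, hy, ← map_inv]
      exact hl _ _ (hl _ _ ⟨v, 1, hv, by rw [map_one, mul_one]⟩))
    (by rintro _ ⟨v, y, hv, rfl⟩; rw [hD v y hv]; exact (nb _).2 ⟨v, hv, rfl⟩)
    (fun w r => by
      obtain ⟨v, hv, rfl⟩ := (nb w).1 r
      exact ⟨_, ⟨v, 1, hv, rfl⟩, hD v 1 hv⟩)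
    (by
      rintro _ ⟨v, y, hv, rfl⟩ e
      rw [hD v y hv, add_eq_left, ← iv_zero] at e
      rw [iv_inj e, sv_zero, one_mul]
      exact ⟨y, rfl⟩)
    (by
      rintro _ ⟨v, y, hv, rfl⟩ _ ⟨v', y', hv', rfl⟩ e
      rw [hD v y hv, hD v' y' hv', add_right_inj] at e
      exact ⟨y⁻¹ * y', by rw [iv_inj e, map_mul, map_inv]; group⟩)
    (by
      rintro _ ⟨v, y, hv, rfl⟩ _ ⟨v', y', hv', rfl⟩ e
      rw [hD v y hv, hD v' y' hv'] at e
      have e1 := e.2.2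
      rw [hh, add_eq_left] at e1
      have hp : Pp v v' := ⟨hv, hv', e1⟩
      obtain ⟨c, hc'⟩ := tri hc h2 h3 hx hj hp
      obtain ⟨y2, hy⟩ := hinv v hv
      rw [_root_.mul_inv_rev, hy, ← map_inv, mul_assoc, mul_assoc]
      refine hl _ _ (hl _ _ ⟨v + v', c * y', hp.iso_add, ?_⟩)
      rw [← mul_assoc, hc', map_mul, mul_assoc])
  have mm : hf (ev (mid n) : Vn (n + 1) K) (ev (mid n)) = 1 := by
    simpa [iv_zero] using hh 0 0
  have hs : ∀ y, ∃ g, (y, g) ∈ h.range ⊔ closure D := fun y => by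
    obtain ⟨g, hg, e⟩ := k2 _ (tr (ac y (ev (mid n))) (by rw [hf_ac, mm]))
    obtain ⟨c, hc'⟩ := hr (g.1⁻¹ * y) (by rw [ac_mul, ← e, sm, ac_inv_ac])
    refine ⟨(g * h c).2, ?_⟩
    have : (y, (g * h c).2) = g * h c := Prod.ext (by rw [Prod.fst_mul, hc']; simp) rfl
    rw [this]
    exact mul_mem (mem_sup_right hg) (mem_sup_left ⟨c, rfl⟩)
  have s0 : sv h σ (ev 0) = σ := by simpa using sv_ac hc 1
  obtain ⟨Φ, hΦ⟩ := graph (h.range ⊔ closure D) (fun g hg => by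
    obtain ⟨y, hy⟩ := k1 _ hg (ac_one _)
    rw [hi y (congrArg Prod.fst hy), map_one] at hy
    exact (congrArg Prod.snd hy).symm) hs
  refine ⟨Φ, fun y => hΦ _ (mem_sup_left ⟨y, rfl⟩), hΦ _ (mem_sup_right (subset_closure
    ⟨ev 0, 1, H59.UM.iso0, by rw [s0, map_one, mul_one]⟩)), fun A a1 a2 => ?_⟩
  have hle : h.range ⊔ closure D ≤ A.comap (MonoidHom.fst _ _) := by
    refine sup_le (by rintro _ ⟨y, rfl⟩; exact a1 y) ((closure_le _).2 ?_)
    rintro _ ⟨v, y, hv, rfl⟩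
    refine mul_mem ?_ (a1 y)
    by_cases h0 : v = 0
    · rw [h0, sv_zero]; exact one_mem _
    · obtain ⟨k, rfl⟩ := H59.UM.w1 h0 hv
      rw [sv_ac hc]
      exact mul_mem (mul_mem (a1 k) a2) (inv_mem (a1 k))
  rw [eq_top_iff]
  intro y _
  obtain ⟨g, hg⟩ := hs y
  exact hle hg

end Main

theorem jobCU : JobCU.{u} := by
  intro hTL hPN hQU n F _ _ _ _ _ par b K _ _ _ _ x δ η hη hs mu m1 G _ _ e t τ Φ he ra tt hm hΦ
  haveI := mu.par
  haveI := mu.par'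
  have n5 := par.five
  set ι : XU n F →* XU n K := bc x.φ (x.st (Or.inr hs)) with hι
  let h : XU n K →* XU (n + 1) K × G := (ins n K).prod Φ
  let σ : Vn n F → XU (n + 1) K × G := fun v => (TU x.φ η v, τ v)
  have h1 : ∀ y, (h y).1 = ins n K y := fun _ => rfl
  have hι1 : ∀ g, h (ι g) = (((bc x.φ (x.st (Or.inr hs))).comp (ins n F)) g, e g) := fun g =>
    Prod.ext (m1.sq g).symm (hm.res g)
  have T0 : TU x.φ η (ev 0 : Vn n F) = EE (iv (ev 0)) (ev (mid n)) η := by rw [TU, vx_ev]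
  have hc : ∀ y, ac y (ev 0) = ev 0 → h y * σ (ev 0) = σ (ev 0) * h y := fun y hy => by
    refine Prod.ext ?_ ?_
    · have := m1.cj y (ev 0) H59.UM.iso0
      rw [hy, mul_inv_eq_iff_eq_mul, ← T0] at this
      exact this
    · have : PE ι (SU0 x.φ η) (ev 0) ≤ (centralizer {τ (ev 0)}).comap Φ := by
        refine (closure_le _).2 ?_
        rintro _ (⟨p, hp, rfl⟩ | ⟨a, c, hp, rfl⟩)
        · show Φ _ ∈ centralizer _
          rw [mem_centralizer_singleton_iff, hm.res]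
          exact ra.toR0.fix hp
        · show Φ _ ∈ centralizer _
          rw [mem_centralizer_singleton_iff, hΦ a c hp.vw]
          exact (ra.stau a c _ ⟨hp.vw, hf_symm hp.uv, hf_symm hp.uw⟩).symm
      exact mem_centralizer_singleton_iff.1 (this (mu.genP y hy))
  have hsq : ∀ v, σ v * σ v = h (ι (Tc 1 v)) := fun v => by
    rw [hι1]; exact Prod.ext (m1.tsq v) (ra.sq v)
  have f1 : ∀ v : Vn n K, Iso v → (sv h (σ (ev 0)) v).1 = EE (iv v) (ev (mid n)) η := fun v hv => by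
    by_cases h0 : v = 0
    · rw [h0, sv_zero, iv_zero, EE_zero_left]; rfl
    · obtain ⟨k, rfl⟩ := H59.UM.w1 h0 hv
      rw [sv_ac hc, ← m1.cj k _ H59.UM.iso0, ← T0]; rfl
  have f2 : ∀ v : Vn n F, v ≠ 0 → sv h (σ (ev 0)) (vx x.φ v) = σ v := fun v hv => by
    obtain ⟨g, rfl⟩ := FW.w1 v hv
    rw [← ac_bc _ (x.st (Or.inr hs)), vx_ev, sv_ac hc, hι1]
    exact Prod.ext (m1.r1.eqv g _) (ra.eqv g _)
  have mm : hf (ev (mid n) : Vn (n + 1) K) (ev (mid n)) = 1 := by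
    simpa [iv_zero] using m1.hi 0 0
  have vm : ∀ v : Vn n K, hf (iv v) (ev (mid n)) = 0 := fun v => by
    have := m1.hi v 0
    rw [iv_zero, add_zero, hf_add_left, mm, hf_zero_right] at this
    exact add_left_cancel this
  have vv : ∀ v w : Vn n K, hf (iv v) (iv w) = hf v w := fun v w => by
    have := m1.hi v w
    rw [hf_add_left, hf_add_right, hf_add_right, mm, vm, hf_symm (vm w), add_zero, zero_add] at this
    exact add_left_cancel this
  have ok : ∀ v : Vn n K, Iso v → Ok (iv v) (ev (mid n)) η := fun v hv =>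
    ⟨by rw [Iso, vv, hv], hf_symm (vm v), by
      rw [mm, UA.tr, hs, hη.sg, ← add_assoc, CharTwo.add_self_eq_zero, zero_add]⟩
  have e01 : hf (ev 0 : Vn n F) (ev 1) = 0 := by
    rw [hf_ev, if_neg]
    rw [Fin.ext_iff, Fin.val_rev, H59.UM.v1 n5]; simp; omega
  have e01' : (ev 0 + ev 1 : Vn n F) ≠ 0 := fun h => by
    have := congrFun h 0
    rw [Pi.add_apply, ev_apply, ev_apply, if_pos rfl, if_neg] at this
    · simp at this
    · rw [Fin.ext_iff, H59.UM.v1 n5]; simp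
  obtain ⟨Φ1, p1, p2, p3⟩ := exists_hom (h := h) (σ := σ (ev 0)) hTL (hPN (n + 1) K (by omega)).1 hc
    ⟨_, hsq _⟩
    (by
      rw [← vx_ev x.φ 0, ← vx_ev x.φ 1, ← vx_add, f2 _ (ev_ne 0), f2 _ (ev_ne 1), f2 _ e01']
      have a : σ (ev 0 + ev 1) * σ (ev 0) * σ (ev 1) * h (ι (Tc 1 (ev 0) * Tc 1 (ev 1))) =
          h (SU0 x.φ η (ev 0) (ev 1)) := by
        rw [hι1]
        exact Prod.ext (m1.sg _ _ e01) (hΦ _ _ e01).symm
      refine ⟨(ι (Tc 1 (ev 0 + ev 1)))⁻¹ * SU0 x.φ η (ev 0) (ev 1) *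
        (ι (Tc 1 (ev 0) * Tc 1 (ev 1)))⁻¹, ?_⟩
      rw [map_mul h, map_mul h, map_inv, map_inv, ← a, ← hsq]; group)
    (fun v z hv hz => by rw [f1 v hv]; exact ac_EE_fix (ok v hv) (by rw [vv, hz]) (vm z))
    (fun y v => (m1.isIns y).2 v) (fun y => (m1.isIns y).1)
    (fun y hy => m1.inj (hy.trans (map_one _).symm)) m1.rng
    (fun v hv => by rw [f1 v hv, m1.mv v hv]) m1.nb m1.hi m1.trans
  have q1 : ∀ y, Φ1 (ins n K y) = Φ y := p1
  have q2 : Φ1 (TU x.φ η (ev 0)) = τ (ev 0) := p2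
  have res : ∀ g, Φ1 (((bc x.φ (x.st (Or.inr hs))).comp (ins n F)) g) = e g := fun g => by
    rw [MonoidHom.comp_apply, m1.sq, q1, hm.res]
  have t2 : TT (ev 0 : Vn n F) * TT (ev 0) = 1 := Tc_mul_self (FV.iso _) (star_one F)
  refine ⟨K, _, _, ‹_›, ‹_›, x, hs, Φ1, ?_, res, ?_⟩
  · refine ((hQU (n + 1) K).nrm Φ1.ker inferInstance).resolve_right fun hk => ?_
    have : e (TT (ev 0)) = 1 := by
      rw [← res]; exact (MonoidHom.mem_ker).1 (hk.ge (mem_top _))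
    exact one_ne_zero (Tc_eq_one (ev_ne 0) (FV.iso _) (star_one F)
      (he (this.trans (map_one e).symm)))
  · have := p3 (((MulAut.conj t).toMonoidHom.comp Φ1).eqLocus
      (Φ1.comp (fa x.σ (x.sf (Or.inr hs))).toMonoidHom)) (fun y => by
        show t * Φ1 (ins n K y) * t⁻¹ = Φ1 (fa _ _ (ins n K y))
        rw [m1.fi, q1, q1]; exact hm.act y) (by
        show t * Φ1 (TU x.φ η (ev 0)) * t⁻¹ = Φ1 (fa _ _ (TU x.φ η (ev 0)))
        have a1 := hm.act (ι (TT (ev 0)))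
        rw [mu.fe, hm.res] at a1
        have a2 := tt (ev 0)
        have a3 : e (TT (ev 0)) * e (TT (ev 0)) = 1 := by rw [← map_mul, t2, map_one]
        rw [m1.ft, map_mul, q2, ← MonoidHom.comp_apply (bc _ _) (ins n F), res]
        calc t * τ (ev 0) * t⁻¹ = e (TT (ev 0)) * (t * e (TT (ev 0)) * t⁻¹) * (t * τ (ev 0) * t⁻¹) := by
              rw [a1, a3, one_mul]
          _ = e (TT (ev 0)) * ((t * e (TT (ev 0))) * τ (ev 0) * t⁻¹) := by group
          _ = _ := by rw [← a2]; group)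
    exact fun y => this.ge (mem_top y)

end H17.SP3CU
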