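import Cfsg.Agent.H86.SPODef

/-! STD-SP endgame, orthogonal model (row S3129): the slot `RD`. -/

set_option autoImplicit false
set_option linter.unusedSectionVars false

namespace H17.SPORD

open H64.SG (O2 Syl Cz Cs Ns cjs Is2 Inv2 IsO2 fx mem_fx)
open H64.YE (RD RZ tw Co LS)
open H67.SA (St cm)
open H59.SO H86.SPO
open H56 H58 QuadraticMap Module Subgroup
open scoped commutatorElement

theorem cm_central {G : Type*} [Group G] {s t x y : G} (h1 : Commute s x) (h2 : Commute s y)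
    (h3 : Commute t x) (h4 : Commute t y) (h5 : Commute s t) : ⁅s * x, t * y⁆ = ⁅x, y⁆ := by
  have k : s * x * (t * y) = x * y * (s * t) := by
    rw [mul_assoc, ← mul_assoc x, ← h3.eq, mul_assoc t, ← mul_assoc s,
      ((h1.mul_right h2).mul_left (h3.mul_right h4)).eq]
  have k' : t * y * (s * x) = y * x * (s * t) := by
    rw [mul_assoc, ← mul_assoc y, ← h2.eq, mul_assoc s, ← mul_assoc t, ← h5.eq,
      ((h2.mul_right h1).mul_left (h4.mul_right h3)).eq]
  rw [commutatorElement_def, commutatorElement_def, mul_assoc (s * x * _), ← mul_inv_rev, k, k']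
  group

variable {F V : Type} [Field F] [CharP F 2] [AddCommGroup V] [Module F V] {Q : QuadraticForm F V}
  {u v f : V} {x : Om Q}

theorem fix_Ql (h : TS Q u v) (hx : x ∈ Ql Q u v) : x.1 u = u ∧ x.1 v = v := by
  obtain ⟨a, b, h1, h2, h3, h4, rfl⟩ := h.mem_Ql.1 hx
  constructor
  · change (E Q u a).1 ((E Q v b).1 u) = u
    rw [E_fix h.vu (by rw [polar_comm, h3]), E_apply_self h.qu h1]
  · change (E Q u a).1 ((E Q v b).1 v) = v
    rw [E_apply_self h.qv h4, E_fix h.uv (by rw [polar_comm, h2])]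

/-- The commutator of `E u f` with an element fixing `u`. -/
theorem cm_E (hu : Q u = 0) (hf : polar Q u f = 0) (hx : x.1 u = u) :
    cm (E Q u f) x = E Q u (f + x.1 f) := by
  have k : polar Q u (x.1 f) = 0 := by
    nth_rewrite 1 [← hx]; rw [O.map_polar, hf]
  rw [E_add hu hf k, cm, mul_assoc, mul_assoc, ← mul_assoc x, E_inv, E_conj, hx]

variable [FiniteDimensional F V]

theorem mem_of_cm (nd : Q.polarBilin.Nondegenerate) (h : TS Q u v) (hf : polar Q u f = 0)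
    (hx : x.1 u = u) {b : V} {s t : F} (e : x.1 f = f + b + s • u + t • v)
    (hc : cm (E Q u f) x ∈ Xl Q u v) : E Q v b ∈ Xl Q u v := by
  have k : polar Q u (x.1 f) = 0 := by
    nth_rewrite 1 [← hx]; rw [O.map_polar, hf]
  rw [cm_E h.qu hf hx, mem_Xl h.qu h.uv] at hc
  obtain ⟨c, hc⟩ := hc
  obtain ⟨d, hd⟩ := (E_inj nd h.ne h.qu (by simp [hf, k]) (by simp [h.uv])).1 hc
  have e2 : b = (d - s) • u + (c - t) • v := by
    rw [e, ← add_assoc, ← add_assoc, ← add_assoc, add_self2 F, zero_add] at hd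
    rw [sub_smul, sub_smul, eq_sub_of_add_eq (eq_sub_of_add_eq hd)]
    abel
  rw [e2, E_add_smul_self _ h.qv (by simp [h.vu]), h.swap]
  exact E_mem_Xl _ _ _

theorem jobRD : JobRD := by
  intro n F _ _ _ _ _ _ b c o V _ _ _ Q ι r w d k kd
  have nd := d.par.nd
  have rt1 : Root Q (r.z 1) := r.z_root one_ne_zero
  have tz : ∀ z ∈ r.Z, ta Q w z = z := fun z hz => by
    obtain ⟨c, rfl⟩ := r.mem_Z.1 hz
    exact (k.fx w _ (by simp [d.qw])).2 (E_fix (d.we 0) (by simp [d.we 1]))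
  have z2 : ∀ z ∈ r.Z, z * z = 1 := fun z hz => by
    obtain ⟨c, rfl⟩ := r.mem_Z.1 hz
    exact E_sq _ _
  refine ⟨⟨(d.fc.rt _ rt1).1, tz _ (r.z_mem 1), r.z_mem 1, r.ts.Xl_le_Ql, d.fg.le.2.1, r.U_le_P0, z2,
    d.fg.sq, fun z hz h1 => ?_, fun α => (kd.rt _).2 (d.fa.root α _ rt1),
    fun α h => (d.fb.nz α _ (r.z_mem 1) (rt1.ne_one nd) (h.symm ▸ r.z_mem 1)).1,
    fun α h => (d.fb.nz α _ (r.z_mem 1) (rt1.ne_one nd) ((h _).1 (r.z_mem 1))).2,
    fun α h ho => ?_, fun u hu => d.fc.cE u (r.U_le_P0 hu),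
    fun x hx => kd.e2 (k.g2 x (fix_Ql r.ts hx).1 (fix_Ql r.ts hx).2)⟩,
    ⟨fun x hx hn => ?_, fun α _ h => ?_, fun u h1 h2 h3 => .inr ⟨tz, kd.tf2 _ _
      (k.cf _ _ rt1 ((kd.rt u).1 h1) h2.symm (h2 ▸ h3.imp_right (kd.rt _).1))⟩⟩⟩
  · obtain ⟨c, rfl⟩ := r.mem_Z.1 hz
    exact (kd.rt _).2 (r.z_root (by rintro rfl; exact h1 (by rw [Fr.z, zero_smul, E_zero])))
  · obtain ⟨z, hz, rfl⟩ := d.fb.ctQ α h
    have h2 : orderOf (MulAut.conj z) ∣ 2 :=
      orderOf_dvd_of_pow_eq_one (by rw [pow_two, ← map_mul, z2 z hz, map_one])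
    exact orderOf_eq_one_iff.1 (Nat.Coprime.eq_one_of_dvd ho.coprime_two_right h2)
  · by_contra hc
    push Not at hc
    obtain ⟨f0, f1⟩ := fix_Ql r.ts hx
    have p0 : polar Q (r.e 0) (r.f 1) = 0 := by simp [r.ef]
    have p1 : polar Q (r.e 1) (r.f 0) = 0 := by simp [r.ef]
    have c0 := hc _ (Ru_le_P0 r.ts (E_mem_Ru _ (r.f 1))) (by
      rw [cm_E (r.qe 0) p0 f0]; exact E_sq _ _)
    have c1 := hc _ (r.ts.P0_swap.le (Ru_le_P0 r.ts.symm (E_mem_Ru _ (r.f 0)))) (by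
      rw [cm_E (r.qe 1) p1 f1]; exact E_sq _ _)
    obtain ⟨a, a', h1, h2, h3, h4, rfl⟩ := r.ts.mem_Ql.1 hx
    refine hn (mul_mem (r.ts.Xl_swap.le (mem_of_cm nd r.ts.symm p1 f1 (b := a)
      (s := polar Q a' (r.f 0)) (t := polar Q a (r.f 0) + Q a) ?_ (r.ts.Xl_swap.ge c1)))
      (mem_of_cm nd r.ts p0 f0 (b := a') (s := polar Q a (r.f 1 + a'))
        (t := polar Q a' (r.f 1) + Q a') ?_ c0))
    · change (E Q _ a).1 ((E Q _ a').1 _) = _
      rw [E_apply_orth (r.qe 1) h4 p1, map_add, map_smul, E_apply (r.qe 0) h1,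
        E_fix (r.ee 0 1) (by rw [polar_comm, h2])]
      simp only [r.ef, if_true, one_smul, mul_one]
      module
    · change (E Q _ a).1 ((E Q _ a').1 _) = _
      rw [E_apply (r.qe 1) h4, E_apply_orth (r.qe 0) h1 (by simp [p0, r.ee, h3])]
      simp only [r.ef, if_true, one_smul, mul_one, polar_add_right, polar_smul_right,
        polar_comm Q a (r.e 1), h2, smul_zero, add_zero]
      module
  · have : r.Z ≤ fx α := by
      rw [← d.fg.zq, commutator_le]
      intro x hx y hy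
      have k1 : ∀ z ∈ r.Z, ∀ g ∈ r.QQ, Commute z g := fun z hz g hg => r.ts.Ql_le_P0 hg z hz
      rw [mem_fx, map_commutatorElement, ← inv_mul_cancel_right (α x) x,
        ← inv_mul_cancel_right (α y) y]
      exact cm_central (k1 _ (h x hx) _ hx) (k1 _ (h x hx) _ hy) (k1 _ (h y hy) _ hx)
        (k1 _ (h y hy) _ hy) (k1 _ (h x hx) _ (r.ts.Xl_le_Ql (h y hy)))
    exact fun z hz => mem_fx.1 (this hz)

end H17.SPORD
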