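import Cfsg.Agent.H25.SQSpec2
import Cfsg.Agent.H25.SQBase

/-! Tower SQ, chapter D: the conjugating element normalises `O`, and the quotient `N(O) / O`. -/

set_option autoImplicit false

namespace H17.SQDQ

open H25.SQ H64.SG Subgroup

universe u

section

variable {X : Type} [Group X] {G : Type u} [Group G] {e : X →* G} {t : G} {O : Subgroup G}

/-- Elements of odd order of `C(A) ⊓ C(t)` lie in `O`. -/
theorem mem_O (hB : B1 e t) (hA : AB e t O) {k : G} (h1 : k ∈ Cs e.range) (h2 : k ∈ Cz t)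
    (ho : Odd (orderOf k)) : k ∈ O := by
  rcases hA.ko k h1 h2 with c | c
  · exact c
  · refine mem_of_sq_mem ?_ ho
    have h3 : k * t * (k * t) = k * k := by
      rw [mul_assoc, ← mul_assoc t, mem_Cz.1 h2, mul_assoc k t, hB.tt, mul_one]
    exact h3 ▸ mul_mem c c

/-- An odd subgroup of `C(t)` normalised by `e C(y)` and centralising `e y` centralises `A`. -/
theorem le_Cs (hF : F0 X) (hB : B1 e t) {Q : Subgroup G} (ho : Odd (Nat.card Q)) (h1 : Q ≤ Cz t)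
    {y : X} (hy : Inv2 y) (h2 : Q ≤ Cz (e y)) (h3 : ∀ a ∈ Cz y, e a ∈ Ns Q) :
    Q ≤ Cs e.range := by
  have := hF.fin
  let R : Subgroup X :=
    { carrier := {c | ∃ o ∈ Q, Ind e o (MulAut.conj c)}
      one_mem' := ⟨1, one_mem _, by rw [map_one]; exact ind_one⟩
      mul_mem' := by
        rintro a b ⟨o, o1, o2⟩ ⟨o', o3, o4⟩
        exact ⟨o * o', mul_mem o1 o3, by rw [map_mul]; exact o2.mul o4⟩
      inv_mem' := by
        rintro a ⟨o, o1, o2⟩
        exact ⟨o⁻¹, inv_mem o1, by rw [map_inv]; exact o2.inv⟩ }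
  have r1 : R ≤ Cz y := by
    rintro c ⟨o, o1, o2⟩
    have := o2.fix hB.inj (mem_Cz.1 (h2 o1)).symm
    rw [MulAut.conj_apply, mul_inv_eq_iff_eq_mul] at this
    exact mem_Cz.2 this.symm
  have r2 : Odd (Nat.card R) := odd_card_of_forall (by
    rintro c ⟨o, o1, o2⟩
    have h4 := o2.odd hB.inj (odd_orderOf_of_mem ho o1)
    refine odd_orderOf_of_pow_mem hF.zo h4 (F0.conj_eq_one.1 ?_)
    rw [map_pow, pow_orderOf_eq_one])
  have r3 : Cz y ≤ Ns R := fun a ha => mem_normalizer_fintype (by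
    rintro c ⟨o, o1, o2⟩
    refine ⟨e a * o * (e a)⁻¹, H98.conj_mem_of_mem_normalizer (h3 a ha) o1, ?_⟩
    rw [map_mul, map_mul, map_inv]
    exact (ind_conj a).conj o2)
  have r4 := hF.odd y hy R r1 r2 r3
  intro o o1
  obtain ⟨β, hβ⟩ := hB.ind (h1 o1)
  obtain ⟨c, rfl⟩ := hF.inn_odd (hβ.odd hB.inj (odd_orderOf_of_mem ho o1))
  exact (hβ.eq_one_iff hB.inj).1 (F0.conj_eq_one.2 (r4 ⟨o, o1, hβ⟩))

end

theorem jobDQ1 : JobDQ1.{u} := by
  intro X _ G _ _ e t hF hD h O hA y g hy hg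
  have hB := h.toB1
  have hB' := hB.cje g
  have hA' := hA.cje g
  rw [hg] at hB' hA'
  have k1 : (Cz y).map e ≤ Cz (t * e y) := by
    rintro _ ⟨c, hc, rfl⟩
    rw [mem_Cz, mul_assoc, ← map_mul, mem_Cz.1 hc, map_mul, ← mul_assoc, hB.comm, mul_assoc]
  have k2 : e y ∈ ⁅Cz (t * e y), Cz (t * e y)⁆ :=
    commutator_mono k1 k1 (by rw [← map_commutator]; exact mem_map_of_mem e (hD y hy))
  obtain ⟨y', hy'⟩ := hA'.cm _ k2 ((is2_of_sq hy.1).map e)
  have k3 : Inv2 y' := ⟨hB'.inj (by rw [map_mul, hy', ← map_mul, hy.1, map_one, map_one]),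
    fun c => hy.2 (hB.inj (by rw [← hy', c, map_one, map_one]))⟩
  have k4 : O ≤ Cz (e y) := fun o ho => mem_Cz.2 (mem_Cs_range.1 (hA.le ho).1 y)
  have k5 : O ≤ Cz (t * e y) := fun o ho => by
    rw [mem_Cz, mul_assoc, mem_Cz.1 (k4 ho), ← mul_assoc, mem_Cz.1 (hA.le ho).2, mul_assoc]
  have k6 : O ≤ Cs (cje g e).range := le_Cs hF hB' hA.odd k5 k3 (hy' ▸ k4) fun a ha => hA.ct (by
    have m1 := hB'.comm a
    have m2 : e y * cje g e a = cje g e a * e y := by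
      rw [← hy', ← map_mul, ← map_mul, mem_Cz.1 ha]
    rw [mul_assoc, m2, ← mul_assoc, ← mul_assoc, mul_left_inj] at m1
    exact mem_Cz.2 m1)
  have k7 : O ≤ cjs g O := fun o ho =>
    mem_O hB' hA' (k6 ho) (k5 ho) (odd_orderOf_of_mem hA.odd ho)
  exact mem_Ns_iff.2 (eq_of_le_of_card_ge k7 (H67.SA.card_cjs g O).le).symm

theorem jobDQ2 : JobDQ2.{u} := by
  intro X Y _ _ G _ _ p e t O hp hF h hA
  have hB := h.toB1
  have hn : (O.subgroupOf (Ns O)).Normal := normal_subgroupOf_of_le_normalizer le_rfl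
  let π : Ns O →* Ns O ⧸ O.subgroupOf (Ns O) := QuotientGroup.mk' _
  have hk : ∀ n, π n = 1 ↔ (n : G) ∈ O := fun n => QuotientGroup.eq_one_iff n
  have hs : Function.Surjective π := QuotientGroup.mk'_surjective _
  let e₀ : X →* Ns O := e.codRestrict _ fun x => hA.ct (hB.mem_Cz x)
  have hker : p.ker ≤ (π.comp e₀).ker := fun z hz => by
    rw [hp.ker] at hz
    exact (hk (e₀ z)).2 (mem_O hB hA ((e_mem_Cs hB.inj).2 hz) (hB.mem_Cz z)
      ((hF.odd_cen hz).of_dvd_nat (orderOf_map_dvd e z)))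
  let f : Y →* Ns O ⧸ O.subgroupOf (Ns O) := p.liftOfSurjective hp.surj ⟨π.comp e₀, hker⟩
  have hf : ∀ x, f (p x) = π (e₀ x) := fun x =>
    p.liftOfRightInverse_comp_apply _ _ ⟨π.comp e₀, hker⟩ x
  have hc : ∀ a b : Ns O, π a * π b = π b * π a ↔ (a : G) * b * (a : G)⁻¹ * (b : G)⁻¹ ∈ O :=
    fun a b => by
      rw [← commutatorElement_eq_one_iff_mul_comm, ← map_commutatorElement, hk]; rfl
  refine ⟨_, inferInstance, inferInstance, π, f, ⟨hs, hk, fun x n hx => ?_⟩, fun t' ht' => ?_⟩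
  · rw [hf]; exact congrArg π (Subtype.ext hx)
  refine ⟨⟨(injective_iff_map_eq_one f).2 fun y hy => ?_, ⟨?_, fun c => ?_⟩, ?_, fun n hn => ?_⟩,
    fun R hR h2 => ?_⟩
  · obtain ⟨x, rfl⟩ := hp.surj y
    rw [hf, hk] at hy
    have : x ∈ p.ker := hp.ker ▸ (e_mem_Cs hB.inj).1 (hA.le hy).1
    exact this
  · rw [← map_mul, hk, coe_mul, ht', hB.tt]; exact one_mem _
  · rw [hk, ht'] at c
    exact hB.inv.2 ((is2_of_sq hB.tt).eq_one (odd_orderOf_of_mem hA.odd c))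
  · rintro _ ⟨y, rfl⟩
    obtain ⟨x, rfl⟩ := hp.surj y
    rw [hf, ← map_mul, ← map_mul]
    exact congrArg π (Subtype.ext (by rw [coe_mul, coe_mul, ht']; exact (hB.comm x).symm))
  · obtain ⟨n, rfl⟩ := hs n
    have m1 := (hc n t').1 (mem_Cz.1 hn).symm
    rw [ht'] at m1
    have m2 := mem_Cz.1 (hA.le m1).2
    have m3 : (n : G) * t * (n : G)⁻¹ * t⁻¹ = 1 := by
      refine (is2_of_sq ?_).eq_one (odd_orderOf_of_mem hA.odd m1)
      calc _ = (n : G) * t * (n : G)⁻¹ * t⁻¹ * (t⁻¹ * (t * (n * t * (n : G)⁻¹ * t⁻¹))) := by group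
        _ = n * t * (n : G)⁻¹ * (t * t)⁻¹ * (n * t * (n : G)⁻¹) := by rw [m2]; group
        _ = n * t * ((n : G)⁻¹ * (t * t)⁻¹ * n) * t * (n : G)⁻¹ := by group
        _ = 1 := by
          rw [hB.tt, inv_one, mul_one, inv_mul_cancel, mul_one, mul_assoc _ t t, hB.tt, mul_one,
            mul_inv_cancel]
    have m4 : (n : G) ∈ Cz t := by
      rw [mul_inv_eq_one, mul_inv_eq_iff_eq_mul] at m3
      exact mem_Cz.2 m3.symm
    obtain ⟨β, hβ⟩ := hB.ind m4
    refine mem_normalizer_fintype ?_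
    rintro _ ⟨y, rfl⟩
    obtain ⟨x, rfl⟩ := hp.surj y
    refine ⟨p (β x), ?_⟩
    rw [hf, hf, ← map_inv, ← map_mul, ← map_mul]
    exact congrArg π (Subtype.ext (hβ x).symm)
  · let R₀ : Subgroup G := (R.comap π).map (Ns O).subtype
    have m1 : ⁅R₀, e.range⁆ ≤ Cs e.range := commutator_le.2 (by
      rintro _ ⟨n, hn, rfl⟩ _ ⟨x, rfl⟩
      refine (hA.le ((hc n (e₀ x)).1 ?_)).1
      exact (hR hn _ ⟨p x, hf x⟩).symm)
    have m2 : ⁅⁅R₀, e.range⁆, e.range⁆ = ⊥ := commutator_eq_bot_iff_le_centralizer.2 m1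
    have m3 : ⁅⁅e.range, e.range⁆, R₀⁆ = ⊥ :=
      commutator_commutator_eq_bot_of_rotate (by rwa [commutator_comm e.range R₀]) m2
    have m4 : R₀ ≤ Cs e.range := le_centralizer_iff.1
      ((range_perf hF).trans (commutator_eq_bot_iff_le_centralizer.1 m3))
    obtain ⟨k, hk2⟩ := IsPGroup.iff_card.1 h2
    have m5 : 2 ^ k ∣ Nat.card R₀ := by
      rw [card_map_of_injective (Ns O).subtype_injective, ← hk2]
      conv_lhs => rw [← map_comap_eq_self_of_surjective hs R]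
      exact card_map_dvd _ _
    obtain ⟨T, hT⟩ := Sylow.exists_subgroup_card_pow_prime 2 m5
    have m6 := h.two (T.map R₀.subtype) ((map_subtype_le T).trans m4)
      ((IsPGroup.of_card hT).map _)
    rwa [card_map_of_injective R₀.subtype_injective, hT, ← hk2] at m6

end H17.SQDQ
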