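import Cfsg.Agent.H86.SPIKit

/-! S3129, STD-SP chapter I: the family `y x` (`JobA1`). -/

set_option autoImplicit false

namespace H17.SpiA1

open H67.UA hiding Par
open H67.SP H86.SPI Subgroup

universe u

theorem jobA1 : JobA1.{u} := by
  intro n F _ _ _ _ _ _ G _ _ e t _ hT hW hC hA κ hκ tr
  obtain ⟨w, hw, wt, wy⟩ := tr κ⁻¹
  have q := q0_ev (n := n) (F := F) 0
  have h1 : th (ev 0) (1 : XU n F) = 1 := hT.x0 _ 1 (one_mem _) q (ac_one _)
  let S : Subgroup (XU n F) :=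
    { carrier := {p | ac p (ev 0) = ev 0 ∧ w * e p * w⁻¹ = e (th (ev 0) p)}
      one_mem' := ⟨ac_one _, by simp [h1]⟩
      mul_mem' := fun {a b} ha hb => ⟨(Stab (ev 0)).mul_mem ha.1 hb.1, by
        rw [hT.mul _ a b q ha.1 hb.1, map_mul, map_mul, ← ha.2, ← hb.2]; group⟩
      inv_mem' := fun {a} ha => ⟨(Stab (ev 0)).inv_mem ha.1, by
        have := hT.mul _ a a⁻¹ q ha.1 ((Stab (ev 0)).inv_mem ha.1)
        rw [mul_inv_cancel, h1] at this
        rw [← inv_eq_of_mul_eq_one_right this.symm, map_inv, map_inv, ← ha.2]; group⟩ }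
  have act : ∀ p, ac p (ev 0) = ev 0 → w * e p * w⁻¹ = e (th (ev 0) p) := fun p hp =>
    ((sup_le ((closure_le S).2 (by
      rintro _ ⟨x, c, hx, rfl⟩
      refine ⟨ac_EE_self (ok hx c), ?_⟩
      rw [hT.ee _ x c q hx, ← mem_centralizer_iff.1 hw _ (mem_map_of_mem e
        (subset_closure ⟨x, c, hx, rfl⟩)), mul_inv_cancel_right])) ((closure_le S).2 (by
      rintro _ ⟨y, y0, y1, rfl⟩
      refine ⟨by rw [ac_TT, hf_symm y0, zero_smul, add_zero], ?_⟩
      rw [wy y y0 y1, hT.tt _ y q y0, EE_smul, smul_smul, nm, star_trivial]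
      congr 3
      · congr 1; field_simp
      · field_simp))) (hC.gen hp)).2
  have e0 : (ev 0 : Vn n F) ≠ 0 := ev_ne 0
  have : ∀ x : Vn n F, ∃ y : G, (x = 0 → y = 1) ∧
      ∀ g ∈ X0 n F, ac g (ev 0) = x → y = e g * w * (e g)⁻¹ := fun x => by
    by_cases h : ∃ g ∈ X0 n F, ac g (ev 0) = x
    · obtain ⟨g, hg, rfl⟩ := h
      refine ⟨e g * w * (e g)⁻¹, fun k => (e0 (ac_inj g (k.trans (ac_zero g).symm))).elim, fun g' hg' k => ?_⟩
      have f : ac (g⁻¹ * g') (ev 0) = ev 0 := by rw [ac_mul, k, ac_inv_ac]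
      have := act _ f
      rw [hT.x0 _ _ (mul_mem (inv_mem hg) hg') q f, map_mul, map_inv] at this
      calc e g * w * (e g)⁻¹ = e g * ((e g)⁻¹ * e g') * ((e g)⁻¹ * e g')⁻¹ * w * (e g)⁻¹ := by group
        _ = _ := by nth_rw 2 [← this]; group
    · exact ⟨1, fun _ => rfl, fun g hg k => (h ⟨g, hg, k⟩).elim⟩
  choose y y0 yg using this
  have ind : ∀ {P : Vn n F → Prop}, P 0 → (∀ g ∈ X0 n F, P (ac g (ev 0))) → ∀ x, q0 x = 0 → P x :=
    fun {P} a b x hx => by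
      rcases eq_or_ne x 0 with rfl | k
      · exact a
      · obtain ⟨g, hg, rfl⟩ := hW.wt1 _ x q e0 hx k
        exact b g hg
  refine ⟨y, y0 0 rfl, fun g hg => ind (by simp [y0 0 rfl]) fun h hh => ?_,
    fun x p hx => ind (P := fun x => ac p x = x → y x * e p * (y x)⁻¹ = e (th x p))
      (fun _ => by simp [y0 0 rfl, hT.zero]) (fun h hh hp => ?_) x hx,
    ind (by simp [y0 0 rfl]) fun h hh => ?_⟩
  · rw [yg _ h hh rfl, yg _ (g * h) (mul_mem hg hh) (ac_mul _ _ _), map_mul]; group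
  · have f : ac (h⁻¹ * p * h) (ev 0) = ev 0 := by rw [ac_mul, ac_mul, hp, ac_inv_ac]
    have := hT.conj _ _ h hh q f
    rw [show h * (h⁻¹ * p * h) * h⁻¹ = p by group] at this
    rw [this, yg _ h hh rfl, map_mul, map_mul, map_inv, ← act _ f, map_mul, map_mul, map_inv]; group
  · rw [yg _ h hh rfl, ← ac_smul, ← TT_conj, map_mul, map_mul, map_inv]
    calc _ = e h * (w * ((e h)⁻¹ * (t * e h)) * w⁻¹) * (e h)⁻¹ := by group
      _ = _ := by rw [hA.cen, inv_mul_cancel_left, wt, ← mul_assoc (e h), ← hA.cen]; group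

end H17.SpiA1
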