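import Cfsg.Agent.H78.TEDef
import Cfsg.Agent.H26.SGFR

/-! STD-2E6, job PC: local facts on `U`, `Q`, `C(El)`. -/

set_option autoImplicit false
set_option linter.unusedSectionVars false
set_option synthInstance.maxSize 2000

namespace H17.TE

open Cfsg.Lie H63 H65 H64 H64.SG H68 H46.SF Subgroup H78.TE H78.TE.Qd
open H98 (conj_mem_of_mem_normalizer mem_normalizer_of_cj_le)

theorem cm_right {G : Type*} [Group G] {N : Subgroup G} {B : Set G} (hB : closure B ≤ Ns N) {g : G}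
    (h : ∀ b ∈ B, g * b * g⁻¹ * b⁻¹ ∈ N) {v : G} (hv : v ∈ closure B) : g * v * g⁻¹ * v⁻¹ ∈ N := by
  induction hv using closure_induction with
  | mem b hb => exact h b hb
  | one => simp
  | mul a b ha _ x y =>
    have := mul_mem x (conj_mem_of_mem_normalizer (hB ha) y)
    rwa [show g * a * g⁻¹ * a⁻¹ * (a * (g * b * g⁻¹ * b⁻¹) * a⁻¹) =
      g * (a * b) * g⁻¹ * (a * b)⁻¹ by group] at this
  | inv a ha x =>
    have := conj_mem_of_mem_normalizer (inv_mem (hB ha)) (inv_mem x)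
    rwa [show a⁻¹ * (g * a * g⁻¹ * a⁻¹)⁻¹ * a⁻¹⁻¹ = g * a⁻¹ * g⁻¹ * a⁻¹⁻¹ by group] at this

theorem cm_swap {G : Type*} [Group G] {N : Subgroup G} {g v : G} (h : g * v * g⁻¹ * v⁻¹ ∈ N) :
    v * g * v⁻¹ * g⁻¹ ∈ N := by
  have := inv_mem h
  rwa [show (g * v * g⁻¹ * v⁻¹)⁻¹ = v * g * v⁻¹ * g⁻¹ by group] at this

/-- the sums of a root of `S` and a root of `S'` lie in `V` -/
abbrev Sm (S S' V : Set (Rt E6)) : Prop :=
  ∀ r ∈ S, ∀ s ∈ S', s ≠ ng r ∧ (ip r s = -1 → su r s ∈ V)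

abbrev SN : Set (Rt E6) := {r | r.1 < 36}
abbrev SU' : Set (Rt E6) := {r | 36 ≤ r.1 ∧ r.1 ≠ 46}
abbrev SL0 : Set (Rt E6) := {r | a2 r = 0 ∧ a4 r = 0}
abbrev SL1 : Set (Rt E6) := {r | 36 ≤ r.1 ∧ a2 r = 0 ∧ a4 r = 0}

variable {F K : Type} [Field F] [Finite F] [CharP F 2] [Field K] [Finite K] [CharP K 2]

theorem cmx {r s : Rt E6} {V : Set (Rt E6)} (h : s ≠ ng r ∧ (ip r s = -1 → su r s ∈ V)) (a b : K) :
    xG E6 K r a * xG E6 K s b * (xG E6 K r a)⁻¹ * (xG E6 K s b)⁻¹ ∈ gY K V := by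
  by_cases c : ip r s = -1
  · rw [e6.commutator_add (stY K).toStN.toSt (su_add c)]
    exact x_mem_gen (h.2 c) _
  · have : 0 ≤ ip r s := (by decide +kernel : ∀ r s : Rt E6, s ≠ ng r → ip r s ≠ -1 → 0 ≤ ip r s)
      r s h.1 c
    rw [cY this]; simp

theorem nrY {S V : Set (Rt E6)} (h : Sm S V V) : gY K S ≤ Ns (gY K V) :=
  SG.gen_le_iff.2 fun r hr a => mem_normalizer_of_cj_le (by
    rw [map_le_iff_le_comap]
    refine SG.gen_le_iff.2 fun s hs b => ?_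
    have := mul_mem (cmx (h r hr s hs) a b) (x_mem_gen (x := xG E6 K) hs b)
    simpa using this)

theorem cmY {S S' V : Set (Rt E6)} (h : Sm S S' V) (n : Sm S V V) (n' : Sm S' V V) {g v : YY K}
    (hg : g ∈ gY K S) (hv : v ∈ gY K S') : g * v * g⁻¹ * v⁻¹ ∈ gY K V := by
  have a := nrY (K := K) n
  have a' := nrY (K := K) n'
  rw [gY, gen_XR_eq] at hg hv a a'
  refine cm_right a' ?_ hv
  rintro _ ⟨s, hs, b, rfl⟩
  refine cm_swap (cm_right a ?_ hg)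
  rintro _ ⟨r, hr, c, rfl⟩
  exact cm_swap (cmx (h r hr s hs) c b)

variable {T : Qd F K}

theorem gt_le_gY {S : Set (Rt E6)} (h : ∀ r ∈ S, gm r ∈ S) {g : T.X} (hg : g ∈ T.gt S) :
    (g : YY K) ∈ gY K S :=
  (T.gt_le (A := (gY K S).comap (fx T.ph).subtype)).2
    (fun r hr _ => mul_mem (x_mem_gen hr _) (x_mem_gen (h r hr) _)) hg

theorem eq_one_UV {g : YY K} (h : g ∈ gY K SU) (h' : g ∈ gY K SN) : g = 1 := by
  have e1 : (stY K).rgd.U = UU E6 (xG E6 K) := rfl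
  have e2 : (stY K).rgd.V = gY K {r | ¬ Pos r} := rfl
  refine (stY K).rgd.eq_one_of_mem_U_V ?_ ?_
  · rwa [e1, ← gY_SU]
  · rw [e2]
    have : SN ⊆ {r | ¬ Pos r} := fun r hr c => absurd (pos_iff.1 c) (not_le.2 hr)
    exact gen_mono _ this h'

section kb

variable (k : T.KB)
include k

theorem cmX {S S' V : Set (Rt E6)} (h : Sm S S' V) (n : Sm S V V) (n' : Sm S' V V) (c : Cl V)
    {g v : T.X} (hg : (g : YY K) ∈ gY K S) (hv : (v : YY K) ∈ gY K S') :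
    g * v * g⁻¹ * v⁻¹ ∈ T.gt V := (k.gtY V c _).2 (cmY h n n' hg hv)

theorem nrX {S V : Set (Rt E6)} (n : Sm S V V) (c : Cl V) {g : T.X} (hg : (g : YY K) ∈ gY K S) :
    g ∈ Ns (T.gt V) := mem_normalizer_of_cj_le (by
  rintro _ ⟨v, hv, rfl⟩
  exact (k.gtY V c _).2 (conj_mem_of_mem_normalizer (nrY n hg) ((k.gtY V c _).1 hv)))

/-- the side conditions of the certificate lemma -/
abbrev Cert (S S' V P : Set (Rt E6)) : Prop := Cl S ∧ Cl S' ∧ Cl V ∧ (∀ r ∈ S', r ∈ S) ∧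
  (∀ r ∈ P, 36 ≤ r.1) ∧ (∀ r ∈ V, 36 ≤ r.1 ∧ ∀ s, 36 ≤ s.1 → ip r s = -1 → su r s ∈ V) ∧
  (∀ r ∈ S', ∀ s ∈ P, (ip r s = -1 → su r s ∈ V) ∧ (ip r (gm s) = -1 → su r (gm s) ∈ V)) ∧
  ∀ r ∈ S, r ∉ S' → ∃ s ∈ P, ip r s = -1 ∧ su r s ∉ V

theorem ctX (ct : T.CT) {S S' V P : Set (Rt E6)} (c : Cert S S' V P) {g : T.X} (hg : g ∈ T.gt S)
    (h : ∀ s ∈ P, ∀ a, g * T.xs s a * g⁻¹ * (T.xs s a)⁻¹ ∈ T.gt V) : g ∈ T.gt S' := by
  obtain ⟨c1, c2, c3, c4, c5, c6, c7, c8⟩ := c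
  exact (k.gtY S' c2 g).2 (ct S S' V P c1.1 c2.1 c4 c5 c6 c7 c8 g ((k.gtY S c1 g).1 hg)
    fun s hs a => (k.gtY V c3 _).1 (h s hs a))

theorem ctC (ct : T.CT) {S S' P : Set (Rt E6)} (c : Cert S S' {_r | False} P) {g : T.X}
    (hg : g ∈ T.gt S) (h : ∀ s ∈ P, ∀ a, T.xs s a * g = g * T.xs s a) : g ∈ T.gt S' :=
  ctX k ct c hg fun s hs a => by rw [← h s hs a]; simp

theorem mem_El (g : T.X) : g ∈ T.El ↔ ∃ c e, g = T.x 22 c * T.x (hi D4) e := by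
  refine ⟨fun hg => ?_, ?_⟩
  · obtain ⟨u, rfl⟩ := k.prod SE (by decide +kernel) [lr (R4 22), lr (hi D4)] (by decide +kernel)
      (by decide +kernel) (by decide +kernel) g hg
    obtain ⟨c, hc⟩ := T.exists_tr (u (lr (R4 22)))
    obtain ⟨e, he⟩ := T.exists_tr (u (lr (hi D4)))
    exact ⟨c, e, by simp only [List.map, List.prod_cons, List.prod_nil, mul_one, T.xs_lr _ hc,
      T.xs_lr _ he]; rfl⟩
  · rintro ⟨c, e, rfl⟩
    exact mul_mem (k.x_mem (R4 22) (by decide +kernel) c) (k.x_mem (hi D4) (by decide +kernel) e)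

/-- the roots of the centraliser of `El` -/
abbrev SC : Set (Rt E6) := {v | 1 ≤ a4 v ∨ (a2 v = 0 ∧ a4 v = 0)}

theorem cs_El {y : T.X} (hy : y ∈ Cs T.El) : (y : YY K) ∈ gY K SC := by
  have hτ := H67.torOK_xG (D := E6) (k := K)
  have a : ∀ r : Rt D4, lr r ∈ SE → XR E6 (xG E6 K) (lr r) ≤ Cz (y : YY K) := fun r hr => by
    have h1 : (y : YY K) ∈ Cz (xG E6 K (lr r) 1) := mem_Cz.2 (by
      have := congrArg Subtype.val (hy _ (k.x_mem r hr 1))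
      rwa [coe_mul, coe_mul, T.x_val, map_one] at this)
    rw [H26.SG.cz e6 (ad E6 K) hτ _ one_ne_zero] at h1
    refine (closure_le _).2 ?_
    rintro _ ⟨c, rfl⟩
    exact mem_Cz.2 (mem_Cz.1 (H26.SG.P0_le_Cz e6 (stY K).toStN.toSt _ c h1)).symm
  have b : (y : YY K) ∈ Cs (XR E6 (xG E6 K) (lr (R4 22)) ⊔ XR E6 (xG E6 K) (lr (hi D4))) :=
    fun g hg => (mem_Cz.1 (sup_le (a (R4 22) (by decide +kernel)) (a (hi D4) (by decide +kernel))
      hg)).symm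
  rw [H26.SG.c2 e6 (ad E6 K) hτ (by rw [← ip_eq]; decide +kernel)] at b
  refine gen_mono _ (fun v hv => ?_) b
  simp only [Set.mem_ofPred_eq, ← ip_eq] at hv
  exact (by decide +kernel : ∀ v : Rt E6, 0 ≤ ip (lr (R4 22)) v ∧ 0 ≤ ip (lr (hi D4)) v → v ∈ SC) v hv

theorem le_cs_El {S : Set (Rt E6)} (h : Sm S SE {_r | False}) (hS : ∀ r ∈ S, gm r ∈ S) :
    T.gt S ≤ Cs T.El := fun g hg v hv => by
  have := cmY (K := K) h (fun _ _ _ => False.elim) (fun _ _ _ => False.elim) (gt_le_gY hS hg) (gt_le_gY (by decide +kernel) hv)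
  rw [show gY K {_r | False} = ⊥ from gen_empty _, mem_bot, mul_inv_eq_one,
    mul_inv_eq_iff_eq_mul] at this
  exact Subtype.ext this.symm


theorem QU : T.Q ≤ T.U := T.gt_mono (by intro r; revert r; decide +kernel)
theorem AU : T.A ≤ T.U := T.gt_mono (by intro r; revert r; decide +kernel)
theorem ZQ : T.Z ≤ T.Q := k.gtZ.ge.trans (T.gt_mono (by intro r; revert r; decide +kernel))
theorem ZU (pa : T.PA) : T.Z ≤ Cs T.U := le_centralizer_iff.1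
  ((T.gt_mono (S' := SP) (by intro r; revert r; decide +kernel)).trans pa.p0.ge)
theorem nA : Cs T.El ≤ Ns T.A := fun _ hy =>
  nrX k (by decide +kernel) (by decide +kernel) (cs_El k hy)

theorem cZ {S : Set (Rt E6)} (ct : T.CT) (c : Cert S SZ {_r | False} S) {g : T.X}
    (hg : g ∈ T.gt S ⊓ Cs (T.gt S)) : g ∈ T.Z :=
  k.gtZ.le (ctC k ct c hg.1 fun _ hs a => hg.2 _ (T.xs_mem hs a))

theorem cmZ {S S' : Set (Rt E6)} (c : Sm S S' SZ ∧ Sm S SZ SZ ∧ Sm S' SZ SZ ∧ (∀ r ∈ S, gm r ∈ S) ∧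
    ∀ r ∈ S', gm r ∈ S') {g v : T.X} (hg : g ∈ T.gt S) (hv : v ∈ T.gt S') :
    g * v * g⁻¹ * v⁻¹ ∈ T.Z :=
  k.gtZ.le (cmX k c.1 c.2.1 c.2.2.1 (by decide +kernel) (gt_le_gY c.2.2.2.1 hg)
    (gt_le_gY c.2.2.2.2 hv))

theorem maxA (ct : T.CT) (tb : T.TB) (D : Subgroup T.X) (h1 : D ≤ Cs T.El) (h2 : Cs T.El ≤ Ns D)
    (h3 : IsPGroup 2 D) : D ≤ T.A := fun g hg => by
  have : Fact (Nat.Prime 2) := ⟨Nat.prime_two⟩
  have nU : T.U ≤ Ns (Cs T.El) := H98.le_normalizer_centralizer fun u hu =>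
    nrX k (S := SU) (by decide +kernel) (by decide +kernel) (gt_le_gY (by decide +kernel) hu)
  have DU : D ≤ T.U := (((syl_iff.1 tb.syl).inf_of_le_normalizer le_top nU).le_of_le_normalizer
    h3 h1 (inf_le_right.trans h2)).trans inf_le_left
  have g1 : g ∈ T.gt SU' :=
    ctC k ct (P := {r | r = R6 70}) (by decide +kernel) (DU hg) (by
      rintro _ rfl a; exact h1 hg _ (T.xs_mem (by decide +kernel) a))
  have LC : T.gt SL0 ≤ Cs T.El :=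
    le_cs_El k (by decide +kernel) (by decide +kernel)
  have g2 : g ∈ T.A ⊔ T.gt SL1 := T.gt_le.2 (fun r hr u =>
    ((by decide +kernel : ∀ r : Rt E6, 36 ≤ r.1 ∧ r.1 ≠ 46 → r ∈ SA ∨
      36 ≤ r.1 ∧ a2 r = 0 ∧ a4 r = 0) r hr).elim (fun e => mem_sup_left (T.xs_mem e u))
      fun e => mem_sup_right (T.xs_mem e u)) g1
  obtain ⟨v, hv, l, hl, rfl⟩ := (H98.mem_sup_right_norm
    (((T.gt_mono fun r hr => hr.2).trans LC).trans (nA k))).1 g2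
  obtain ⟨n, hn, w, lf, hw⟩ := k.lfw [R6 57]
  have nC : n ∈ Cs T.El := LC (T.gt_mono (by intro r; revert r; decide +kernel) hn)
  have e1 : n * l * n⁻¹ ∈ T.U := by
    have := mul_mem (inv_mem (AU k (conj_mem_of_mem_normalizer (nA k nC) hv)))
      (DU (conj_mem_of_mem_normalizer (h2 nC) hg))
    rwa [show (n * v * n⁻¹)⁻¹ * (n * (v * l) * n⁻¹) = n * l * n⁻¹ by group] at this
  have e2 : n * l * n⁻¹ ∈ T.gt SN :=
    (T.gt_le (A := (T.gt SN).comap (MulAut.conj n).toMonoidHom)).2 (fun r hr u => by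
      rw [mem_comap, MulEquiv.coe_toMonoidHom, MulAut.conj_apply, lf.xs, hw]
      exact T.xs_mem ((by decide +kernel : ∀ r : Rt E6, 36 ≤ r.1 ∧ a2 r = 0 ∧ a4 r = 0 →
        (rg (R6 57) r).1 < 36) r hr) u) hl
  have e3 : n * l * n⁻¹ = 1 := Subtype.ext
    (eq_one_UV (gt_le_gY (by decide +kernel) e1) (gt_le_gY (by decide +kernel) e2))
  rwa [conj_eq_one_iff.1 e3, mul_one]

theorem zz {z : T.X} (hz : z ∈ T.Z) : z * z = 1 := by
  obtain ⟨c, rfl⟩ := k.st.mem_XR.1 hz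
  rw [k.st.add _ (hi D4).2, CharTwo.add_self_eq_zero, k.st.x_zero]

end kb

theorem fth_abs {G : Type*} [Group G] [Finite G] {P Q Z : Subgroup G} (h : IsO2 Q P) (hP : P ≤ Cs Z)
    (zz : ∀ z ∈ Z, z * z = 1) (cq : ∀ a, (∀ v ∈ Q, a * v * a⁻¹ = v) → a ∈ Z) {p : G} (hp : p ∈ P)
    (e : ∀ v ∈ Q, p * v * p⁻¹ * v⁻¹ ∈ Z) : p ∈ Q := by
  have cz : ∀ p ∈ P, ∀ z ∈ Z, p * z * p⁻¹ = z := fun p hp z hz => by
    rw [← hP hp z hz]; simp
  let D : Subgroup G :=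
    { carrier := {p | p ∈ P ∧ ∀ v ∈ Q, p * v * p⁻¹ * v⁻¹ ∈ Z}
      one_mem' := ⟨one_mem _, fun v _ => by simp⟩
      mul_mem' := fun {a b} ha hb => ⟨mul_mem ha.1 hb.1, fun v hv => by
        have := mul_mem ((cz a ha.1 _ (hb.2 v hv)).symm ▸ hb.2 v hv) (ha.2 v hv)
        rwa [show a * (b * v * b⁻¹ * v⁻¹) * a⁻¹ * (a * v * a⁻¹ * v⁻¹) =
          a * b * v * (a * b)⁻¹ * v⁻¹ by group] at this⟩
      inv_mem' := fun {a} ha => ⟨inv_mem ha.1, fun v hv => by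
        have := inv_mem ((cz _ (inv_mem ha.1) _ (ha.2 v hv)).symm ▸ ha.2 v hv)
        rwa [show (a⁻¹ * (a * v * a⁻¹ * v⁻¹) * a⁻¹⁻¹)⁻¹ = a⁻¹ * v * a⁻¹⁻¹ * v⁻¹ by group] at this⟩ }
  refine h.2.2.2 D (fun _ h => h.1) (fun n hn => mem_normalizer_of_cj_le ?_)
    (H98.isPGroup_iff_forall.2 fun a ha => ⟨2, ?_⟩) ⟨hp, e⟩
  · rintro _ ⟨a, ha, rfl⟩
    refine ⟨mul_mem (mul_mem hn ha.1) (inv_mem hn), fun v hv => ?_⟩
    have b := ha.2 _ (conj_mem_of_mem_normalizer (h.2.1 (inv_mem hn)) hv)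
    have := (cz n hn _ b).symm ▸ b
    change n * a * n⁻¹ * v * (n * a * n⁻¹)⁻¹ * v⁻¹ ∈ _
    rwa [show n * (a * (n⁻¹ * v * n⁻¹⁻¹) * a⁻¹ * (n⁻¹ * v * n⁻¹⁻¹)⁻¹) * n⁻¹ =
      n * a * n⁻¹ * v * (n * a * n⁻¹)⁻¹ * v⁻¹ by group] at this
  · rw [show a ^ 2 ^ 2 = a * a * (a * a) by simp [pow_succ, mul_assoc]]
    refine zz _ (cq _ fun v hv => ?_)
    have b := ha.2 v hv
    calc _ = a * (a * v * a⁻¹ * v⁻¹) * a⁻¹ * (a * v * a⁻¹ * v⁻¹) * v := by group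
      _ = v := by rw [cz a ha.1 _ b, zz _ b, one_mul]

theorem jobPC : JobPC := by
  intro F K _ _ _ _ _ _ T k ct tb ca pa pb
  refine ⟨?_, fun g hg => ⟨fun h => ?_, fun h u hu => ?_⟩, mem_El k, fun v hv e he => ?_, ?_,
    ⟨?_, nA k, k.isP.to_le (AU k), maxA k ct tb⟩, fun c y hy => ?_, fun p hp h => ?_⟩
  · exact le_antisymm (fun _ => cZ k ct (by decide +kernel)) (le_inf ((ZQ k).trans (QU k)) (ZU k pa))
  · exact ctX k ct (V := SZ) (P := SU) (by decide +kernel) hg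
      fun _ hs a => k.gtZ.ge (h _ (T.xs_mem hs a))
  · exact cmZ k (by decide +kernel) h hu
  · exact cmZ k (by decide +kernel) hv he
  · exact le_antisymm (fun _ => cZ k ct (by decide +kernel))
      (le_inf (ZQ k) ((ZU k pa).trans (centralizer_le (QU k))))
  · exact le_cs_El k (by decide +kernel) (by decide +kernel)
  · refine cmX k (S := {r | r = lr (R4 9)}) (S' := SC) (by decide +kernel)
      (by decide +kernel) (by decide +kernel) (by decide +kernel) ?_ (cs_El k hy)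
    exact x_mem_gen (x := xG E6 K) (S := {r | r = lr (R4 9)}) (r := lr (R4 9)) rfl (T.ι c)
  · refine fth_abs pb.q0 le_rfl (fun _ => zz k) (fun a ha => ?_) hp h
    obtain ⟨c, hc⟩ := ca.cQ (MulAut.conj a) ha
    rw [mul_inv_eq_one.1 (tb.cen (a * (T.x (hi D4) c)⁻¹) (by
      rw [map_mul, map_inv, hc, mul_inv_cancel]))]
    exact x_mem_XR D4 T.x _ c

end H17.TE
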