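import Cfsg.Agent.H82.TPSpec
import Cfsg.Agent.H99.KID1

/-! TP-E3: type E, even degree, the counting argument. -/

set_option autoImplicit false

namespace H17.TP3

open MulAction Cfsg Subgroup H89.K H98 H82.TP

universe u v

theorem ar1 {m s i : ℕ} (hm : 0 < m) (hi : 2 ≤ i) (hs : s ^ 3 ∣ i - 1)
    (h : m * (s ^ 2) ^ 2 = m + m * i) : False := by
  obtain ⟨i, rfl⟩ : ∃ j, i = j + 1 := ⟨i - 1, by omega⟩
  have h1 : (s ^ 2) ^ 2 = 2 + i := Nat.eq_of_mul_eq_mul_left hm (by rw [h]; ring)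
  have h2 : s ^ 3 ∣ 2 + i := h1 ▸ ⟨s, by ring⟩
  have h3 : s ^ 3 ≤ 2 := Nat.le_of_dvd two_pos ((Nat.dvd_add_left (by simpa using hs)).1 h2)
  have h4 : s ≤ 1 := by
    by_contra h5
    have := Nat.pow_le_pow_left (show 2 ≤ s by omega) 3
    omega
  interval_cases s <;> omega

/-- `2 x ∣ (s⁴ - 1) w` with `x` a power of two and `s, w` odd gives `x ∣ s² - 1`. -/
theorem two_adic {x s w : ℤ} {e : ℕ} (hx : x = 2 ^ e) (hs : Odd s) (hw : Odd w)
    (h : 2 * x ∣ ((s ^ 2) ^ 2 - 1) * w) : x ∣ s ^ 2 - 1 := by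
  obtain ⟨k, rfl⟩ := hs
  have h1 : (((2 * k + 1) ^ 2) ^ 2 - 1) * w =
      2 * (((2 * k + 1) ^ 2 - 1) * ((2 * (k ^ 2 + k) + 1) * w)) := by ring
  rw [h1, Int.mul_dvd_mul_iff_left two_ne_zero] at h
  refine IsCoprime.dvd_of_dvd_mul_right ?_ h
  rw [hx]
  exact IsCoprime.pow_left (Int.isCoprime_two_left.2 ((odd_two_mul_add_one _).mul hw))

theorem ar2 {q s i : ℤ} {r : ℕ} (hr : 3 ≤ r) (hq : q = 2 ^ r) (hi : 2 ≤ i) (h0 : 0 ≤ s) (ho : Odd s)
    (hs : s ^ 3 ∣ i - 1) (h : (q ^ 2 - 1) * (s ^ 2) ^ 2 = q ^ 2 - 1 + q ^ 2 * i) : False := by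
  obtain ⟨r, rfl⟩ : ∃ j, r = j + 3 := ⟨r - 3, by omega⟩
  have hx : (1 : ℤ) ≤ 2 ^ r := one_le_pow₀ (by norm_num)
  have h8 : 8 ≤ q := by rw [hq, pow_add]; linarith
  have e : q ^ 2 = 2 * 2 ^ (2 * r + 5) := by rw [hq]; ring
  have h1 : (2 : ℤ) ^ (2 * r + 5) ∣ s ^ 2 - 1 :=
    two_adic rfl ho (w := q ^ 2 - 1) (by rw [e]; exact ⟨2 ^ (2 * r + 5) - 1, by ring⟩)
      ⟨i, by rw [← e]; linear_combination h⟩
  have hs1 : 1 < s := by
    by_contra h5
    have h6 : s = 1 := by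
      obtain ⟨k, rfl⟩ := ho
      omega
    rw [h6] at h
    nlinarith
  have h2 := Int.le_of_dvd (by nlinarith) h1
  obtain ⟨c, hc⟩ := hs
  have h3 : s ^ 3 ∣ 2 * q ^ 2 - 1 :=
    ⟨(q ^ 2 - 1) * s - q ^ 2 * c, by linear_combination -h - q ^ 2 * hc⟩
  have h4 := Int.le_of_dvd (by nlinarith) h3
  have h5 : q ^ 2 < 2 * s ^ 2 := by linarith
  have h6 : s < 4 := by nlinarith
  nlinarith

theorem ar3 {p s i : ℤ} {e : ℕ} (hp3 : 3 ≤ p) (hp : p = 2 ^ e) (hi : 2 ≤ i) (he : Even i)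
    (h0 : 0 ≤ s) (ho : Odd s) (hs : s ^ 3 ∣ i - 1)
    (h : ((p ^ 2) ^ 2 - 1) * (s ^ 2) ^ 2 = (p ^ 2) ^ 2 - 1 + p * (p ^ 2 + 1) * i) : False := by
  have h' : ((s ^ 2) ^ 2 - 1) * (p ^ 2 - 1) = p * i :=
    mul_left_cancel₀ (show p ^ 2 + 1 ≠ 0 by positivity) (by linear_combination h)
  have hpe : Even p := by
    rw [hp]
    refine (Int.even_pow.2 ⟨even_two, ?_⟩)
    rintro rfl
    omega
  obtain ⟨j, hj⟩ := he
  obtain ⟨a, ha⟩ : p ∣ s ^ 2 - 1 :=
    two_adic hp ho (w := p ^ 2 - 1) ((Int.even_pow.2 ⟨hpe, two_ne_zero⟩).sub_odd odd_one)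
      ⟨j, by rw [h', hj]; ring⟩
  have hs1 : 1 < s := by
    by_contra h5
    have h6 : s = 1 := by
      obtain ⟨k, rfl⟩ := ho
      omega
    rw [h6] at h'
    nlinarith
  have ha1 : 1 ≤ a := by
    by_contra h5
    nlinarith
  obtain ⟨c, hc⟩ := hs
  obtain ⟨d, hd⟩ : ∃ d, p ^ 2 + p - 1 = (p * a + 1) * d :=
    ⟨(p ^ 2 - 1) * s ^ 2 - p * c * s, by
      have : p * a + 1 = s ^ 2 := by linarith
      rw [this]
      linear_combination -h' - p * hc⟩
  have hd0 : 0 < d := by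
    by_contra h5
    nlinarith [mul_nonneg (show 0 ≤ p * a + 1 by positivity) (show 0 ≤ -d by linarith)]
  have hb : d + 1 = p * (p + 1 - a * d) := by linear_combination -hd
  obtain ⟨b, hb'⟩ : ∃ b, b = p + 1 - a * d := ⟨_, rfl⟩
  rw [← hb'] at hb
  have hb1 : 1 ≤ b := by
    by_contra h5
    nlinarith
  have hd' : d = p * b - 1 := by linarith
  rw [hd'] at hb'
  rcases hb1.eq_or_lt with rfl | hb2
  · have h7 : (a - 1) * (p - 1) = 1 := by linear_combination hb'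
    rcases ha1.eq_or_lt with rfl | ha2
    · simp at h7
    · nlinarith
  · have h7 : 2 * p - 1 ≤ p * b - 1 := by nlinarith
    nlinarith

theorem ar4 {r y i c β : ℕ} (hr : 27 ≤ r) (hy : 1 ≤ y) (hc : c = r * (r - 1) * y) (hβ : 63 ≤ β)
    (h : r ^ 2 * (r * (r - 1) + 1) * y ^ 2 = 63 + β * (i + 1)) (hb : c ^ 2 ≤ 14 * c + 48 * i) :
    False := by
  obtain ⟨r, rfl⟩ : ∃ j, r = j + 1 := ⟨r - 1, by omega⟩
  simp only [Nat.add_sub_cancel] at hc h
  have h1 : 63 * i ≤ (r + 1) ^ 2 * ((r + 1) * r + 1) * y ^ 2 := by nlinarith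
  have h2 : (r + 1) * y * (63 * ((r + 1) * r ^ 2 * y)) ≤
      (r + 1) * y * (882 * r + 48 * ((r + 1) * ((r + 1) * r + 1) * y)) := by
    subst hc
    nlinarith
  have h3 := Nat.le_of_mul_le_mul_left h2 (by positivity)
  obtain ⟨r, rfl⟩ : ∃ j, r = j + 26 := ⟨r - 26, by omega⟩
  obtain ⟨y, rfl⟩ : ∃ j, y = j + 1 := ⟨y - 1, by omega⟩
  nlinarith [Nat.zero_le (r * y), Nat.zero_le (r ^ 2 * y), Nat.zero_le (r ^ 3 * y),
    Nat.zero_le (r ^ 2), Nat.zero_le (r ^ 3)]

variable {G : Type u} {Ω : Type v} [Group G] [MulAction G Ω]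

theorem ncard_sub (H : Subgroup G) (A : Set G) :
    {x : H | (x : G) ∈ A}.ncard = {x : G | x ∈ A ∧ x ∈ H}.ncard := by
  rw [← Set.ncard_image_of_injective _ H.subtype_injective]
  congr 1
  ext x
  exact ⟨fun ⟨y, hy, e⟩ => e ▸ ⟨hy, y.2⟩, fun h => ⟨⟨x, h.2⟩, h.1, rfl⟩⟩

theorem nI_sub {H : Subgroup G} (h1 : H89.K.One H) {t : G} (ht : t ∈ H) (ho : orderOf t = 2) :
    nI H = {x : G | x ∈ {s | IsConj t s} ∧ x ∈ H}.ncard := by
  rw [← ncard_sub, nI]
  congr 1
  ext x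
  exact ⟨fun hx => H.subtype.map_isConj (h1 ⟨t, ht⟩ x (by rw [← orderOf_coe]; exact ho) hx),
    fun hx => by
      have := (orderOf_of_isConj hx).trans ho
      rwa [orderOf_coe] at this⟩

theorem cI_sub {H : Subgroup G} (t : H) :
    (cI t).ncard = {x : G | x ∈ cI (t : G) ∧ x ∈ H}.ncard := by
  rw [← ncard_sub]
  congr 1
  ext x
  simp only [cI, Set.mem_setOf_eq, orderOf_coe, ne_eq, Subtype.ext_iff, Commute, SemiconjBy,
    coe_mul]

theorem cen_sub {H : Subgroup G} (t : H) : Nat.card (centralizer ({t} : Set H)) =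
    {x : G | x * t = t * x ∧ x ∈ H}.ncard := by
  have := ncard_sub H {x : G | x * t = t * x}
  simp only [Set.mem_setOf_eq] at this
  rw [← this, ← Nat.card_coe_set_eq]
  refine Nat.card_congr (Equiv.subtypeEquivRight fun x => ?_)
  simp [mem_centralizer_singleton_iff, Subtype.ext_iff]

theorem ncard_conj (g : G) {A B : Set G} (h : ∀ x, g * x * g⁻¹ ∈ B ↔ x ∈ A) : A.ncard = B.ncard := by
  rw [← Set.ncard_image_of_injective A (MulAut.conj g).injective]
  congr 1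
  ext x
  obtain ⟨x, rfl⟩ := (MulAut.conj g).surjective x
  rw [(MulAut.conj g).injective.mem_set_image, MulAut.conj_apply, h]

theorem conj_comm {g x t : G} : g * x * g⁻¹ * (g * t * g⁻¹) = g * t * g⁻¹ * (g * x * g⁻¹) ↔
    x * t = t * x := by
  rw [conj_mul, conj_mul, mul_left_inj, mul_right_inj]

theorem conj_cI {g x t : G} (hg : g * t * g⁻¹ = t) : g * x * g⁻¹ ∈ cI t ↔ x ∈ cI t := by
  refine and_congr (by rw [orderOf_of_isConj (isConj_conj g x)]) (and_congr ?_ ?_)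
  · conv_lhs => rw [← hg]
    simp
  · conv_lhs => rw [← hg]
    exact conj_comm

/-- the centraliser of an involution in any two-point stabiliser -/
theorem cen_at (h : T2 G Ω) {a b : Ω} (hab : a ≠ b) {q : ℕ} (hE : TE (St G a b) q) {c d : Ω}
    (hcd : c ≠ d) {t : G} (ht : t ∈ St G c d) (ho : orderOf t = 2) :
    {x : G | x * t = t * x ∧ x ∈ St G c d}.ncard = q := by
  obtain ⟨g, rfl, rfl⟩ := h.two hab hcd
  obtain ⟨t, rfl⟩ := (MulAut.conj g).surjective t
  have hm : ∀ x : G, g * x * g⁻¹ ∈ St G (g • a) (g • b) ↔ x ∈ St G a b := fun x =>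
    and_congr conj_smul_eq conj_smul_eq
  rw [MulAut.conj_apply] at ht ho ⊢
  rw [orderOf_of_isConj (isConj_conj g t)] at ho
  rw [← hE.cardc ⟨t, (hm t).1 ht⟩ (by rw [← orderOf_coe]; exact ho), cen_sub]
  exact (ncard_conj g fun x => and_congr conj_comm (hm x)).symm

variable [Finite G]

/-- The three standard counts. -/
theorem counts (h : T2 G Ω) {a b : Ω} (hab : a ≠ b) {t : G} (ht : t ∈ St G a b) (ho : orderOf t = 2)
    (h1 : H89.K.One (St G a b)) (h2 : H89.K.One (stabilizer G a)) :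
    2 ≤ fx Ω t ∧ nI (stabilizer G a) = nI (St G a b) + (Sw t a b).ncard * fx Ω t ∧
      nI (stabilizer G a) * (fx Ω t - 1) = (Nat.card Ω - 1) * nI (St G a b) := by
  have := h.finite
  have hK : ∀ x ∈ {s | IsConj t s}, ∀ g : G, g * x * g⁻¹ ∈ {s | IsConj t s} :=
    fun x hx g => IsConj.trans hx (isConj_conj g x)
  have hi : ∀ x ∈ {s | IsConj t s}, Nat.card {c : Ω // x • c = c} = fx Ω t :=
    fun x hx => card_fix_of_isConj hx
  have c1 := h.count_one _ hK hi a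
  have c2 := h.count_two _ hK hi hab
  have c3 := h.count_move _ hK hi hab
  rw [← nI_sub h1 ht ho] at c2
  have e : nI (stabilizer G a) = {x | x ∈ {s | IsConj t s} ∧ x • a = a}.ncard := nI_sub h2 ht.1 ho
  rw [← e] at c1
  change _ = _ * (Sw t a b).ncard at c3
  have hi2 : 2 ≤ fx Ω t :=
    Finite.one_lt_card_iff_nontrivial.2 ⟨⟨a, ht.1⟩, ⟨b, ht.2⟩, fun e => hab (congrArg Subtype.val e)⟩
  have hlt := h.card_fix_lt (ne_one_of_orderOf ho)
  have hK0 : 0 < {s | IsConj t s}.ncard := (Set.ncard_pos (Set.toFinite _)).2 ⟨t, IsConj.refl t⟩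
  change fx Ω t < _ at hlt
  generalize {s | IsConj t s}.ncard = k at *
  generalize nI (stabilizer G a) = N at *
  generalize nI (St G a b) = m at *
  generalize (Sw t a b).ncard = β at *
  obtain ⟨i, hi'⟩ : ∃ i, fx Ω t = i + 1 := ⟨fx Ω t - 1, by omega⟩
  obtain ⟨d, hd⟩ : ∃ d, Nat.card Ω = i + 1 + d := ⟨Nat.card Ω - (i + 1), by omega⟩
  rw [hi'] at hi2 hlt
  simp only [hi', hd, Nat.add_sub_cancel, show i + 1 + d - 1 = i + d by omega,
    Nat.add_sub_cancel_left] at c1 c2 c3 ⊢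
  have f1 : N * i = (i + d) * m :=
    Nat.eq_of_mul_eq_mul_left (by omega : 0 < i + 1 + d) (by
      rw [← mul_assoc, ← c1, ← mul_assoc, ← c2]; ring)
  have f2 : d * m = β * (i + 1) * i := Nat.eq_of_mul_eq_mul_left hK0 (by
    rw [← mul_assoc, c3, mul_right_comm, ← c2]; ring)
  exact ⟨hi2, Nat.eq_of_mul_eq_mul_right (by omega : 0 < i) (by rw [f1, add_mul, f2]; ring), f1⟩

/-- Cauchy-Schwarz bound for the involutions commuting with `t` and fixing a point. -/
theorem cs_bound (h : T2 G Ω) {a b : Ω} (hab : a ≠ b) (hE : TE (St G a b) 8) {t : G}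
    (ht : t • a = a) (ho : orderOf t = 2) (h2 : H89.K.One (stabilizer G a)) {i c : ℕ}
    (hi : fx Ω t = i + 1) (hi0 : 0 < i) (hc : {x : G | x ∈ cI t ∧ x • a = a}.ncard = c) :
    c ^ 2 ≤ 14 * c + 48 * i := by
  classical
  have := h.finite
  have := Fintype.ofFinite Ω
  have := Fintype.ofFinite G
  set P : Finset Ω := Finset.univ.filter fun x => t • x = x with hP
  set K : Finset G := Finset.univ.filter fun x => x ∈ cI t with hK
  have cP : P.card = i + 1 := by rw [← hi, fx, Nat.card_eq_fintype_card, Fintype.card_subtype]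
  have cK : ∀ (p : G → Prop) [DecidablePred p],
      (K.filter p).card = {x : G | x ∈ cI t ∧ p x}.ncard := fun p _ => by
    rw [← Set.ncard_coe_finset]
    congr 1
    ext x
    simp [hK]
  have mP : ∀ x, x ∈ P ↔ t • x = x := fun x => by simp [hP]
  have f1 : ∀ x ∈ P, (K.filter fun u => u • x = x).card = c := fun x hx => by
    obtain ⟨g, rfl⟩ := h.trans a x
    have h3 : (g⁻¹ * t * g⁻¹⁻¹) • a = a := by
      rw [inv_inv, mul_smul, mul_smul, (mP _).1 hx, inv_smul_smul]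
    obtain ⟨m, hm⟩ := isConj_iff.1 (h2 ⟨t, ht⟩ ⟨_, h3⟩ (by rw [← orderOf_coe]; exact ho)
      (by rw [← orderOf_coe]; exact (orderOf_of_isConj (isConj_conj _ t)).trans ho))
    have hm' : (m : G) * t * (m : G)⁻¹ = g⁻¹ * t * g⁻¹⁻¹ := congrArg Subtype.val hm
    have h4 : g * m * t * (g * m)⁻¹ = t := by
      rw [mul_inv_rev, show g * m * t * ((m : G)⁻¹ * g⁻¹) = g * (m * t * (m : G)⁻¹) * g⁻¹ by group,
        hm']
      group
    have h5 : g • a = (g * m) • a := by rw [mul_smul, m.2]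
    rw [cK, ← hc, h5]
    exact (ncard_conj (g * m) fun x => and_congr (conj_cI h4) conj_smul_eq).symm
  have f2 : ∀ x ∈ P, ∀ y ∈ P.erase x, (K.filter fun u => u • x = x ∧ u • y = y).card ≤ 6 :=
    fun x hx y hy => by
      obtain ⟨hne, hy⟩ := Finset.mem_erase.1 hy
      have ht' : t ∈ St G x y := ⟨(mP _).1 hx, (mP _).1 hy⟩
      have h3 := cen_at h hab hE hne.symm ht' ho
      have h4 : {u : G | u ∈ cI t ∧ u • x = x ∧ u • y = y} ⊆
          {u : G | u * t = t * u ∧ u ∈ St G x y} \ {1, t} := fun u hu =>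
        ⟨⟨hu.1.2.2, hu.2⟩, by
          rintro (e | e)
          · exact ne_one_of_orderOf hu.1.1 e
          · exact hu.1.2.1 e⟩
      have h5 := Set.ncard_diff_add_ncard_of_subset (s := {1, t})
        (t := {u : G | u * t = t * u ∧ u ∈ St G x y}) (by
          rintro u (rfl | rfl)
          · exact ⟨by simp, one_mem _⟩
          · exact ⟨rfl, ht'⟩)
      rw [h3, Set.ncard_pair (ne_one_of_orderOf ho).symm] at h5
      have h6 := Set.ncard_le_ncard h4
      rw [cK]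
      omega
  have haP : a ∈ P := (mP a).2 ht
  have f3 : ∀ y ∈ P.erase a, (K.filter fun u => u • a = y).card ≤ 8 := fun y hy => by
    obtain ⟨hne, hy⟩ := Finset.mem_erase.1 hy
    rw [cK, ← cen_at h hab hE hne.symm ⟨ht, (mP _).1 hy⟩ ho]
    rcases {u : G | u ∈ cI t ∧ u • a = y}.eq_empty_or_nonempty with e | ⟨u₀, hu₀, e₀⟩
    · rw [e]; simp
    have hb : ∀ u ∈ cI t, u • a = y → u • y = a := fun u hu e => by
      rw [← e, ← mul_smul, sq_of_orderOf hu.1, one_smul]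
    refine Set.ncard_le_ncard_of_injOn (fun u => u₀ * u) (fun u hu => ⟨?_, ?_, ?_⟩)
      (fun _ _ _ _ e => mul_left_cancel e)
    · exact hu₀.2.2.mul_left hu.1.2.2
    · change (u₀ * u) • a = a
      rw [mul_smul, hu.2, hb u₀ hu₀ e₀]
    · change (u₀ * u) • y = y
      rw [mul_smul, hb u hu.1 hu.2, e₀]
  have s3 : K.card ≤ c + i * 8 := by
    rw [Finset.card_eq_sum_card_fiberwise (f := fun u : G => u • a) (t := P) (fun u hu => by
      have hu' : u ∈ cI t := by simpa [hK] using hu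
      exact (mP _).2 (fix_of_comm hu'.2.2 ht)), ← Finset.add_sum_erase _ _ haP, f1 a haP]
    have := Finset.sum_le_card_nsmul _ _ _ f3
    rw [Finset.card_erase_of_mem haP, cP] at this
    simpa using this
  have s1 : ∑ u ∈ K, (P.filter fun x => u • x = x).card = (i + 1) * c := by
    rw [← cP]
    exact (Finset.sum_card_bipartiteAbove_eq_sum_card_bipartiteBelow
      (fun (u : G) (x : Ω) => u • x = x)).trans (Finset.sum_const_nat f1)
  have s2 : ∑ u ∈ K, (P.filter fun x => u • x = x).card ^ 2 ≤ (i + 1) * (c + i * 6) := by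
    have e1 : ∀ u : G, (P.filter fun x => u • x = x).card ^ 2 =
        ∑ x ∈ P, ∑ y ∈ P, if u • x = x ∧ u • y = y then 1 else 0 := fun u => by
      rw [sq, Finset.card_filter, Finset.sum_mul_sum]
      simp only [ite_and, mul_ite, mul_one, mul_zero]
      refine Finset.sum_congr rfl fun x _ => Finset.sum_congr rfl fun y _ => ?_
      split_ifs <;> rfl
    simp only [e1]
    rw [Finset.sum_comm, ← cP, ← smul_eq_mul]
    refine Finset.sum_le_card_nsmul _ _ _ fun x hx => ?_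
    rw [Finset.sum_comm, ← Finset.add_sum_erase _ _ hx]
    simp only [← Finset.card_filter, and_self]
    have := Finset.sum_le_card_nsmul _ _ _ (f2 x hx)
    rw [Finset.card_erase_of_mem hx, cP] at this
    rw [f1 x hx]
    simpa using this
  have cs := sq_sum_le_card_mul_sum_sq (s := K) (f := fun u => (P.filter fun x => u • x = x).card)
  rw [s1] at cs
  have h7 := cs.trans (Nat.mul_le_mul s3 s2)
  have h8 : (i + 1) * (i * c ^ 2 + c ^ 2) ≤ (i + 1) * (i * (14 * c + 48 * i) + c ^ 2) := by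
    linear_combination h7
  exact Nat.le_of_mul_le_mul_left (Nat.le_of_add_le_add_right (Nat.le_of_mul_le_mul_left h8
    i.succ_pos)) hi0

theorem jobE3 : JobE3.{u, v} := by
  intro hL hE2 G Ω _ _ _ a b q t h hab hE hev ht ho hβ
  have := h.finite
  have ho' : orderOf (⟨t, ht.1⟩ : stabilizer G a) = 2 := by rw [← orderOf_coe]; exact ho
  have hoH : orderOf (⟨t, ht⟩ : St G a b) = 2 := by rw [← orderOf_coe]; exact ho
  obtain ⟨h2, halt⟩ := hE2 G Ω a b q ⟨t, ht.1⟩ h hab hE hev ho'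
  obtain ⟨hi2, c1, c2⟩ := counts h hab ht ho hE.one h2
  obtain ⟨r, hr, hq⟩ := hE.pow
  have h8 : 8 ≤ q := hq ▸ Nat.pow_le_pow_right (n := 2) two_pos hr
  have hm : nI (St G a b) = q ^ 2 - 1 := Nat.eq_of_mul_eq_mul_right (by omega : 0 < q) (by
    have := H99.KI.nI_mul hE.one hoH
    rwa [hE.cardc _ hoH, hE.card, mul_comm q] at this)
  have hm0 : 0 < q ^ 2 - 1 := by
    have := Nat.pow_le_pow_left h8 2
    omega
  have hie : Even (fx Ω t) :=
    Nat.even_iff.2 (Eq.trans (card_fix_modEq (Ω := Ω) (sq_of_orderOf ho)).symm (Nat.even_iff.1 hev))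
  have hC : Nat.card (centralizer ({⟨t, ht.1⟩} : Set (stabilizer G a))) = q * (fx Ω t - 1) := by
    have h3 := H99.KI.nI_mul h2 ho'
    rw [h.card_stab hab, hE.card, ← hm] at h3
    refine Nat.eq_of_mul_eq_mul_left (show 0 < nI (stabilizer G a) by omega) ?_
    rw [h3, mul_left_comm _ q, mul_left_comm _ q, c2]
  -- a four-group complementing `t`
  have hA := cen_at h hab hE hab ht ho
  have hsq : ∀ x : G, x * t = t * x ∧ x ∈ St G a b → x * x = 1 := fun x hx =>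
    congrArg Subtype.val (hE.cen ⟨t, ht⟩ ⟨x, hx.2⟩ hoH (Subtype.ext hx.1))
  have hex : ∀ v : G, ∃ w : G, (w * t = t * w ∧ w ∈ St G a b) ∧ w ∉ ({1, t, v, t * v} : Set G) :=
    fun v => Set.exists_mem_notMem_of_ncard_lt_ncard (by
      have e1 := Set.ncard_insert_le (1 : G) {t, v, t * v}
      have e2 := Set.ncard_insert_le t {v, t * v}
      have e3 := Set.ncard_insert_le v {t * v}
      rw [Set.ncard_singleton] at e3
      change _ < {x : G | x * t = t * x ∧ x ∈ St G a b}.ncard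
      omega)
  obtain ⟨v, hv, hv'⟩ := hex 1
  obtain ⟨w, hw, hw'⟩ := hex v
  simp only [Set.mem_insert_iff, Set.mem_singleton_iff, not_or] at hv' hw'
  have hcI : ∀ (x : G) (hx : x * t = t * x ∧ x ∈ St G a b), x ≠ 1 → x ≠ t →
      (⟨x, hx.2.1⟩ : stabilizer G a) ∈ cI (⟨t, ht.1⟩ : stabilizer G a) := fun x hx e1 e2 =>
    ⟨by rw [← orderOf_coe]; exact orderOf_eq_two (hsq x hx) e1, fun e => e2 (congrArg Subtype.val e),
      Subtype.ext hx.1⟩
  obtain ⟨y, -, l2, l3, l4⟩ := hL (stabilizer G a) (oddCore _) ⟨t, ht.1⟩ ⟨v, hv.2.1⟩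
    (H2.odd_card_oddCore _) h2 ho' (hcI v hv hv'.1 hv'.2.1)
  obtain ⟨s, rfl, hs⟩ := l4 ⟨w, hw.2.1⟩ (hcI w hw hw'.1 hw'.2.1)
    (fun e => hw'.2.2.1 (congrArg Subtype.val e)) (fun e => hw'.2.2.2 (congrArg Subtype.val e))
    (Subtype.ext (comm_of_sq (hsq w hw) (hsq v hv) (hsq _
      ⟨Commute.mul_left hw.1 hv.1, mul_mem hw.2 hv.2⟩)))
  have hs3 : Odd (s ^ 3) := Odd.of_dvd_nat (H2.odd_card_oddCore _) (hs.trans (card_dvd_of_le inf_le_left))
  have hso : Odd s := (Nat.odd_pow_iff (by norm_num)).1 hs3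
  have hsd : s ^ 3 ∣ fx Ω t - 1 := by
    have h3 := hs.trans (card_dvd_of_le inf_le_right)
    rw [hC, hq] at h3
    exact (Nat.Coprime.pow_right r (Nat.coprime_two_right.2 hs3)).dvd_of_dvd_mul_left h3
  rw [hm] at c1
  have hsz : (s : ℤ) ^ 3 ∣ (fx Ω t : ℤ) - 1 := by
    zify [show 1 ≤ fx Ω t by omega] at hsd
    exact hsd
  rcases halt with e | ⟨rfl, ρ, hρ, e1, e2⟩
  · rw [l2, e] at c1
    rcases hβ with e | e | ⟨p, hp, e⟩ <;> rw [e] at c1
    · exact ar1 hm0 hi2 hsd c1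
    · zify [show 1 ≤ q ^ 2 by omega] at c1
      exact ar2 (q := q) hr (by exact_mod_cast hq) (by exact_mod_cast hi2) (Nat.cast_nonneg s)
        hso.natCast hsz c1
    · zify [show 1 ≤ q ^ 2 by omega] at c1
      obtain ⟨k, -, hk⟩ := (Nat.dvd_prime_pow Nat.prime_two).1
        (show p ∣ 2 ^ r from hq ▸ hp ▸ dvd_pow_self p two_ne_zero)
      have hp3 : 3 ≤ p := by
        by_contra h9
        have := Nat.pow_le_pow_left (show p ≤ 2 by omega) 2
        omega
      refine ar3 (p := p) (e := k) (by exact_mod_cast hp3) (by exact_mod_cast hk)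
        (by exact_mod_cast hi2) hie.natCast (Nat.cast_nonneg s) hso.natCast hsz ?_
      rw [hp] at c1
      exact_mod_cast c1
  · obtain ⟨i, hi⟩ : ∃ i, fx Ω t = i + 1 := ⟨fx Ω t - 1, by omega⟩
    rw [cI_sub, e2] at l3
    rw [l2, e1, hi] at c1
    refine ar4 hρ (Nat.one_le_pow 2 s hso.pos) rfl ?_ c1
      (cs_bound h hab hE ht.1 ho h2 hi (by omega) l3)
    rcases hβ with e | e | ⟨p, hp, -⟩
    · omega
    · omega
    · exact absurd hp (by
        intro h9
        have : p ≤ 2 := by nlinarith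
        interval_cases p <;> omega)

end H17.TP3
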