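/- S1308, chapter TE part 1: the neighbours meet `K C(K)` in odd order. -/
import Cfsg.Agent.H86.TP.Spec

set_option autoImplicit false

namespace H17.TPOut

open Cfsg Subgroup MulAction H14 H98 H1.Gold H31.S2 H14.GC H14.FE H14.NF H86.TP
open scoped commutatorElement

universe u

theorem jOUT : JobOUT.{u} := by
  intro tq cl G _ _ K hK E hE Q₁ T col s hs hi
  have : Fact (Nat.Prime 2) := ⟨Nat.prime_two⟩
  obtain ⟨g, T₀, hne⟩ := hK.ex
  have hN : nor K = nor (cen K) := hne.std.2.2.2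
  obtain ⟨hT, h2⟩ := cl G _ (tq G K hK) E hE _ E Q₁ T col
  obtain ⟨R, P, lp, -⟩ := h2 ⊥ IsPGroup.of_bot bot_le fun a _ b hb => by
    rw [mem_bot.1 hb, commutatorElement_one_right]; exact one_mem _
  have hKQ : K ≤ nor (cen K) := hN ▸ le_normalizer
  have hle : K ⊔ cen K ≤ nor (cen K) := sup_le hKQ le_normalizer
  obtain ⟨h, hh, hc⟩ := hT.exists_cj_le
    (isPGroup_zpowers (x := s) (k := 1) (by rw [pow_one, pow_two, hi.2]))
    (zpowers_le.2 ⟨hs.1, hle hs.2⟩)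
  have ht : h * s * h⁻¹ ∈ T := hc (conj_mem_cj (mem_zpowers s))
  have ht' : h * s * h⁻¹ ∈ K ⊔ cen K :=
    conj_mem_of_mem_normalizer (H98.le_normalizer_sup hN.ge le_rfl hh.2) hs.2
  have t1 : h * s * h⁻¹ ≠ 1 := fun e => hi.1 (by simpa using e)
  have t2 : (h * s * h⁻¹) ^ 2 = 1 := by
    rw [conj_pow, pow_two, hi.2, mul_one, mul_inv_cancel]
  generalize h * s * h⁻¹ = t at ht ht' t1 t2
  obtain ⟨a, ha, k, hk, e⟩ := (mem_sup_left_norm hKQ).1 ht'
  obtain ⟨n, m, hm, ho⟩ := Nat.exists_eq_two_pow_mul_odd (orderOf_pos k).ne'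
  have c : Commute a k := hk a ha
  have e1 : a ^ m * k ^ m = t := by
    obtain ⟨j, rfl⟩ := hm
    rw [← c.mul_pow, ← e, pow_succ, pow_mul, t2, one_pow, one_mul]
  have ca : ∀ y ∈ R, Commute (a ^ m) y := fun y hy => lp.sylR.le hy _ (pow_mem ha m)
  have hkR : k ^ m ∈ R := by
    refine zpowers_le.1 (lp.sylR.le_of_le_normalizer' (isPGroup_zpowers (k := n) ?_)
      (zpowers_le.2 (pow_mem hk m)) (zpowers_le.2 ?_))
    · rw [← pow_mul, mul_comm, ← ho, pow_orderOf_eq_one]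
    · rw [eq_inv_mul_iff_mul_eq.2 e1]
      exact mul_mem (inv_mem (centralizer_le_normalizer _ fun y hy => (ca y hy).symm.eq))
        (lp.norR ht)
  have hkE : k ^ m ∈ E := lp.fix t ht t1 ⟨hkR, mem_centralizer_singleton_iff.2 (by
    rw [← e1]
    exact ((ca _ hkR).symm.mul_right (Commute.refl _)).eq)⟩
  obtain ⟨y, hy, hyE⟩ := SetLike.exists_of_lt lp.ltP
  refine lp.nd y hy hyE t ht t1 (commutatorElement_eq_one_iff_commute.2 ?_)
  rw [← e1]
  exact (ca y ((lp.mem y).1 hy).1).mul_left (lp.cenE hy _ hkE)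

end H17.TPOut
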