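/- S3275, chapter U2F: the central case, the point `(T F, U, z)`. -/
import Cfsg.Agent.H57.U2CSpec

set_option autoImplicit false

namespace H17.U2CB

open Subgroup Cfsg H98 H96 H97 H48.DP H57.DPC H48.DP2 H96.U2I H57.U2C
open scoped commutatorElement

universe u

variable {G : Type u} [Group G]

theorem ea_le {A B : Subgroup G} (h : IsElementaryAbelian 2 B) (hA : A ≤ B) :
    IsElementaryAbelian 2 A :=
  ⟨⟨⟨fun a b => Subtype.ext (congrArg Subtype.val (h.1.1.1 ⟨a, hA a.2⟩ ⟨b, hA b.2⟩) :)⟩⟩,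
    fun a ha => h.2 a (hA ha)⟩

theorem c1_le {K : Subgroup G} {z : G} (h : K ≤ C1 z) : K ≤ No (zpowers z) :=
  le_normalizer_of_le_centralizer (by
    rintro g hg _ ⟨i, rfl⟩
    exact ((show Commute z g from (mem_centralizer_singleton_iff.1 (h hg)).symm).zpow_left i).eq)

theorem comm_of {e v z : G} (e3 : e ^ 3 = 1) (z2 : z ^ 2 = 1) (c : Commute z e)
    (h : ⁅v, e⁆ ∈ zpowers z) : Commute v e := by
  obtain ⟨i, hi⟩ := h
  have hi : z ^ i = ⁅v, e⁆ := hi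
  have c1 : Commute ⁅v, e⁆ e := hi ▸ c.zpow_left i
  have h2 : ⁅v, e⁆ ^ 2 = 1 := by
    rw [← hi, ← zpow_natCast, ← zpow_mul, mul_comm, zpow_mul, zpow_natCast, z2, one_zpow]
  have h3 : ⁅v, e⁆ ^ 3 = 1 := by
    have h4 : (⁅v, e⁆ * e) ^ 3 = 1 := by
      rw [commutatorElement_def, inv_mul_cancel_right, conj_pow, e3, mul_one, mul_inv_cancel]
    rwa [c1.mul_pow, e3, mul_one] at h4
  rw [pow_succ, h2, one_mul] at h3
  exact commutatorElement_eq_one_iff_commute.1 h3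

theorem jobCB : JobCB.{u} := by
  intro kk md G _ _ M Q T R Q₀ F y t z h a
  have : Fact (Nat.Prime 2) := ⟨Nat.prime_two⟩
  obtain ⟨zT, zC, z2⟩ := mem_oZ.1 h.zZ
  have hK : T ⊔ F ≤ C1 z :=
    sup_le (fun s hs => mem_centralizer_singleton_iff.2 (zC s hs)) h.Fz
  have hKM : T ⊔ F ≤ M := sup_le h.TM h.FM
  have hU : ncl (T ⊔ F) (Dz y z) ≤ ncl (C1 z) (Dz y z) := ncl_mono hK le_rfl
  have hea := ea_le a.ea hU
  have zD : z ∈ Dz y z := mem_sup_left (mem_zpowers z)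
  have vD : y * z * y⁻¹ ∈ Dz y z := mem_sup_right (mem_zpowers _)
  have zU := le_ncl (T ⊔ F) _ zD
  have vU := le_ncl (T ⊔ F) _ vD
  have hD : Dz y z ≤ stab T (zpowers z) := by
    refine sup_le (zpowers_le.2 ⟨le_normalizer (mem_zpowers z), fun c hc => ?_⟩)
      (zpowers_le.2 ⟨c1_le (K := zpowers (y * z * y⁻¹)) (zpowers_le.2 ?_) (mem_zpowers _),
        fun c hc => ?_⟩)
    · rw [commutatorElement_eq_one_iff_commute.2 (zC c hc)]; exact one_mem _
    · exact mem_centralizer_singleton_iff.2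
        (congrArg Subtype.val (hea.1.1.1 ⟨_, vU⟩ ⟨_, zU⟩) :)
    · by_cases hR : c ∈ R
      · rw [commutatorElement_eq_one_iff_commute.2 (mem_centralizer_singleton_iff.1 (a.vR hR))]
        exact one_mem _
      · rw [a.vq c hc hR]; exact mem_zpowers z
  obtain ⟨hMd, hQ⟩ := md G T Q₀ F (Dz y z) z h.kq h.e27 hea zD hK fun d hd s hs => (hD hd).2 s hs
  have cz := h.gz z h.zZ h.z1
  obtain ⟨-, hS, -, -, h5, -, -⟩ := kk G T Q₀ F h.kq
  refine ⟨⟨hMd, hKM, h.z1, cz, fun w hw h1 hg => h.gd F h.FM w h1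
    (by rw [← pow_two]; exact hea.2 w hw) hg⟩, h.QQ.trans hQ, ?_, fun hg => ?_⟩
  · refine hS.le_of_le_normalizer (h5 _ inf_le_left fun e he e3 => ?_) inf_le_left
      (le_sup_left.trans (le_normalizer_inf le_normalizer
        (le_normalizer_stab (le_normalizer_ncl _ _) (c1_le hK))))
    have c := comm_of (e3 ▸ pow_orderOf_eq_one e) z2
      (mem_centralizer_singleton_iff.1 (hK he.1)).symm (he.2.2 _ vU)
    have h1 : y⁻¹ * e * y⁻¹⁻¹ ∈ M := cz (mem_centralizer_singleton_iff.2 (by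
      calc y⁻¹ * e * y⁻¹⁻¹ * z = y⁻¹ * (e * (y * z * y⁻¹)) * y := by group
        _ = y⁻¹ * (y * z * y⁻¹ * e) * y := by rw [c.eq]
        _ = z * (y⁻¹ * e * y⁻¹⁻¹) := by group))
    exact h.yM (inv_mem_iff.1 (h.ti e y⁻¹ e3 (hKM he.1) h1))
  · obtain ⟨B, hBF, hB, h27⟩ := h.e27
    have hX : ncl ((T ⊔ F) ⊔ (T ⊔ zpowers y)) (ncl (T ⊔ F) (Dz y z)) ≤ R :=
      ncl_le_iff.2 fun g hg' => cj_le_iff.2 (hg _ (inv_mem hg'))
    have h1 := h.eq _ B (h.kq.T2.to_le (hX.trans h.RT))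
      (fun e => h.z1 (mem_bot.1 (ncl_eq_bot_iff.1 e ▸ zU)))
      ((hBF.trans (le_sup_right.trans le_sup_left)).trans (le_normalizer_ncl _ _))
      (hBF.trans h.FM) hB (by omega)
    exact h.yM (h1 (le_normalizer_ncl _ _ (mem_sup_right (mem_sup_right (mem_zpowers y)))))

end H17.U2CB
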