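/- an involution with a unique fixed point whose commuting products also have at most one -/
import Cfsg.Agent.H17.Inv
import Cfsg.Agent.H83.InvPair

set_option autoImplicit false

namespace H17

open Subgroup

variable {G : Type*} [Group G] {Ω : Type*} [MulAction G Ω]

theorem orderOf_eq_of_isConj {x y : G} (h : IsConj x y) : orderOf y = orderOf x := by
  obtain ⟨g, rfl⟩ := isConj_iff.mp h
  exact orderOf_conj' g x

theorem isConj_conj (g x : G) : IsConj x (g * x * g⁻¹) := isConj_iff.mpr ⟨g, rfl⟩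

theorem conj_smul_smul (g x : G) (ω : Ω) : (g * x * g⁻¹) • g • ω = g • x • ω := by
  rw [← mul_smul, ← mul_smul]; congr 1; group

/-- a reflection of the dihedral group generated by `x, y` is conjugate to `x` or to `y` -/
theorem isConj_mul_zpow {x y : G} (hx : x * x = 1) (hy : y * y = 1) (m : ℤ) :
    IsConj x (x * (x * y) ^ m) ∨ IsConj y (x * (x * y) ^ m) := by
  rcases Int.even_or_odd' m with ⟨k, rfl | rfl⟩
  · left
    have := H83.zpow_conj_of_inverts (H83.left_inverts_mul hx hy) (-k)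
    rw [show -2 * -k = 2 * k by ring] at this
    rw [← this]; exact isConj_conj _ _
  · right
    have := H83.zpow_conj_of_inverts (H83.right_inverts_mul hx hy) (-k)
    rw [show -2 * -k = 2 * k by ring] at this
    rw [add_comm, zpow_add, zpow_one, ← mul_assoc, ← mul_assoc, hx, one_mul, ← this]
    exact isConj_conj _ _

/-- The hypotheses: the conjugates of the involution `z` have at most one fixed point and so have
the products of two distinct commuting conjugates. -/
structure UFix (Ω : Type*) [MulAction G Ω] (z : G) : Prop where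
  ord : orderOf z = 2
  uniq : ∀ x, IsConj z x → ∀ ω ω' : Ω, x • ω = ω → x • ω' = ω' → ω = ω'
  uniq2 : ∀ x y, IsConj z x → IsConj z y → x ≠ y → x * y = y * x →
    ∀ ω ω' : Ω, (x * y) • ω = ω → (x * y) • ω' = ω' → ω = ω'

variable {z : G}

theorem UFix.sq (h : UFix Ω z) {x : G} (hx : IsConj z x) : x * x = 1 :=
  H83.mul_self_of_orderOf_two ((orderOf_eq_of_isConj hx).trans h.ord)

theorem UFix.fix_of_comm (h : UFix Ω z) {x w : G} (hx : IsConj z x) {ω : Ω} (hω : x • ω = ω)
    (hw : w * x = x * w) : w • ω = ω :=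
  h.uniq x hx _ _ (by rw [← mul_smul, ← hw, mul_smul, hω]) hω

theorem UFix.odd_mul [Finite G] (h : UFix Ω z) {x t : G} (hx : IsConj z x) (ht : IsConj z t)
    {α β : Ω} (hα : x • α = α) (hβ : t • β = β) (hne : α ≠ β) : Odd (orderOf (x * t)) := by
  by_contra hodd
  rw [Nat.not_odd_iff_even] at hodd
  obtain ⟨h1, h2, h3⟩ := H83.half_pow_spec (h.sq hx) (h.sq ht) (orderOf_pos _).ne' hodd
  set w := (x * t) ^ (orderOf (x * t) / 2) with hw
  have h4 : IsConj z (x * w) := by
    rcases isConj_mul_zpow (h.sq hx) (h.sq ht) ((orderOf (x * t) / 2 : ℕ) : ℤ) with h5 | h5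
    · rw [zpow_natCast] at h5; exact hx.trans h5
    · rw [zpow_natCast] at h5; exact ht.trans h5
  have e : x * (x * w) = w := by rw [← mul_assoc, h.sq hx, one_mul]
  refine hne (h.uniq2 x (x * w) hx h4 ?_ ?_ α β ?_ ?_)
  · intro h5
    exact H83.ne_one_of_orderOf_two h1 (left_eq_mul.mp h5)
  · rw [mul_assoc, h2.eq]
  · rw [e]; exact h.fix_of_comm hx hα h2.eq
  · rw [e]; exact h.fix_of_comm ht hβ h3.eq

/-- two conjugates with different fixed points are interchanged by a third one, which lies in the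
group they generate -/
theorem UFix.exists_swap [Finite G] (h : UFix Ω z) {x t : G} (hx : IsConj z x) (ht : IsConj z t)
    {α β : Ω} (hα : x • α = α) (hβ : t • β = β) (hne : α ≠ β) :
    ∃ y, IsConj z y ∧ y • α = β ∧ y * x * y⁻¹ = t ∧
      ∀ c, c * x = x * c → c * t = t * c → c * y = y * c := by
  have hodd := h.odd_mul hx ht hα hβ hne
  obtain ⟨k, hk⟩ := H83.exists_zpow_conj_of_odd (h.sq hx) (h.sq ht) hodd
  have e : (x * t) ^ k * x * x * ((x * t) ^ k * x)⁻¹ = t := by
    conv_rhs => rw [← hk]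
    group
  refine ⟨(x * t) ^ k * x, ?_, ?_, e, ?_⟩
  · rw [H83.zpow_mul_of_inverts (H83.left_inverts_mul (h.sq hx) (h.sq ht))]
    rcases isConj_mul_zpow (h.sq hx) (h.sq ht) (-k) with h5 | h5
    exacts [hx.trans h5, ht.trans h5]
  · refine h.uniq t ht _ _ ?_ hβ
    have := conj_smul_smul ((x * t) ^ k * x) x α
    rwa [e, hα] at this
  · intro c hc1 hc2
    exact (((Commute.mul_right hc1 hc2).zpow_right k).mul_right hc1).eq

theorem UFix.smul_back (h : UFix Ω z) {y : G} (hy : IsConj z y) {α β : Ω} (hα : y • α = β) :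
    y • β = α := by rw [← hα, ← mul_smul, h.sq hy, one_smul]

/-- the two point stabilizer is transitive on the conjugates of `z` fixing `α` -/
theorem UFix.exists_conj_of_fix [Finite G] (h : UFix Ω z) {x x' t : G} (hx : IsConj z x)
    (hx' : IsConj z x') (ht : IsConj z t) {α β : Ω} (hα : x • α = α) (hα' : x' • α = α)
    (hβ : t • β = β) (hne : α ≠ β) :
    ∃ d : G, d • α = α ∧ d • β = β ∧ d * x * d⁻¹ = x' := by
  obtain ⟨y, hy, hy1, hy2, -⟩ := h.exists_swap hx ht hα hβ hne
  obtain ⟨y', hy', hy1', hy2', -⟩ := h.exists_swap hx' ht hα' hβ hne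
  refine ⟨y'⁻¹ * y, ?_, ?_, ?_⟩
  · rw [mul_smul, hy1, inv_smul_eq_iff, hy1']
  · rw [mul_smul, h.smul_back hy hy1, inv_smul_eq_iff, h.smul_back hy' hy1']
  · calc y'⁻¹ * y * x * (y'⁻¹ * y)⁻¹ = y'⁻¹ * (y * x * y⁻¹) * y' := by group
      _ = x' := by rw [hy2, ← hy2']; group

/-- the number of conjugates of `z` fixing `α` is odd -/
theorem UFix.odd_card [Finite G] (h : UFix Ω z) {x t : G} (hx : IsConj z x)
    (ht : IsConj z t) {α β : Ω} (hα : x • α = α) (hβ : t • β = β) (hne : α ≠ β) :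
    Odd (Nat.card {x : G // IsConj z x ∧ x • α = α}) := by
  classical
  let Y := {y : G // IsConj z y ∧ y • α = β}
  have hcomm : ∀ y y' : Y, y.1 * y'.1 = y'.1 * y.1 → y = y' := by
    intro y y' hc
    by_contra hn
    refine hne (h.uniq2 y y' y.2.1 y'.2.1 (fun e => hn (Subtype.ext e)) hc α β ?_ ?_)
    · rw [mul_smul, y'.2.2, h.smul_back y.2.1 y.2.2]
    · rw [mul_smul, h.smul_back y'.2.1 y'.2.2, y.2.2]
  let f : Y → {x : G // IsConj z x ∧ x • α = α} := fun y =>
    ⟨y.1⁻¹ * t * y.1, ht.trans (by simpa using isConj_conj y.1⁻¹ t), by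
      rw [mul_smul, mul_smul, y.2.2, hβ, inv_smul_eq_iff, y.2.2]⟩
  have hf : Function.Bijective f := by
    have key : ∀ (x : {x : G // IsConj z x ∧ x • α = α}), ∃ y0 : Y, f y0 = x ∧
        ∀ y, f y = x → y = y0 := by
      rintro ⟨x, hx, hα⟩
      obtain ⟨y, hy, hy1, hy2, hy3⟩ := h.exists_swap hx ht hα hβ hne
      refine ⟨⟨y, hy, hy1⟩, Subtype.ext (by simp only [f, ← hy2]; group), ?_⟩
      rintro ⟨y', hy', hy1'⟩ e
      have e' : y'⁻¹ * t * y' = x := congrArg Subtype.val e
      have i1 : y⁻¹ = y := inv_eq_of_mul_eq_one_right (h.sq hy)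
      have i2 : y'⁻¹ = y' := inv_eq_of_mul_eq_one_right (h.sq hy')
      have e1 : y * x = t * y := by rw [← hy2]; group
      have e2 : y' * x = t * y' := by rw [← e']; group
      have e3 : y * t = x * y := by
        rw [← hy2, i1, ← mul_assoc, ← mul_assoc, h.sq hy, one_mul]
      have e4 : y' * t = x * y' := by
        rw [← e', i2, mul_assoc, mul_assoc, h.sq hy', mul_one]
      have := hy3 (y' * y) (by rw [mul_assoc, e1, ← mul_assoc, e4, mul_assoc])
        (by rw [mul_assoc, e3, ← mul_assoc, e2, mul_assoc])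
      apply hcomm
      change y' * y = y * y'
      rw [← mul_assoc] at this
      exact mul_right_cancel this
    refine ⟨fun a b hab => ?_, fun x => (key x).imp fun _ h => h.1⟩
    obtain ⟨y0, -, h0⟩ := key (f a)
    exact (h0 a rfl).trans (h0 b hab.symm).symm
  rw [← Nat.card_eq_of_bijective f hf]
  obtain ⟨y0, -⟩ := hf.2 ⟨x, hx, hα⟩
  have := Fintype.ofFinite Y
  let σ : Function.End Y := fun y => ⟨y0.1 * y.1 * y0.1⁻¹, y.2.1.trans (isConj_conj _ _), by
    rw [mul_smul, mul_smul, inv_eq_of_mul_eq_one_right (h.sq y0.2.1), y0.2.2,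
      h.smul_back y.2.1 y.2.2, y0.2.2]⟩
  have hσ : σ ^ 2 ^ 1 = 1 := by
    funext y
    apply Subtype.ext
    change y0.1 * (y0.1 * y.1 * y0.1⁻¹) * y0.1⁻¹ = y.1
    calc _ = (y0.1 * y0.1) * y.1 * (y0.1 * y0.1)⁻¹ := by group
      _ = _ := by rw [h.sq y0.2.1]; group
  have h1 := Equiv.Perm.card_fixedPoints_modEq hσ
  have h2 : Fintype.card σ.fixedPoints = 1 := by
    rw [Fintype.card_eq_one_iff]
    refine ⟨⟨y0, Subtype.ext (by simp [σ])⟩, fun y => Subtype.ext ?_⟩
    refine (hcomm y0 y.1 ?_).symm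
    have : y0.1 * y.1.1 * y0.1⁻¹ = y.1.1 := congrArg Subtype.val y.2
    rwa [mul_inv_eq_iff_eq_mul] at this
  rw [h2] at h1
  rw [Nat.card_eq_fintype_card, Nat.odd_iff]
  exact h1

end H17
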