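import Cfsg.Agent.H8.WZKit
import Cfsg.Agent.H9.R2Wr

/-! WZ: `JobT`. -/

set_option autoImplicit false

namespace H17.WZT
open Cfsg Cfsg.FusionSystem H92 H86 H35.G2S Subgroup H8.WZ

universe u

variable {Ω G : Type*} [Group Ω] [Group G] {S W : Subgroup Ω} {T W' : Subgroup G} {k : ℕ}
  {x y u w : Ω} {x' y' u' w' : G}

theorem wr_hom (h : Wr W k x y u) (h' : Wr W' k x' y' u') : ∃ f : Ω → G, MulOn W f ∧
    (∀ c ∈ W, f c = 1 → c = 1) ∧ (∀ i j, f (wu x y i j) = wu x' y' i j) ∧ f u = u' := by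
  obtain ⟨e, he⟩ := h.pow2
  have hx : x' ∈ W' := by simpa [wu] using h'.u_mem 1 0
  have hy : y' ∈ W' := by simpa [wu] using h'.u_mem 0 1
  obtain ⟨ι, a, b, c⟩ := H9.WS.exists_hom h he (G := W') (x' := ⟨x', hx⟩) (y' := ⟨y', hy⟩)
    (z' := ⟨u', h'.z_mem⟩) ⟨Subtype.ext h'.comm, fun i j => by
      rw [Subtype.ext_iff, show (2 : ℤ) ^ (e + 2) = 4 * k by rw [he]; push_cast; ring,
        ← h'.u_eq_one_iff]
      rfl, Subtype.ext h'.zz, Subtype.ext h'.rel, by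
      rw [h'.card, he, show 32 * (2 ^ e) ^ 2 = 2 ^ (2 * e + 5) by ring,
        Nat.pow_dvd_pow_iff_le_right (by norm_num)]
      omega⟩
  refine ⟨fun c => (ext1 ι c : W'), fun c hc d hd => by simp only [(mulOn_ext1 ι).map_mul hc hd]; rfl,
    fun c hc r => ?_, fun i j => by simp only [b]; rfl, by simp only [c]⟩
  simp only [ext1_of_mem ι hc, OneMemClass.coe_eq_one] at r
  exact congrArg Subtype.val ((injective_iff_map_eq_one ι).1 a _ r)

theorem gs_hom (h : GS S W k x y u w) (h' : GS T W' k x' y' u' w') : ∃ ι : S →* G,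
    Function.Injective ι ∧ T = ι.range ∧ (∀ i j, ext1 ι (wu x y i j) = wu x' y' i j) ∧
      ext1 ι u = u' ∧ ext1 ι w = w' := by
  obtain ⟨f, a, b, c, d⟩ := wr_hom h.wr h'.wr
  have c' : ∀ i j, f (u * wu x y i j) = u' * wu x' y' i j := fun i j => by
    rw [a.map_mul h.wr.z_mem (h.wr.u_mem i j), c, d]
  obtain ⟨ι, e1, e2, e3⟩ := H9.exists_hom_of_index_two h.W_le h.z_mem h.nz
    (fun g hg g' hg' r r' => (mul_mem_iff_of_index_two h.relIndex (a := ⟨g, hg⟩)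
      (b := ⟨g', hg'⟩)).2 (iff_of_false r r')) a (b' := w')
    (fun g hg => by
      obtain ⟨i, j, rfl | rfl⟩ := (h.wr.mem g).1 hg
      · rw [h.z_conj, c, c, h'.z_conj]
      · rw [c', ← mul_assoc, h.zu, ← mul_assoc, h'.zu, mul_assoc u, mul_assoc u, mul_assoc u',
          mul_assoc u', h.z_conj, h'.z_conj, c'])
    (by rw [pow_two, pow_two, h.zz, h'.zz, a.map_one]) b fun g hg r => h'.nz (by
      obtain ⟨i, j, rfl | rfl⟩ := (h.wr.mem g).1 hg
      exacts [r ▸ (c i j).symm ▸ h'.wr.u_mem i j, r ▸ (c' i j).symm ▸ h'.wr.zu_mem i j])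
  have k1 : ∀ i j, ext1 ι (wu x y i j) = wu x' y' i j := fun i j =>
    (e2 _ (h.wr.u_mem i j)).trans (c i j)
  have k2 : ext1 ι u = u' := (e2 _ h.wr.z_mem).trans d
  have : Finite T := Nat.finite_of_card_ne_zero (by rw [h'.card]; have := h.wr.kpos; positivity)
  refine ⟨ι, e1, (eq_of_le_of_card_ge' (S := T) le_rfl ?_ ?_).symm, k1, k2, e3⟩
  · rintro _ ⟨⟨g, hg⟩, rfl⟩
    have m := mulOn_ext1 ι
    rw [← ext1_of_mem ι hg]
    obtain ⟨i, j, rfl | rfl | rfl | rfl⟩ := h.cases hg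
    · exact k1 i j ▸ h'.t_mem i j
    · rw [m.map_mul h.u_mem (h.t_mem i j), k1, k2]
      exact mul_mem h'.u_mem (h'.t_mem i j)
    · rw [m.map_mul h.z_mem (h.t_mem i j), k1, e3]
      exact mul_mem h'.z_mem (h'.t_mem i j)
    · rw [m.map_mul (mul_mem h.u_mem h.z_mem) (h.t_mem i j), m.map_mul h.u_mem h.z_mem, k1, k2, e3]
      exact mul_mem (mul_mem h'.u_mem h'.z_mem) (h'.t_mem i j)
  · rw [h'.card, ← h.card, Nat.card_congr (MonoidHom.ofInjective e1).toEquiv]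

theorem fr_of_tr {E : FusionSystem S} {E' : FusionSystem T} {a : Ω → G} {b : G → Ω}
    (t : H94.Tr a b E E') (h : GS S W k x y u w) (h' : Fr E' W' k x' y' u' w')
    (k1 : ∀ i j, a (wu x y i j) = wu x' y' i j) (k2 : a u = u') (k3 : a w = w') :
    Fr E W k x y u w := by
  have m := t.iso.mul
  have bk : ∀ i j, b (wu x' y' i j) = wu x y i j := fun i j => by
    rw [← k1, t.iso.b_a _ (h.t_mem i j)]
  have eq : img (qq k x y u) a = qq k x' y' u' := by
    rw [qq, wrK, m.img_closure (subset_closure.trans (h.qp.le₁ :)), qq, wrK]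
    simp only [Set.image_insert_eq, Set.image_singleton, m.map_mul h.u_mem (h.t_mem _ _), k1, k2]
  have jS : jj k x y ∈ S := h.t_mem _ _
  refine ⟨⟨t.symm.isSaturated h'.sat, h, h'.k2, fun P f hf hj e r hr hP => ?_, ?_⟩, fun s hs e => ?_⟩
  · have := h'.h1 _ _ (t.fwd P f hf) (by rw [jj, ← k1]; exact mem_img_of_mem a hj)
      (by rw [jj, bk]; exact (congrArg a e).trans (k1 _ _)) (a r) (eq ▸ mem_img_of_mem a hr)
      (mem_img_of_mem a hP)
    rwa [t.iso.b_a r (hf.le hP), ← eq, t.iso.mem_img_iff h.qp.le₁ (hf.mem hP)] at this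
  · obtain ⟨ρ, r0, r1, r2, r3⟩ := h'.rho
    have l : wrU x y ⊔ zpowers w ≤ S := sup_le (h.wr.U_le.trans h.W_le) (zpowers_le.2 h.z_mem)
    have ax : a x = x' := by simpa [wu] using k1 1 0
    have ay : a y = y' := by simpa [wu] using k1 0 1
    refine ⟨_, t.bwd' l (r0.mono ?_), ?_, ?_, ?_⟩
    · rw [t.iso.img_sup (h.wr.U_le.trans h.W_le) (zpowers_le.2 h.z_mem), m.img_zpowers h.z_mem, k3]
      refine sup_le_sup_right (img_le_iff.2 fun g hg => ?_) _
      obtain ⟨i, j, rfl⟩ := (h.wr.mem_U g).1 hg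
      exact k1 i j ▸ h'.gs.wr.u_mem_U i j
    · simpa [wu, ax, r1] using bk 0 (-1)
    · simpa [wu, ay, r2] using bk 1 (-1)
    · simp only [k3, r3]
      rw [← k3, t.iso.b_a w h.z_mem]
  · have := t.symm.isConjElt (h'.inv (a s) (t.iso.a_mem s hs) (by
      rw [← e]
      exact (orderOf_injective m.hom (fun c d r => Subtype.ext (t.iso.inj c.2 d.2 r)) ⟨s, hs⟩).trans
        (orderOf_mk s hs)))
    rwa [t.iso.b_a s hs, jj, bk] at this

theorem jobT (hU : JobU.{u}) : JobT.{u} := by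
  intro Ω _ S _ F W k x y u w h G _ _ T W' x' y' u' w' h'
  have : Fact (Nat.Prime 2) := ⟨Nat.prime_two⟩
  obtain ⟨ι, inj, hT, k1, k2, k3⟩ := gs_hom h.gs h'.gs
  obtain ⟨E, -, hE⟩ := H9.exists_pull inj T hT
  obtain ⟨b, t⟩ := H94.exists_tr_of_realized hE hT
  have hE' := fr_of_tr t h.gs h' k1 k2 k3
  exact ⟨ι, fs_le_antisymm (hU F E W k x y u w h hE') (hU E F W k x y u w hE' h) ▸ hE, hT⟩

end H17.WZT
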