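import Cfsg.Agent.H8.WZKit
import Cfsg.Agent.H9.R2Wr

/-! WZ: `JobU`. -/

set_option autoImplicit false
set_option linter.unusedSectionVars false

namespace H17.WZU
open Cfsg Cfsg.FusionSystem H92 H86 H35.G2S Subgroup H8.WZ

universe u

variable {Ω : Type u} [Group Ω] {S W P Q : Subgroup Ω} {k : ℕ} {x y u w c s : Ω} {f r ρ : Ω → Ω}

section gs
variable (h : GS S W k x y u w)
include h

theorem pg : IsPGroup 2 S := by
  obtain ⟨e, he⟩ := h.wr.pow2
  exact IsPGroup.of_card (n := 2 * e + 6) (by rw [h.card, he]; ring)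

theorem t_memT (i j : ℤ) : wu x y i j ∈ wrU x y ⊔ zpowers w := mem_sup_left (h.wr.u_mem_U i j)

omit h in
theorem w_memT : w ∈ wrU x y ⊔ zpowers w := mem_sup_right (mem_zpowers w)

theorem memT_of (hs : s ∈ S) (h1 : ∀ a b, s ≠ u * wu x y a b) (h2 : ∀ a b, s ≠ u * w * wu x y a b) :
    s ∈ wrU x y ⊔ zpowers w := by
  obtain ⟨a, b, e | e | e | e⟩ := h.cases hs
  exacts [e ▸ t_memT h a b, (h1 a b e).elim, e ▸ mul_mem w_memT (t_memT h a b), (h2 a b e).elim]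

theorem memT_t {i j : ℤ} (hs : s ∈ S) (e : wu x y i j * s = s * wu x y i j)
    (h1 : ¬ 4 * (k : ℤ) ∣ i - j) (h2 : ¬ 4 * (k : ℤ) ∣ i + j) : s ∈ wrU x y ⊔ zpowers w := by
  refine memT_of h hs ?_ ?_ <;> rintro a b rfl
  · exact h1 ((h.wr.u_comm_zu_iff _ _ _ _).1 e)
  · rw [mul_assoc _ _ (wu x y i j), h.wr.u_comm a b, ← mul_assoc (u * w), ← mul_assoc, mul_left_inj,
      ← mul_assoc, h.wr.u_mul_z, mul_assoc, h.u_mul_z, mul_assoc, mul_right_inj, mul_right_inj,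
      h.wr.u_eq_iff] at e
    exact h2 (by simpa [add_comm] using e.1.neg_right)

theorem memT_w {i j : ℤ} (o : Odd (i + j)) :
    cS S (w * wu x y i j) ≤ wrU x y ⊔ zpowers w := fun s hs => by
  obtain ⟨hs, e⟩ := mem_cS.1 hs
  obtain ⟨m, hm⟩ := o
  have e1 : ∀ a b : ℤ, u * (w * wu x y a b) * u⁻¹ = w * wu x y b a := fun a b => by
    rw [← mul_assoc, ← h.zu, mul_assoc w, mul_assoc w, h.wr.z_conj]
  replace e := mul_inv_eq_of_eq_mul e.symm
  refine memT_of h hs ?_ ?_ <;> rintro a b rfl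
  · rw [show u * wu x y a b * (w * wu x y i j) * (u * wu x y a b)⁻¹ =
      u * (wu x y a b * (w * wu x y i j) * (wu x y a b)⁻¹) * u⁻¹ by group, h.conj_zt, e1,
      mul_right_inj, h.wr.u_eq_iff] at e
    obtain ⟨⟨d, hd⟩, -⟩ := e
    rw [mul_assoc] at hd
    omega
  · rw [show u * w * wu x y a b * (w * wu x y i j) * (u * w * wu x y a b)⁻¹ =
      u * (w * (wu x y a b * (w * wu x y i j) * (wu x y a b)⁻¹) * w⁻¹) * u⁻¹ by group, h.conj_zt,
      mul_assoc w, mul_assoc w, h.z_inv, h.u_mul_z, ← mul_assoc w w, h.zz, one_mul,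
      e1, mul_right_inj, h.wr.u_eq_iff] at e
    obtain ⟨⟨d, hd⟩, -⟩ := e
    rw [mul_assoc] at hd
    omega

theorem rho_t (m : MulOn (wrU x y ⊔ zpowers w) ρ) (e1 : ρ x = y⁻¹) (e2 : ρ y = x * y⁻¹) (i j : ℤ) :
    ρ (wu x y i j) = wu x y j (-i - j) := by
  have hx : x ∈ wrU x y ⊔ zpowers w := mem_sup_left (H9.WS.x_mem h.wr)
  have hy : y ∈ wrU x y ⊔ zpowers w := mem_sup_left (H9.WS.y_mem h.wr)
  rw [wu, m.map_mul (zpow_mem hx i) (zpow_mem hy j), m.map_zpow hx, m.map_zpow hy, e1, e2,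
    show y⁻¹ = wu x y 0 (-1) by simp [wu], show x * wu x y 0 (-1) = wu x y 1 (-1) by simp [wu],
    h.wr.u_zpow, h.wr.u_zpow, h.wr.u_mul_u]
  congr 1 <;> ring

end gs

variable [Finite S] {F E : FusionSystem S}

theorem cancel (hr : Mor E Q r) (m : ∀ g ∈ P, f g ∈ Q) (h : Mor E P fun g => r (f g)) : Mor E P f := by
  obtain ⟨g, hg, e, -⟩ := hr.exists_inv
  exact (h.comp hg fun a ha => mem_img_of_mem r (m a ha)).congr fun a ha => e _ (m a ha)

variable (hS : JobSplit.{u}) (hQ : JobQ.{u}) (hF : Fr F W k x y u w) (hE : Fr E W k x y u w)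
include hS hQ hF hE

theorem u1 (hf : Mor F P f) (hj : jj k x y ∈ P) (e : f (jj k x y) = jj k x y) : Mor E P f := by
  have : Fact (Nat.Prime 2) := ⟨Nat.prime_two⟩
  have g := hF.gs
  obtain ⟨C, c1, -, c3, c4⟩ := exists_cent (pg g) hF.sat (z := jj k x y) (g.t_mem _ _) fun s => g.cen
  have sc : C.StronglyClosed (qq k x y u) := stronglyClosed_iff.2 ⟨g.qp.le₁, fun R f hf a ha ha' => by
    obtain ⟨f', b1, b2, b3⟩ := c4 R f hf
    exact b2 a ha ▸ hF.h1 _ _ b1 (mem_sup_right (mem_zpowers _)) b3 a ha' (mem_sup_left ha)⟩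
  refine Mor.of_le (le_of_essential (pg g) c1 fun P hP => ?_) (c3 P f hf hj e)
  have l := (top_or_essential_fn hP).1
  exact autGroup_le_of (pg g) c1 (top_or_essential_fn hP) (autInducedBy_le_autGroup E l)
    fun α hα o => (mem_autGroup l).2 (hQ E W k x y u w hE P _ l (mulOn_af α) (af α).injective.injOn
      (hS C W k x y u w c1 g hF.k2 sc P hP α hα o))

omit hS hQ in
theorem ex_rho : ∃ ρ, Mor F (wrU x y ⊔ zpowers w) ρ ∧ Mor E (wrU x y ⊔ zpowers w) ρ ∧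
    (∀ i j, ρ (wu x y i j) = wu x y j (-i - j)) ∧ ρ w = w := by
  obtain ⟨ρ, a0, a1, a2, a3⟩ := hF.rho
  obtain ⟨σ, b0, b1, b2, b3⟩ := hE.rho
  refine ⟨ρ, a0, b0.congr (b0.mulOn.eq_on_sup a0.mulOn (fun g hg => ?_) ?_),
    rho_t hF.gs a0.mulOn a1 a2, a3⟩
  · obtain ⟨i, j, rfl⟩ := (hF.gs.wr.mem_U g).1 hg
    rw [rho_t hF.gs a0.mulOn a1 a2, rho_t hF.gs b0.mulOn b1 b2]
  · rintro _ ⟨n, rfl⟩
    rw [a0.map_zpow w_memT, b0.map_zpow w_memT, a3, b3]

theorem u2 (hf : Mor F P f) (hj : jj k x y ∈ P) (e : f (jj k x y) = jj k x y ∨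
    f (jj k x y) = wu x y (2 * k) 0 ∨ f (jj k x y) = wu x y 0 (2 * k)) : Mor E P f := by
  obtain ⟨ρ, a, b, c, -⟩ := ex_rho hF hE
  have g := hF.gs
  have n := g.wr.not_dvd_two_k
  have cm : ∀ {f}, Mor F P f → ∀ s ∈ P, f (jj k x y) * f s = f s * f (jj k x y) := fun hf s hs => by
    rw [← hf.map_mul hj hs, ← hf.map_mul hs hj, g.cen (hf.le hs)]
  have key : ∀ {f}, Mor F P f → f (jj k x y) = wu x y 0 (2 * k) → Mor E P f := fun {f} hf e => by
    have m : ∀ s ∈ P, f s ∈ _ := fun s hs =>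
      memT_t g (hf.mem hs) (e ▸ cm hf s hs) (by simpa using n) (by simpa using n)
    refine cancel b m (u1 hS hQ hF hE (hf.comp a m) hj ?_)
    rw [e, c]
    exact g.wr.u_congr 0 (-1) (by ring) (by ring)
  rcases e with e | e | e
  · exact u1 hS hQ hF hE hf hj e
  · have m : ∀ s ∈ P, f s ∈ _ := fun s hs =>
      memT_t g (hf.mem hs) (e ▸ cm hf s hs) (by simpa using n) (by simpa using n)
    refine cancel b m (key (hf.comp a m) ?_)
    rw [e, c]
    exact g.wr.u_congr 0 (-1) (by ring) (by ring)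
  · exact key hf e

theorem u3 (hc : c ∈ S) (o : orderOf c = 2) :
    ∃ γ, Mor F (cS S c) γ ∧ Mor E (cS S c) γ ∧ γ c = jj k x y := by
  have : Fact (Nat.Prime 2) := ⟨Nat.prime_two⟩
  have g := hF.gs
  have sq : ∀ {c : Ω}, orderOf c = 2 → c * c = 1 := fun o => by rw [← pow_two, ← o, pow_orderOf_eq_one]
  have k1 : ∀ {c}, c ∈ qq k x y u ⊔ qq k x y⁻¹ (u * w) → orderOf c = 2 →
      ∃ γ, Mor F (cS S c) γ ∧ Mor E (cS S c) γ ∧ γ c = jj k x y := fun {c} hc o => by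
    obtain ⟨r, r1, r2, r3⟩ := g.exists_root hc (sq o)
    obtain ⟨α, a, b⟩ := exists_to_central (pg g) hF.sat
      (hF.inv c (sup_le g.qp.le₁ g.qp.le₂ hc) o) fun s => g.cen
    have hr : r ∈ cS S c := mem_cS.2 ⟨r1, r3.symm⟩
    have hj : jj k x y ∈ cS S c := r2 ▸ mul_mem hr hr
    have e : α r * α r = α (jj k x y) := by rw [← a.map_mul hr hr, r2]
    refine ⟨α, a, u2 hS hQ hF hE a hj (e ▸ g.sq_cases (a.mem hr) ?_ ?_), b⟩
    · rw [e]; exact fun z => g.qp.ne ((a.eq_one_iff hj).1 z)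
    · rw [e, ← a.map_mul hj hj, g.qp.jj, a.map_one]
  rcases g.inv_cases hc (sq o) with r | ⟨i, j, od, rfl⟩
  · exact k1 r o
  obtain ⟨ρ, a, b, e, e'⟩ := ex_rho hF hE
  have step : ∀ i j : ℤ, Odd (i + j) → orderOf (w * wu x y i j) = 2 →
      (orderOf (w * wu x y j (-i - j)) = 2 → ∃ γ, Mor F (cS S (w * wu x y j (-i - j))) γ ∧
        Mor E (cS S (w * wu x y j (-i - j))) γ ∧ γ (w * wu x y j (-i - j)) = jj k x y) →
      ∃ γ, Mor F (cS S (w * wu x y i j)) γ ∧ Mor E (cS S (w * wu x y i j)) γ ∧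
        γ (w * wu x y i j) = jj k x y := fun i j od o z => by
    have l := memT_w g od
    have m0 := mul_mem w_memT (t_memT g i j)
    have e1 : ρ (w * wu x y i j) = w * wu x y j (-i - j) := by
      rw [a.map_mul w_memT (t_memT g i j), e, e']
    obtain ⟨γ, c1, c2, c3⟩ := z (e1 ▸ (a.orderOf_eq m0).trans o)
    have m : ∀ s ∈ cS S (w * wu x y i j), ρ s ∈ cS S (w * wu x y j (-i - j)) := fun s hs =>
      mem_cS.2 ⟨a.mem (l hs), by
        rw [← e1, ← a.map_mul m0 (l hs), ← a.map_mul (l hs) m0, (mem_cS.1 hs).2]⟩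
    exact ⟨_, (a.mono l).comp c1 m, (b.mono l).comp c2 m, by simp only [e1, c3]⟩
  have ev : ∀ i j : ℤ, Odd (i + j) → Even i → orderOf (w * wu x y i j) = 2 → _ := fun i j od ev o =>
    step i j od o (k1 (mul_mem g.z_mem_Q (g.even_mem (by simpa using ev))))
  rcases Int.even_or_odd i with r | r
  · exact ev i j od r o
  · exact step i j od o (ev _ _ (by simpa using r) ((Int.odd_add.1 od).1 r))

omit hF hE in
theorem jobU : JobU.{u} := by
  intro Ω _ S _ F E W k x y u w hF hE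
  have : Fact (Nat.Prime 2) := ⟨Nat.prime_two⟩
  have g := hF.gs
  refine le_of_essential (pg g) hF.sat fun P hP α hα => ?_
  have l := (top_or_essential_fn hP).1
  have hf := mor_af l hα
  have hj : jj k x y ∈ P := hP.elim (fun e => e ▸ g.t_mem _ _) fun e =>
    centralizerIn_le_of_centric e.1 (mem_centralizerIn.2 ⟨g.t_mem _ _, fun s hs => g.cen (l hs)⟩)
  obtain ⟨γ, c1, c2, c3⟩ := u3 hS hQ hF hE (hf.mem hj) ((hf.orderOf_eq hj).trans g.wr.orderOf_u0)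
  have m : ∀ s ∈ P, af α s ∈ cS S (af α (jj k x y)) := fun s hs => mem_cS.2 ⟨hf.mem hs, by
    rw [← hf.map_mul hj hs, ← hf.map_mul hs hj, g.cen (l hs)]⟩
  exact (mem_autGroup l).2 (cancel c2 m (u1 hS hQ hF hE (hf.comp c1 m) hj c3))

end H17.WZU
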