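/- STD-SP endgame, unitary models: square roots of the elements of `Z`. -/
import Cfsg.Agent.H78.YUDef

set_option autoImplicit false
set_option linter.all false

namespace H17.YUSD

open H67 H67.UA H78.YU Subgroup Matrix
open H67.SA (la)

theorem jobSD : JobSD := by
  intro m K _ _ _ _ _ u hu hz h1
  have i0 : hf (ev 0 : Vn m K) (ev 0) = 0 := H59.UM.iso0
  have iL : hf (ev (la m) : Vn m K) (ev (la m)) = 0 := H59.UM.isoL
  have a1 : hf (ev 0 : Vn m K) (ev (la m)) = 1 := H59.UM.hf0L
  have a2 : hf (ev (la m) : Vn m K) (ev 0) = 1 := H59.UM.hfL0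
  have u0 : ac u (ev 0) = ev 0 := by
    have := (FV.mem_U u).1 hu 0 (ev 0) fun i hi => by
      rw [ev_apply, if_neg]; rintro rfl; simp at hi
    ext i
    have := this i (Nat.zero_le _)
    rw [Pi.add_apply] at this
    linear_combination this - ev 0 i * two0 K
  set w := ac u (ev (la m)) with hw
  have w0 : hf w (ev 0) = 1 := by rw [hw, ← u0, hf_ac, a2]
  have ww : hf w w = 0 := by rw [hw, hf_ac, iL]
  set d := hf w (ev (la m)) with hd
  set y := w + ev (la m) + d • ev 0 with hy
  have y0 : hf y (ev 0) = 0 := by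
    rw [hy, hf_add_left, hf_add_left, hf_smul_left, w0, a2, i0]; linear_combination two0 K
  have yL : hf y (ev (la m)) = 0 := by
    rw [hy, hf_add_left, hf_add_left, hf_smul_left, iL, a1]; linear_combination d * two0 K
  have e1 : w = ev (la m) + y + d • ev 0 := by
    ext i
    simp only [hy, Pi.add_apply, Pi.smul_apply, smul_eq_mul]
    linear_combination -(ev (la m) i + d * ev 0 i) * two0 K
  have ok : Ok (ev 0) y d := ⟨i0, y0, by
    rw [e1] at ww
    simp only [hf_add_left, hf_add_right, hf_smul_left, hf_smul_right, i0, iL, a1, a2, y0, yL,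
      hf_symm y0, hf_symm yL] at ww
    linear_combination ww - hf y y * two0 K⟩
  have eL : ∀ (x : Vn m K) (c : K), Ok (ev 0) x c → hf x (ev (la m)) = 0 →
      ac (EE (ev 0) x c) (ev (la m)) = ev (la m) + x + c • ev 0 := fun x c h hx => by
    rw [ac_EE h, hf_symm hx, a2]; simp
  clear hy hd
  clear_value y d
  obtain ⟨l, rfl⟩ : ∃ l, u = EE (ev 0) y d * l := ⟨(EE (ev 0) y d)⁻¹ * u, by group⟩
  have l0 : ac l (ev 0) = ev 0 := ac_inj (EE (ev 0) y d) (by rw [← ac_mul, u0, ac_EE_self ok])
  have lL : ac l (ev (la m)) = ev (la m) :=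
    ac_inj (EE (ev 0) y d) (by rw [← ac_mul, ← hw, e1, eL y d ok yL])
  have ok' : Ok (ev 0) (ac l y) d := by have := ok.ac l; rwa [l0] at this
  have lyL : hf (ac l y) (ev (la m)) = 0 := by rw [← lL, hf_ac, yL]
  have e2 : EE (ev 0) y d * l * (EE (ev 0) y d * l) =
      EE (ev 0) (y + ac l y) (d + d + hf (ac l y) y) * (l * l) := by
    have := EE_conj ok l
    rw [l0] at this
    rw [← EE_mul ok ok', ← this]; group
  obtain ⟨c, hc, e3⟩ := (FV.mem_Z _).1 hz
  have e4 := congrArg (fun g => ac g (ev (la m))) (e2.symm.trans e3)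
  simp only [ac_mul, lL] at e4
  rw [eL _ _ (ok.add ok') (by rw [hf_add_left, yL, lyL, add_zero]), eL _ _ (ok_zero i0 hc) (by simp),
    add_zero, add_assoc, add_right_inj] at e4
  have e5 := congrArg (fun v => hf v (ev (la m))) e4
  simp only [hf_add_left, hf_smul_left, yL, lyL, a1, zero_add, mul_one] at e5
  rw [e5, add_eq_right] at e4
  have ly : ac l y = y := by
    rw [← zero_add (ac l y), ← v_add_self y, add_assoc, e4, add_zero]
  rw [e4, e5, e3] at e2
  have ll : l * l = 1 := by simpa using e2.symm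
  refine ⟨y, d, l, ok, yL, fun h => h1 ?_, rfl, ll, l0, lL, ly⟩
  rw [ly, h, CharTwo.add_self_eq_zero, add_zero] at e5
  rw [e3, ← e5, Tc, EE_zero]

end H17.YUSD
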